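import Cfsg.Agent.H16.D.THc.D

/-! Generated by tools/h16 (computation kit). -/

set_option maxRecDepth 100000
set_option maxHeartbeats 0

namespace H16.THc

open H26 (jn)
open DC
theorem v3575c : dt.run q (fun c => Nat.add (c.chkL P3575 (nat_lit 3381)) (Nat.xor ((nat_lit 3381) + List.length P3575) (nat_lit 3575))) = 0 := by decide +kernel
theorem v3768c : dt.run q (fun c => Nat.add (c.chkL P3768 (nat_lit 3575)) (Nat.xor ((nat_lit 3575) + List.length P3768) (nat_lit 3768))) = 0 := by decide +kernel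
theorem v3972c : dt.run q (fun c => Nat.add (c.chkL P3972 (nat_lit 3768)) (Nat.xor ((nat_lit 3768) + List.length P3972) (nat_lit 3972))) = 0 := by decide +kernel
theorem v4158c : dt.run q (fun c => Nat.add (c.chkL P4158 (nat_lit 3972)) (Nat.xor ((nat_lit 3972) + List.length P4158) (nat_lit 4158))) = 0 := by decide +kernel
theorem v4352c : dt.run q (fun c => Nat.add (c.chkL P4352 (nat_lit 4158)) (Nat.xor ((nat_lit 4158) + List.length P4352) (nat_lit 4352))) = 0 := by decide +kernel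
theorem v4429c : dt.run q (fun c => Nat.add (c.chkL P4429 (nat_lit 4352)) (Nat.xor ((nat_lit 4352) + List.length P4429) (nat_lit 4429))) = 0 := by decide +kernel
theorem st0c : dt.run q (fun c => sumL (c.sgen (nat_lit 4429) (nat_lit 0)) S0) = 0 := by decide +kernel
theorem e0_1_1 : dt.run q (fun c => c.edges (SP THn.T THn.Rl (nat_lit 15)) (nat_lit 4429) THn.T.n (nat_lit 0) (nat_lit 1)
  [((nat_lit 88), [], [], (nat_lit 0))] (nat_lit 0) m0_1_1) = 0 := by decide +kernel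
theorem e0_1_2 : reachX THn.T (nat_lit 2752806379109258085) (S0.map Prod.snd) [nat_lit 1, nat_lit 1, nat_lit 1, nat_lit 2, nat_lit 0, nat_lit 1, nat_lit 1, nat_lit 0, nat_lit 1, nat_lit 2, nat_lit 0, nat_lit 1, nat_lit 0, nat_lit 1, nat_lit 0, nat_lit 2, nat_lit 0, nat_lit 2, nat_lit 0, nat_lit 1, nat_lit 1, nat_lit 0, nat_lit 2, nat_lit 0, nat_lit 1, nat_lit 2, nat_lit 0, nat_lit 1, nat_lit 2, nat_lit 0] m0_1_1 = m0_1_2 := by decide +kernel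
theorem pc0 : partChk THn.T.n (nat_lit 860) [(nat_lit 0), m0_1_2, (nat_lit 0), (nat_lit 0), (nat_lit 0), (nat_lit 0), (nat_lit 0), (nat_lit 0), (nat_lit 0), (nat_lit 0), (nat_lit 0)] (nth [] aL (nat_lit 0)) = true ∧ nth 0 PL (nat_lit 0) = (nat_lit 0) := by decide +kernel
theorem st1c : dt.run q (fun c => sumL (c.sgen (nat_lit 4429) (nat_lit 1)) S1) = 0 := by decide +kernel
theorem e1_0_1 : dt.run q (fun c => c.edges (SP THn.T THn.Rl (nat_lit 15)) (nat_lit 4429) THn.T.n (nat_lit 1) (nat_lit 0)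
  [((nat_lit 89), [], [], (nat_lit 0))] (nat_lit 0) m1_0_1) = 0 := by decide +kernel
theorem e1_1_1 : dt.run q (fun c => c.edges (SP THn.T THn.Rl (nat_lit 15)) (nat_lit 4429) THn.T.n (nat_lit 1) (nat_lit 1)
  [((nat_lit 110), [nat_lit 8], [nat_lit 10, nat_lit 10, nat_lit 0, nat_lit 15, nat_lit 15, nat_lit 15], (nat_lit 3)), ((nat_lit 111), [nat_lit 7], [], (nat_lit 4)), ((nat_lit 158), [nat_lit 6, nat_lit 4, nat_lit 8, nat_lit 4, nat_lit 3], [nat_lit 2, nat_lit 0, nat_lit 25, nat_lit 16, nat_lit 16, nat_lit 26], (nat_lit 109))] (nat_lit 0) m1_1_1) = 0 := by decide +kernel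
theorem e1_1_2 : reachX THn.T (nat_lit 2371215896890183285) (S1.map Prod.snd) [nat_lit 0, nat_lit 0, nat_lit 1, nat_lit 2, nat_lit 0, nat_lit 0, nat_lit 3, nat_lit 0, nat_lit 1, nat_lit 2] m1_1_1 = m1_1_2 := by decide +kernel
theorem e1_2_1 : dt.run q (fun c => c.edges (SP THn.T THn.Rl (nat_lit 15)) (nat_lit 4429) THn.T.n (nat_lit 1) (nat_lit 2)
  [((nat_lit 141), [nat_lit 4, nat_lit 8, nat_lit 3, nat_lit 4, nat_lit 7, nat_lit 3, nat_lit 1, nat_lit 2, nat_lit 3, nat_lit 0, nat_lit 1], [nat_lit 25, nat_lit 35, nat_lit 11], (nat_lit 1706)), ((nat_lit 118), [nat_lit 3], [], (nat_lit 2)), ((nat_lit 147), [nat_lit 7, nat_lit 4, nat_lit 7, nat_lit 3], [nat_lit 2, nat_lit 35, nat_lit 16, nat_lit 16, nat_lit 27], (nat_lit 68))] (nat_lit 0) m1_2_1) = 0 := by decide +kernel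
theorem e1_2_2 : reachX THn.T (nat_lit 751999297702488861) (S1.map Prod.snd) [nat_lit 0, nat_lit 0, nat_lit 1, nat_lit 2, nat_lit 0, nat_lit 0, nat_lit 1, nat_lit 3, nat_lit 0, nat_lit 0, nat_lit 1, nat_lit 2, nat_lit 0, nat_lit 0, nat_lit 3] m1_2_1 = m1_2_2 := by decide +kernel
theorem e1_3_1 : dt.run q (fun c => c.edges (SP THn.T THn.Rl (nat_lit 15)) (nat_lit 4429) THn.T.n (nat_lit 1) (nat_lit 3)
  [((nat_lit 173), [nat_lit 6, nat_lit 3, nat_lit 4, nat_lit 8, nat_lit 2, nat_lit 3, nat_lit 4, nat_lit 7, nat_lit 3, nat_lit 1, nat_lit 2, nat_lit 3, nat_lit 0, nat_lit 1], [nat_lit 35, nat_lit 33, nat_lit 11, nat_lit 27], (nat_lit 7332)), ((nat_lit 159), [nat_lit 7, nat_lit 1], [], (nat_lit 8))] (nat_lit 0) m1_3_1) = 0 := by decide +kernel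
theorem e1_3_2 : reachX THn.T (nat_lit 1346876189527353122) (S1.map Prod.snd) [nat_lit 0, nat_lit 0, nat_lit 1, nat_lit 2, nat_lit 0, nat_lit 0, nat_lit 1, nat_lit 3, nat_lit 0, nat_lit 0, nat_lit 1, nat_lit 2, nat_lit 0, nat_lit 0, nat_lit 1, nat_lit 3, nat_lit 0, nat_lit 2] m1_3_1 = m1_3_2 := by decide +kernel
theorem e1_4_1 : dt.run q (fun c => c.edges (SP THn.T THn.Rl (nat_lit 15)) (nat_lit 4429) THn.T.n (nat_lit 1) (nat_lit 4)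
  [((nat_lit 199), [nat_lit 3, nat_lit 1], [], (nat_lit 6))] (nat_lit 0) m1_4_1) = 0 := by decide +kernel
theorem e1_4_2 : reachX THn.T (nat_lit 222860058745873898) (S1.map Prod.snd) [nat_lit 1, nat_lit 2, nat_lit 0, nat_lit 0, nat_lit 1, nat_lit 3, nat_lit 0, nat_lit 0, nat_lit 1, nat_lit 2, nat_lit 0, nat_lit 0, nat_lit 1, nat_lit 2, nat_lit 0, nat_lit 0, nat_lit 3, nat_lit 0, nat_lit 0, nat_lit 2] m1_4_1 = m1_4_2 := by decide +kernel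
theorem e1_5_1 : dt.run q (fun c => c.edges (SP THn.T THn.Rl (nat_lit 15)) (nat_lit 4429) THn.T.n (nat_lit 1) (nat_lit 5)
  [((nat_lit 213), [nat_lit 8, nat_lit 3, nat_lit 1], [], (nat_lit 21))] (nat_lit 0) m1_5_1) = 0 := by decide +kernel
theorem e1_5_2 : reachX THn.T (nat_lit 4078017721713767263) (S1.map Prod.snd) [nat_lit 0, nat_lit 0, nat_lit 1, nat_lit 2, nat_lit 0, nat_lit 0, nat_lit 1, nat_lit 3, nat_lit 0, nat_lit 0, nat_lit 1, nat_lit 2, nat_lit 0, nat_lit 0, nat_lit 1, nat_lit 2, nat_lit 0, nat_lit 0, nat_lit 3, nat_lit 0, nat_lit 0, nat_lit 2] m1_5_1 = m1_5_2 := by decide +kernel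
theorem e1_6_1 : dt.run q (fun c => c.edges (SP THn.T THn.Rl (nat_lit 15)) (nat_lit 4429) THn.T.n (nat_lit 1) (nat_lit 6)
  [((nat_lit 2576), [nat_lit 7, nat_lit 3, nat_lit 1], [], (nat_lit 22))] (nat_lit 0) m1_6_1) = 0 := by decide +kernel
theorem e1_6_2 : reachX THn.T (nat_lit 1006480407349984715) (S1.map Prod.snd) [nat_lit 0, nat_lit 0, nat_lit 1, nat_lit 2, nat_lit 0, nat_lit 0, nat_lit 1, nat_lit 3, nat_lit 0, nat_lit 0, nat_lit 1, nat_lit 2, nat_lit 0, nat_lit 0, nat_lit 1, nat_lit 2, nat_lit 0, nat_lit 0, nat_lit 3, nat_lit 0, nat_lit 0, nat_lit 2] m1_6_1 = m1_6_2 := by decide +kernel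
theorem pc1 : partChk THn.T.n (nat_lit 860) [m1_0_1, m1_1_2, m1_2_2, m1_3_2, m1_4_2, m1_5_2, m1_6_2, (nat_lit 0), (nat_lit 0), (nat_lit 0), (nat_lit 0)] (nth [] aL (nat_lit 1)) = true ∧ nth 0 PL (nat_lit 1) = (nat_lit 1) := by decide +kernel
theorem st2c : dt.run q (fun c => sumL (c.sgen (nat_lit 4429) (nat_lit 2)) S2) = 0 := by decide +kernel
theorem e2_1_1 : dt.run q (fun c => c.edges (SP THn.T THn.Rl (nat_lit 15)) (nat_lit 4429) THn.T.n (nat_lit 2) (nat_lit 1)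
  [((nat_lit 119), [], [], (nat_lit 0)), ((nat_lit 140), [nat_lit 8, nat_lit 4, nat_lit 7, nat_lit 4, nat_lit 1, nat_lit 2, nat_lit 3, nat_lit 0, nat_lit 1], [nat_lit 10, nat_lit 10, nat_lit 0, nat_lit 24, nat_lit 17], (nat_lit 617)), ((nat_lit 146), [nat_lit 7, nat_lit 4, nat_lit 8, nat_lit 3], [nat_lit 10, nat_lit 10, nat_lit 0, nat_lit 17, nat_lit 11, nat_lit 26], (nat_lit 64))] (nat_lit 0) m2_1_1) = 0 := by decide +kernel
theorem e2_1_2 : reachX THn.T (nat_lit 3101066103981330585) (S2.map Prod.snd) [nat_lit 0, nat_lit 0, nat_lit 1, nat_lit 2, nat_lit 0, nat_lit 1, nat_lit 0, nat_lit 2, nat_lit 0, nat_lit 1, nat_lit 0, nat_lit 1] m2_1_1 = m2_1_2 := by decide +kernel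
theorem e2_2_1 : dt.run q (fun c => c.edges (SP THn.T THn.Rl (nat_lit 15)) (nat_lit 4429) THn.T.n (nat_lit 2) (nat_lit 2)
  [((nat_lit 150), [nat_lit 8, nat_lit 5, nat_lit 4, nat_lit 7, nat_lit 3], [nat_lit 16, nat_lit 5, nat_lit 2, nat_lit 34, nat_lit 17, nat_lit 33, nat_lit 27], (nat_lit 126))] (nat_lit 0) m2_2_1) = 0 := by decide +kernel
theorem e2_2_2 : reachX THn.T (nat_lit 1950472149778166424) (S2.map Prod.snd) [nat_lit 0, nat_lit 0, nat_lit 1, nat_lit 0, nat_lit 0, nat_lit 1, nat_lit 1] m2_2_1 = m2_2_2 := by decide +kernel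
theorem e2_3_1 : dt.run q (fun c => c.edges (SP THn.T THn.Rl (nat_lit 15)) (nat_lit 4429) THn.T.n (nat_lit 2) (nat_lit 3)
  [((nat_lit 181), [nat_lit 7, nat_lit 3, nat_lit 4, nat_lit 8, nat_lit 3, nat_lit 4, nat_lit 1, nat_lit 2, nat_lit 3, nat_lit 0, nat_lit 1], [nat_lit 25, nat_lit 16, nat_lit 16, nat_lit 27], (nat_lit 1741)), ((nat_lit 169), [nat_lit 5, nat_lit 7, nat_lit 4, nat_lit 1, nat_lit 2, nat_lit 3, nat_lit 0, nat_lit 1], [nat_lit 16, nat_lit 18], (nat_lit 378))] (nat_lit 0) m2_3_1) = 0 := by decide +kernel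
theorem e2_3_2 : reachX THn.T (nat_lit 3301115637829644111) (S2.map Prod.snd) [nat_lit 0, nat_lit 0, nat_lit 1, nat_lit 0, nat_lit 2, nat_lit 0, nat_lit 1, nat_lit 0, nat_lit 2, nat_lit 0, nat_lit 1, nat_lit 0, nat_lit 2, nat_lit 1, nat_lit 0] m2_3_1 = m2_3_2 := by decide +kernel
theorem e2_5_1 : dt.run q (fun c => c.edges (SP THn.T THn.Rl (nat_lit 15)) (nat_lit 4429) THn.T.n (nat_lit 2) (nat_lit 5)
  [((nat_lit 294), [nat_lit 6, nat_lit 8, nat_lit 4, nat_lit 8, nat_lit 0, nat_lit 1, nat_lit 2, nat_lit 3, nat_lit 4, nat_lit 8, nat_lit 3, nat_lit 2, nat_lit 3, nat_lit 1], [nat_lit 36, nat_lit 16, nat_lit 11, nat_lit 27], (nat_lit 9239))] (nat_lit 0) m2_5_1) = 0 := by decide +kernel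
theorem e2_5_2 : reachX THn.T (nat_lit 97026329945233330) (S2.map Prod.snd) [nat_lit 0, nat_lit 0, nat_lit 1, nat_lit 0, nat_lit 2, nat_lit 0, nat_lit 1, nat_lit 0, nat_lit 2, nat_lit 0, nat_lit 1, nat_lit 0, nat_lit 2, nat_lit 0, nat_lit 1, nat_lit 0, nat_lit 2, nat_lit 0, nat_lit 1, nat_lit 0] m2_5_1 = m2_5_2 := by decide +kernel
theorem e2_9_1 : dt.run q (fun c => c.edges (SP THn.T THn.Rl (nat_lit 15)) (nat_lit 4429) THn.T.n (nat_lit 2) (nat_lit 9)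
  [((nat_lit 3879), [nat_lit 6, nat_lit 7, nat_lit 0, nat_lit 1, nat_lit 2, nat_lit 3, nat_lit 4, nat_lit 8, nat_lit 3, nat_lit 4, nat_lit 2, nat_lit 3, nat_lit 1], [nat_lit 10, nat_lit 10, nat_lit 0, nat_lit 25, nat_lit 37, nat_lit 15, nat_lit 27], (nat_lit 6582))] (nat_lit 0) m2_9_1) = 0 := by decide +kernel
theorem e2_9_2 : reachX THn.T (nat_lit 253704929639680841) (S2.map Prod.snd) [nat_lit 0, nat_lit 0, nat_lit 1, nat_lit 0, nat_lit 2, nat_lit 0, nat_lit 0, nat_lit 1, nat_lit 0, nat_lit 2, nat_lit 0, nat_lit 1, nat_lit 0, nat_lit 2, nat_lit 0, nat_lit 1, nat_lit 2, nat_lit 0] m2_9_1 = m2_9_2 := by decide +kernel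
theorem e2_10_1 : dt.run q (fun c => c.edges (SP THn.T THn.Rl (nat_lit 15)) (nat_lit 4429) THn.T.n (nat_lit 2) (nat_lit 10)
  [((nat_lit 3912), [nat_lit 7, nat_lit 6, nat_lit 2, nat_lit 3, nat_lit 4, nat_lit 8, nat_lit 1, nat_lit 2, nat_lit 3, nat_lit 4, nat_lit 8, nat_lit 2, nat_lit 3, nat_lit 0, nat_lit 1], [nat_lit 25, nat_lit 2, nat_lit 0, nat_lit 37, nat_lit 32, nat_lit 11], (nat_lit 12059))] (nat_lit 0) m2_10_1) = 0 := by decide +kernel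
theorem e2_10_2 : reachX THn.T (nat_lit 160834988991535705) (S2.map Prod.snd) [nat_lit 0, nat_lit 0, nat_lit 1, nat_lit 0, nat_lit 2, nat_lit 0, nat_lit 1, nat_lit 0, nat_lit 2, nat_lit 0, nat_lit 1, nat_lit 0, nat_lit 2, nat_lit 0, nat_lit 1, nat_lit 0, nat_lit 2, nat_lit 0, nat_lit 1, nat_lit 0] m2_10_1 = m2_10_2 := by decide +kernel
theorem pc2 : partChk THn.T.n (nat_lit 860) [(nat_lit 0), m2_1_2, m2_2_2, m2_3_2, (nat_lit 0), m2_5_2, (nat_lit 0), (nat_lit 0), (nat_lit 0), m2_9_2, m2_10_2] (nth [] aL (nat_lit 2)) = true ∧ nth 0 PL (nat_lit 2) = (nat_lit 2) := by decide +kernel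
theorem st3c : dt.run q (fun c => sumL (c.sgen (nat_lit 4429) (nat_lit 3)) S3) = 0 := by decide +kernel
theorem e3_1_1 : dt.run q (fun c => c.edges (SP THn.T THn.Rl (nat_lit 15)) (nat_lit 4429) THn.T.n (nat_lit 3) (nat_lit 1)
  [((nat_lit 160), [], [], (nat_lit 0)), ((nat_lit 172), [nat_lit 5, nat_lit 7, nat_lit 3, nat_lit 1, nat_lit 2, nat_lit 3, nat_lit 4, nat_lit 7, nat_lit 1, nat_lit 2, nat_lit 3, nat_lit 0, nat_lit 1], [nat_lit 2, nat_lit 33, nat_lit 34, nat_lit 26], (nat_lit 4872))] (nat_lit 0) m3_1_1) = 0 := by decide +kernel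
theorem e3_1_2 : reachX THn.T (nat_lit 1563960494303665925) (S3.map Prod.snd) [nat_lit 3, nat_lit 4, nat_lit 3, nat_lit 4] m3_1_1 = m3_1_2 := by decide +kernel
theorem e3_2_1 : dt.run q (fun c => c.edges (SP THn.T THn.Rl (nat_lit 15)) (nat_lit 4429) THn.T.n (nat_lit 3) (nat_lit 2)
  [((nat_lit 168), [nat_lit 7], [nat_lit 0, nat_lit 2, nat_lit 24, nat_lit 18], (nat_lit 4)), ((nat_lit 180), [nat_lit 8, nat_lit 3, nat_lit 2, nat_lit 3, nat_lit 4, nat_lit 8, nat_lit 1, nat_lit 2, nat_lit 3, nat_lit 0, nat_lit 1], [nat_lit 5, nat_lit 16, nat_lit 2, nat_lit 37, nat_lit 37, nat_lit 11, nat_lit 27], (nat_lit 1792))] (nat_lit 0) m3_2_1) = 0 := by decide +kernel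
theorem e3_2_2 : reachX THn.T (nat_lit 3620861580342497981) (S3.map Prod.snd) [nat_lit 3, nat_lit 4, nat_lit 3, nat_lit 4] m3_2_1 = m3_2_2 := by decide +kernel
theorem e3_3_1 : dt.run q (fun c => c.edges (SP THn.T THn.Rl (nat_lit 15)) (nat_lit 4429) THn.T.n (nat_lit 3) (nat_lit 3)
  [((nat_lit 170), [nat_lit 8], [nat_lit 5, nat_lit 2, nat_lit 18, nat_lit 18, nat_lit 26], (nat_lit 3)), ((nat_lit 171), [nat_lit 5, nat_lit 7], [nat_lit 14, nat_lit 0, nat_lit 17, nat_lit 17, nat_lit 27], (nat_lit 15)), ((nat_lit 186), [nat_lit 3, nat_lit 2, nat_lit 3, nat_lit 4, nat_lit 1, nat_lit 2, nat_lit 3, nat_lit 0, nat_lit 1], [nat_lit 36, nat_lit 25, nat_lit 11], (nat_lit 600)), ((nat_lit 183), [nat_lit 7, nat_lit 3, nat_lit 2, nat_lit 3, nat_lit 4, nat_lit 8, nat_lit 4, nat_lit 1, nat_lit 2, nat_lit 3, nat_lit 0, nat_lit 1], [nat_lit 5, nat_lit 25, nat_lit 18, nat_lit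 16], (nat_lit 2941)), ((nat_lit 185), [nat_lit 6, nat_lit 7, nat_lit 3, nat_lit 2, nat_lit 3, nat_lit 4, nat_lit 7, nat_lit 1, nat_lit 2, nat_lit 3, nat_lit 0, nat_lit 1], [nat_lit 11, nat_lit 5, nat_lit 2, nat_lit 15, nat_lit 17], (nat_lit 3063)), ((nat_lit 190), [nat_lit 5, nat_lit 8], [nat_lit 17, nat_lit 2, nat_lit 0, nat_lit 15, nat_lit 35, nat_lit 11], (nat_lit 13)), ((nat_lit 188), [nat_lit 6, nat_lit 7], [nat_lit 1, nat_lit 14, nat_lit 36, nat_lit 32], (nat_lit 14)), ((nat_lit 182), [nat_lit 3, nat_lit 2, nat_lit 3, nat_lit 4, nat_lit 7, nat_lit 4, nat_lit 7, nat_lit 1, nat_lit 2, nat_lit 3, nat_lit 0, nat_lit 1], [nat_lit 10, nat_lit 10, nat_lit 0, nat_lit 37, nat_lit 25, nat_lit 26], (nat_lit 3104)), ((nat_lit 189), [nat_lit 8, nat_lit 5, nat_lit 3, nat_lit 2, nat_lit 3, nat_lit 4, nat_lit 8, nat_lit 4, nat_lit 1, nat_lit 2, nat_lit 3, nat_lit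 0, nat_lit 1], [nat_lit 25, nat_lit 14, nat_lit 0, nat_lit 17, nat_lit 11, nat_lit 17, nat_lit 27], (nat_lit 4744)), ((nat_lit 187), [nat_lit 8, nat_lit 5, nat_lit 3, nat_lit 2, nat_lit 3, nat_lit 4, nat_lit 7, nat_lit 1, nat_lit 2, nat_lit 3, nat_lit 0, nat_lit 1], [nat_lit 15, nat_lit 2, nat_lit 27, nat_lit 16, nat_lit 26], (nat_lit 3060)), ((nat_lit 184), [nat_lit 3, nat_lit 2, nat_lit 3, nat_lit 1, nat_lit 2, nat_lit 3, nat_lit 0, nat_lit 1], [nat_lit 16, nat_lit 2, nat_lit 24, nat_lit 18, nat_lit 26], (nat_lit 357)), ((nat_lit 1970), [nat_lit 3, nat_lit 4, nat_lit 7, nat_lit 2, nat_lit 3, nat_lit 4, nat_lit 8, nat_lit 3, nat_lit 2, nat_lit 3, nat_lit 0, nat_lit 1], [nat_lit 2, nat_lit 15, nat_lit 32, nat_lit 11], (nat_lit 3249)), ((nat_lit 192), [nat_lit 8, nat_lit 3, nat_lit 2, nat_lit 3, nat_lit 1, nat_lit 2, nat_lit 3, nat_lit 0, nat_lit 1], [nat_lit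 11, nat_lit 2, nat_lit 0, nat_lit 26, nat_lit 17, nat_lit 15, nat_lit 27], (nat_lit 570)), ((nat_lit 197), [nat_lit 6, nat_lit 7, nat_lit 3, nat_lit 2, nat_lit 3, nat_lit 1, nat_lit 2, nat_lit 3, nat_lit 0, nat_lit 1], [nat_lit 15, nat_lit 2, nat_lit 37, nat_lit 15, nat_lit 27], (nat_lit 950)), ((nat_lit 191), [nat_lit 7, nat_lit 5, nat_lit 3, nat_lit 2, nat_lit 3, nat_lit 4, nat_lit 8, nat_lit 1, nat_lit 2, nat_lit 3, nat_lit 0, nat_lit 1], [nat_lit 33, nat_lit 11], (nat_lit 2992)), ((nat_lit 1971), [nat_lit 4, nat_lit 8, nat_lit 3, nat_lit 1, nat_lit 2, nat_lit 3, nat_lit 4, nat_lit 7, nat_lit 2, nat_lit 3, nat_lit 4, nat_lit 8, nat_lit 2, nat_lit 3, nat_lit 1], [nat_lit 15, nat_lit 2, nat_lit 34, nat_lit 32, nat_lit 16, nat_lit 26], (nat_lit 14402)), ((nat_lit 198), [nat_lit 5, nat_lit 7, nat_lit 3, nat_lit 2, nat_lit 3, nat_lit 4, nat_lit 7, nat_lit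 1, nat_lit 2, nat_lit 3, nat_lit 0, nat_lit 1], [nat_lit 5, nat_lit 34, nat_lit 25], (nat_lit 3064)), ((nat_lit 196), [nat_lit 3, nat_lit 2, nat_lit 3, nat_lit 4, nat_lit 8, nat_lit 4, nat_lit 1, nat_lit 2, nat_lit 3, nat_lit 0, nat_lit 1], [nat_lit 15, nat_lit 5, nat_lit 17, nat_lit 36, nat_lit 26], (nat_lit 1764)), ((nat_lit 195), [nat_lit 7, nat_lit 6, nat_lit 3, nat_lit 2, nat_lit 3, nat_lit 4, nat_lit 8, nat_lit 1, nat_lit 2, nat_lit 3, nat_lit 0, nat_lit 1], [nat_lit 10, nat_lit 10, nat_lit 0, nat_lit 25, nat_lit 36], (nat_lit 2990)), ((nat_lit 194), [nat_lit 6, nat_lit 3, nat_lit 2, nat_lit 3, nat_lit 4, nat_lit 8, nat_lit 4, nat_lit 1, nat_lit 2, nat_lit 3, nat_lit 0, nat_lit 1], [nat_lit 10, nat_lit 10, nat_lit 0, nat_lit 33], (nat_lit 2938)), ((nat_lit 193), [nat_lit 3, nat_lit 2, nat_lit 3, nat_lit 4, nat_lit 8, nat_lit 4, nat_lit 8, nat_lit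 1, nat_lit 2, nat_lit 3, nat_lit 0, nat_lit 1], [nat_lit 5, nat_lit 16, nat_lit 2, nat_lit 16, nat_lit 16], (nat_lit 3040)), ((nat_lit 2548), [nat_lit 6, nat_lit 7, nat_lit 3, nat_lit 4, nat_lit 8, nat_lit 1, nat_lit 2, nat_lit 3, nat_lit 4, nat_lit 3, nat_lit 2, nat_lit 3, nat_lit 0, nat_lit 1], [nat_lit 16, nat_lit 5, nat_lit 0, nat_lit 24, nat_lit 37, nat_lit 17], (nat_lit 7600))] (nat_lit 0) m3_3_1) = 0 := by decide +kernel
theorem e3_3_2 : reachX THn.T (nat_lit 2820130364776513992) (S3.map Prod.snd) [nat_lit 3, nat_lit 4, nat_lit 0, nat_lit 1, nat_lit 3, nat_lit 2, nat_lit 0, nat_lit 4, nat_lit 1] m3_3_1 = m3_3_2 := by decide +kernel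
theorem e3_4_1 : dt.run q (fun c => c.edges (SP THn.T THn.Rl (nat_lit 15)) (nat_lit 4429) THn.T.n (nat_lit 3) (nat_lit 4)
  [((nat_lit 211), [nat_lit 4, nat_lit 8, nat_lit 5, nat_lit 3, nat_lit 2, nat_lit 3, nat_lit 4, nat_lit 7, nat_lit 4, nat_lit 3, nat_lit 2, nat_lit 3, nat_lit 1], [nat_lit 17, nat_lit 24, nat_lit 0, nat_lit 27, nat_lit 24, nat_lit 15], (nat_lit 6003))] (nat_lit 0) m3_4_1) = 0 := by decide +kernel
theorem e3_4_2 : reachX THn.T (nat_lit 2578066484672637663) (S3.map Prod.snd) [nat_lit 0, nat_lit 1, nat_lit 2, nat_lit 3, nat_lit 1, nat_lit 4, nat_lit 3, nat_lit 4, nat_lit 3] m3_4_1 = m3_4_2 := by decide +kernel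
theorem e3_5_1 : dt.run q (fun c => c.edges (SP THn.T THn.Rl (nat_lit 15)) (nat_lit 4429) THn.T.n (nat_lit 3) (nat_lit 5)
  [((nat_lit 234), [nat_lit 6, nat_lit 1, nat_lit 2, nat_lit 3, nat_lit 0, nat_lit 1, nat_lit 2, nat_lit 3, nat_lit 4, nat_lit 7, nat_lit 4, nat_lit 3, nat_lit 2, nat_lit 3, nat_lit 1], [nat_lit 1, nat_lit 5, nat_lit 17, nat_lit 26], (nat_lit 12918)), ((nat_lit 238), [nat_lit 5, nat_lit 4, nat_lit 3, nat_lit 2, nat_lit 3, nat_lit 4, nat_lit 8, nat_lit 1, nat_lit 2, nat_lit 3, nat_lit 4, nat_lit 3, nat_lit 2, nat_lit 3, nat_lit 1], [nat_lit 17, nat_lit 25, nat_lit 15, nat_lit 27], (nat_lit 12552)), ((nat_lit 228), [nat_lit 5, nat_lit 7, nat_lit 3, nat_lit 1, nat_lit 2, nat_lit 3, nat_lit 4, nat_lit 7, nat_lit 3, nat_lit 2, nat_lit 3, nat_lit 1], [nat_lit 5, nat_lit 0, nat_lit 27, nat_lit 17, nat_lit 27], (nat_lit 3937)), ((nat_lit 232),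 [nat_lit 4, nat_lit 7, nat_lit 1, nat_lit 2, nat_lit 3, nat_lit 0, nat_lit 1, nat_lit 2, nat_lit 3, nat_lit 4, nat_lit 8, nat_lit 4, nat_lit 3, nat_lit 2, nat_lit 3, nat_lit 1], [nat_lit 26, nat_lit 24, nat_lit 0, nat_lit 36, nat_lit 32, nat_lit 27], (nat_lit 15977)), ((nat_lit 244), [nat_lit 8, nat_lit 4, nat_lit 8, nat_lit 3, nat_lit 2, nat_lit 3, nat_lit 1, nat_lit 2, nat_lit 3, nat_lit 4, nat_lit 7, nat_lit 3, nat_lit 2, nat_lit 3, nat_lit 1], [nat_lit 36, nat_lit 16, nat_lit 26], (nat_lit 13380)), ((nat_lit 224), [nat_lit 4, nat_lit 3, nat_lit 2, nat_lit 3, nat_lit 4, nat_lit 7, nat_lit 4, nat_lit 7, nat_lit 3, nat_lit 2, nat_lit 3, nat_lit 0, nat_lit 1], [nat_lit 25, nat_lit 1, nat_lit 37, nat_lit 34, nat_lit 24, nat_lit 26], (nat_lit 5254)), ((nat_lit 1413), [nat_lit 3, nat_lit 1, nat_lit 2, nat_lit 3, nat_lit 4, nat_lit 7, nat_lit 1, nat_lit 2,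 nat_lit 3, nat_lit 4, nat_lit 3, nat_lit 2, nat_lit 3, nat_lit 0, nat_lit 1], [nat_lit 1, nat_lit 24, nat_lit 0, nat_lit 16, nat_lit 16, nat_lit 27], (nat_lit 11192)), ((nat_lit 1963), [nat_lit 6, nat_lit 8, nat_lit 3, nat_lit 1, nat_lit 2, nat_lit 3, nat_lit 4, nat_lit 7, nat_lit 2, nat_lit 3, nat_lit 4, nat_lit 8, nat_lit 2, nat_lit 3, nat_lit 1], [nat_lit 26, nat_lit 2, nat_lit 34, nat_lit 15], (nat_lit 14403)), ((nat_lit 296), [nat_lit 6, nat_lit 3, nat_lit 4, nat_lit 7, nat_lit 1, nat_lit 2, nat_lit 3, nat_lit 4, nat_lit 3, nat_lit 2, nat_lit 3, nat_lit 0, nat_lit 1], [nat_lit 16, nat_lit 5, nat_lit 2, nat_lit 34, nat_lit 11, nat_lit 17, nat_lit 26], (nat_lit 4963)), ((nat_lit 532), [nat_lit 8, nat_lit 5, nat_lit 2, nat_lit 3, nat_lit 4, nat_lit 8, nat_lit 3, nat_lit 2, nat_lit 3, nat_lit 0, nat_lit 1], [nat_lit 17, nat_lit 24, nat_lit 0, nat_lit 34,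 nat_lit 34, nat_lit 15, nat_lit 26], (nat_lit 1925)), ((nat_lit 1957), [nat_lit 3, nat_lit 4, nat_lit 8, nat_lit 2, nat_lit 3, nat_lit 4, nat_lit 7, nat_lit 2, nat_lit 3, nat_lit 0, nat_lit 1], [nat_lit 25, nat_lit 1, nat_lit 18, nat_lit 36], (nat_lit 2151)), ((nat_lit 1568), [nat_lit 3, nat_lit 4, nat_lit 8, nat_lit 6, nat_lit 2, nat_lit 3, nat_lit 4, nat_lit 8, nat_lit 2, nat_lit 3, nat_lit 0, nat_lit 1], [nat_lit 24, nat_lit 1, nat_lit 27, nat_lit 15, nat_lit 27], (nat_lit 3504)), ((nat_lit 469), [nat_lit 4, nat_lit 7, nat_lit 7, nat_lit 1, nat_lit 2, nat_lit 3, nat_lit 4, nat_lit 7, nat_lit 2, nat_lit 3, nat_lit 4, nat_lit 8, nat_lit 2, nat_lit 3, nat_lit 1], [nat_lit 24, nat_lit 16, nat_lit 0, nat_lit 25, nat_lit 33, nat_lit 15], (nat_lit 14419)), ((nat_lit 1965), [nat_lit 8, nat_lit 4, nat_lit 8, nat_lit 0, nat_lit 1, nat_lit 2, nat_lit 3, nat_lit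 4, nat_lit 7, nat_lit 3, nat_lit 2, nat_lit 3, nat_lit 0, nat_lit 1], [nat_lit 16, nat_lit 0, nat_lit 34, nat_lit 17, nat_lit 26], (nat_lit 7921)), ((nat_lit 501), [nat_lit 7, nat_lit 0, nat_lit 1, nat_lit 2, nat_lit 3, nat_lit 4, nat_lit 7, nat_lit 4, nat_lit 3, nat_lit 1, nat_lit 2, nat_lit 3, nat_lit 0, nat_lit 1], [nat_lit 11, nat_lit 2, nat_lit 0, nat_lit 35, nat_lit 11], (nat_lit 7260)), ((nat_lit 816), [nat_lit 6, nat_lit 2, nat_lit 3, nat_lit 4, nat_lit 8, nat_lit 2, nat_lit 3, nat_lit 4, nat_lit 7, nat_lit 3, nat_lit 2, nat_lit 3, nat_lit 0, nat_lit 1], [nat_lit 11, nat_lit 5, nat_lit 2, nat_lit 34, nat_lit 25, nat_lit 11], (nat_lit 8003)), ((nat_lit 782), [nat_lit 4, nat_lit 8, nat_lit 5, nat_lit 3, nat_lit 2, nat_lit 3, nat_lit 4, nat_lit 7, nat_lit 3, nat_lit 4, nat_lit 2, nat_lit 3, nat_lit 0, nat_lit 1], [nat_lit 24, nat_lit 15, nat_lit 0,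 nat_lit 27, nat_lit 18, nat_lit 11, nat_lit 27], (nat_lit 8278)), ((nat_lit 1969), [nat_lit 7, nat_lit 6, nat_lit 4, nat_lit 7, nat_lit 0, nat_lit 1, nat_lit 2, nat_lit 3, nat_lit 4, nat_lit 8, nat_lit 2, nat_lit 3, nat_lit 0, nat_lit 1], [nat_lit 10, nat_lit 0, nat_lit 32, nat_lit 18, nat_lit 15, nat_lit 27], (nat_lit 8374)), ((nat_lit 505), [nat_lit 7, nat_lit 3, nat_lit 1, nat_lit 2, nat_lit 3, nat_lit 4, nat_lit 8, nat_lit 2, nat_lit 3, nat_lit 4, nat_lit 8, nat_lit 3, nat_lit 2, nat_lit 3, nat_lit 1], [nat_lit 15, nat_lit 2, nat_lit 37, nat_lit 24, nat_lit 15, nat_lit 26], (nat_lit 13243)), ((nat_lit 695), [nat_lit 6, nat_lit 8, nat_lit 1, nat_lit 2, nat_lit 3, nat_lit 4, nat_lit 8, nat_lit 2, nat_lit 3, nat_lit 4, nat_lit 8, nat_lit 3, nat_lit 2, nat_lit 3, nat_lit 1], [nat_lit 15, nat_lit 0, nat_lit 27], (nat_lit 13245)), ((nat_lit 1967), [nat_lit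 8, nat_lit 4, nat_lit 8, nat_lit 0, nat_lit 1, nat_lit 2, nat_lit 3, nat_lit 4, nat_lit 3, nat_lit 2, nat_lit 3, nat_lit 0, nat_lit 1], [nat_lit 16, nat_lit 5, nat_lit 0, nat_lit 24, nat_lit 24, nat_lit 27], (nat_lit 4931)), ((nat_lit 870), [nat_lit 8, nat_lit 4, nat_lit 8, nat_lit 0, nat_lit 1, nat_lit 2, nat_lit 3, nat_lit 4, nat_lit 8, nat_lit 3, nat_lit 2, nat_lit 3, nat_lit 0, nat_lit 1], [nat_lit 14, nat_lit 15, nat_lit 0, nat_lit 15, nat_lit 11, nat_lit 15, nat_lit 27], (nat_lit 7788)), ((nat_lit 1810), [nat_lit 8, nat_lit 4, nat_lit 3, nat_lit 2, nat_lit 3, nat_lit 4, nat_lit 8, nat_lit 4, nat_lit 8, nat_lit 3, nat_lit 4, nat_lit 2, nat_lit 3, nat_lit 0, nat_lit 1], [nat_lit 1, nat_lit 1, nat_lit 15, nat_lit 32, nat_lit 26], (nat_lit 11896)), ((nat_lit 230), [nat_lit 7, nat_lit 6, nat_lit 1, nat_lit 2, nat_lit 3, nat_lit 4, nat_lit 7, nat_lit 1,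 nat_lit 2, nat_lit 3, nat_lit 4, nat_lit 2, nat_lit 3, nat_lit 1], [nat_lit 24, nat_lit 15, nat_lit 0, nat_lit 37], (nat_lit 9768)), ((nat_lit 377), [nat_lit 5, nat_lit 4, nat_lit 8, nat_lit 3, nat_lit 4, nat_lit 7, nat_lit 6, nat_lit 2, nat_lit 3, nat_lit 4, nat_lit 7, nat_lit 2, nat_lit 3, nat_lit 1], [nat_lit 15, nat_lit 0, nat_lit 24, nat_lit 36, nat_lit 26], (nat_lit 10751)), ((nat_lit 360), [nat_lit 4, nat_lit 8, nat_lit 1, nat_lit 2, nat_lit 3, nat_lit 4, nat_lit 8, nat_lit 8, nat_lit 2, nat_lit 3, nat_lit 4, nat_lit 8, nat_lit 2, nat_lit 3, nat_lit 0, nat_lit 1], [nat_lit 24, nat_lit 2, nat_lit 0, nat_lit 25, nat_lit 18, nat_lit 16, nat_lit 27], (nat_lit 15531)), ((nat_lit 701), [nat_lit 6, nat_lit 1, nat_lit 2, nat_lit 3, nat_lit 1, nat_lit 2, nat_lit 3, nat_lit 4, nat_lit 8, nat_lit 3, nat_lit 4, nat_lit 3, nat_lit 2, nat_lit 3, nat_lit 1], [nat_lit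 24, nat_lit 2, nat_lit 15, nat_lit 18, nat_lit 16, nat_lit 26], (nat_lit 12691)), ((nat_lit 511), [nat_lit 7, nat_lit 4, nat_lit 7, nat_lit 0, nat_lit 1, nat_lit 2, nat_lit 3, nat_lit 4, nat_lit 3, nat_lit 2, nat_lit 3, nat_lit 0, nat_lit 1], [nat_lit 5, nat_lit 2, nat_lit 0, nat_lit 25, nat_lit 18, nat_lit 26], (nat_lit 4937)), ((nat_lit 499), [nat_lit 6, nat_lit 2, nat_lit 3, nat_lit 4, nat_lit 7, nat_lit 3, nat_lit 1, nat_lit 2, nat_lit 3, nat_lit 4, nat_lit 7, nat_lit 3, nat_lit 2, nat_lit 3, nat_lit 1], [nat_lit 1, nat_lit 17, nat_lit 27], (nat_lit 13428)), ((nat_lit 1959), [nat_lit 0, nat_lit 1, nat_lit 2, nat_lit 3, nat_lit 4, nat_lit 8, nat_lit 4, nat_lit 3, nat_lit 1, nat_lit 2, nat_lit 3, nat_lit 0, nat_lit 1], [nat_lit 17, nat_lit 2, nat_lit 0, nat_lit 17, nat_lit 17, nat_lit 15], (nat_lit 4556)), ((nat_lit 880), [nat_lit 7, nat_lit 5, nat_lit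 1, nat_lit 2, nat_lit 3, nat_lit 4, nat_lit 7, nat_lit 1, nat_lit 2, nat_lit 3, nat_lit 4, nat_lit 7, nat_lit 2, nat_lit 3, nat_lit 1], [nat_lit 16, nat_lit 5, nat_lit 2, nat_lit 33, nat_lit 37, nat_lit 11, nat_lit 27], (nat_lit 14547)), ((nat_lit 436), [nat_lit 5, nat_lit 2, nat_lit 3, nat_lit 4, nat_lit 8, nat_lit 3, nat_lit 2, nat_lit 3, nat_lit 4, nat_lit 3, nat_lit 2, nat_lit 3, nat_lit 1], [nat_lit 24, nat_lit 2, nat_lit 0, nat_lit 18, nat_lit 35], (nat_lit 5783)), ((nat_lit 379), [nat_lit 7, nat_lit 6, nat_lit 4, nat_lit 8, nat_lit 3, nat_lit 4, nat_lit 7, nat_lit 0, nat_lit 1, nat_lit 2, nat_lit 3, nat_lit 4, nat_lit 2, nat_lit 3, nat_lit 1], [nat_lit 14, nat_lit 0, nat_lit 33, nat_lit 37], (nat_lit 13639)), ((nat_lit 1961), [nat_lit 8, nat_lit 8, nat_lit 0, nat_lit 1, nat_lit 2, nat_lit 3, nat_lit 4, nat_lit 7, nat_lit 3, nat_lit 1, nat_lit 2,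 nat_lit 3, nat_lit 0, nat_lit 1], [nat_lit 16, nat_lit 5, nat_lit 0, nat_lit 25, nat_lit 26], (nat_lit 7314)), ((nat_lit 705), [nat_lit 8, nat_lit 4, nat_lit 8, nat_lit 3, nat_lit 2, nat_lit 3, nat_lit 4, nat_lit 7, nat_lit 3, nat_lit 4, nat_lit 2, nat_lit 3, nat_lit 0, nat_lit 1], [nat_lit 14, nat_lit 24, nat_lit 17, nat_lit 11, nat_lit 26], (nat_lit 8281)), ((nat_lit 1584), [nat_lit 8, nat_lit 8, nat_lit 2, nat_lit 3, nat_lit 4, nat_lit 7, nat_lit 2, nat_lit 3, nat_lit 0, nat_lit 1], [nat_lit 5, nat_lit 2, nat_lit 0, nat_lit 33, nat_lit 34, nat_lit 26], (nat_lit 1249)), ((nat_lit 503), [nat_lit 4, nat_lit 7, nat_lit 1, nat_lit 2, nat_lit 3, nat_lit 4, nat_lit 7, nat_lit 1, nat_lit 2, nat_lit 3, nat_lit 4, nat_lit 8, nat_lit 2, nat_lit 3, nat_lit 1], [nat_lit 15, nat_lit 1, nat_lit 35, nat_lit 16, nat_lit 16], (nat_lit 14306)), ((nat_lit 759), [nat_lit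 7, nat_lit 5, nat_lit 3, nat_lit 4, nat_lit 7, nat_lit 3, nat_lit 2, nat_lit 3, nat_lit 4, nat_lit 3, nat_lit 2, nat_lit 3, nat_lit 1], [nat_lit 0, nat_lit 2, nat_lit 24, nat_lit 37, nat_lit 27], (nat_lit 5801)), ((nat_lit 1275), [nat_lit 4, nat_lit 8, nat_lit 0, nat_lit 1, nat_lit 2, nat_lit 3, nat_lit 4, nat_lit 8, nat_lit 2, nat_lit 3, nat_lit 4, nat_lit 2, nat_lit 3, nat_lit 0, nat_lit 1], [nat_lit 25, nat_lit 0, nat_lit 11, nat_lit 36], (nat_lit 11791)), ((nat_lit 402), [nat_lit 8, nat_lit 4, nat_lit 8, nat_lit 3, nat_lit 4, nat_lit 8, nat_lit 2, nat_lit 3, nat_lit 4, nat_lit 2, nat_lit 3, nat_lit 0, nat_lit 1], [nat_lit 5, nat_lit 14, nat_lit 25, nat_lit 36, nat_lit 11, nat_lit 26], (nat_lit 5329)), ((nat_lit 509), [nat_lit 3, nat_lit 4, nat_lit 7, nat_lit 5, nat_lit 3, nat_lit 2, nat_lit 3, nat_lit 4, nat_lit 8, nat_lit 3, nat_lit 2, nat_lit 3, nat_lit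 1], [nat_lit 5, nat_lit 16, nat_lit 2, nat_lit 34, nat_lit 24, nat_lit 15, nat_lit 27], (nat_lit 6104)), ((nat_lit 1973), [nat_lit 6, nat_lit 7, nat_lit 3, nat_lit 4, nat_lit 8, nat_lit 3, nat_lit 1, nat_lit 2, nat_lit 3, nat_lit 4, nat_lit 3, nat_lit 2, nat_lit 3, nat_lit 1], [nat_lit 1, nat_lit 5, nat_lit 36, nat_lit 15, nat_lit 26], (nat_lit 8788)), ((nat_lit 699), [nat_lit 3, nat_lit 4, nat_lit 7, nat_lit 5, nat_lit 2, nat_lit 3, nat_lit 4, nat_lit 7, nat_lit 3, nat_lit 2, nat_lit 3, nat_lit 0, nat_lit 1], [nat_lit 15, nat_lit 0, nat_lit 18, nat_lit 35, nat_lit 11, nat_lit 26], (nat_lit 5228)), ((nat_lit 242), [nat_lit 7, nat_lit 3, nat_lit 2, nat_lit 3, nat_lit 1, nat_lit 2, nat_lit 3, nat_lit 4, nat_lit 7, nat_lit 3, nat_lit 2, nat_lit 3, nat_lit 1], [nat_lit 26, nat_lit 34, nat_lit 32, nat_lit 26], (nat_lit 6208)), ((nat_lit 240), [nat_lit 7, nat_lit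 4, nat_lit 7, nat_lit 3, nat_lit 2, nat_lit 3, nat_lit 4, nat_lit 8, nat_lit 3, nat_lit 2, nat_lit 3, nat_lit 1], [nat_lit 25, nat_lit 0, nat_lit 37, nat_lit 34, nat_lit 24, nat_lit 27], (nat_lit 3873)), ((nat_lit 226), [nat_lit 7, nat_lit 4, nat_lit 7, nat_lit 3, nat_lit 2, nat_lit 3, nat_lit 1, nat_lit 2, nat_lit 3, nat_lit 4, nat_lit 3, nat_lit 2, nat_lit 3, nat_lit 1], [nat_lit 37, nat_lit 11, nat_lit 15, nat_lit 27], (nat_lit 8751)), ((nat_lit 236), [nat_lit 7, nat_lit 3, nat_lit 2, nat_lit 3, nat_lit 0, nat_lit 1, nat_lit 2, nat_lit 3, nat_lit 4, nat_lit 8, nat_lit 3, nat_lit 4, nat_lit 2, nat_lit 3, nat_lit 1], [nat_lit 34, nat_lit 11, nat_lit 17, nat_lit 26], (nat_lit 13921)), ((nat_lit 507), [nat_lit 3, nat_lit 1, nat_lit 2, nat_lit 3, nat_lit 4, nat_lit 7, nat_lit 2, nat_lit 3, nat_lit 4, nat_lit 8, nat_lit 3, nat_lit 4, nat_lit 2, nat_lit 3,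 nat_lit 1], [nat_lit 26, nat_lit 24, nat_lit 0, nat_lit 15], (nat_lit 14080)), ((nat_lit 1975), [nat_lit 5, nat_lit 7, nat_lit 1, nat_lit 2, nat_lit 3, nat_lit 4, nat_lit 7, nat_lit 2, nat_lit 3, nat_lit 4, nat_lit 7, nat_lit 3, nat_lit 2, nat_lit 3, nat_lit 0, nat_lit 1], [nat_lit 0, nat_lit 2, nat_lit 16, nat_lit 25], (nat_lit 15190))] (nat_lit 0) m3_5_1) = 0 := by decide +kernel
theorem e3_5_2 : reachX THn.T (nat_lit 2162689817410512350) (S3.map Prod.snd) [nat_lit 0, nat_lit 1, nat_lit 2, nat_lit 3, nat_lit 0, nat_lit 1, nat_lit 3, nat_lit 4, nat_lit 4, nat_lit 3] m3_5_1 = m3_5_2 := by decide +kernel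
theorem e3_6_1 : dt.run q (fun c => c.edges (SP THn.T THn.Rl (nat_lit 15)) (nat_lit 4429) THn.T.n (nat_lit 3) (nat_lit 6)
  [((nat_lit 2598), [nat_lit 8, nat_lit 4, nat_lit 8, nat_lit 5, nat_lit 3, nat_lit 0, nat_lit 1, nat_lit 2, nat_lit 3, nat_lit 4, nat_lit 8, nat_lit 3, nat_lit 2, nat_lit 3, nat_lit 1], [nat_lit 0, nat_lit 16, nat_lit 25, nat_lit 26], (nat_lit 13046)), ((nat_lit 2594), [nat_lit 6, nat_lit 7, nat_lit 3, nat_lit 2, nat_lit 3, nat_lit 4, nat_lit 7, nat_lit 3, nat_lit 2, nat_lit 3, nat_lit 0, nat_lit 1], [nat_lit 25, nat_lit 2, nat_lit 0, nat_lit 24, nat_lit 33, nat_lit 15, nat_lit 26], (nat_lit 3300)), ((nat_lit 2596), [nat_lit 6, nat_lit 4, nat_lit 3, nat_lit 2, nat_lit 3, nat_lit 1, nat_lit 2, nat_lit 3, nat_lit 4, nat_lit 8, nat_lit 4, nat_lit 3, nat_lit 2, nat_lit 3, nat_lit 1], [nat_lit 34, nat_lit 34, nat_lit 11], (nat_lit 12862)),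 ((nat_lit 3096), [nat_lit 7, nat_lit 5, nat_lit 2, nat_lit 3, nat_lit 4, nat_lit 8, nat_lit 3, nat_lit 1, nat_lit 2, nat_lit 3, nat_lit 4, nat_lit 3, nat_lit 2, nat_lit 3, nat_lit 0, nat_lit 1], [nat_lit 24, nat_lit 2, nat_lit 0, nat_lit 37, nat_lit 15, nat_lit 11, nat_lit 27], (nat_lit 14818)), ((nat_lit 2600), [nat_lit 7, nat_lit 6, nat_lit 2, nat_lit 3, nat_lit 4, nat_lit 8, nat_lit 1, nat_lit 2, nat_lit 3, nat_lit 4, nat_lit 7, nat_lit 2, nat_lit 3, nat_lit 1], [nat_lit 11, nat_lit 2, nat_lit 0, nat_lit 37, nat_lit 34, nat_lit 24, nat_lit 26], (nat_lit 10696)), ((nat_lit 3098), [nat_lit 7, nat_lit 3, nat_lit 1, nat_lit 2, nat_lit 3, nat_lit 4, nat_lit 8, nat_lit 2, nat_lit 3, nat_lit 4, nat_lit 7, nat_lit 3, nat_lit 2, nat_lit 3, nat_lit 1], [nat_lit 25, nat_lit 0, nat_lit 11, nat_lit 27], (nat_lit 13510)), ((nat_lit 3100), [nat_lit 5, nat_lit 4, nat_lit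 7, nat_lit 2, nat_lit 3, nat_lit 4, nat_lit 8, nat_lit 2, nat_lit 3, nat_lit 4, nat_lit 7, nat_lit 2, nat_lit 3, nat_lit 1], [nat_lit 1, nat_lit 24, nat_lit 0, nat_lit 25, nat_lit 37], (nat_lit 10786))] (nat_lit 0) m3_6_1) = 0 := by decide +kernel
theorem e3_6_2 : reachX THn.T (nat_lit 1227919734762792225) (S3.map Prod.snd) [nat_lit 0, nat_lit 1, nat_lit 2, nat_lit 3, nat_lit 1, nat_lit 0, nat_lit 3, nat_lit 4, nat_lit 4, nat_lit 3] m3_6_1 = m3_6_2 := by decide +kernel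
theorem e3_7_1 : dt.run q (fun c => c.edges (SP THn.T THn.Rl (nat_lit 15)) (nat_lit 4429) THn.T.n (nat_lit 3) (nat_lit 7)
  [((nat_lit 3107), [nat_lit 6, nat_lit 3, nat_lit 2, nat_lit 3, nat_lit 4, nat_lit 8, nat_lit 4, nat_lit 3, nat_lit 2, nat_lit 3, nat_lit 1], [], (nat_lit 2273))] (nat_lit 0) m3_7_1) = 0 := by decide +kernel
theorem e3_7_2 : reachX THn.T (nat_lit 2682666677775952677) (S3.map Prod.snd) [nat_lit 0, nat_lit 1, nat_lit 2, nat_lit 3, nat_lit 1, nat_lit 3, nat_lit 3] m3_7_1 = m3_7_2 := by decide +kernel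
theorem e3_8_1 : dt.run q (fun c => c.edges (SP THn.T THn.Rl (nat_lit 15)) (nat_lit 4429) THn.T.n (nat_lit 3) (nat_lit 8)
  [((nat_lit 3558), [nat_lit 6, nat_lit 8, nat_lit 3, nat_lit 1, nat_lit 2, nat_lit 3, nat_lit 4, nat_lit 7, nat_lit 2, nat_lit 3, nat_lit 4, nat_lit 7, nat_lit 2, nat_lit 3, nat_lit 1], [nat_lit 0, nat_lit 27, nat_lit 37, nat_lit 26], (nat_lit 14629)), ((nat_lit 3560), [nat_lit 6, nat_lit 8, nat_lit 1, nat_lit 2, nat_lit 3, nat_lit 4, nat_lit 8, nat_lit 2, nat_lit 3, nat_lit 4, nat_lit 8, nat_lit 2, nat_lit 3, nat_lit 0, nat_lit 1], [nat_lit 15, nat_lit 5, nat_lit 33, nat_lit 18, nat_lit 11, nat_lit 26], (nat_lit 12119)), ((nat_lit 3130), [nat_lit 3, nat_lit 2, nat_lit 3, nat_lit 4, nat_lit 8, nat_lit 4, nat_lit 8, nat_lit 3, nat_lit 2, nat_lit 3, nat_lit 1], [], (nat_lit 2363)), ((nat_lit 3579), [nat_lit 6, nat_lit 3, nat_lit 4, nat_lit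 7, nat_lit 4, nat_lit 7, nat_lit 2, nat_lit 3, nat_lit 4, nat_lit 7, nat_lit 2, nat_lit 3, nat_lit 0, nat_lit 1], [nat_lit 10, nat_lit 10, nat_lit 0, nat_lit 37, nat_lit 34, nat_lit 24, nat_lit 27], (nat_lit 8629)), ((nat_lit 3577), [nat_lit 7, nat_lit 7, nat_lit 3, nat_lit 2, nat_lit 3, nat_lit 4, nat_lit 8, nat_lit 2, nat_lit 3, nat_lit 4, nat_lit 2, nat_lit 3, nat_lit 1], [nat_lit 17, nat_lit 2, nat_lit 0, nat_lit 15, nat_lit 11], (nat_lit 6450))] (nat_lit 0) m3_8_1) = 0 := by decide +kernel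
theorem e3_8_2 : reachX THn.T (nat_lit 2405070263788531287) (S3.map Prod.snd) [nat_lit 0, nat_lit 1, nat_lit 2, nat_lit 3, nat_lit 0, nat_lit 1, nat_lit 3, nat_lit 3, nat_lit 4, nat_lit 4] m3_8_1 = m3_8_2 := by decide +kernel
theorem e3_9_1 : dt.run q (fun c => c.edges (SP THn.T THn.Rl (nat_lit 15)) (nat_lit 4429) THn.T.n (nat_lit 3) (nat_lit 9)
  [((nat_lit 3881), [nat_lit 5, nat_lit 7, nat_lit 3, nat_lit 1, nat_lit 2, nat_lit 3, nat_lit 4, nat_lit 3, nat_lit 2, nat_lit 3, nat_lit 1], [nat_lit 15, nat_lit 5, nat_lit 24, nat_lit 24, nat_lit 26], (nat_lit 2209)), ((nat_lit 3883), [nat_lit 7, nat_lit 6, nat_lit 1, nat_lit 2, nat_lit 3, nat_lit 4, nat_lit 7, nat_lit 2, nat_lit 3, nat_lit 4, nat_lit 3, nat_lit 2, nat_lit 3, nat_lit 0, nat_lit 1], [nat_lit 1, nat_lit 24, nat_lit 0, nat_lit 24, nat_lit 35], (nat_lit 11228))] (nat_lit 0) m3_9_1) = 0 := by decide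 +kernel
theorem e3_9_2 : reachX THn.T (nat_lit 4098825885952142177) (S3.map Prod.snd) [nat_lit 0, nat_lit 1, nat_lit 2, nat_lit 3, nat_lit 1, nat_lit 0, nat_lit 3, nat_lit 4, nat_lit 4, nat_lit 3] m3_9_1 = m3_9_2 := by decide +kernel
theorem e3_10_1 : dt.run q (fun c => c.edges (SP THn.T THn.Rl (nat_lit 15)) (nat_lit 4429) THn.T.n (nat_lit 3) (nat_lit 10)
  [((nat_lit 3922), [nat_lit 7, nat_lit 4, nat_lit 8, nat_lit 1, nat_lit 2, nat_lit 3, nat_lit 0, nat_lit 1], [nat_lit 10, nat_lit 10, nat_lit 0, nat_lit 35, nat_lit 33, nat_lit 27], (nat_lit 383)), ((nat_lit 3896), [nat_lit 3, nat_lit 1], [], (nat_lit 6)), ((nat_lit 3924), [nat_lit 6, nat_lit 8, nat_lit 4, nat_lit 8, nat_lit 3, nat_lit 1, nat_lit 2, nat_lit 3, nat_lit 4, nat_lit 7, nat_lit 3, nat_lit 2, nat_lit 3, nat_lit 0, nat_lit 1], [nat_lit 24, nat_lit 16, nat_lit 0, nat_lit 33, nat_lit 37], (nat_lit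 11585)), ((nat_lit 3926), [nat_lit 7, nat_lit 4, nat_lit 7, nat_lit 2, nat_lit 3, nat_lit 4, nat_lit 8, nat_lit 3, nat_lit 4, nat_lit 2, nat_lit 3, nat_lit 0, nat_lit 1], [nat_lit 11, nat_lit 2, nat_lit 0, nat_lit 34, nat_lit 34, nat_lit 11, nat_lit 27], (nat_lit 5396)), ((nat_lit 3920), [nat_lit 6, nat_lit 8, nat_lit 2, nat_lit 3, nat_lit 4, nat_lit 7, nat_lit 3, nat_lit 4, nat_lit 1, nat_lit 2, nat_lit 3, nat_lit 0, nat_lit 1], [nat_lit 24, nat_lit 18, nat_lit 16, nat_lit 26], (nat_lit 4723)), ((nat_lit 4396), [nat_lit 4, nat_lit 7, nat_lit 7, nat_lit 2, nat_lit 3, nat_lit 2, nat_lit 3, nat_lit 4, nat_lit 7, nat_lit 3, nat_lit 4, nat_lit 2, nat_lit 3, nat_lit 1], [nat_lit 2, nat_lit 0, nat_lit 25, nat_lit 37, nat_lit 17, nat_lit 26], (nat_lit 10224))] (nat_lit 0) m3_10_1) = 0 := by decide +kernel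
theorem e3_10_2 : reachX THn.T (nat_lit 842440364186385832) (S3.map Prod.snd) [nat_lit 0, nat_lit 1, nat_lit 2, nat_lit 3, nat_lit 1, nat_lit 0, nat_lit 3, nat_lit 4, nat_lit 4, nat_lit 3] m3_10_1 = m3_10_2 := by decide +kernel
theorem pc3 : partChk THn.T.n (nat_lit 860) [(nat_lit 0), m3_1_2, m3_2_2, m3_3_2, m3_4_2, m3_5_2, m3_6_2, m3_7_2, m3_8_2, m3_9_2, m3_10_2] (nth [] aL (nat_lit 3)) = true ∧ nth 0 PL (nat_lit 3) = (nat_lit 3) := by decide +kernel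
theorem st4c : dt.run q (fun c => sumL (c.sgen (nat_lit 4429) (nat_lit 4)) S4) = 0 := by decide +kernel
theorem e4_1_1 : dt.run q (fun c => c.edges (SP THn.T THn.Rl (nat_lit 15)) (nat_lit 4429) THn.T.n (nat_lit 4) (nat_lit 1)
  [((nat_lit 200), [], [], (nat_lit 0))] (nat_lit 0) m4_1_1) = 0 := by decide +kernel
theorem e4_1_2 : reachX THn.T (nat_lit 1805256613195653909) (S4.map Prod.snd) [nat_lit 1, nat_lit 2, nat_lit 4, nat_lit 0, nat_lit 0, nat_lit 3, nat_lit 4] m4_1_1 = m4_1_2 := by decide +kernel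
theorem e4_3_1 : dt.run q (fun c => c.edges (SP THn.T THn.Rl (nat_lit 15)) (nat_lit 4429) THn.T.n (nat_lit 4) (nat_lit 3)
  [((nat_lit 210), [nat_lit 5, nat_lit 7, nat_lit 3, nat_lit 4, nat_lit 7, nat_lit 1, nat_lit 2, nat_lit 3, nat_lit 0, nat_lit 1], [nat_lit 34], (nat_lit 1077))] (nat_lit 0) m4_3_1) = 0 := by decide +kernel
theorem e4_3_2 : reachX THn.T (nat_lit 275647070676877252) (S4.map Prod.snd) [nat_lit 0, nat_lit 0, nat_lit 1, nat_lit 2, nat_lit 3, nat_lit 1, nat_lit 4, nat_lit 0, nat_lit 0, nat_lit 3, nat_lit 4] m4_3_1 = m4_3_2 := by decide +kernel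
theorem e4_4_1 : dt.run q (fun c => c.edges (SP THn.T THn.Rl (nat_lit 15)) (nat_lit 4429) THn.T.n (nat_lit 4) (nat_lit 4)
  [((nat_lit 212), [nat_lit 8, nat_lit 3], [nat_lit 0, nat_lit 2, nat_lit 37, nat_lit 34, nat_lit 11, nat_lit 26], (nat_lit 10))] (nat_lit 0) m4_4_1) = 0 := by decide +kernel
theorem e4_4_2 : reachX THn.T (nat_lit 4474230611960418888) (S4.map Prod.snd) [nat_lit 0, nat_lit 0, nat_lit 1, nat_lit 2, nat_lit 1, nat_lit 4, nat_lit 0, nat_lit 3, nat_lit 1] m4_4_1 = m4_4_2 := by decide +kernel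
theorem e4_5_1 : dt.run q (fun c => c.edges (SP THn.T THn.Rl (nat_lit 15)) (nat_lit 4429) THn.T.n (nat_lit 4) (nat_lit 5)
  [((nat_lit 220), [nat_lit 8], [nat_lit 10, nat_lit 10, nat_lit 0, nat_lit 15, nat_lit 15, nat_lit 15], (nat_lit 3)), ((nat_lit 255), [nat_lit 5, nat_lit 7, nat_lit 3, nat_lit 4, nat_lit 1, nat_lit 2, nat_lit 3, nat_lit 0, nat_lit 1], [nat_lit 24, nat_lit 0, nat_lit 27, nat_lit 15, nat_lit 11, nat_lit 27], (nat_lit 608)), ((nat_lit 257), [nat_lit 7, nat_lit 7, nat_lit 3, nat_lit 4, nat_lit 7, nat_lit 1, nat_lit 2, nat_lit 3, nat_lit 0, nat_lit 1], [nat_lit 14, nat_lit 0, nat_lit 37, nat_lit 34, nat_lit 11, nat_lit 27], (nat_lit 1078)), ((nat_lit 259), [nat_lit 3, nat_lit 1, nat_lit 2, nat_lit 3, nat_lit 4, nat_lit 8, nat_lit 4, nat_lit 3, nat_lit 0, nat_lit 1], [nat_lit 24, nat_lit 0, nat_lit 18, nat_lit 16, nat_lit 26], (nat_lit 1266)),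 ((nat_lit 298), [nat_lit 5, nat_lit 4, nat_lit 8, nat_lit 3, nat_lit 4, nat_lit 7, nat_lit 3, nat_lit 1, nat_lit 2, nat_lit 3, nat_lit 0, nat_lit 1], [nat_lit 25, nat_lit 36, nat_lit 15], (nat_lit 2857)), ((nat_lit 342), [nat_lit 7, nat_lit 5, nat_lit 4, nat_lit 8, nat_lit 3], [nat_lit 10, nat_lit 10, nat_lit 0, nat_lit 15, nat_lit 35, nat_lit 11, nat_lit 26], (nat_lit 119)), ((nat_lit 366), [nat_lit 5, nat_lit 8, nat_lit 3, nat_lit 2, nat_lit 3, nat_lit 4, nat_lit 7, nat_lit 3, nat_lit 2, nat_lit 3, nat_lit 1], [nat_lit 11, nat_lit 2, nat_lit 0, nat_lit 34, nat_lit 32, nat_lit 16, nat_lit 26], (nat_lit 2386)), ((nat_lit 369), [nat_lit 8, nat_lit 4, nat_lit 8, nat_lit 4, nat_lit 3], [nat_lit 10, nat_lit 10, nat_lit 0, nat_lit 24, nat_lit 17, nat_lit 11, nat_lit 27], (nat_lit 111)), ((nat_lit 371), [nat_lit 7, nat_lit 6, nat_lit 4, nat_lit 8, nat_lit 3],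 [nat_lit 15, nat_lit 1, nat_lit 24, nat_lit 36, nat_lit 26], (nat_lit 117)), ((nat_lit 373), [nat_lit 7, nat_lit 4, nat_lit 3], [nat_lit 25, nat_lit 0, nat_lit 25, nat_lit 36, nat_lit 27], (nat_lit 28)), ((nat_lit 381), [nat_lit 7, nat_lit 6, nat_lit 4, nat_lit 8, nat_lit 3, nat_lit 2, nat_lit 3, nat_lit 4, nat_lit 8, nat_lit 3, nat_lit 2, nat_lit 3, nat_lit 1], [nat_lit 24, nat_lit 1, nat_lit 37, nat_lit 34, nat_lit 24, nat_lit 27], (nat_lit 6109)), ((nat_lit 383), [nat_lit 7, nat_lit 5, nat_lit 3, nat_lit 4, nat_lit 7, nat_lit 1, nat_lit 2, nat_lit 3, nat_lit 4, nat_lit 3, nat_lit 2, nat_lit 3, nat_lit 1], [nat_lit 27, nat_lit 24, nat_lit 26], (nat_lit 5778)), ((nat_lit 438), [nat_lit 5, nat_lit 8, nat_lit 3, nat_lit 2, nat_lit 3, nat_lit 4, nat_lit 7, nat_lit 1, nat_lit 2, nat_lit 3, nat_lit 4, nat_lit 2, nat_lit 3, nat_lit 1], [nat_lit 32, nat_lit 36,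 nat_lit 16, nat_lit 27], (nat_lit 9780)), ((nat_lit 471), [nat_lit 3, nat_lit 4, nat_lit 7, nat_lit 3, nat_lit 4, nat_lit 3, nat_lit 1, nat_lit 2, nat_lit 3, nat_lit 0, nat_lit 1], [nat_lit 24, nat_lit 0, nat_lit 32, nat_lit 36, nat_lit 16, nat_lit 27], (nat_lit 1663)), ((nat_lit 513), [nat_lit 5, nat_lit 4, nat_lit 7, nat_lit 3, nat_lit 2, nat_lit 3, nat_lit 1, nat_lit 2, nat_lit 3, nat_lit 4, nat_lit 8, nat_lit 3, nat_lit 2, nat_lit 3, nat_lit 1], [nat_lit 34, nat_lit 24], (nat_lit 13111)), ((nat_lit 515), [nat_lit 8, nat_lit 4, nat_lit 3, nat_lit 2, nat_lit 3, nat_lit 0, nat_lit 1], [nat_lit 25, nat_lit 14, nat_lit 0, nat_lit 15, nat_lit 24], (nat_lit 235)), ((nat_lit 517), [nat_lit 6, nat_lit 8, nat_lit 4, nat_lit 8, nat_lit 0, nat_lit 1, nat_lit 2, nat_lit 3, nat_lit 4, nat_lit 3, nat_lit 2, nat_lit 3, nat_lit 1], [nat_lit 37, nat_lit 17, nat_lit 26],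 (nat_lit 5709)), ((nat_lit 519), [nat_lit 7, nat_lit 2, nat_lit 3, nat_lit 0, nat_lit 1, nat_lit 2, nat_lit 3, nat_lit 4, nat_lit 8, nat_lit 4, nat_lit 3, nat_lit 2, nat_lit 3, nat_lit 1], [nat_lit 17, nat_lit 36, nat_lit 26], (nat_lit 9049)), ((nat_lit 521), [nat_lit 7, nat_lit 1, nat_lit 2, nat_lit 3, nat_lit 4, nat_lit 3, nat_lit 1, nat_lit 2, nat_lit 3, nat_lit 0, nat_lit 1], [nat_lit 15, nat_lit 5, nat_lit 24, nat_lit 18, nat_lit 16, nat_lit 27], (nat_lit 1651)), ((nat_lit 1983), [nat_lit 7, nat_lit 5, nat_lit 1, nat_lit 2, nat_lit 3, nat_lit 4, nat_lit 8, nat_lit 3, nat_lit 1, nat_lit 2, nat_lit 3, nat_lit 0, nat_lit 1], [nat_lit 14, nat_lit 34, nat_lit 32, nat_lit 11, nat_lit 26], (nat_lit 4587)), ((nat_lit 1981), [nat_lit 4, nat_lit 8, nat_lit 8, nat_lit 3, nat_lit 4, nat_lit 8, nat_lit 3, nat_lit 1, nat_lit 2, nat_lit 3, nat_lit 0, nat_lit 1],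 [nat_lit 18, nat_lit 15, nat_lit 0, nat_lit 35, nat_lit 33], (nat_lit 2832)), ((nat_lit 527), [nat_lit 5, nat_lit 7, nat_lit 5, nat_lit 3, nat_lit 4, nat_lit 7, nat_lit 1, nat_lit 2, nat_lit 3, nat_lit 4, nat_lit 8, nat_lit 2, nat_lit 3, nat_lit 1], [nat_lit 24, nat_lit 24, nat_lit 26], (nat_lit 10456)), ((nat_lit 1977), [nat_lit 3, nat_lit 4, nat_lit 7, nat_lit 3, nat_lit 4, nat_lit 8, nat_lit 3, nat_lit 1, nat_lit 2, nat_lit 3, nat_lit 0, nat_lit 1], [nat_lit 14, nat_lit 0, nat_lit 27, nat_lit 36, nat_lit 11], (nat_lit 2833)), ((nat_lit 904), [nat_lit 6, nat_lit 7, nat_lit 3, nat_lit 4, nat_lit 8, nat_lit 2, nat_lit 3, nat_lit 4, nat_lit 2, nat_lit 3, nat_lit 0, nat_lit 1], [nat_lit 1, nat_lit 24, nat_lit 17, nat_lit 11, nat_lit 26], (nat_lit 3382)), ((nat_lit 1979), [nat_lit 5, nat_lit 8, nat_lit 3, nat_lit 2, nat_lit 3, nat_lit 4, nat_lit 3, nat_lit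 2, nat_lit 3, nat_lit 1], [nat_lit 17, nat_lit 2, nat_lit 0, nat_lit 24, nat_lit 17], (nat_lit 1282)), ((nat_lit 822), [nat_lit 4, nat_lit 8, nat_lit 2, nat_lit 3, nat_lit 4, nat_lit 8, nat_lit 5, nat_lit 1, nat_lit 2, nat_lit 3, nat_lit 4, nat_lit 8, nat_lit 2, nat_lit 3, nat_lit 0, nat_lit 1], [nat_lit 25, nat_lit 16, nat_lit 0, nat_lit 15, nat_lit 11, nat_lit 27], (nat_lit 15442)), ((nat_lit 1800), [nat_lit 7, nat_lit 4, nat_lit 8, nat_lit 3, nat_lit 4, nat_lit 8, nat_lit 4, nat_lit 1, nat_lit 2, nat_lit 3, nat_lit 0, nat_lit 1], [nat_lit 10, nat_lit 10, nat_lit 0, nat_lit 17, nat_lit 17, nat_lit 15], (nat_lit 2948)), ((nat_lit 529), [nat_lit 7, nat_lit 4, nat_lit 7, nat_lit 1, nat_lit 2, nat_lit 3, nat_lit 4, nat_lit 8, nat_lit 2, nat_lit 3, nat_lit 4, nat_lit 8, nat_lit 2, nat_lit 3, nat_lit 0, nat_lit 1], [nat_lit 11, nat_lit 2, nat_lit 0, nat_lit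 15, nat_lit 32, nat_lit 11, nat_lit 27], (nat_lit 15514)), ((nat_lit 1985), [nat_lit 7, nat_lit 2, nat_lit 3, nat_lit 4, nat_lit 7, nat_lit 3, nat_lit 4, nat_lit 1, nat_lit 2, nat_lit 3, nat_lit 0, nat_lit 1], [nat_lit 24, nat_lit 0, nat_lit 16, nat_lit 18, nat_lit 15], (nat_lit 2921)), ((nat_lit 525), [nat_lit 7, nat_lit 4, nat_lit 8, nat_lit 8, nat_lit 2, nat_lit 3, nat_lit 4, nat_lit 7, nat_lit 1, nat_lit 2, nat_lit 3, nat_lit 0, nat_lit 1], [nat_lit 34, nat_lit 25, nat_lit 11, nat_lit 27], (nat_lit 4898)), ((nat_lit 947), [nat_lit 8, nat_lit 3, nat_lit 4, nat_lit 7, nat_lit 5, nat_lit 0, nat_lit 1, nat_lit 2, nat_lit 3, nat_lit 4, nat_lit 8, nat_lit 2, nat_lit 3, nat_lit 1], [nat_lit 18, nat_lit 15, nat_lit 0, nat_lit 35, nat_lit 17, nat_lit 16], (nat_lit 10394))] (nat_lit 0) m4_5_1) = 0 := by decide +kernel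
theorem e4_5_2 : reachX THn.T (nat_lit 3230720345701490202) (S4.map Prod.snd) [nat_lit 0, nat_lit 0, nat_lit 1, nat_lit 3, nat_lit 1, nat_lit 2, nat_lit 1, nat_lit 4, nat_lit 0, nat_lit 0, nat_lit 3, nat_lit 1, nat_lit 4] m4_5_1 = m4_5_2 := by decide +kernel
theorem e4_6_1 : dt.run q (fun c => c.edges (SP THn.T THn.Rl (nat_lit 15)) (nat_lit 4429) THn.T.n (nat_lit 4) (nat_lit 6)
  [((nat_lit 2581), [nat_lit 7], [], (nat_lit 4)), ((nat_lit 2604), [nat_lit 5, nat_lit 4, nat_lit 8, nat_lit 3], [nat_lit 34, nat_lit 16, nat_lit 11, nat_lit 26], (nat_lit 62)), ((nat_lit 3089), [nat_lit 5, nat_lit 8, nat_lit 4, nat_lit 3], [nat_lit 11, nat_lit 5, nat_lit 2, nat_lit 11, nat_lit 15, nat_lit 26], (nat_lit 57)), ((nat_lit 2602), [nat_lit 7, nat_lit 5, nat_lit 2, nat_lit 3, nat_lit 4, nat_lit 7, nat_lit 1, nat_lit 2, nat_lit 3, nat_lit 0, nat_lit 1], [nat_lit 15, nat_lit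 35, nat_lit 27], (nat_lit 1827))] (nat_lit 0) m4_6_1) = 0 := by decide +kernel
theorem e4_6_2 : reachX THn.T (nat_lit 163008746860038268) (S4.map Prod.snd) [nat_lit 0, nat_lit 0, nat_lit 1, nat_lit 2, nat_lit 3, nat_lit 1, nat_lit 4, nat_lit 0, nat_lit 0, nat_lit 3, nat_lit 4] m4_6_1 = m4_6_2 := by decide +kernel
theorem e4_8_1 : dt.run q (fun c => c.edges (SP THn.T THn.Rl (nat_lit 15)) (nat_lit 4429) THn.T.n (nat_lit 4) (nat_lit 8)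
  [((nat_lit 3562), [nat_lit 4, nat_lit 7, nat_lit 3, nat_lit 4, nat_lit 7, nat_lit 4, nat_lit 3, nat_lit 1, nat_lit 2, nat_lit 3, nat_lit 0, nat_lit 1], [nat_lit 10, nat_lit 10, nat_lit 0, nat_lit 16, nat_lit 18, nat_lit 15], (nat_lit 2810))] (nat_lit 0) m4_8_1) = 0 := by decide +kernel
theorem e4_8_2 : reachX THn.T (nat_lit 1506574387402699923) (S4.map Prod.snd) [nat_lit 0, nat_lit 0, nat_lit 1, nat_lit 2, nat_lit 3, nat_lit 1, nat_lit 2, nat_lit 1, nat_lit 4, nat_lit 0, nat_lit 3, nat_lit 1] m4_8_1 = m4_8_2 := by decide +kernel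
theorem e4_9_1 : dt.run q (fun c => c.edges (SP THn.T THn.Rl (nat_lit 15)) (nat_lit 4429) THn.T.n (nat_lit 4) (nat_lit 9)
  [((nat_lit 3597), [nat_lit 7, nat_lit 6, nat_lit 1, nat_lit 2, nat_lit 3, nat_lit 4, nat_lit 7, nat_lit 2, nat_lit 3, nat_lit 1], [nat_lit 1, nat_lit 1, nat_lit 17, nat_lit 25, nat_lit 15, nat_lit 27], (nat_lit 1571)), ((nat_lit 3892), [nat_lit 4, nat_lit 1, nat_lit 2, nat_lit 3, nat_lit 0, nat_lit 1], [nat_lit 15, nat_lit 5, nat_lit 11], (nat_lit 134)), ((nat_lit 3894), [nat_lit 6, nat_lit 7, nat_lit 3], [nat_lit 17, nat_lit 36, nat_lit 15, nat_lit 26], (nat_lit 33)), ((nat_lit 3590), [nat_lit 7, nat_lit 6, nat_lit 1, nat_lit 2, nat_lit 3, nat_lit 4, nat_lit 7, nat_lit 3, nat_lit 1, nat_lit 2, nat_lit 3, nat_lit 0, nat_lit 1], [nat_lit 5, nat_lit 2, nat_lit 0, nat_lit 34, nat_lit 32, nat_lit 16, nat_lit 26], (nat_lit 4630)), ((nat_lit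 3885), [nat_lit 7, nat_lit 4, nat_lit 7, nat_lit 3], [nat_lit 25, nat_lit 0, nat_lit 35, nat_lit 15, nat_lit 26], (nat_lit 68)), ((nat_lit 3887), [nat_lit 7, nat_lit 3, nat_lit 4, nat_lit 8, nat_lit 3, nat_lit 4, nat_lit 1, nat_lit 2, nat_lit 3, nat_lit 0, nat_lit 1], [nat_lit 26, nat_lit 24, nat_lit 0, nat_lit 17, nat_lit 17], (nat_lit 1741)), ((nat_lit 3889), [nat_lit 7, nat_lit 4, nat_lit 8, nat_lit 8, nat_lit 2, nat_lit 3, nat_lit 4, nat_lit 8, nat_lit 1, nat_lit 2, nat_lit 3, nat_lit 0, nat_lit 1], [nat_lit 2, nat_lit 18, nat_lit 35, nat_lit 27], (nat_lit 4830))] (nat_lit 0) m4_9_1) = 0 := by decide +kernel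
theorem e4_9_2 : reachX THn.T (nat_lit 552237950249824043) (S4.map Prod.snd) [nat_lit 0, nat_lit 0, nat_lit 1, nat_lit 3, nat_lit 1, nat_lit 2, nat_lit 1, nat_lit 4, nat_lit 0, nat_lit 3, nat_lit 0, nat_lit 1] m4_9_1 = m4_9_2 := by decide +kernel
theorem e4_10_1 : dt.run q (fun c => c.edges (SP THn.T THn.Rl (nat_lit 15)) (nat_lit 4429) THn.T.n (nat_lit 4) (nat_lit 10)
  [((nat_lit 3930), [nat_lit 4, nat_lit 7, nat_lit 3], [nat_lit 16, nat_lit 2, nat_lit 32, nat_lit 18, nat_lit 11, nat_lit 27], (nat_lit 32)), ((nat_lit 3934), [nat_lit 8, nat_lit 5, nat_lit 3, nat_lit 4, nat_lit 8, nat_lit 1, nat_lit 2, nat_lit 3, nat_lit 0, nat_lit 1], [nat_lit 15, nat_lit 5, nat_lit 37, nat_lit 11, nat_lit 26], (nat_lit 1055)), ((nat_lit 3928), [nat_lit 6, nat_lit 7, nat_lit 4, nat_lit 8, nat_lit 1, nat_lit 2, nat_lit 3, nat_lit 0, nat_lit 1], [nat_lit 33, nat_lit 36, nat_lit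 11, nat_lit 26], (nat_lit 630)), ((nat_lit 3932), [nat_lit 6, nat_lit 7, nat_lit 3, nat_lit 4, nat_lit 8, nat_lit 1, nat_lit 2, nat_lit 3, nat_lit 0, nat_lit 1], [nat_lit 14, nat_lit 32, nat_lit 36, nat_lit 16, nat_lit 27], (nat_lit 1061)), ((nat_lit 3940), [nat_lit 8, nat_lit 2, nat_lit 3, nat_lit 1, nat_lit 2, nat_lit 3, nat_lit 4, nat_lit 8, nat_lit 4, nat_lit 3, nat_lit 2, nat_lit 3, nat_lit 1], [nat_lit 24, nat_lit 15, nat_lit 0, nat_lit 11, nat_lit 18, nat_lit 26], (nat_lit 5930)), ((nat_lit 3936), [nat_lit 6, nat_lit 3, nat_lit 4, nat_lit 8, nat_lit 1, nat_lit 2, nat_lit 3, nat_lit 4, nat_lit 8, nat_lit 3, nat_lit 2, nat_lit 3, nat_lit 1], [nat_lit 16, nat_lit 37, nat_lit 27], (nat_lit 6076)), ((nat_lit 3938), [nat_lit 7, nat_lit 4, nat_lit 7, nat_lit 5, nat_lit 3, nat_lit 4, nat_lit 7, nat_lit 1, nat_lit 2, nat_lit 3, nat_lit 0, nat_lit 1], [nat_lit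 10, nat_lit 10, nat_lit 0, nat_lit 15, nat_lit 35, nat_lit 27], (nat_lit 3080))] (nat_lit 0) m4_10_1) = 0 := by decide +kernel
theorem e4_10_2 : reachX THn.T (nat_lit 2594287493848760461) (S4.map Prod.snd) [nat_lit 0, nat_lit 0, nat_lit 1, nat_lit 2, nat_lit 3, nat_lit 1, nat_lit 2, nat_lit 4, nat_lit 0, nat_lit 0, nat_lit 3, nat_lit 4] m4_10_1 = m4_10_2 := by decide +kernel
theorem pc4 : partChk THn.T.n (nat_lit 860) [(nat_lit 0), m4_1_2, (nat_lit 0), m4_3_2, m4_4_2, m4_5_2, m4_6_2, (nat_lit 0), m4_8_2, m4_9_2, m4_10_2] (nth [] aL (nat_lit 4)) = true ∧ nth 0 PL (nat_lit 4) = (nat_lit 4) := by decide +kernel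
theorem st5c : dt.run q (fun c => sumL (c.sgen (nat_lit 4429) (nat_lit 5)) S5) = 0 := by decide +kernel
theorem e5_1_1 : dt.run q (fun c => c.edges (SP THn.T THn.Rl (nat_lit 15)) (nat_lit 4429) THn.T.n (nat_lit 5) (nat_lit 1)
  [((nat_lit 214), [], [], (nat_lit 0))] (nat_lit 0) m5_1_1) = 0 := by decide +kernel
theorem e5_2_1 : dt.run q (fun c => c.edges (SP THn.T THn.Rl (nat_lit 15)) (nat_lit 4429) THn.T.n (nat_lit 5) (nat_lit 2)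
  [((nat_lit 293), [nat_lit 8, nat_lit 4, nat_lit 8, nat_lit 3], [nat_lit 5, nat_lit 16, nat_lit 2, nat_lit 33, nat_lit 37, nat_lit 11, nat_lit 27], (nat_lit 63))] (nat_lit 0) m5_2_1) = 0 := by decide +kernel
theorem e5_2_2 : reachX THn.T (nat_lit 2331730225305439146) (S5.map Prod.snd) [nat_lit 0, nat_lit 1] m5_2_1 = m5_2_2 := by decide +kernel
theorem e5_3_1 : dt.run q (fun c => c.edges (SP THn.T THn.Rl (nat_lit 15)) (nat_lit 4429) THn.T.n (nat_lit 5) (nat_lit 3)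
  [((nat_lit 227), [nat_lit 3, nat_lit 4, nat_lit 1, nat_lit 2, nat_lit 3, nat_lit 0, nat_lit 1], [nat_lit 10, nat_lit 10, nat_lit 0, nat_lit 24, nat_lit 24, nat_lit 11], (nat_lit 225)), ((nat_lit 233), [nat_lit 6, nat_lit 8, nat_lit 3, nat_lit 2, nat_lit 3, nat_lit 4, nat_lit 8, nat_lit 1, nat_lit 2, nat_lit 3, nat_lit 0, nat_lit 1], [nat_lit 1, nat_lit 24, nat_lit 0, nat_lit 11, nat_lit 17], (nat_lit 2993)), ((nat_lit 231), [nat_lit 5, nat_lit 8, nat_lit 3, nat_lit 2, nat_lit 3, nat_lit 4, nat_lit 8, nat_lit 1, nat_lit 2, nat_lit 3, nat_lit 0, nat_lit 1], [nat_lit 11, nat_lit 5, nat_lit 2, nat_lit 34, nat_lit 17, nat_lit 33, nat_lit 26], (nat_lit 2994)), ((nat_lit 239), [nat_lit 3, nat_lit 1, nat_lit 2, nat_lit 3, nat_lit 4, nat_lit 1, nat_lit 2, nat_lit 3, nat_lit 0, nat_lit 1], [nat_lit 15, nat_lit 5, nat_lit 25, nat_lit 36], (nat_lit 1012)), ((nat_lit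 229), [nat_lit 7, nat_lit 2, nat_lit 3, nat_lit 4, nat_lit 7, nat_lit 3, nat_lit 2, nat_lit 3, nat_lit 4, nat_lit 3, nat_lit 2, nat_lit 3, nat_lit 1], [nat_lit 25, nat_lit 2, nat_lit 0, nat_lit 25, nat_lit 18, nat_lit 26], (nat_lit 5799)), ((nat_lit 1276), [nat_lit 7, nat_lit 5, nat_lit 2, nat_lit 3, nat_lit 4, nat_lit 7, nat_lit 3, nat_lit 4, nat_lit 3, nat_lit 1, nat_lit 2, nat_lit 3, nat_lit 0, nat_lit 1], [nat_lit 15, nat_lit 5, nat_lit 24, nat_lit 17, nat_lit 11, nat_lit 26], (nat_lit 7239)), ((nat_lit 1968), [nat_lit 7, nat_lit 4, nat_lit 7, nat_lit 4, nat_lit 7, nat_lit 3, nat_lit 2, nat_lit 3, nat_lit 4, nat_lit 8, nat_lit 3, nat_lit 2, nat_lit 3, nat_lit 1], [nat_lit 5, nat_lit 0, nat_lit 27, nat_lit 36, nat_lit 27], (nat_lit 9356)), ((nat_lit 1972), [nat_lit 7, nat_lit 7, nat_lit 4, nat_lit 8, nat_lit 3, nat_lit 1, nat_lit 2, nat_lit 3, nat_lit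 4, nat_lit 7, nat_lit 2, nat_lit 3, nat_lit 4, nat_lit 2, nat_lit 3, nat_lit 1], [nat_lit 0, nat_lit 2, nat_lit 27, nat_lit 24], (nat_lit 16529)), ((nat_lit 533), [nat_lit 7, nat_lit 4, nat_lit 7, nat_lit 3, nat_lit 4, nat_lit 7, nat_lit 4, nat_lit 1, nat_lit 2, nat_lit 3, nat_lit 0, nat_lit 1], [nat_lit 36, nat_lit 33, nat_lit 24, nat_lit 26], (nat_lit 2971)), ((nat_lit 223), [nat_lit 5, nat_lit 8, nat_lit 3, nat_lit 0, nat_lit 1, nat_lit 2, nat_lit 3, nat_lit 4, nat_lit 8, nat_lit 1, nat_lit 2, nat_lit 3, nat_lit 0, nat_lit 1], [nat_lit 1, nat_lit 24, nat_lit 0, nat_lit 34, nat_lit 34, nat_lit 27], (nat_lit 7431)), ((nat_lit 508), [nat_lit 8, nat_lit 3, nat_lit 4, nat_lit 8, nat_lit 3, nat_lit 2, nat_lit 3, nat_lit 0, nat_lit 1], [nat_lit 14, nat_lit 33, nat_lit 24, nat_lit 11, nat_lit 26], (nat_lit 668)), ((nat_lit 1811), [nat_lit 8, nat_lit 1, nat_lit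 2, nat_lit 3, nat_lit 4, nat_lit 7, nat_lit 3, nat_lit 4, nat_lit 3, nat_lit 2, nat_lit 3, nat_lit 1], [nat_lit 14, nat_lit 37, nat_lit 11, nat_lit 17, nat_lit 27], (nat_lit 3751)), ((nat_lit 881), [nat_lit 8, nat_lit 6, nat_lit 4, nat_lit 7, nat_lit 2, nat_lit 3, nat_lit 4, nat_lit 3, nat_lit 2, nat_lit 3, nat_lit 0, nat_lit 1], [nat_lit 5, nat_lit 2, nat_lit 0, nat_lit 34, nat_lit 11, nat_lit 26], (nat_lit 3155)), ((nat_lit 295), [nat_lit 5, nat_lit 7, nat_lit 0, nat_lit 1, nat_lit 2, nat_lit 3, nat_lit 4, nat_lit 8, nat_lit 2, nat_lit 3, nat_lit 0, nat_lit 1], [nat_lit 5, nat_lit 14, nat_lit 35, nat_lit 15, nat_lit 26], (nat_lit 3490)), ((nat_lit 243), [nat_lit 8, nat_lit 3, nat_lit 0, nat_lit 1, nat_lit 2, nat_lit 3, nat_lit 4, nat_lit 8, nat_lit 1, nat_lit 2, nat_lit 3, nat_lit 0, nat_lit 1], [nat_lit 1, nat_lit 24, nat_lit 0, nat_lit 25, nat_lit 18,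 nat_lit 18], (nat_lit 4786)), ((nat_lit 225), [nat_lit 6, nat_lit 7, nat_lit 3, nat_lit 1, nat_lit 2, nat_lit 3, nat_lit 4, nat_lit 7, nat_lit 1, nat_lit 2, nat_lit 3, nat_lit 0, nat_lit 1], [nat_lit 16, nat_lit 2, nat_lit 25], (nat_lit 4871)), ((nat_lit 237), [nat_lit 6, nat_lit 8, nat_lit 3, nat_lit 0, nat_lit 1, nat_lit 2, nat_lit 3, nat_lit 4, nat_lit 8, nat_lit 1, nat_lit 2, nat_lit 3, nat_lit 0, nat_lit 1], [nat_lit 16, nat_lit 5, nat_lit 2, nat_lit 15, nat_lit 27], (nat_lit 7430)), ((nat_lit 403), [nat_lit 8, nat_lit 6, nat_lit 3, nat_lit 0, nat_lit 1, nat_lit 2, nat_lit 3, nat_lit 4, nat_lit 7, nat_lit 3, nat_lit 4, nat_lit 2, nat_lit 3, nat_lit 1], [nat_lit 32, nat_lit 34, nat_lit 11, nat_lit 27], (nat_lit 10171)), ((nat_lit 378), [nat_lit 3, nat_lit 4, nat_lit 7, nat_lit 1, nat_lit 2, nat_lit 3, nat_lit 4, nat_lit 8, nat_lit 2, nat_lit 3, nat_lit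 4, nat_lit 3, nat_lit 2, nat_lit 3, nat_lit 1], [nat_lit 25, nat_lit 2, nat_lit 0], (nat_lit 12620)), ((nat_lit 1958), [nat_lit 7, nat_lit 1, nat_lit 2, nat_lit 3, nat_lit 4, nat_lit 7, nat_lit 3, nat_lit 2, nat_lit 3, nat_lit 1], [nat_lit 26, nat_lit 2, nat_lit 24, nat_lit 16, nat_lit 27], (nat_lit 1371)), ((nat_lit 468), [nat_lit 2, nat_lit 3, nat_lit 4, nat_lit 7, nat_lit 1, nat_lit 2, nat_lit 3, nat_lit 4, nat_lit 8, nat_lit 2, nat_lit 3, nat_lit 4, nat_lit 3, nat_lit 2, nat_lit 3, nat_lit 1], [nat_lit 16, nat_lit 5, nat_lit 0, nat_lit 36, nat_lit 25, nat_lit 11, nat_lit 27], (nat_lit 15829)), ((nat_lit 241), [nat_lit 7, nat_lit 2, nat_lit 3, nat_lit 4, nat_lit 7, nat_lit 4, nat_lit 1, nat_lit 2, nat_lit 3, nat_lit 0, nat_lit 1], [nat_lit 17, nat_lit 33, nat_lit 27], (nat_lit 1779)), ((nat_lit 235), [nat_lit 5, nat_lit 7, nat_lit 3, nat_lit 1, nat_lit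 2, nat_lit 3, nat_lit 4, nat_lit 7, nat_lit 1, nat_lit 2, nat_lit 3, nat_lit 0, nat_lit 1], [nat_lit 26, nat_lit 2, nat_lit 18, nat_lit 35, nat_lit 11, nat_lit 27], (nat_lit 4872)), ((nat_lit 760), [nat_lit 8, nat_lit 6, nat_lit 0, nat_lit 1, nat_lit 2, nat_lit 3, nat_lit 4, nat_lit 8, nat_lit 2, nat_lit 3, nat_lit 4, nat_lit 2, nat_lit 3, nat_lit 1], [nat_lit 16, nat_lit 5, nat_lit 2, nat_lit 17, nat_lit 34], (nat_lit 9830)), ((nat_lit 783), [nat_lit 6, nat_lit 7, nat_lit 4, nat_lit 7, nat_lit 0, nat_lit 1, nat_lit 2, nat_lit 3, nat_lit 4, nat_lit 1, nat_lit 2, nat_lit 3, nat_lit 0, nat_lit 1], [nat_lit 15, nat_lit 5, nat_lit 33, nat_lit 33, nat_lit 11], (nat_lit 7360)), ((nat_lit 817), [nat_lit 7, nat_lit 4, nat_lit 7, nat_lit 2, nat_lit 3, nat_lit 4, nat_lit 7, nat_lit 4, nat_lit 2, nat_lit 3, nat_lit 1], [nat_lit 24, nat_lit 2, nat_lit 35, nat_lit 27,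 nat_lit 15, nat_lit 26], (nat_lit 2592)), ((nat_lit 871), [nat_lit 8, nat_lit 4, nat_lit 7, nat_lit 5, nat_lit 2, nat_lit 3, nat_lit 4, nat_lit 8, nat_lit 0, nat_lit 1, nat_lit 2, nat_lit 3, nat_lit 4, nat_lit 3, nat_lit 2, nat_lit 3, nat_lit 1], [nat_lit 2, nat_lit 36, nat_lit 24, nat_lit 15], (nat_lit 17073)), ((nat_lit 1569), [nat_lit 3, nat_lit 4, nat_lit 8, nat_lit 6, nat_lit 2, nat_lit 3, nat_lit 4, nat_lit 8, nat_lit 2, nat_lit 3, nat_lit 4, nat_lit 2, nat_lit 3, nat_lit 1], [nat_lit 5, nat_lit 14, nat_lit 33, nat_lit 37, nat_lit 11, nat_lit 26], (nat_lit 9873)), ((nat_lit 500), [nat_lit 8, nat_lit 4, nat_lit 3, nat_lit 0, nat_lit 1, nat_lit 2, nat_lit 3, nat_lit 4, nat_lit 8, nat_lit 4, nat_lit 3, nat_lit 2, nat_lit 3, nat_lit 1], [nat_lit 11, nat_lit 2, nat_lit 0, nat_lit 37, nat_lit 17, nat_lit 11, nat_lit 27], (nat_lit 9052)), ((nat_lit 702),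 [nat_lit 8, nat_lit 3, nat_lit 0, nat_lit 1, nat_lit 2, nat_lit 3, nat_lit 4, nat_lit 8, nat_lit 3, nat_lit 2, nat_lit 3, nat_lit 1], [nat_lit 24, nat_lit 1, nat_lit 17, nat_lit 36, nat_lit 15, nat_lit 26], (nat_lit 3824)), ((nat_lit 376), [nat_lit 8, nat_lit 4, nat_lit 8, nat_lit 3, nat_lit 0, nat_lit 1, nat_lit 2, nat_lit 3, nat_lit 4, nat_lit 7, nat_lit 3, nat_lit 2, nat_lit 3, nat_lit 1], [nat_lit 15, nat_lit 0, nat_lit 33, nat_lit 37], (nat_lit 9462)), ((nat_lit 498), [nat_lit 5, nat_lit 8, nat_lit 4, nat_lit 7, nat_lit 3, nat_lit 4, nat_lit 7, nat_lit 1, nat_lit 2, nat_lit 3, nat_lit 4, nat_lit 2, nat_lit 3, nat_lit 0, nat_lit 1], [nat_lit 10, nat_lit 10, nat_lit 0, nat_lit 32, nat_lit 18, nat_lit 11, nat_lit 27], (nat_lit 11783)), ((nat_lit 696), [nat_lit 2, nat_lit 3, nat_lit 4, nat_lit 7, nat_lit 1, nat_lit 2, nat_lit 3, nat_lit 4, nat_lit 8, nat_lit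 4, nat_lit 3, nat_lit 2, nat_lit 3, nat_lit 1], [nat_lit 10, nat_lit 10, nat_lit 0, nat_lit 27, nat_lit 24, nat_lit 27], (nat_lit 9091)), ((nat_lit 700), [nat_lit 8, nat_lit 3, nat_lit 0, nat_lit 1, nat_lit 2, nat_lit 3, nat_lit 4, nat_lit 8, nat_lit 3, nat_lit 2, nat_lit 3, nat_lit 0, nat_lit 1], [nat_lit 24, nat_lit 1, nat_lit 16, nat_lit 24], (nat_lit 5092)), ((nat_lit 502), [nat_lit 5, nat_lit 8, nat_lit 4, nat_lit 7, nat_lit 3, nat_lit 4, nat_lit 7, nat_lit 2, nat_lit 3, nat_lit 4, nat_lit 8, nat_lit 2, nat_lit 3, nat_lit 1], [nat_lit 15, nat_lit 0, nat_lit 25, nat_lit 15, nat_lit 27], (nat_lit 10607)), ((nat_lit 1585), [nat_lit 3, nat_lit 4, nat_lit 8, nat_lit 8, nat_lit 2, nat_lit 3, nat_lit 4, nat_lit 7, nat_lit 2, nat_lit 3, nat_lit 4, nat_lit 7, nat_lit 2, nat_lit 3, nat_lit 1], [nat_lit 10, nat_lit 0, nat_lit 16, nat_lit 27], (nat_lit 14646)),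 ((nat_lit 510), [nat_lit 5, nat_lit 3, nat_lit 1, nat_lit 2, nat_lit 3, nat_lit 4, nat_lit 7, nat_lit 3, nat_lit 4, nat_lit 3, nat_lit 2, nat_lit 3, nat_lit 1], [nat_lit 2, nat_lit 25, nat_lit 36, nat_lit 26], (nat_lit 5893)), ((nat_lit 1964), [nat_lit 7, nat_lit 6, nat_lit 2, nat_lit 3, nat_lit 2, nat_lit 3, nat_lit 4, nat_lit 8, nat_lit 3, nat_lit 4, nat_lit 2, nat_lit 3, nat_lit 1], [nat_lit 0, nat_lit 2, nat_lit 25, nat_lit 35, nat_lit 11, nat_lit 26], (nat_lit 6614)), ((nat_lit 1956), [nat_lit 5, nat_lit 4, nat_lit 8, nat_lit 3, nat_lit 2, nat_lit 3, nat_lit 4, nat_lit 8, nat_lit 3, nat_lit 4, nat_lit 2, nat_lit 3, nat_lit 1], [nat_lit 14, nat_lit 0, nat_lit 25, nat_lit 35, nat_lit 11], (nat_lit 6633)), ((nat_lit 1962), [nat_lit 8, nat_lit 4, nat_lit 7, nat_lit 2, nat_lit 3, nat_lit 2, nat_lit 3, nat_lit 4, nat_lit 8, nat_lit 3, nat_lit 4, nat_lit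 2, nat_lit 3, nat_lit 1], [nat_lit 1, nat_lit 5, nat_lit 26, nat_lit 17, nat_lit 15, nat_lit 27], (nat_lit 10109)), ((nat_lit 1966), [nat_lit 7, nat_lit 6, nat_lit 3, nat_lit 4, nat_lit 7, nat_lit 3, nat_lit 1, nat_lit 2, nat_lit 3, nat_lit 4, nat_lit 7, nat_lit 3, nat_lit 2, nat_lit 3, nat_lit 1], [nat_lit 16, nat_lit 2, nat_lit 16, nat_lit 17, nat_lit 15, nat_lit 26], (nat_lit 13431)), ((nat_lit 1974), [nat_lit 8, nat_lit 3, nat_lit 4, nat_lit 2, nat_lit 3, nat_lit 1, nat_lit 2, nat_lit 3, nat_lit 4, nat_lit 7, nat_lit 4, nat_lit 3, nat_lit 2, nat_lit 3, nat_lit 1], [nat_lit 25, nat_lit 0, nat_lit 17, nat_lit 15, nat_lit 11], (nat_lit 12964)), ((nat_lit 1414), [nat_lit 6, nat_lit 4, nat_lit 7, nat_lit 2, nat_lit 3, nat_lit 4, nat_lit 7, nat_lit 2, nat_lit 3, nat_lit 4, nat_lit 8, nat_lit 2, nat_lit 3, nat_lit 1], [nat_lit 0, nat_lit 33, nat_lit 36, nat_lit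 11, nat_lit 26], (nat_lit 10578)), ((nat_lit 361), [nat_lit 4, nat_lit 8, nat_lit 6, nat_lit 2, nat_lit 3, nat_lit 1, nat_lit 2, nat_lit 3, nat_lit 4, nat_lit 7, nat_lit 3, nat_lit 2, nat_lit 3, nat_lit 0, nat_lit 1], [nat_lit 15, nat_lit 0, nat_lit 25, nat_lit 15], (nat_lit 11563)), ((nat_lit 437), [nat_lit 7, nat_lit 7, nat_lit 2, nat_lit 3, nat_lit 1, nat_lit 2, nat_lit 3, nat_lit 4, nat_lit 7, nat_lit 3, nat_lit 2, nat_lit 3, nat_lit 0, nat_lit 1], [nat_lit 5, nat_lit 2, nat_lit 0, nat_lit 32, nat_lit 18], (nat_lit 7936)), ((nat_lit 706), [nat_lit 6, nat_lit 8, nat_lit 4, nat_lit 8, nat_lit 3, nat_lit 0, nat_lit 1, nat_lit 2, nat_lit 3, nat_lit 4, nat_lit 8, nat_lit 3, nat_lit 2, nat_lit 3, nat_lit 1], [nat_lit 1, nat_lit 35, nat_lit 32, nat_lit 11], (nat_lit 13057)), ((nat_lit 504), [nat_lit 5, nat_lit 2, nat_lit 3, nat_lit 1, nat_lit 2, nat_lit 3,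 nat_lit 4, nat_lit 7, nat_lit 3, nat_lit 4, nat_lit 3, nat_lit 2, nat_lit 3, nat_lit 1], [nat_lit 17, nat_lit 17, nat_lit 11, nat_lit 26], (nat_lit 8997)), ((nat_lit 1960), [nat_lit 4, nat_lit 8, nat_lit 8, nat_lit 3, nat_lit 2, nat_lit 3, nat_lit 4, nat_lit 7, nat_lit 2, nat_lit 3, nat_lit 4, nat_lit 2, nat_lit 3, nat_lit 1], [nat_lit 24, nat_lit 2, nat_lit 16, nat_lit 32, nat_lit 15, nat_lit 27], (nat_lit 9973)), ((nat_lit 506), [nat_lit 4, nat_lit 8, nat_lit 2, nat_lit 3, nat_lit 4, nat_lit 8, nat_lit 1, nat_lit 2, nat_lit 3, nat_lit 4, nat_lit 8, nat_lit 4, nat_lit 2, nat_lit 3, nat_lit 1], [nat_lit 0, nat_lit 33, nat_lit 35, nat_lit 26], (nat_lit 14204))] (nat_lit 0) m5_3_1) = 0 := by decide +kernel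
theorem e5_3_2 : reachX THn.T (nat_lit 432008360504600423) (S5.map Prod.snd) [nat_lit 0, nat_lit 1, nat_lit 0] m5_3_1 = m5_3_2 := by decide +kernel
theorem e5_4_1 : dt.run q (fun c => c.edges (SP THn.T THn.Rl (nat_lit 15)) (nat_lit 4429) THn.T.n (nat_lit 5) (nat_lit 4)
  [((nat_lit 219), [nat_lit 7], [nat_lit 10, nat_lit 10, nat_lit 0, nat_lit 15, nat_lit 15, nat_lit 15], (nat_lit 4)), ((nat_lit 297), [nat_lit 3, nat_lit 0, nat_lit 1, nat_lit 2, nat_lit 3, nat_lit 4, nat_lit 3, nat_lit 2, nat_lit 3, nat_lit 1], [nat_lit 10, nat_lit 10, nat_lit 0, nat_lit 17, nat_lit 17, nat_lit 15, nat_lit 26], (nat_lit 1268)), ((nat_lit 368), [nat_lit 3, nat_lit 2, nat_lit 3, nat_lit 4, nat_lit 8, nat_lit 1, nat_lit 2, nat_lit 3, nat_lit 0, nat_lit 1], [nat_lit 1, nat_lit 24, nat_lit 0, nat_lit 37, nat_lit 32], (nat_lit 1049)), ((nat_lit 256), [nat_lit 6, nat_lit 8, nat_lit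 3, nat_lit 2, nat_lit 3, nat_lit 4, nat_lit 1, nat_lit 2, nat_lit 3, nat_lit 0, nat_lit 1], [nat_lit 18, nat_lit 15, nat_lit 0, nat_lit 33, nat_lit 35, nat_lit 11, nat_lit 27], (nat_lit 1725)), ((nat_lit 343), [nat_lit 5, nat_lit 3, nat_lit 2, nat_lit 3, nat_lit 4, nat_lit 8, nat_lit 4, nat_lit 1, nat_lit 2, nat_lit 3, nat_lit 0, nat_lit 1], [nat_lit 16, nat_lit 5, nat_lit 2, nat_lit 24, nat_lit 37, nat_lit 15], (nat_lit 2939)), ((nat_lit 370), [nat_lit 5, nat_lit 3, nat_lit 0, nat_lit 1, nat_lit 2, nat_lit 3, nat_lit 4, nat_lit 7, nat_lit 1, nat_lit 2, nat_lit 3, nat_lit 0, nat_lit 1], [nat_lit 2, nat_lit 0, nat_lit 33, nat_lit 11, nat_lit 16, nat_lit 27], (nat_lit 4855)), ((nat_lit 905), [nat_lit 2, nat_lit 3, nat_lit 0, nat_lit 1, nat_lit 2, nat_lit 3, nat_lit 4, nat_lit 7, nat_lit 2, nat_lit 3, nat_lit 4, nat_lit 8, nat_lit 2, nat_lit 3, nat_lit 1],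 [nat_lit 34, nat_lit 15], (nat_lit 14385)), ((nat_lit 1984), [nat_lit 2, nat_lit 3, nat_lit 4, nat_lit 7, nat_lit 2, nat_lit 3, nat_lit 4, nat_lit 8, nat_lit 2, nat_lit 3, nat_lit 0, nat_lit 1], [nat_lit 10, nat_lit 0, nat_lit 35, nat_lit 27], (nat_lit 3529)), ((nat_lit 382), [nat_lit 8, nat_lit 8, nat_lit 3, nat_lit 4, nat_lit 7, nat_lit 3, nat_lit 2, nat_lit 3, nat_lit 1], [nat_lit 25, nat_lit 1, nat_lit 37, nat_lit 34, nat_lit 24, nat_lit 27], (nat_lit 822)), ((nat_lit 258), [nat_lit 3, nat_lit 0, nat_lit 1, nat_lit 2, nat_lit 3, nat_lit 4, nat_lit 7, nat_lit 4, nat_lit 7, nat_lit 1, nat_lit 2, nat_lit 3, nat_lit 0, nat_lit 1], [nat_lit 5, nat_lit 0, nat_lit 24, nat_lit 15], (nat_lit 7532)), ((nat_lit 254), [nat_lit 8, nat_lit 3, nat_lit 0, nat_lit 1, nat_lit 2, nat_lit 3, nat_lit 4, nat_lit 7, nat_lit 1, nat_lit 2, nat_lit 3, nat_lit 0, nat_lit 1],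 [nat_lit 15, nat_lit 1, nat_lit 16, nat_lit 26], (nat_lit 4856)), ((nat_lit 470), [nat_lit 5, nat_lit 4, nat_lit 7, nat_lit 4, nat_lit 3, nat_lit 1, nat_lit 2, nat_lit 3, nat_lit 4, nat_lit 7, nat_lit 3, nat_lit 4, nat_lit 2, nat_lit 3, nat_lit 1], [nat_lit 25, nat_lit 16, nat_lit 0, nat_lit 32, nat_lit 35, nat_lit 26], (nat_lit 14113)), ((nat_lit 528), [nat_lit 8, nat_lit 6, nat_lit 4, nat_lit 7, nat_lit 3, nat_lit 4, nat_lit 2, nat_lit 3, nat_lit 0, nat_lit 1], [nat_lit 16, nat_lit 2, nat_lit 24, nat_lit 36, nat_lit 16, nat_lit 27], (nat_lit 1186)), ((nat_lit 367), [nat_lit 6, nat_lit 8, nat_lit 4, nat_lit 8, nat_lit 3, nat_lit 0, nat_lit 1, nat_lit 2, nat_lit 3, nat_lit 4, nat_lit 7, nat_lit 3, nat_lit 2, nat_lit 3, nat_lit 0, nat_lit 1], [nat_lit 0, nat_lit 24, nat_lit 15], (nat_lit 15089)), ((nat_lit 372), [nat_lit 7, nat_lit 6, nat_lit 3, nat_lit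 4, nat_lit 7, nat_lit 4, nat_lit 1, nat_lit 2, nat_lit 3, nat_lit 0, nat_lit 1], [nat_lit 24, nat_lit 2, nat_lit 0, nat_lit 37, nat_lit 32, nat_lit 11, nat_lit 27], (nat_lit 1780)), ((nat_lit 1978), [nat_lit 3, nat_lit 4, nat_lit 8, nat_lit 8, nat_lit 0, nat_lit 1, nat_lit 2, nat_lit 3, nat_lit 4, nat_lit 7, nat_lit 3, nat_lit 1, nat_lit 2, nat_lit 3, nat_lit 0, nat_lit 1], [nat_lit 24, nat_lit 15, nat_lit 0, nat_lit 15, nat_lit 17, nat_lit 26], (nat_lit 14729)), ((nat_lit 516), [nat_lit 8, nat_lit 4, nat_lit 7, nat_lit 5, nat_lit 0, nat_lit 1, nat_lit 2, nat_lit 3, nat_lit 4, nat_lit 8, nat_lit 2, nat_lit 3, nat_lit 0, nat_lit 1], [nat_lit 5, nat_lit 14, nat_lit 37, nat_lit 33, nat_lit 11], (nat_lit 8354)), ((nat_lit 948), [nat_lit 5, nat_lit 7, nat_lit 4, nat_lit 7, nat_lit 6, nat_lit 3, nat_lit 4, nat_lit 7, nat_lit 2, nat_lit 3, nat_lit 1], [nat_lit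 1, nat_lit 24, nat_lit 0, nat_lit 24, nat_lit 17, nat_lit 11, nat_lit 26], (nat_lit 2739)), ((nat_lit 524), [nat_lit 4, nat_lit 8, nat_lit 1, nat_lit 2, nat_lit 3, nat_lit 4, nat_lit 8, nat_lit 2, nat_lit 3, nat_lit 4, nat_lit 2, nat_lit 3, nat_lit 1], [nat_lit 5, nat_lit 36, nat_lit 32, nat_lit 27], (nat_lit 6436)), ((nat_lit 518), [nat_lit 7, nat_lit 7, nat_lit 3, nat_lit 4, nat_lit 7, nat_lit 1, nat_lit 2, nat_lit 3, nat_lit 4, nat_lit 2, nat_lit 3, nat_lit 1], [nat_lit 17, nat_lit 34, nat_lit 11, nat_lit 26], (nat_lit 4052)), ((nat_lit 823), [nat_lit 8, nat_lit 3, nat_lit 4, nat_lit 7, nat_lit 3, nat_lit 1, nat_lit 2, nat_lit 3, nat_lit 4, nat_lit 8, nat_lit 4, nat_lit 3, nat_lit 2, nat_lit 3, nat_lit 1], [nat_lit 25, nat_lit 14, nat_lit 0, nat_lit 26, nat_lit 16, nat_lit 11, nat_lit 26], (nat_lit 12902)), ((nat_lit 1980), [nat_lit 4, nat_lit 7, nat_lit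 3, nat_lit 4, nat_lit 8, nat_lit 1, nat_lit 2, nat_lit 3, nat_lit 4, nat_lit 3, nat_lit 2, nat_lit 3, nat_lit 0, nat_lit 1], [nat_lit 16, nat_lit 2, nat_lit 37, nat_lit 33, nat_lit 11, nat_lit 26], (nat_lit 7599)), ((nat_lit 1976), [nat_lit 4, nat_lit 8, nat_lit 8, nat_lit 1, nat_lit 2, nat_lit 3, nat_lit 4, nat_lit 8, nat_lit 1, nat_lit 2, nat_lit 3, nat_lit 4, nat_lit 2, nat_lit 3, nat_lit 1], [nat_lit 15, nat_lit 0, nat_lit 34, nat_lit 37, nat_lit 27], (nat_lit 13665)), ((nat_lit 380), [nat_lit 6, nat_lit 3, nat_lit 4, nat_lit 7, nat_lit 2, nat_lit 3, nat_lit 4, nat_lit 8, nat_lit 2, nat_lit 3, nat_lit 4, nat_lit 3, nat_lit 2, nat_lit 3, nat_lit 1], [nat_lit 15, nat_lit 1, nat_lit 33, nat_lit 11, nat_lit 16, nat_lit 26], (nat_lit 12644)), ((nat_lit 514), [nat_lit 3, nat_lit 4, nat_lit 8, nat_lit 8, nat_lit 3, nat_lit 1, nat_lit 2, nat_lit 3, nat_lit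 4, nat_lit 7, nat_lit 3, nat_lit 2, nat_lit 3, nat_lit 0, nat_lit 1], [nat_lit 16, nat_lit 0, nat_lit 36, nat_lit 24, nat_lit 15, nat_lit 26], (nat_lit 11588)), ((nat_lit 1801), [nat_lit 5, nat_lit 8, nat_lit 3, nat_lit 1, nat_lit 2, nat_lit 3, nat_lit 4, nat_lit 7, nat_lit 2, nat_lit 3, nat_lit 4, nat_lit 2, nat_lit 3, nat_lit 1], [nat_lit 25, nat_lit 2, nat_lit 0, nat_lit 15, nat_lit 35, nat_lit 11], (nat_lit 9948)), ((nat_lit 512), [nat_lit 8, nat_lit 3, nat_lit 4, nat_lit 7, nat_lit 6, nat_lit 1, nat_lit 2, nat_lit 3, nat_lit 4, nat_lit 7, nat_lit 3, nat_lit 2, nat_lit 3, nat_lit 1], [nat_lit 33, nat_lit 25], (nat_lit 9559)), ((nat_lit 526), [nat_lit 6, nat_lit 7, nat_lit 4, nat_lit 7, nat_lit 2, nat_lit 3, nat_lit 4, nat_lit 7, nat_lit 2, nat_lit 3, nat_lit 4, nat_lit 8, nat_lit 2, nat_lit 3, nat_lit 1], [nat_lit 14, nat_lit 0, nat_lit 18, nat_lit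 35], (nat_lit 14453)), ((nat_lit 439), [nat_lit 2, nat_lit 3, nat_lit 4, nat_lit 8, nat_lit 3, nat_lit 2, nat_lit 3, nat_lit 4, nat_lit 8, nat_lit 4, nat_lit 3, nat_lit 2, nat_lit 3, nat_lit 1], [nat_lit 24, nat_lit 0, nat_lit 36, nat_lit 32, nat_lit 27], (nat_lit 9098)), ((nat_lit 1982), [nat_lit 8, nat_lit 4, nat_lit 7, nat_lit 3, nat_lit 2, nat_lit 3, nat_lit 4, nat_lit 8, nat_lit 2, nat_lit 3, nat_lit 4, nat_lit 2, nat_lit 3, nat_lit 1], [nat_lit 16, nat_lit 5, nat_lit 0, nat_lit 15, nat_lit 24, nat_lit 27], (nat_lit 9870)), ((nat_lit 520), [nat_lit 1, nat_lit 2, nat_lit 3, nat_lit 4, nat_lit 7, nat_lit 4, nat_lit 7, nat_lit 2, nat_lit 3, nat_lit 4, nat_lit 7, nat_lit 2, nat_lit 3, nat_lit 0, nat_lit 1], [nat_lit 15, nat_lit 17], (nat_lit 12376))] (nat_lit 0) m5_4_1) = 0 := by decide +kernel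
theorem e5_4_2 : reachX THn.T (nat_lit 852476051462346199) (S5.map Prod.snd) [nat_lit 0, nat_lit 1, nat_lit 0] m5_4_1 = m5_4_2 := by decide +kernel
theorem e5_5_1 : dt.run q (fun c => c.edges (SP THn.T THn.Rl (nat_lit 15)) (nat_lit 4429) THn.T.n (nat_lit 5) (nat_lit 5)
  [((nat_lit 305), [nat_lit 2, nat_lit 3, nat_lit 4, nat_lit 1, nat_lit 2, nat_lit 3, nat_lit 0, nat_lit 1], [nat_lit 34, nat_lit 34, nat_lit 15], (nat_lit 370)), ((nat_lit 247), [nat_lit 3], [nat_lit 10, nat_lit 0, nat_lit 17, nat_lit 11, nat_lit 17, nat_lit 27], (nat_lit 2)), ((nat_lit 221), [nat_lit 8], [nat_lit 24, nat_lit 2, nat_lit 0, nat_lit 34, nat_lit 32, nat_lit 27], (nat_lit 3)), ((nat_lit 1224), [nat_lit 2, nat_lit 3, nat_lit 4, nat_lit 3, nat_lit 2, nat_lit 3, nat_lit 0, nat_lit 1], [nat_lit 5, nat_lit 2, nat_lit 0, nat_lit 33, nat_lit 34], (nat_lit 389)), ((nat_lit 349), [nat_lit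 8, nat_lit 1], [nat_lit 24, nat_lit 16, nat_lit 0, nat_lit 16, nat_lit 18, nat_lit 11, nat_lit 26], (nat_lit 7)), ((nat_lit 319), [nat_lit 2, nat_lit 3, nat_lit 4, nat_lit 8, nat_lit 1, nat_lit 2, nat_lit 3, nat_lit 0, nat_lit 1], [nat_lit 25, nat_lit 36, nat_lit 27], (nat_lit 619)), ((nat_lit 246), [nat_lit 1, nat_lit 2, nat_lit 3, nat_lit 0, nat_lit 1], [nat_lit 37, nat_lit 34, nat_lit 11, nat_lit 27], (nat_lit 69)), ((nat_lit 253), [nat_lit 8, nat_lit 3, nat_lit 2, nat_lit 3, nat_lit 1, nat_lit 2, nat_lit 3, nat_lit 0, nat_lit 1], [nat_lit 11, nat_lit 5, nat_lit 2, nat_lit 15, nat_lit 15, nat_lit 15], (nat_lit 570)), ((nat_lit 334), [nat_lit 7, nat_lit 3], [nat_lit 1, nat_lit 24, nat_lit 0, nat_lit 26, nat_lit 24, nat_lit 11], (nat_lit 11)), ((nat_lit 222), [nat_lit 5, nat_lit 7], [nat_lit 14, nat_lit 0, nat_lit 17, nat_lit 17, nat_lit 27], (nat_lit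 15)), ((nat_lit 264), [nat_lit 3, nat_lit 4, nat_lit 7, nat_lit 1, nat_lit 2, nat_lit 3, nat_lit 0, nat_lit 1], [nat_lit 18, nat_lit 11, nat_lit 26], (nat_lit 384)), ((nat_lit 1993), [nat_lit 2, nat_lit 3, nat_lit 0, nat_lit 1, nat_lit 2, nat_lit 3, nat_lit 4, nat_lit 7, nat_lit 3, nat_lit 2, nat_lit 3, nat_lit 1], [nat_lit 24, nat_lit 1, nat_lit 32, nat_lit 16, nat_lit 26], (nat_lit 3911)), ((nat_lit 350), [nat_lit 6, nat_lit 2, nat_lit 3, nat_lit 4, nat_lit 7, nat_lit 1, nat_lit 2, nat_lit 3, nat_lit 0, nat_lit 1], [nat_lit 16, nat_lit 5, nat_lit 2, nat_lit 26, nat_lit 24, nat_lit 11, nat_lit 27], (nat_lit 1066)), ((nat_lit 356), [nat_lit 5, nat_lit 8, nat_lit 1], [nat_lit 24, nat_lit 2, nat_lit 0, nat_lit 37, nat_lit 34], (nat_lit 24)), ((nat_lit 314), [nat_lit 6, nat_lit 2, nat_lit 3, nat_lit 4, nat_lit 8, nat_lit 1, nat_lit 2, nat_lit 3, nat_lit 0,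 nat_lit 1], [nat_lit 10, nat_lit 10, nat_lit 0, nat_lit 17, nat_lit 15], (nat_lit 1050)), ((nat_lit 354), [nat_lit 5, nat_lit 7, nat_lit 1], [nat_lit 5, nat_lit 2, nat_lit 0, nat_lit 26, nat_lit 24, nat_lit 11, nat_lit 27], (nat_lit 26)), ((nat_lit 326), [nat_lit 8, nat_lit 3, nat_lit 2, nat_lit 3, nat_lit 4, nat_lit 1, nat_lit 2, nat_lit 3, nat_lit 0, nat_lit 1], [nat_lit 5, nat_lit 16, nat_lit 2, nat_lit 27, nat_lit 25, nat_lit 27], (nat_lit 1015)), ((nat_lit 306), [nat_lit 6, nat_lit 8, nat_lit 3, nat_lit 2, nat_lit 3, nat_lit 1, nat_lit 2, nat_lit 3, nat_lit 0, nat_lit 1], [nat_lit 11, nat_lit 5, nat_lit 2, nat_lit 11, nat_lit 15, nat_lit 26], (nat_lit 948)), ((nat_lit 307), [nat_lit 5, nat_lit 8, nat_lit 3], [nat_lit 5, nat_lit 2, nat_lit 34, nat_lit 32], (nat_lit 31)), ((nat_lit 322), [nat_lit 3, nat_lit 2, nat_lit 3, nat_lit 4, nat_lit 7, nat_lit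 1, nat_lit 2, nat_lit 3, nat_lit 0, nat_lit 1], [nat_lit 15, nat_lit 5, nat_lit 37, nat_lit 18, nat_lit 26], (nat_lit 1065)), ((nat_lit 335), [nat_lit 6, nat_lit 7, nat_lit 3], [nat_lit 1, nat_lit 1, nat_lit 15, nat_lit 26], (nat_lit 33)), ((nat_lit 260), [nat_lit 5, nat_lit 7, nat_lit 3], [nat_lit 5, nat_lit 2, nat_lit 17, nat_lit 27], (nat_lit 34)), ((nat_lit 1991), [nat_lit 3, nat_lit 1, nat_lit 2, nat_lit 3, nat_lit 4, nat_lit 7, nat_lit 3, nat_lit 2, nat_lit 3, nat_lit 0, nat_lit 1], [nat_lit 18, nat_lit 15, nat_lit 0, nat_lit 33, nat_lit 25, nat_lit 27], (nat_lit 1947)), ((nat_lit 803), [nat_lit 3, nat_lit 1, nat_lit 2, nat_lit 3, nat_lit 4, nat_lit 8, nat_lit 3, nat_lit 2, nat_lit 3, nat_lit 0, nat_lit 1], [nat_lit 1, nat_lit 24, nat_lit 0, nat_lit 37, nat_lit 18, nat_lit 15], (nat_lit 1915)), ((nat_lit 262), [nat_lit 5, nat_lit 3, nat_lit 4, nat_lit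 8, nat_lit 1, nat_lit 2, nat_lit 3, nat_lit 0, nat_lit 1], [nat_lit 15, nat_lit 1, nat_lit 15, nat_lit 27, nat_lit 16, nat_lit 27], (nat_lit 621)), ((nat_lit 300), [nat_lit 4, nat_lit 3, nat_lit 1, nat_lit 2, nat_lit 3, nat_lit 0, nat_lit 1], [nat_lit 37, nat_lit 34, nat_lit 26], (nat_lit 222)), ((nat_lit 543), [nat_lit 3, nat_lit 4, nat_lit 7, nat_lit 3, nat_lit 2, nat_lit 3, nat_lit 1], [nat_lit 0, nat_lit 35, nat_lit 15], (nat_lit 301)), ((nat_lit 449), [nat_lit 7, nat_lit 2, nat_lit 3, nat_lit 1], [nat_lit 17, nat_lit 24, nat_lit 0, nat_lit 16, nat_lit 25, nat_lit 26], (nat_lit 46)), ((nat_lit 2041), [nat_lit 2, nat_lit 3, nat_lit 4, nat_lit 7, nat_lit 0, nat_lit 1, nat_lit 2, nat_lit 3, nat_lit 4, nat_lit 2, nat_lit 3, nat_lit 1], [nat_lit 16, nat_lit 5, nat_lit 2, nat_lit 17, nat_lit 15, nat_lit 11], (nat_lit 4012)), ((nat_lit 1148), [nat_lit 6, nat_lit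 2, nat_lit 3, nat_lit 0, nat_lit 1, nat_lit 2, nat_lit 3, nat_lit 4, nat_lit 8, nat_lit 3, nat_lit 2, nat_lit 3, nat_lit 1], [nat_lit 1, nat_lit 16, nat_lit 18], (nat_lit 6017)), ((nat_lit 1987), [nat_lit 5, nat_lit 2, nat_lit 3, nat_lit 4, nat_lit 8, nat_lit 3, nat_lit 2, nat_lit 3, nat_lit 0, nat_lit 1], [nat_lit 15, nat_lit 2, nat_lit 36, nat_lit 36, nat_lit 17, nat_lit 26], (nat_lit 1121)), ((nat_lit 331), [nat_lit 5, nat_lit 7, nat_lit 4, nat_lit 3], [nat_lit 5, nat_lit 37, nat_lit 18], (nat_lit 60)), ((nat_lit 321), [nat_lit 5, nat_lit 3, nat_lit 2, nat_lit 3, nat_lit 4, nat_lit 8, nat_lit 1, nat_lit 2, nat_lit 3, nat_lit 0, nat_lit 1], [nat_lit 10, nat_lit 10, nat_lit 0, nat_lit 11, nat_lit 37, nat_lit 27], (nat_lit 1791)), ((nat_lit 332), [nat_lit 7, nat_lit 3, nat_lit 2, nat_lit 3, nat_lit 4, nat_lit 8, nat_lit 1, nat_lit 2, nat_lit 3, nat_lit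 0, nat_lit 1], [nat_lit 5, nat_lit 14, nat_lit 17, nat_lit 37], (nat_lit 1793)), ((nat_lit 251), [nat_lit 7, nat_lit 4, nat_lit 7, nat_lit 3], [nat_lit 24, nat_lit 2, nat_lit 37, nat_lit 34, nat_lit 25, nat_lit 26], (nat_lit 68)), ((nat_lit 325), [nat_lit 0, nat_lit 1, nat_lit 2, nat_lit 3, nat_lit 4, nat_lit 2, nat_lit 3, nat_lit 1], [nat_lit 10, nat_lit 10, nat_lit 0, nat_lit 34, nat_lit 34, nat_lit 15, nat_lit 27], (nat_lit 505)), ((nat_lit 1999), [nat_lit 2, nat_lit 3, nat_lit 4, nat_lit 7, nat_lit 3, nat_lit 2, nat_lit 3, nat_lit 1], [nat_lit 1, nat_lit 36, nat_lit 33, nat_lit 24, nat_lit 27], (nat_lit 492)), ((nat_lit 2090), [nat_lit 2, nat_lit 3, nat_lit 4, nat_lit 8, nat_lit 3, nat_lit 2, nat_lit 3, nat_lit 1], [nat_lit 1, nat_lit 24, nat_lit 0, nat_lit 36, nat_lit 33, nat_lit 24, nat_lit 26], (nat_lit 479)), ((nat_lit 2019), [nat_lit 3, nat_lit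 4, nat_lit 7, nat_lit 0, nat_lit 1, nat_lit 2, nat_lit 3, nat_lit 4, nat_lit 2, nat_lit 3, nat_lit 1], [nat_lit 25, nat_lit 0, nat_lit 11, nat_lit 18, nat_lit 26], (nat_lit 2429)), ((nat_lit 2251), [nat_lit 5, nat_lit 3, nat_lit 1, nat_lit 2, nat_lit 3, nat_lit 4, nat_lit 8, nat_lit 3, nat_lit 2, nat_lit 3, nat_lit 0, nat_lit 1], [nat_lit 24, nat_lit 0, nat_lit 24, nat_lit 37, nat_lit 17, nat_lit 27], (nat_lit 3221)), ((nat_lit 245), [nat_lit 3, nat_lit 1, nat_lit 2, nat_lit 3, nat_lit 0, nat_lit 1], [nat_lit 5, nat_lit 17, nat_lit 24, nat_lit 27], (nat_lit 133)), ((nat_lit 2558), [nat_lit 3, nat_lit 2, nat_lit 3, nat_lit 4, nat_lit 7, nat_lit 3, nat_lit 2, nat_lit 3, nat_lit 0, nat_lit 1], [nat_lit 25, nat_lit 14, nat_lit 0, nat_lit 15, nat_lit 24, nat_lit 26], (nat_lit 1135)), ((nat_lit 2015), [nat_lit 3, nat_lit 0, nat_lit 1, nat_lit 2, nat_lit 3, nat_lit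 4, nat_lit 7, nat_lit 3, nat_lit 4, nat_lit 2, nat_lit 3, nat_lit 1], [nat_lit 15, nat_lit 2, nat_lit 25, nat_lit 37, nat_lit 17], (nat_lit 4164)), ((nat_lit 1989), [nat_lit 6, nat_lit 3, nat_lit 0, nat_lit 1, nat_lit 2, nat_lit 3, nat_lit 4, nat_lit 8, nat_lit 3, nat_lit 2, nat_lit 3, nat_lit 1], [nat_lit 37, nat_lit 17, nat_lit 26], (nat_lit 3822)), ((nat_lit 1675), [nat_lit 5, nat_lit 3, nat_lit 0, nat_lit 1, nat_lit 2, nat_lit 3, nat_lit 4, nat_lit 8, nat_lit 3, nat_lit 2, nat_lit 3, nat_lit 1], [nat_lit 24, nat_lit 2, nat_lit 32, nat_lit 36, nat_lit 16, nat_lit 26], (nat_lit 3823)), ((nat_lit 1995), [nat_lit 7, nat_lit 3, nat_lit 4, nat_lit 7, nat_lit 2, nat_lit 3, nat_lit 1, nat_lit 2, nat_lit 3, nat_lit 4, nat_lit 8, nat_lit 3, nat_lit 2, nat_lit 3, nat_lit 1], [nat_lit 26, nat_lit 2, nat_lit 25, nat_lit 37, nat_lit 17, nat_lit 26], (nat_lit 13139)),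 ((nat_lit 2039), [nat_lit 6, nat_lit 2, nat_lit 3, nat_lit 4, nat_lit 8, nat_lit 0, nat_lit 1, nat_lit 2, nat_lit 3, nat_lit 4, nat_lit 2, nat_lit 3, nat_lit 1], [nat_lit 16, nat_lit 5, nat_lit 0, nat_lit 16, nat_lit 17, nat_lit 15, nat_lit 27], (nat_lit 6344)), ((nat_lit 2035), [nat_lit 0, nat_lit 1, nat_lit 2, nat_lit 3, nat_lit 4, nat_lit 8, nat_lit 6, nat_lit 1, nat_lit 2, nat_lit 3, nat_lit 4, nat_lit 8, nat_lit 2, nat_lit 3, nat_lit 1], [nat_lit 5, nat_lit 14, nat_lit 37, nat_lit 33, nat_lit 11, nat_lit 26], (nat_lit 14280)), ((nat_lit 1438), [nat_lit 0, nat_lit 1, nat_lit 2, nat_lit 3, nat_lit 4, nat_lit 7, nat_lit 1, nat_lit 2, nat_lit 3, nat_lit 4, nat_lit 8, nat_lit 2, nat_lit 3, nat_lit 1], [nat_lit 1, nat_lit 5, nat_lit 33, nat_lit 18, nat_lit 11], (nat_lit 10433)), ((nat_lit 942), [nat_lit 8, nat_lit 4, nat_lit 7, nat_lit 3, nat_lit 1], [nat_lit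 15, nat_lit 1, nat_lit 15, nat_lit 27, nat_lit 16], (nat_lit 106)), ((nat_lit 1214), [nat_lit 2, nat_lit 3, nat_lit 0, nat_lit 1, nat_lit 2, nat_lit 3, nat_lit 4, nat_lit 8, nat_lit 3, nat_lit 4, nat_lit 7, nat_lit 2, nat_lit 3, nat_lit 1], [nat_lit 0, nat_lit 32, nat_lit 32, nat_lit 11], (nat_lit 10878)), ((nat_lit 339), [nat_lit 6, nat_lit 4, nat_lit 8, nat_lit 4, nat_lit 3], [nat_lit 16, nat_lit 2, nat_lit 15, nat_lit 15, nat_lit 15, nat_lit 27], (nat_lit 109)), ((nat_lit 268), [nat_lit 7, nat_lit 3, nat_lit 2, nat_lit 3, nat_lit 4, nat_lit 8, nat_lit 4, nat_lit 1, nat_lit 2, nat_lit 3, nat_lit 0, nat_lit 1], [nat_lit 2, nat_lit 37, nat_lit 11, nat_lit 15, nat_lit 27], (nat_lit 2941)), ((nat_lit 328), [nat_lit 3, nat_lit 4, nat_lit 7, nat_lit 4, nat_lit 3], [nat_lit 37, nat_lit 17], (nat_lit 113)), ((nat_lit 270), [nat_lit 6, nat_lit 3, nat_lit 2, nat_lit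 3, nat_lit 4, nat_lit 7, nat_lit 4, nat_lit 1, nat_lit 2, nat_lit 3, nat_lit 0, nat_lit 1], [nat_lit 16, nat_lit 5, nat_lit 2, nat_lit 32, nat_lit 27, nat_lit 17], (nat_lit 2959)), ((nat_lit 338), [nat_lit 4, nat_lit 8, nat_lit 4, nat_lit 8, nat_lit 3], [nat_lit 16, nat_lit 5, nat_lit 2, nat_lit 18, nat_lit 26], (nat_lit 120)), ((nat_lit 327), [nat_lit 7, nat_lit 7, nat_lit 4, nat_lit 7, nat_lit 1, nat_lit 2, nat_lit 3, nat_lit 0, nat_lit 1], [nat_lit 2, nat_lit 36, nat_lit 33, nat_lit 11], (nat_lit 644)), ((nat_lit 312), [nat_lit 6, nat_lit 7, nat_lit 4, nat_lit 7, nat_lit 3], [nat_lit 2, nat_lit 37, nat_lit 11, nat_lit 17, nat_lit 26], (nat_lit 130)), ((nat_lit 310), [nat_lit 5, nat_lit 7, nat_lit 3, nat_lit 2, nat_lit 3, nat_lit 4, nat_lit 7, nat_lit 1, nat_lit 2, nat_lit 3, nat_lit 0, nat_lit 1], [nat_lit 5, nat_lit 2, nat_lit 33, nat_lit 34, nat_lit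 26], (nat_lit 3064)), ((nat_lit 648), [nat_lit 4, nat_lit 7, nat_lit 2, nat_lit 3, nat_lit 1, nat_lit 2, nat_lit 3, nat_lit 0, nat_lit 1], [nat_lit 1, nat_lit 14, nat_lit 32, nat_lit 34, nat_lit 11, nat_lit 26], (nat_lit 577)), ((nat_lit 811), [nat_lit 2, nat_lit 3, nat_lit 4, nat_lit 2, nat_lit 3, nat_lit 1], [nat_lit 24, nat_lit 16, nat_lit 0, nat_lit 27, nat_lit 36, nat_lit 11, nat_lit 26], (nat_lit 172)), ((nat_lit 2081), [nat_lit 2, nat_lit 3, nat_lit 1, nat_lit 2, nat_lit 3, nat_lit 4, nat_lit 7, nat_lit 3, nat_lit 4, nat_lit 2, nat_lit 3, nat_lit 1], [nat_lit 24, nat_lit 0, nat_lit 33], (nat_lit 4169)), ((nat_lit 918), [nat_lit 2, nat_lit 3, nat_lit 4, nat_lit 8, nat_lit 1, nat_lit 2, nat_lit 3, nat_lit 4, nat_lit 2, nat_lit 3, nat_lit 1], [nat_lit 25, nat_lit 14, nat_lit 0, nat_lit 34, nat_lit 34, nat_lit 11], (nat_lit 2434)), ((nat_lit 636), [nat_lit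 6, nat_lit 2, nat_lit 3, nat_lit 1, nat_lit 2, nat_lit 3, nat_lit 4, nat_lit 8, nat_lit 3, nat_lit 2, nat_lit 3, nat_lit 1], [nat_lit 24, nat_lit 1, nat_lit 17, nat_lit 15], (nat_lit 3836)), ((nat_lit 1691), [nat_lit 5, nat_lit 2, nat_lit 3, nat_lit 4, nat_lit 8, nat_lit 3, nat_lit 2, nat_lit 3, nat_lit 1], [nat_lit 1, nat_lit 14, nat_lit 18, nat_lit 11, nat_lit 26], (nat_lit 798)), ((nat_lit 1131), [nat_lit 6, nat_lit 3, nat_lit 4, nat_lit 7, nat_lit 0, nat_lit 1, nat_lit 2, nat_lit 3, nat_lit 4, nat_lit 2, nat_lit 3, nat_lit 1], [nat_lit 15, nat_lit 0, nat_lit 24, nat_lit 36, nat_lit 11, nat_lit 27], (nat_lit 4013)), ((nat_lit 627), [nat_lit 5, nat_lit 3, nat_lit 1, nat_lit 2, nat_lit 3, nat_lit 4, nat_lit 7, nat_lit 3, nat_lit 4, nat_lit 2, nat_lit 3, nat_lit 1], [nat_lit 5, nat_lit 14, nat_lit 32, nat_lit 18, nat_lit 15, nat_lit 27], (nat_lit 4172)),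 ((nat_lit 1695), [nat_lit 6, nat_lit 7, nat_lit 4, nat_lit 3, nat_lit 0, nat_lit 1], [nat_lit 15, nat_lit 0, nat_lit 34, nat_lit 17, nat_lit 27], (nat_lit 153)), ((nat_lit 1137), [nat_lit 5, nat_lit 3, nat_lit 4, nat_lit 8, nat_lit 0, nat_lit 1, nat_lit 2, nat_lit 3, nat_lit 4, nat_lit 2, nat_lit 3, nat_lit 1], [nat_lit 24, nat_lit 2, nat_lit 0, nat_lit 35, nat_lit 32, nat_lit 11], (nat_lit 4001)), ((nat_lit 299), [nat_lit 3, nat_lit 4, nat_lit 7, nat_lit 0, nat_lit 1, nat_lit 2, nat_lit 3, nat_lit 4, nat_lit 7, nat_lit 2, nat_lit 3, nat_lit 1], [nat_lit 10, nat_lit 10, nat_lit 0, nat_lit 17, nat_lit 33, nat_lit 27], (nat_lit 4411)), ((nat_lit 1909), [nat_lit 8, nat_lit 4, nat_lit 7, nat_lit 7, nat_lit 3, nat_lit 2, nat_lit 3, nat_lit 4, nat_lit 7, nat_lit 3, nat_lit 4, nat_lit 2, nat_lit 3, nat_lit 1], [nat_lit 11, nat_lit 5, nat_lit 2, nat_lit 17, nat_lit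 17, nat_lit 15, nat_lit 26], (nat_lit 10260)), ((nat_lit 943), [nat_lit 7, nat_lit 4, nat_lit 8, nat_lit 4, nat_lit 3, nat_lit 2, nat_lit 3, nat_lit 4, nat_lit 8, nat_lit 4, nat_lit 3, nat_lit 2, nat_lit 3, nat_lit 1], [nat_lit 24, nat_lit 1, nat_lit 18, nat_lit 11, nat_lit 15, nat_lit 26], (nat_lit 9095)), ((nat_lit 952), [nat_lit 8, nat_lit 3, nat_lit 2, nat_lit 3, nat_lit 1, nat_lit 2, nat_lit 3, nat_lit 4, nat_lit 7, nat_lit 3, nat_lit 4, nat_lit 3, nat_lit 2, nat_lit 3, nat_lit 1], [nat_lit 2, nat_lit 24, nat_lit 35, nat_lit 27], (nat_lit 12749)), ((nat_lit 329), [nat_lit 3, nat_lit 0, nat_lit 1, nat_lit 2, nat_lit 3, nat_lit 4, nat_lit 7, nat_lit 1, nat_lit 2, nat_lit 3, nat_lit 0, nat_lit 1], [nat_lit 14, nat_lit 15, nat_lit 18, nat_lit 16, nat_lit 27], (nat_lit 3041)), ((nat_lit 2556), [nat_lit 6, nat_lit 1, nat_lit 2, nat_lit 3, nat_lit 0, nat_lit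 1, nat_lit 2, nat_lit 3, nat_lit 4, nat_lit 8, nat_lit 3, nat_lit 2, nat_lit 3, nat_lit 1], [nat_lit 25, nat_lit 16, nat_lit 0, nat_lit 17, nat_lit 36, nat_lit 15, nat_lit 26], (nat_lit 9202)), ((nat_lit 1927), [nat_lit 5, nat_lit 3, nat_lit 2, nat_lit 3, nat_lit 4, nat_lit 8, nat_lit 3, nat_lit 2, nat_lit 3, nat_lit 0, nat_lit 1], [nat_lit 26, nat_lit 2, nat_lit 0, nat_lit 16, nat_lit 18, nat_lit 11, nat_lit 26], (nat_lit 1921)), ((nat_lit 1882), [nat_lit 1, nat_lit 2, nat_lit 3, nat_lit 0, nat_lit 1, nat_lit 2, nat_lit 3, nat_lit 4, nat_lit 8, nat_lit 3, nat_lit 4, nat_lit 2, nat_lit 3, nat_lit 1], [nat_lit 26, nat_lit 2, nat_lit 0, nat_lit 16, nat_lit 18, nat_lit 15, nat_lit 27], (nat_lit 10019)), ((nat_lit 1279), [nat_lit 4, nat_lit 3, nat_lit 1, nat_lit 2, nat_lit 3, nat_lit 4, nat_lit 8, nat_lit 3, nat_lit 4, nat_lit 2, nat_lit 3, nat_lit 1], [nat_lit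 15, nat_lit 5, nat_lit 34, nat_lit 15, nat_lit 11], (nat_lit 4126)), ((nat_lit 2023), [nat_lit 6, nat_lit 1, nat_lit 2, nat_lit 3, nat_lit 4, nat_lit 8, nat_lit 2, nat_lit 3, nat_lit 4, nat_lit 2, nat_lit 3, nat_lit 1], [nat_lit 5, nat_lit 2, nat_lit 0, nat_lit 33, nat_lit 36], (nat_lit 4056)), ((nat_lit 667), [nat_lit 5, nat_lit 8, nat_lit 4, nat_lit 2, nat_lit 3, nat_lit 1], [nat_lit 10, nat_lit 0, nat_lit 17], (nat_lit 177)), ((nat_lit 1782), [nat_lit 6, nat_lit 1, nat_lit 2, nat_lit 3, nat_lit 4, nat_lit 7, nat_lit 2, nat_lit 3, nat_lit 4, nat_lit 2, nat_lit 3, nat_lit 1], [nat_lit 1, nat_lit 5, nat_lit 17, nat_lit 11, nat_lit 26], (nat_lit 4089)), ((nat_lit 2554), [nat_lit 5, nat_lit 3, nat_lit 4, nat_lit 8, nat_lit 1, nat_lit 2, nat_lit 3, nat_lit 4, nat_lit 2, nat_lit 3, nat_lit 1], [nat_lit 15, nat_lit 15, nat_lit 15, nat_lit 27], (nat_lit 2436)),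 ((nat_lit 2001), [nat_lit 3, nat_lit 0, nat_lit 1, nat_lit 2, nat_lit 3, nat_lit 4, nat_lit 8, nat_lit 3, nat_lit 4, nat_lit 7, nat_lit 2, nat_lit 3, nat_lit 1], [nat_lit 16, nat_lit 5, nat_lit 0, nat_lit 34, nat_lit 17], (nat_lit 7190)), ((nat_lit 2037), [nat_lit 5, nat_lit 7, nat_lit 3, nat_lit 4, nat_lit 7, nat_lit 3, nat_lit 2, nat_lit 3, nat_lit 4, nat_lit 8, nat_lit 3, nat_lit 2, nat_lit 3, nat_lit 1], [nat_lit 2, nat_lit 0, nat_lit 33], (nat_lit 9368)), ((nat_lit 551), [nat_lit 2, nat_lit 3, nat_lit 4, nat_lit 7, nat_lit 5, nat_lit 0, nat_lit 1, nat_lit 2, nat_lit 3, nat_lit 4, nat_lit 8, nat_lit 4, nat_lit 2, nat_lit 3, nat_lit 1], [nat_lit 26, nat_lit 15, nat_lit 15], (nat_lit 14190)), ((nat_lit 799), [nat_lit 8, nat_lit 3, nat_lit 4, nat_lit 8, nat_lit 3, nat_lit 0, nat_lit 1, nat_lit 2, nat_lit 3, nat_lit 4, nat_lit 7, nat_lit 3, nat_lit 2, nat_lit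 3, nat_lit 1], [nat_lit 24, nat_lit 2, nat_lit 17, nat_lit 15, nat_lit 11, nat_lit 26], (nat_lit 13329)), ((nat_lit 940), [nat_lit 0, nat_lit 1, nat_lit 2, nat_lit 3, nat_lit 4, nat_lit 7, nat_lit 5, nat_lit 1, nat_lit 2, nat_lit 3, nat_lit 4, nat_lit 8, nat_lit 2, nat_lit 3, nat_lit 1], [nat_lit 24, nat_lit 1, nat_lit 32, nat_lit 24, nat_lit 27], (nat_lit 14282)), ((nat_lit 834), [nat_lit 7, nat_lit 7, nat_lit 4, nat_lit 3, nat_lit 2, nat_lit 3, nat_lit 4, nat_lit 7, nat_lit 3, nat_lit 4, nat_lit 3, nat_lit 2, nat_lit 3, nat_lit 1], [nat_lit 5, nat_lit 36, nat_lit 33, nat_lit 11, nat_lit 26], (nat_lit 9030)), ((nat_lit 1854), [nat_lit 2, nat_lit 3, nat_lit 4, nat_lit 7, nat_lit 6, nat_lit 0, nat_lit 1, nat_lit 2, nat_lit 3, nat_lit 4, nat_lit 7, nat_lit 2, nat_lit 3, nat_lit 1], [nat_lit 5, nat_lit 2, nat_lit 0, nat_lit 11, nat_lit 16], (nat_lit 10635)),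 ((nat_lit 266), [nat_lit 8, nat_lit 5, nat_lit 3, nat_lit 2, nat_lit 3, nat_lit 4, nat_lit 8, nat_lit 4, nat_lit 1, nat_lit 2, nat_lit 3, nat_lit 0, nat_lit 1], [nat_lit 18, nat_lit 15, nat_lit 0, nat_lit 34, nat_lit 34, nat_lit 15, nat_lit 26], (nat_lit 4744)), ((nat_lit 320), [nat_lit 6, nat_lit 8, nat_lit 4, nat_lit 8, nat_lit 4, nat_lit 3], [nat_lit 5, nat_lit 16, nat_lit 2, nat_lit 11, nat_lit 26], (nat_lit 218)), ((nat_lit 263), [nat_lit 8, nat_lit 5, nat_lit 3, nat_lit 2, nat_lit 3, nat_lit 4, nat_lit 7, nat_lit 4, nat_lit 1, nat_lit 2, nat_lit 3, nat_lit 0, nat_lit 1], [nat_lit 5, nat_lit 2, nat_lit 17, nat_lit 25, nat_lit 15, nat_lit 27], (nat_lit 4771)), ((nat_lit 2069), [nat_lit 5, nat_lit 7, nat_lit 4, nat_lit 7, nat_lit 2, nat_lit 3, nat_lit 4, nat_lit 8, nat_lit 1, nat_lit 2, nat_lit 3, nat_lit 0, nat_lit 1], [nat_lit 5, nat_lit 2, nat_lit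 0, nat_lit 15, nat_lit 18, nat_lit 11], (nat_lit 4840)), ((nat_lit 593), [nat_lit 8, nat_lit 4, nat_lit 7, nat_lit 3, nat_lit 2, nat_lit 3, nat_lit 4, nat_lit 7, nat_lit 4, nat_lit 3, nat_lit 2, nat_lit 3, nat_lit 0, nat_lit 1], [nat_lit 24, nat_lit 1, nat_lit 33, nat_lit 24, nat_lit 11, nat_lit 26], (nat_lit 7765)), ((nat_lit 1253), [nat_lit 6, nat_lit 3, nat_lit 2, nat_lit 3, nat_lit 4, nat_lit 8, nat_lit 3, nat_lit 2, nat_lit 3, nat_lit 1], [nat_lit 1, nat_lit 24, nat_lit 0, nat_lit 32, nat_lit 15, nat_lit 26], (nat_lit 1340)), ((nat_lit 1243), [nat_lit 5, nat_lit 3, nat_lit 2, nat_lit 3, nat_lit 4, nat_lit 8, nat_lit 3, nat_lit 2, nat_lit 3, nat_lit 1], [nat_lit 26, nat_lit 2, nat_lit 0, nat_lit 27, nat_lit 16, nat_lit 26], (nat_lit 1341)), ((nat_lit 274), [nat_lit 3, nat_lit 1, nat_lit 2, nat_lit 3, nat_lit 4, nat_lit 8, nat_lit 1, nat_lit 2, nat_lit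 3, nat_lit 0, nat_lit 1], [nat_lit 0, nat_lit 2, nat_lit 15, nat_lit 24, nat_lit 11], (nat_lit 1785)), ((nat_lit 1229), [nat_lit 6, nat_lit 3, nat_lit 2, nat_lit 3, nat_lit 4, nat_lit 7, nat_lit 3, nat_lit 2, nat_lit 3, nat_lit 1], [nat_lit 25, nat_lit 1, nat_lit 34, nat_lit 32, nat_lit 16], (nat_lit 1372)), ((nat_lit 1518), [nat_lit 4, nat_lit 8, nat_lit 1, nat_lit 2, nat_lit 3, nat_lit 4, nat_lit 1, nat_lit 2, nat_lit 3, nat_lit 0, nat_lit 1], [nat_lit 5, nat_lit 26, nat_lit 34, nat_lit 32], (nat_lit 1719)), ((nat_lit 1859), [nat_lit 2, nat_lit 3, nat_lit 0, nat_lit 1, nat_lit 2, nat_lit 3, nat_lit 4, nat_lit 8, nat_lit 2, nat_lit 3, nat_lit 4, nat_lit 2, nat_lit 3, nat_lit 1], [nat_lit 11, nat_lit 2, nat_lit 0, nat_lit 18, nat_lit 25], (nat_lit 9824)), ((nat_lit 2049), [nat_lit 6, nat_lit 0, nat_lit 1, nat_lit 2, nat_lit 3, nat_lit 4, nat_lit 8, nat_lit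 2, nat_lit 3, nat_lit 4, nat_lit 2, nat_lit 3, nat_lit 1], [nat_lit 17, nat_lit 24, nat_lit 0, nat_lit 15, nat_lit 32, nat_lit 15], (nat_lit 6423)), ((nat_lit 553), [nat_lit 6, nat_lit 2, nat_lit 3, nat_lit 1, nat_lit 2, nat_lit 3, nat_lit 4, nat_lit 8, nat_lit 3, nat_lit 4, nat_lit 2, nat_lit 3, nat_lit 1], [nat_lit 17, nat_lit 15, nat_lit 27], (nat_lit 6587)), ((nat_lit 2079), [nat_lit 5, nat_lit 2, nat_lit 3, nat_lit 4, nat_lit 8, nat_lit 1, nat_lit 2, nat_lit 3, nat_lit 4, nat_lit 2, nat_lit 3, nat_lit 1], [nat_lit 14, nat_lit 0, nat_lit 37, nat_lit 34, nat_lit 11, nat_lit 27], (nat_lit 4027)), ((nat_lit 2559), [nat_lit 0, nat_lit 1, nat_lit 2, nat_lit 3, nat_lit 4, nat_lit 8, nat_lit 3, nat_lit 1, nat_lit 2, nat_lit 3, nat_lit 0, nat_lit 1], [nat_lit 15, nat_lit 5, nat_lit 33, nat_lit 15], (nat_lit 2812)), ((nat_lit 1507), [nat_lit 8, nat_lit 4, nat_lit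 7, nat_lit 7, nat_lit 3, nat_lit 2, nat_lit 3, nat_lit 4, nat_lit 7, nat_lit 3, nat_lit 4, nat_lit 2, nat_lit 3, nat_lit 0, nat_lit 1], [nat_lit 1, nat_lit 24, nat_lit 0, nat_lit 34, nat_lit 24], (nat_lit 11958)), ((nat_lit 827), [nat_lit 3, nat_lit 4, nat_lit 8, nat_lit 4, nat_lit 3, nat_lit 0, nat_lit 1], [nat_lit 24, nat_lit 2, nat_lit 0, nat_lit 32, nat_lit 37, nat_lit 15, nat_lit 26], (nat_lit 262)), ((nat_lit 2021), [nat_lit 8, nat_lit 5, nat_lit 4, nat_lit 7, nat_lit 3, nat_lit 4, nat_lit 8, nat_lit 2, nat_lit 3, nat_lit 4, nat_lit 2, nat_lit 3, nat_lit 1], [nat_lit 5, nat_lit 2, nat_lit 0, nat_lit 33, nat_lit 33, nat_lit 26], (nat_lit 6486)), ((nat_lit 892), [nat_lit 3, nat_lit 4, nat_lit 8, nat_lit 0, nat_lit 1, nat_lit 2, nat_lit 3, nat_lit 4, nat_lit 7, nat_lit 4, nat_lit 2, nat_lit 3, nat_lit 1], [nat_lit 5, nat_lit 16, nat_lit 2, nat_lit 35,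 nat_lit 32], (nat_lit 6796)), ((nat_lit 2027), [nat_lit 5, nat_lit 1, nat_lit 2, nat_lit 3, nat_lit 2, nat_lit 3, nat_lit 4, nat_lit 7, nat_lit 3, nat_lit 4, nat_lit 2, nat_lit 3, nat_lit 1], [nat_lit 10, nat_lit 10, nat_lit 0, nat_lit 37, nat_lit 17, nat_lit 26], (nat_lit 6687)), ((nat_lit 2025), [nat_lit 6, nat_lit 1, nat_lit 2, nat_lit 3, nat_lit 4, nat_lit 8, nat_lit 2, nat_lit 3, nat_lit 4, nat_lit 8, nat_lit 2, nat_lit 3, nat_lit 1], [nat_lit 5, nat_lit 14, nat_lit 26, nat_lit 34, nat_lit 11, nat_lit 27], (nat_lit 6933)), ((nat_lit 2361), [nat_lit 6, nat_lit 3, nat_lit 4, nat_lit 7, nat_lit 0, nat_lit 1, nat_lit 2, nat_lit 3, nat_lit 4, nat_lit 8, nat_lit 2, nat_lit 3, nat_lit 1], [nat_lit 1, nat_lit 14, nat_lit 34, nat_lit 34, nat_lit 15], (nat_lit 6856))] (nat_lit 0) m5_5_1) = 0 := by decide +kernel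
theorem e5_5_2 : dt.run q (fun c => c.edges (SP THn.T THn.Rl (nat_lit 15)) (nat_lit 4429) THn.T.n (nat_lit 5) (nat_lit 5)
  [((nat_lit 934), [nat_lit 5, nat_lit 3, nat_lit 4, nat_lit 7, nat_lit 0, nat_lit 1, nat_lit 2, nat_lit 3, nat_lit 4, nat_lit 8, nat_lit 2, nat_lit 3, nat_lit 1], [nat_lit 5, nat_lit 2, nat_lit 0, nat_lit 18, nat_lit 27], (nat_lit 6857)), ((nat_lit 400), [nat_lit 5, nat_lit 3, nat_lit 4, nat_lit 7, nat_lit 1, nat_lit 2, nat_lit 3, nat_lit 4, nat_lit 7, nat_lit 2, nat_lit 3, nat_lit 1], [nat_lit 11, nat_lit 17, nat_lit 27], (nat_lit 4439)), ((nat_lit 2550), [nat_lit 3, nat_lit 4, nat_lit 7, nat_lit 6, nat_lit 0, nat_lit 1, nat_lit 2, nat_lit 3, nat_lit 4, nat_lit 7, nat_lit 2, nat_lit 3, nat_lit 1], [nat_lit 10, nat_lit 10, nat_lit 0, nat_lit 18, nat_lit 36, nat_lit 11], (nat_lit 7019)), ((nat_lit 389), [nat_lit 5, nat_lit 3, nat_lit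 4, nat_lit 7, nat_lit 0, nat_lit 1, nat_lit 2, nat_lit 3, nat_lit 4, nat_lit 7, nat_lit 2, nat_lit 3, nat_lit 1], [nat_lit 17, nat_lit 34, nat_lit 11, nat_lit 26], (nat_lit 7042)), ((nat_lit 2005), [nat_lit 6, nat_lit 3, nat_lit 4, nat_lit 7, nat_lit 1, nat_lit 2, nat_lit 3, nat_lit 4, nat_lit 8, nat_lit 4, nat_lit 2, nat_lit 3, nat_lit 1], [nat_lit 0, nat_lit 2, nat_lit 32, nat_lit 35, nat_lit 27], (nat_lit 6762)), ((nat_lit 2009), [nat_lit 6, nat_lit 7, nat_lit 4, nat_lit 7, nat_lit 3, nat_lit 0, nat_lit 1], [nat_lit 17, nat_lit 24, nat_lit 0, nat_lit 18, nat_lit 15, nat_lit 11, nat_lit 26], (nat_lit 284)), ((nat_lit 2017), [nat_lit 5, nat_lit 3, nat_lit 4, nat_lit 8, nat_lit 0, nat_lit 1, nat_lit 2, nat_lit 3, nat_lit 4, nat_lit 7, nat_lit 2, nat_lit 3, nat_lit 1], [nat_lit 5, nat_lit 16, nat_lit 2, nat_lit 37, nat_lit 24, nat_lit 11], (nat_lit 7027)),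 ((nat_lit 2013), [nat_lit 3, nat_lit 4, nat_lit 8, nat_lit 8, nat_lit 0, nat_lit 1, nat_lit 2, nat_lit 3, nat_lit 4, nat_lit 7, nat_lit 2, nat_lit 3, nat_lit 1], [nat_lit 25, nat_lit 14, nat_lit 0, nat_lit 16, nat_lit 16, nat_lit 11, nat_lit 27], (nat_lit 7038)), ((nat_lit 2124), [nat_lit 8, nat_lit 3, nat_lit 4, nat_lit 8, nat_lit 1, nat_lit 2, nat_lit 3, nat_lit 4, nat_lit 8, nat_lit 2, nat_lit 3, nat_lit 1], [nat_lit 15, nat_lit 5, nat_lit 15, nat_lit 17, nat_lit 26], (nat_lit 4309)), ((nat_lit 1200), [nat_lit 6, nat_lit 8, nat_lit 5, nat_lit 4, nat_lit 2, nat_lit 3, nat_lit 1, nat_lit 2, nat_lit 3, nat_lit 4, nat_lit 8, nat_lit 4, nat_lit 3, nat_lit 2, nat_lit 3, nat_lit 1], [nat_lit 1, nat_lit 1, nat_lit 32, nat_lit 18, nat_lit 11], (nat_lit 16004)), ((nat_lit 862), [nat_lit 8, nat_lit 5, nat_lit 4, nat_lit 7, nat_lit 3, nat_lit 2, nat_lit 3, nat_lit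 4, nat_lit 7, nat_lit 3, nat_lit 2, nat_lit 3, nat_lit 0, nat_lit 1], [nat_lit 11, nat_lit 2, nat_lit 0, nat_lit 24, nat_lit 16, nat_lit 27], (nat_lit 7992)), ((nat_lit 1767), [nat_lit 5, nat_lit 4, nat_lit 8, nat_lit 4, nat_lit 3, nat_lit 1, nat_lit 2, nat_lit 3, nat_lit 0, nat_lit 1], [nat_lit 1, nat_lit 24, nat_lit 0, nat_lit 15, nat_lit 11, nat_lit 27], (nat_lit 977)), ((nat_lit 573), [nat_lit 7, nat_lit 7, nat_lit 4, nat_lit 8, nat_lit 3, nat_lit 2, nat_lit 3, nat_lit 1, nat_lit 2, nat_lit 3, nat_lit 4, nat_lit 3, nat_lit 2, nat_lit 3, nat_lit 1], [nat_lit 24, nat_lit 35, nat_lit 27], (nat_lit 12477)), ((nat_lit 585), [nat_lit 8, nat_lit 4, nat_lit 8, nat_lit 3, nat_lit 2, nat_lit 3, nat_lit 1, nat_lit 2, nat_lit 3, nat_lit 4, nat_lit 8, nat_lit 3, nat_lit 2, nat_lit 3, nat_lit 1], [nat_lit 25, nat_lit 14, nat_lit 0, nat_lit 34, nat_lit 15, nat_lit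 27], (nat_lit 13107)), ((nat_lit 419), [nat_lit 7, nat_lit 3, nat_lit 4, nat_lit 8, nat_lit 2, nat_lit 3, nat_lit 4, nat_lit 8, nat_lit 3, nat_lit 1, nat_lit 2, nat_lit 3, nat_lit 0, nat_lit 1], [nat_lit 24, nat_lit 37, nat_lit 11], (nat_lit 7293)), ((nat_lit 2095), [nat_lit 6, nat_lit 8, nat_lit 6, nat_lit 4, nat_lit 3, nat_lit 2, nat_lit 3, nat_lit 4, nat_lit 7, nat_lit 4, nat_lit 3, nat_lit 2, nat_lit 3, nat_lit 1], [nat_lit 26, nat_lit 2, nat_lit 32, nat_lit 16], (nat_lit 9174)), ((nat_lit 442), [nat_lit 8, nat_lit 6, nat_lit 4, nat_lit 7, nat_lit 3, nat_lit 2, nat_lit 3, nat_lit 4, nat_lit 7, nat_lit 3, nat_lit 2, nat_lit 3, nat_lit 1], [nat_lit 24, nat_lit 2, nat_lit 0, nat_lit 34, nat_lit 17, nat_lit 26], (nat_lit 6285)), ((nat_lit 337), [nat_lit 5, nat_lit 7, nat_lit 3, nat_lit 1, nat_lit 2, nat_lit 3, nat_lit 0, nat_lit 1], [nat_lit 16, nat_lit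 5, nat_lit 2, nat_lit 11, nat_lit 36, nat_lit 27], (nat_lit 369)), ((nat_lit 1305), [nat_lit 4, nat_lit 7, nat_lit 4, nat_lit 7, nat_lit 3, nat_lit 1, nat_lit 2, nat_lit 3, nat_lit 0, nat_lit 1], [nat_lit 26, nat_lit 24, nat_lit 0, nat_lit 36, nat_lit 16, nat_lit 11, nat_lit 26], (nat_lit 1007)), ((nat_lit 1472), [nat_lit 1, nat_lit 2, nat_lit 3, nat_lit 0, nat_lit 1, nat_lit 2, nat_lit 3, nat_lit 4, nat_lit 8, nat_lit 2, nat_lit 3, nat_lit 4, nat_lit 2, nat_lit 3, nat_lit 1], [nat_lit 1, nat_lit 17, nat_lit 16, nat_lit 26], (nat_lit 13728)), ((nat_lit 2202), [nat_lit 4, nat_lit 7, nat_lit 0, nat_lit 1, nat_lit 2, nat_lit 3, nat_lit 4, nat_lit 2, nat_lit 3, nat_lit 0, nat_lit 1], [nat_lit 17, nat_lit 24, nat_lit 0, nat_lit 37, nat_lit 25], (nat_lit 1981)), ((nat_lit 1683), [nat_lit 4, nat_lit 3, nat_lit 2, nat_lit 3, nat_lit 4, nat_lit 8, nat_lit 4, nat_lit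 3, nat_lit 1], [nat_lit 24, nat_lit 15, nat_lit 0, nat_lit 27, nat_lit 24, nat_lit 11, nat_lit 27], (nat_lit 947)), ((nat_lit 1954), [nat_lit 6, nat_lit 3, nat_lit 1, nat_lit 2, nat_lit 3, nat_lit 4, nat_lit 7, nat_lit 2, nat_lit 3, nat_lit 4, nat_lit 2, nat_lit 3, nat_lit 1], [nat_lit 1, nat_lit 24, nat_lit 0, nat_lit 25, nat_lit 15], (nat_lit 6504)), ((nat_lit 1942), [nat_lit 3, nat_lit 4, nat_lit 8, nat_lit 6, nat_lit 2, nat_lit 3, nat_lit 4, nat_lit 8, nat_lit 2, nat_lit 3, nat_lit 0, nat_lit 1], [nat_lit 5, nat_lit 0, nat_lit 18], (nat_lit 3504)), ((nat_lit 2111), [nat_lit 3, nat_lit 4, nat_lit 8, nat_lit 6, nat_lit 1, nat_lit 2, nat_lit 3, nat_lit 4, nat_lit 8, nat_lit 2, nat_lit 3, nat_lit 0, nat_lit 1], [nat_lit 15, nat_lit 0, nat_lit 17, nat_lit 11, nat_lit 26], (nat_lit 5482)), ((nat_lit 2325), [nat_lit 3, nat_lit 0, nat_lit 1, nat_lit 2, nat_lit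 3, nat_lit 4, nat_lit 7, nat_lit 3, nat_lit 4, nat_lit 8, nat_lit 4, nat_lit 2, nat_lit 3, nat_lit 1], [nat_lit 15, nat_lit 1, nat_lit 27, nat_lit 16, nat_lit 26], (nat_lit 10341)), ((nat_lit 1412), [nat_lit 3, nat_lit 4, nat_lit 7, nat_lit 2, nat_lit 3, nat_lit 4, nat_lit 2, nat_lit 3, nat_lit 0, nat_lit 1], [nat_lit 5, nat_lit 2, nat_lit 0, nat_lit 33, nat_lit 35, nat_lit 11, nat_lit 27], (nat_lit 1163)), ((nat_lit 2562), [nat_lit 5, nat_lit 3, nat_lit 4, nat_lit 8, nat_lit 2, nat_lit 3, nat_lit 1], [nat_lit 24, nat_lit 1, nat_lit 34, nat_lit 37, nat_lit 26], (nat_lit 327)), ((nat_lit 2113), [nat_lit 7, nat_lit 6, nat_lit 4, nat_lit 3, nat_lit 1, nat_lit 2, nat_lit 3, nat_lit 4, nat_lit 7, nat_lit 3, nat_lit 4, nat_lit 3, nat_lit 2, nat_lit 3, nat_lit 1], [nat_lit 16, nat_lit 0, nat_lit 15, nat_lit 32, nat_lit 15, nat_lit 26], (nat_lit 12761)), ((nat_lit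 2003), [nat_lit 3, nat_lit 4, nat_lit 7, nat_lit 5, nat_lit 0, nat_lit 1, nat_lit 2, nat_lit 3, nat_lit 4, nat_lit 8, nat_lit 4, nat_lit 2, nat_lit 3, nat_lit 1], [nat_lit 14, nat_lit 15, nat_lit 0, nat_lit 18, nat_lit 15, nat_lit 11], (nat_lit 10284)), ((nat_lit 2007), [nat_lit 8, nat_lit 6, nat_lit 4, nat_lit 7, nat_lit 4, nat_lit 3, nat_lit 0, nat_lit 1], [nat_lit 16, nat_lit 5, nat_lit 0, nat_lit 25, nat_lit 36, nat_lit 11, nat_lit 26], (nat_lit 457)), ((nat_lit 2560), [nat_lit 6, nat_lit 1, nat_lit 2, nat_lit 3, nat_lit 4, nat_lit 8, nat_lit 3, nat_lit 2, nat_lit 3, nat_lit 0, nat_lit 1], [nat_lit 0, nat_lit 2, nat_lit 32, nat_lit 36, nat_lit 16, nat_lit 27], (nat_lit 1916)), ((nat_lit 1441), [nat_lit 5, nat_lit 3, nat_lit 4, nat_lit 7, nat_lit 2, nat_lit 3, nat_lit 1], [nat_lit 25, nat_lit 2, nat_lit 0, nat_lit 35, nat_lit 17, nat_lit 26], (nat_lit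 340)), ((nat_lit 721), [nat_lit 5, nat_lit 3, nat_lit 4, nat_lit 7, nat_lit 1, nat_lit 2, nat_lit 3, nat_lit 4, nat_lit 8, nat_lit 2, nat_lit 3, nat_lit 0, nat_lit 1], [nat_lit 0, nat_lit 2, nat_lit 37, nat_lit 25], (nat_lit 5509)), ((nat_lit 2033), [nat_lit 4, nat_lit 3, nat_lit 1, nat_lit 2, nat_lit 3, nat_lit 4, nat_lit 8, nat_lit 3, nat_lit 4, nat_lit 7, nat_lit 2, nat_lit 3, nat_lit 1], [nat_lit 5, nat_lit 0, nat_lit 18, nat_lit 35, nat_lit 27], (nat_lit 7193)), ((nat_lit 2011), [nat_lit 6, nat_lit 8, nat_lit 4, nat_lit 8, nat_lit 4, nat_lit 3, nat_lit 0, nat_lit 1], [nat_lit 10, nat_lit 0, nat_lit 24, nat_lit 15], (nat_lit 456)), ((nat_lit 1635), [nat_lit 3, nat_lit 4, nat_lit 7, nat_lit 5, nat_lit 0, nat_lit 1, nat_lit 2, nat_lit 3, nat_lit 4, nat_lit 7, nat_lit 4, nat_lit 2, nat_lit 3, nat_lit 1], [nat_lit 15, nat_lit 5, nat_lit 32, nat_lit 34,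 nat_lit 16], (nat_lit 10356)), ((nat_lit 358), [nat_lit 3, nat_lit 2, nat_lit 3, nat_lit 0, nat_lit 1, nat_lit 2, nat_lit 3, nat_lit 4, nat_lit 7, nat_lit 4, nat_lit 2, nat_lit 3, nat_lit 1], [nat_lit 26, nat_lit 36], (nat_lit 6790)), ((nat_lit 652), [nat_lit 7, nat_lit 4, nat_lit 2, nat_lit 3, nat_lit 1, nat_lit 2, nat_lit 3, nat_lit 4, nat_lit 7, nat_lit 4, nat_lit 3, nat_lit 2, nat_lit 3, nat_lit 0, nat_lit 1], [nat_lit 1, nat_lit 36], (nat_lit 11357)), ((nat_lit 2000), [nat_lit 7, nat_lit 6, nat_lit 4, nat_lit 7, nat_lit 2, nat_lit 3, nat_lit 1, nat_lit 2, nat_lit 3, nat_lit 4, nat_lit 7, nat_lit 3, nat_lit 2, nat_lit 3, nat_lit 1], [nat_lit 24, nat_lit 1, nat_lit 17, nat_lit 24], (nat_lit 13408)), ((nat_lit 579), [nat_lit 5, nat_lit 4, nat_lit 3, nat_lit 2, nat_lit 3, nat_lit 4, nat_lit 8, nat_lit 1, nat_lit 2, nat_lit 3, nat_lit 4, nat_lit 3, nat_lit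 2, nat_lit 3, nat_lit 1], [nat_lit 10, nat_lit 10, nat_lit 0, nat_lit 35, nat_lit 16, nat_lit 16, nat_lit 27], (nat_lit 12552)), ((nat_lit 2250), [nat_lit 7, nat_lit 4, nat_lit 7, nat_lit 2, nat_lit 3, nat_lit 4, nat_lit 7, nat_lit 1, nat_lit 2, nat_lit 3, nat_lit 0, nat_lit 1], [nat_lit 24, nat_lit 16, nat_lit 0, nat_lit 15, nat_lit 15, nat_lit 15, nat_lit 26], (nat_lit 3075)), ((nat_lit 618), [nat_lit 4, nat_lit 8, nat_lit 4, nat_lit 8, nat_lit 3, nat_lit 2, nat_lit 3, nat_lit 4, nat_lit 8, nat_lit 3, nat_lit 2, nat_lit 3, nat_lit 1], [nat_lit 14, nat_lit 15, nat_lit 0, nat_lit 15, nat_lit 15, nat_lit 11, nat_lit 27], (nat_lit 6112)), ((nat_lit 569), [nat_lit 5, nat_lit 4, nat_lit 7, nat_lit 4, nat_lit 2, nat_lit 3, nat_lit 1, nat_lit 2, nat_lit 3, nat_lit 0, nat_lit 1], [nat_lit 25, nat_lit 33, nat_lit 15, nat_lit 27], (nat_lit 1631)), ((nat_lit 278),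 [nat_lit 6, nat_lit 3, nat_lit 1, nat_lit 2, nat_lit 3, nat_lit 4, nat_lit 7, nat_lit 1, nat_lit 2, nat_lit 3, nat_lit 0, nat_lit 1], [nat_lit 5, nat_lit 0, nat_lit 33, nat_lit 11, nat_lit 16, nat_lit 26], (nat_lit 3046)), ((nat_lit 273), [nat_lit 5, nat_lit 3, nat_lit 1, nat_lit 2, nat_lit 3, nat_lit 4, nat_lit 7, nat_lit 1, nat_lit 2, nat_lit 3, nat_lit 0, nat_lit 1], [nat_lit 0, nat_lit 2, nat_lit 32, nat_lit 34, nat_lit 11, nat_lit 27], (nat_lit 3047)), ((nat_lit 276), [nat_lit 6, nat_lit 3, nat_lit 1, nat_lit 2, nat_lit 3, nat_lit 4, nat_lit 8, nat_lit 1, nat_lit 2, nat_lit 3, nat_lit 0, nat_lit 1], [nat_lit 5, nat_lit 2, nat_lit 0, nat_lit 32, nat_lit 34, nat_lit 27], (nat_lit 2977)), ((nat_lit 272), [nat_lit 5, nat_lit 3, nat_lit 1, nat_lit 2, nat_lit 3, nat_lit 4, nat_lit 8, nat_lit 1, nat_lit 2, nat_lit 3, nat_lit 0, nat_lit 1], [nat_lit 5, nat_lit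 16, nat_lit 2, nat_lit 18, nat_lit 25, nat_lit 27], (nat_lit 2978)), ((nat_lit 1930), [nat_lit 3, nat_lit 4, nat_lit 8, nat_lit 2, nat_lit 3, nat_lit 4, nat_lit 7, nat_lit 4, nat_lit 2, nat_lit 3, nat_lit 1], [nat_lit 17, nat_lit 2, nat_lit 0, nat_lit 36, nat_lit 24, nat_lit 27], (nat_lit 2588)), ((nat_lit 2100), [nat_lit 7, nat_lit 2, nat_lit 3, nat_lit 4, nat_lit 2, nat_lit 3, nat_lit 0, nat_lit 1], [nat_lit 25, nat_lit 1, nat_lit 37, nat_lit 37, nat_lit 16, nat_lit 27], (nat_lit 410)), ((nat_lit 2139), [nat_lit 5, nat_lit 2, nat_lit 3, nat_lit 0, nat_lit 1, nat_lit 2, nat_lit 3, nat_lit 4, nat_lit 7, nat_lit 2, nat_lit 3, nat_lit 4, nat_lit 2, nat_lit 3, nat_lit 1], [nat_lit 5, nat_lit 16, nat_lit 2, nat_lit 34, nat_lit 16, nat_lit 11], (nat_lit 13804)), ((nat_lit 1461), [nat_lit 2, nat_lit 3, nat_lit 0, nat_lit 1, nat_lit 2, nat_lit 3, nat_lit 4, nat_lit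 7, nat_lit 4, nat_lit 2, nat_lit 3, nat_lit 1], [nat_lit 16, nat_lit 5, nat_lit 0, nat_lit 36, nat_lit 16, nat_lit 11], (nat_lit 4252)), ((nat_lit 1770), [nat_lit 2, nat_lit 3, nat_lit 4, nat_lit 8, nat_lit 6, nat_lit 0, nat_lit 1, nat_lit 2, nat_lit 3, nat_lit 4, nat_lit 8, nat_lit 2, nat_lit 3, nat_lit 0, nat_lit 1], [nat_lit 25, nat_lit 1, nat_lit 18, nat_lit 35, nat_lit 27], (nat_lit 12013)), ((nat_lit 1775), [nat_lit 0, nat_lit 1, nat_lit 2, nat_lit 3, nat_lit 4, nat_lit 8, nat_lit 0, nat_lit 1, nat_lit 2, nat_lit 3, nat_lit 4, nat_lit 2, nat_lit 3, nat_lit 1], [nat_lit 24, nat_lit 2, nat_lit 0, nat_lit 36, nat_lit 16, nat_lit 27], (nat_lit 9686)), ((nat_lit 2038), [nat_lit 2, nat_lit 3, nat_lit 4, nat_lit 1, nat_lit 2, nat_lit 3, nat_lit 2, nat_lit 3, nat_lit 4, nat_lit 8, nat_lit 4, nat_lit 3, nat_lit 1], [nat_lit 26, nat_lit 2, nat_lit 18, nat_lit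 35, nat_lit 11, nat_lit 26], (nat_lit 7206)), ((nat_lit 2563), [nat_lit 5, nat_lit 2, nat_lit 3, nat_lit 4, nat_lit 8, nat_lit 2, nat_lit 3, nat_lit 1], [nat_lit 24, nat_lit 2, nat_lit 0, nat_lit 32, nat_lit 24, nat_lit 11, nat_lit 27], (nat_lit 541)), ((nat_lit 1495), [nat_lit 2, nat_lit 3, nat_lit 4, nat_lit 7, nat_lit 5, nat_lit 1, nat_lit 2, nat_lit 3, nat_lit 4, nat_lit 8, nat_lit 4, nat_lit 2, nat_lit 3, nat_lit 1], [nat_lit 25, nat_lit 14, nat_lit 0, nat_lit 17, nat_lit 36, nat_lit 27], (nat_lit 10303)), ((nat_lit 549), [nat_lit 5, nat_lit 2, nat_lit 3, nat_lit 4, nat_lit 8, nat_lit 1, nat_lit 2, nat_lit 3, nat_lit 4, nat_lit 7, nat_lit 2, nat_lit 3, nat_lit 1], [nat_lit 34, nat_lit 26], (nat_lit 7068)), ((nat_lit 1997), [nat_lit 8, nat_lit 3, nat_lit 4, nat_lit 8, nat_lit 3, nat_lit 2, nat_lit 3, nat_lit 4, nat_lit 7, nat_lit 3, nat_lit 2, nat_lit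 3, nat_lit 1], [nat_lit 16, nat_lit 5, nat_lit 0, nat_lit 37, nat_lit 37, nat_lit 26], (nat_lit 6267)), ((nat_lit 2047), [nat_lit 5, nat_lit 2, nat_lit 3, nat_lit 4, nat_lit 7, nat_lit 1, nat_lit 2, nat_lit 3, nat_lit 4, nat_lit 8, nat_lit 2, nat_lit 3, nat_lit 1], [nat_lit 24, nat_lit 0, nat_lit 35, nat_lit 36, nat_lit 11, nat_lit 26], (nat_lit 6895)), ((nat_lit 751), [nat_lit 7, nat_lit 7, nat_lit 4, nat_lit 8, nat_lit 2, nat_lit 3, nat_lit 0, nat_lit 1], [nat_lit 24, nat_lit 0, nat_lit 27], (nat_lit 439)), ((nat_lit 2570), [nat_lit 6, nat_lit 3, nat_lit 4, nat_lit 7, nat_lit 2, nat_lit 3, nat_lit 0, nat_lit 1], [nat_lit 5, nat_lit 2, nat_lit 0, nat_lit 37, nat_lit 27], (nat_lit 441)), ((nat_lit 810), [nat_lit 5, nat_lit 2, nat_lit 3, nat_lit 4, nat_lit 7, nat_lit 2, nat_lit 3, nat_lit 1], [nat_lit 24, nat_lit 16, nat_lit 0, nat_lit 33, nat_lit 18, nat_lit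 11], (nat_lit 556)), ((nat_lit 729), [nat_lit 8, nat_lit 3, nat_lit 4, nat_lit 7, nat_lit 2, nat_lit 3, nat_lit 0, nat_lit 1], [nat_lit 17, nat_lit 24, nat_lit 0, nat_lit 17, nat_lit 24], (nat_lit 443)), ((nat_lit 2142), [nat_lit 7, nat_lit 3, nat_lit 4, nat_lit 7, nat_lit 2, nat_lit 3, nat_lit 0, nat_lit 1], [nat_lit 2, nat_lit 0, nat_lit 32, nat_lit 27, nat_lit 17], (nat_lit 444)), ((nat_lit 1884), [nat_lit 7, nat_lit 7, nat_lit 4, nat_lit 7, nat_lit 2, nat_lit 3, nat_lit 0, nat_lit 1], [nat_lit 5, nat_lit 0, nat_lit 25, nat_lit 18, nat_lit 16, nat_lit 26], (nat_lit 452)), ((nat_lit 2160), [nat_lit 3, nat_lit 1, nat_lit 2, nat_lit 3, nat_lit 4, nat_lit 7, nat_lit 4, nat_lit 7, nat_lit 1, nat_lit 2, nat_lit 3, nat_lit 4, nat_lit 3, nat_lit 2, nat_lit 3, nat_lit 1], [nat_lit 26, nat_lit 2, nat_lit 36, nat_lit 32], (nat_lit 15801)), ((nat_lit 2324), [nat_lit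 0, nat_lit 1, nat_lit 2, nat_lit 3, nat_lit 4, nat_lit 7, nat_lit 4, nat_lit 7, nat_lit 1, nat_lit 2, nat_lit 3, nat_lit 4, nat_lit 3, nat_lit 2, nat_lit 3, nat_lit 1], [nat_lit 15, nat_lit 32, nat_lit 15, nat_lit 27], (nat_lit 15800)), ((nat_lit 1382), [nat_lit 7, nat_lit 4, nat_lit 7, nat_lit 3, nat_lit 0, nat_lit 1, nat_lit 2, nat_lit 3, nat_lit 4, nat_lit 8, nat_lit 3, nat_lit 2, nat_lit 3, nat_lit 1], [nat_lit 25, nat_lit 0, nat_lit 34, nat_lit 32, nat_lit 11, nat_lit 26], (nat_lit 9226)), ((nat_lit 664), [nat_lit 5, nat_lit 8, nat_lit 3, nat_lit 4, nat_lit 8, nat_lit 1, nat_lit 2, nat_lit 3, nat_lit 4, nat_lit 8, nat_lit 2, nat_lit 3, nat_lit 1], [nat_lit 16, nat_lit 5, nat_lit 2, nat_lit 18, nat_lit 15, nat_lit 26], (nat_lit 6886)), ((nat_lit 1788), [nat_lit 7, nat_lit 1, nat_lit 2, nat_lit 3, nat_lit 4, nat_lit 3, nat_lit 2, nat_lit 3, nat_lit 0,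 nat_lit 1], [nat_lit 1, nat_lit 24, nat_lit 0, nat_lit 35, nat_lit 17, nat_lit 16, nat_lit 26], (nat_lit 1083)), ((nat_lit 805), [nat_lit 7, nat_lit 7, nat_lit 4, nat_lit 7, nat_lit 3, nat_lit 0, nat_lit 1, nat_lit 2, nat_lit 3, nat_lit 4, nat_lit 7, nat_lit 3, nat_lit 2, nat_lit 3, nat_lit 1], [nat_lit 25, nat_lit 2, nat_lit 0, nat_lit 18, nat_lit 25], (nat_lit 13354)), ((nat_lit 1790), [nat_lit 3, nat_lit 4, nat_lit 8, nat_lit 4, nat_lit 3, nat_lit 2, nat_lit 3, nat_lit 1], [nat_lit 24, nat_lit 16, nat_lit 0, nat_lit 17, nat_lit 25, nat_lit 15, nat_lit 27], (nat_lit 469)), ((nat_lit 1099), [nat_lit 5, nat_lit 8, nat_lit 4, nat_lit 8, nat_lit 3, nat_lit 2, nat_lit 3, nat_lit 1, nat_lit 2, nat_lit 3, nat_lit 4, nat_lit 3, nat_lit 2, nat_lit 3, nat_lit 1], [nat_lit 10, nat_lit 10, nat_lit 0, nat_lit 27, nat_lit 24, nat_lit 26], (nat_lit 12476)), ((nat_lit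 2029), [nat_lit 5, nat_lit 8, nat_lit 4, nat_lit 8, nat_lit 3, nat_lit 2, nat_lit 3, nat_lit 1, nat_lit 2, nat_lit 3, nat_lit 4, nat_lit 7, nat_lit 3, nat_lit 2, nat_lit 3, nat_lit 1], [nat_lit 5, nat_lit 14, nat_lit 36, nat_lit 33, nat_lit 24, nat_lit 27], (nat_lit 16319)), ((nat_lit 415), [nat_lit 7, nat_lit 4, nat_lit 8, nat_lit 3, nat_lit 1, nat_lit 2, nat_lit 3, nat_lit 0, nat_lit 1], [nat_lit 10, nat_lit 10, nat_lit 0, nat_lit 32, nat_lit 36, nat_lit 16, nat_lit 26], (nat_lit 593)), ((nat_lit 1727), [nat_lit 8, nat_lit 8, nat_lit 4, nat_lit 7, nat_lit 2, nat_lit 3, nat_lit 1, nat_lit 2, nat_lit 3, nat_lit 4, nat_lit 3, nat_lit 2, nat_lit 3, nat_lit 1], [nat_lit 25, nat_lit 0, nat_lit 17, nat_lit 27], (nat_lit 8773)), ((nat_lit 1215), [nat_lit 6, nat_lit 4, nat_lit 7, nat_lit 4, nat_lit 3, nat_lit 2, nat_lit 3, nat_lit 1], [nat_lit 2, nat_lit 17, nat_lit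 15, nat_lit 26], (nat_lit 475)), ((nat_lit 2055), [nat_lit 3, nat_lit 2, nat_lit 3, nat_lit 4, nat_lit 7, nat_lit 4, nat_lit 7, nat_lit 1, nat_lit 2, nat_lit 3, nat_lit 4, nat_lit 3, nat_lit 2, nat_lit 3, nat_lit 1], [nat_lit 15, nat_lit 1, nat_lit 36, nat_lit 15, nat_lit 26], (nat_lit 12590)), ((nat_lit 1835), [nat_lit 8, nat_lit 3, nat_lit 4, nat_lit 8, nat_lit 1, nat_lit 2, nat_lit 3, nat_lit 4, nat_lit 2, nat_lit 3, nat_lit 1], [nat_lit 16, nat_lit 5, nat_lit 2, nat_lit 17, nat_lit 11], (nat_lit 2437)), ((nat_lit 1315), [nat_lit 3, nat_lit 4, nat_lit 8, nat_lit 0, nat_lit 1, nat_lit 2, nat_lit 3, nat_lit 4, nat_lit 8, nat_lit 2, nat_lit 3, nat_lit 4, nat_lit 2, nat_lit 3, nat_lit 0, nat_lit 1], [nat_lit 1, nat_lit 1, nat_lit 35, nat_lit 16, nat_lit 16, nat_lit 26], (nat_lit 15292)), ((nat_lit 2031), [nat_lit 8, nat_lit 5, nat_lit 3, nat_lit 2, nat_lit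 3, nat_lit 4, nat_lit 8, nat_lit 1, nat_lit 2, nat_lit 3, nat_lit 4, nat_lit 3, nat_lit 2, nat_lit 3, nat_lit 1], [nat_lit 11, nat_lit 5, nat_lit 2, nat_lit 25, nat_lit 36, nat_lit 26], (nat_lit 12555)), ((nat_lit 939), [nat_lit 4, nat_lit 7, nat_lit 6, nat_lit 4, nat_lit 3, nat_lit 2, nat_lit 3, nat_lit 4, nat_lit 8, nat_lit 4, nat_lit 3, nat_lit 2, nat_lit 3, nat_lit 1], [nat_lit 25, nat_lit 0, nat_lit 37, nat_lit 34], (nat_lit 9092)), ((nat_lit 1910), [nat_lit 6, nat_lit 8, nat_lit 2, nat_lit 3, nat_lit 4, nat_lit 8, nat_lit 3, nat_lit 4, nat_lit 1, nat_lit 2, nat_lit 3, nat_lit 0, nat_lit 1], [nat_lit 5, nat_lit 32, nat_lit 15, nat_lit 26], (nat_lit 4706)), ((nat_lit 429), [nat_lit 8, nat_lit 2, nat_lit 3, nat_lit 4, nat_lit 8, nat_lit 3, nat_lit 4, nat_lit 1, nat_lit 2, nat_lit 3, nat_lit 0, nat_lit 1], [nat_lit 24, nat_lit 36, nat_lit 16, nat_lit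 27], (nat_lit 2905)), ((nat_lit 1610), [nat_lit 4, nat_lit 7, nat_lit 5, nat_lit 1, nat_lit 2, nat_lit 3, nat_lit 4, nat_lit 8, nat_lit 3, nat_lit 4, nat_lit 2, nat_lit 3, nat_lit 1], [nat_lit 15, nat_lit 2, nat_lit 37, nat_lit 18, nat_lit 26], (nat_lit 6602)), ((nat_lit 2091), [nat_lit 8, nat_lit 3, nat_lit 4, nat_lit 8, nat_lit 5, nat_lit 1, nat_lit 2, nat_lit 3, nat_lit 4, nat_lit 8, nat_lit 2, nat_lit 3, nat_lit 1], [nat_lit 0, nat_lit 2, nat_lit 27, nat_lit 15, nat_lit 26], (nat_lit 6874)), ((nat_lit 895), [nat_lit 7, nat_lit 7, nat_lit 4, nat_lit 2, nat_lit 3, nat_lit 1, nat_lit 2, nat_lit 3, nat_lit 4, nat_lit 7, nat_lit 4, nat_lit 3, nat_lit 2, nat_lit 3, nat_lit 0, nat_lit 1], [nat_lit 24, nat_lit 16, nat_lit 0, nat_lit 32], (nat_lit 14956)), ((nat_lit 2097), [nat_lit 4, nat_lit 7, nat_lit 4, nat_lit 7, nat_lit 3, nat_lit 2, nat_lit 3, nat_lit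 4, nat_lit 7, nat_lit 3, nat_lit 2, nat_lit 3, nat_lit 1], [nat_lit 24, nat_lit 2, nat_lit 32, nat_lit 11], (nat_lit 6292)), ((nat_lit 1765), [nat_lit 7, nat_lit 6, nat_lit 4, nat_lit 8, nat_lit 3, nat_lit 4, nat_lit 7, nat_lit 3, nat_lit 1, nat_lit 2, nat_lit 3, nat_lit 0, nat_lit 1], [nat_lit 24, nat_lit 2, nat_lit 0, nat_lit 24, nat_lit 36, nat_lit 16, nat_lit 27], (nat_lit 4656)), ((nat_lit 1429), [nat_lit 6, nat_lit 7, nat_lit 4, nat_lit 7, nat_lit 6, nat_lit 3, nat_lit 4, nat_lit 7, nat_lit 1, nat_lit 2, nat_lit 3, nat_lit 0, nat_lit 1], [nat_lit 25, nat_lit 0, nat_lit 36, nat_lit 27], (nat_lit 4911)), ((nat_lit 2051), [nat_lit 8, nat_lit 4, nat_lit 7, nat_lit 7, nat_lit 3, nat_lit 2, nat_lit 3, nat_lit 4, nat_lit 7, nat_lit 3, nat_lit 2, nat_lit 3, nat_lit 0, nat_lit 1], [nat_lit 1, nat_lit 32, nat_lit 32, nat_lit 27], (nat_lit 7997)), ((nat_lit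 1286), [nat_lit 4, nat_lit 7, nat_lit 6, nat_lit 4, nat_lit 7, nat_lit 3, nat_lit 2, nat_lit 3, nat_lit 4, nat_lit 8, nat_lit 3, nat_lit 2, nat_lit 3, nat_lit 1], [nat_lit 17, nat_lit 2, nat_lit 0, nat_lit 32, nat_lit 34, nat_lit 11, nat_lit 26], (nat_lit 9370))] m5_5_1 m5_5_2) = 0 := by decide +kernel
theorem e5_5_3 : dt.run q (fun c => c.edges (SP THn.T THn.Rl (nat_lit 15)) (nat_lit 4429) THn.T.n (nat_lit 5) (nat_lit 5)
  [((nat_lit 534), [nat_lit 7, nat_lit 7, nat_lit 4, nat_lit 7, nat_lit 3, nat_lit 2, nat_lit 3, nat_lit 1], [nat_lit 18, nat_lit 15, nat_lit 0, nat_lit 37, nat_lit 37, nat_lit 16, nat_lit 26], (nat_lit 504)), ((nat_lit 479), [nat_lit 1, nat_lit 2, nat_lit 3, nat_lit 4, nat_lit 7, nat_lit 4, nat_lit 2, nat_lit 3, nat_lit 1], [nat_lit 5, nat_lit 2, nat_lit 0, nat_lit 36, nat_lit 16, nat_lit 11, nat_lit 27], (nat_lit 882)), ((nat_lit 2327),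 [nat_lit 8, nat_lit 4, nat_lit 7, nat_lit 3, nat_lit 2, nat_lit 3, nat_lit 4, nat_lit 7, nat_lit 3, nat_lit 2, nat_lit 3, nat_lit 1], [nat_lit 18, nat_lit 15, nat_lit 0, nat_lit 33, nat_lit 25], (nat_lit 3962)), ((nat_lit 2168), [nat_lit 8, nat_lit 0, nat_lit 1, nat_lit 2, nat_lit 3, nat_lit 4, nat_lit 2, nat_lit 3, nat_lit 0, nat_lit 1], [nat_lit 16, nat_lit 2, nat_lit 24, nat_lit 18, nat_lit 26], (nat_lit 1150)), ((nat_lit 1166), [nat_lit 6, nat_lit 2, nat_lit 3, nat_lit 1, nat_lit 2, nat_lit 3, nat_lit 4, nat_lit 7, nat_lit 2, nat_lit 3, nat_lit 4, nat_lit 2, nat_lit 3, nat_lit 1], [nat_lit 0, nat_lit 2, nat_lit 33, nat_lit 16, nat_lit 11, nat_lit 26], (nat_lit 9939)), ((nat_lit 1115), [nat_lit 2, nat_lit 3, nat_lit 4, nat_lit 8, nat_lit 6, nat_lit 2, nat_lit 3, nat_lit 4, nat_lit 8, nat_lit 2, nat_lit 3, nat_lit 1], [nat_lit 15, nat_lit 5, nat_lit 18,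 nat_lit 35], (nat_lit 4338)), ((nat_lit 1704), [nat_lit 5, nat_lit 7, nat_lit 2, nat_lit 3, nat_lit 4, nat_lit 2, nat_lit 3, nat_lit 1], [nat_lit 16, nat_lit 5, nat_lit 0, nat_lit 27, nat_lit 15, nat_lit 11, nat_lit 27], (nat_lit 513)), ((nat_lit 454), [nat_lit 1, nat_lit 2, nat_lit 3, nat_lit 4, nat_lit 7, nat_lit 4, nat_lit 2, nat_lit 3, nat_lit 0, nat_lit 1], [nat_lit 5, nat_lit 2, nat_lit 0, nat_lit 36, nat_lit 25, nat_lit 26], (nat_lit 1204)), ((nat_lit 2178), [nat_lit 6, nat_lit 4, nat_lit 8, nat_lit 3, nat_lit 4, nat_lit 2, nat_lit 3, nat_lit 1], [nat_lit 16, nat_lit 0, nat_lit 25, nat_lit 16, nat_lit 27], (nat_lit 515)), ((nat_lit 1005), [nat_lit 6, nat_lit 3, nat_lit 4, nat_lit 7, nat_lit 3, nat_lit 1, nat_lit 2, nat_lit 3, nat_lit 4, nat_lit 7, nat_lit 3, nat_lit 2, nat_lit 3, nat_lit 1], [nat_lit 10, nat_lit 0, nat_lit 36, nat_lit 25, nat_lit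 11, nat_lit 26], (nat_lit 9540)), ((nat_lit 1321), [nat_lit 4, nat_lit 8, nat_lit 8, nat_lit 3, nat_lit 4, nat_lit 8, nat_lit 2, nat_lit 3, nat_lit 1], [nat_lit 15, nat_lit 0, nat_lit 25, nat_lit 15, nat_lit 27], (nat_lit 912)), ((nat_lit 1407), [nat_lit 5, nat_lit 4, nat_lit 7, nat_lit 3, nat_lit 4, nat_lit 2, nat_lit 3, nat_lit 1], [nat_lit 24, nat_lit 2, nat_lit 0, nat_lit 32, nat_lit 11, nat_lit 27], (nat_lit 521)), ((nat_lit 2371), [nat_lit 7, nat_lit 4, nat_lit 7, nat_lit 3, nat_lit 4, nat_lit 2, nat_lit 3, nat_lit 1], [nat_lit 14, nat_lit 37, nat_lit 37, nat_lit 16, nat_lit 27], (nat_lit 523)), ((nat_lit 779), [nat_lit 6, nat_lit 1, nat_lit 2, nat_lit 3, nat_lit 4, nat_lit 7, nat_lit 0, nat_lit 1, nat_lit 2, nat_lit 3, nat_lit 4, nat_lit 2, nat_lit 3, nat_lit 1], [nat_lit 14, nat_lit 0, nat_lit 24, nat_lit 18, nat_lit 27], (nat_lit 9702)), ((nat_lit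 1403), [nat_lit 1, nat_lit 2, nat_lit 3, nat_lit 4, nat_lit 8, nat_lit 6, nat_lit 2, nat_lit 3, nat_lit 4, nat_lit 8, nat_lit 2, nat_lit 3, nat_lit 0, nat_lit 1], [nat_lit 0, nat_lit 17, nat_lit 36, nat_lit 26], (nat_lit 8427)), ((nat_lit 1853), [nat_lit 8, nat_lit 3, nat_lit 4, nat_lit 8, nat_lit 3, nat_lit 1, nat_lit 2, nat_lit 3, nat_lit 4, nat_lit 3, nat_lit 2, nat_lit 3, nat_lit 0, nat_lit 1], [nat_lit 5, nat_lit 16, nat_lit 2, nat_lit 15, nat_lit 17, nat_lit 26], (nat_lit 7578)), ((nat_lit 2065), [nat_lit 3, nat_lit 4, nat_lit 7, nat_lit 7, nat_lit 1, nat_lit 2, nat_lit 3, nat_lit 4, nat_lit 7, nat_lit 2, nat_lit 3, nat_lit 0, nat_lit 1], [nat_lit 15, nat_lit 2, nat_lit 24, nat_lit 36, nat_lit 11], (nat_lit 5628)), ((nat_lit 1992), [nat_lit 2, nat_lit 3, nat_lit 4, nat_lit 7, nat_lit 4, nat_lit 2, nat_lit 3, nat_lit 1], [nat_lit 26, nat_lit 2, nat_lit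 25, nat_lit 33, nat_lit 15, nat_lit 26], (nat_lit 532)), ((nat_lit 1428), [nat_lit 6, nat_lit 3, nat_lit 1, nat_lit 2, nat_lit 3, nat_lit 4, nat_lit 7, nat_lit 3, nat_lit 4, nat_lit 2, nat_lit 3, nat_lit 0, nat_lit 1], [nat_lit 25, nat_lit 16, nat_lit 0, nat_lit 24, nat_lit 37, nat_lit 17, nat_lit 26], (nat_lit 5406)), ((nat_lit 2061), [nat_lit 1, nat_lit 2, nat_lit 3, nat_lit 4, nat_lit 8, nat_lit 2, nat_lit 3, nat_lit 4, nat_lit 2, nat_lit 3, nat_lit 0, nat_lit 1], [nat_lit 16, nat_lit 2, nat_lit 15, nat_lit 35, nat_lit 26], (nat_lit 3370)), ((nat_lit 2024), [nat_lit 1, nat_lit 2, nat_lit 3, nat_lit 4, nat_lit 7, nat_lit 0, nat_lit 1, nat_lit 2, nat_lit 3, nat_lit 4, nat_lit 7, nat_lit 2, nat_lit 3, nat_lit 1], [nat_lit 15, nat_lit 1, nat_lit 18, nat_lit 18, nat_lit 27], (nat_lit 10658)), ((nat_lit 2198), [nat_lit 4, nat_lit 7, nat_lit 0, nat_lit 1, nat_lit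 2, nat_lit 3, nat_lit 4, nat_lit 8, nat_lit 2, nat_lit 3, nat_lit 0, nat_lit 1], [nat_lit 25, nat_lit 16, nat_lit 0, nat_lit 15, nat_lit 35], (nat_lit 3488)), ((nat_lit 1556), [nat_lit 5, nat_lit 1, nat_lit 2, nat_lit 3, nat_lit 4, nat_lit 8, nat_lit 2, nat_lit 3, nat_lit 4, nat_lit 7, nat_lit 2, nat_lit 3, nat_lit 0, nat_lit 1], [nat_lit 5, nat_lit 2, nat_lit 0, nat_lit 25, nat_lit 36, nat_lit 11], (nat_lit 8614)), ((nat_lit 1907), [nat_lit 3, nat_lit 4, nat_lit 7, nat_lit 5, nat_lit 1, nat_lit 2, nat_lit 3, nat_lit 4, nat_lit 8, nat_lit 2, nat_lit 3, nat_lit 0, nat_lit 1], [nat_lit 17, nat_lit 2, nat_lit 0, nat_lit 18, nat_lit 16, nat_lit 11], (nat_lit 5488)), ((nat_lit 1285), [nat_lit 4, nat_lit 8, nat_lit 8, nat_lit 1, nat_lit 2, nat_lit 3, nat_lit 4, nat_lit 8, nat_lit 2, nat_lit 3, nat_lit 0, nat_lit 1], [nat_lit 17, nat_lit 24, nat_lit 0, nat_lit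 16, nat_lit 18, nat_lit 11, nat_lit 26], (nat_lit 3498)), ((nat_lit 1197), [nat_lit 8, nat_lit 3, nat_lit 4, nat_lit 8, nat_lit 3, nat_lit 1, nat_lit 2, nat_lit 3, nat_lit 4, nat_lit 7, nat_lit 3, nat_lit 2, nat_lit 3, nat_lit 0, nat_lit 1], [nat_lit 2, nat_lit 26, nat_lit 16, nat_lit 27], (nat_lit 11581)), ((nat_lit 2115), [nat_lit 3, nat_lit 2, nat_lit 3, nat_lit 4, nat_lit 8, nat_lit 3, nat_lit 4, nat_lit 7, nat_lit 2, nat_lit 3, nat_lit 0, nat_lit 1], [nat_lit 10, nat_lit 10, nat_lit 0, nat_lit 17, nat_lit 37, nat_lit 26], (nat_lit 3621)), ((nat_lit 1297), [nat_lit 7, nat_lit 3, nat_lit 4, nat_lit 8, nat_lit 3, nat_lit 1, nat_lit 2, nat_lit 3, nat_lit 4, nat_lit 8, nat_lit 4, nat_lit 3, nat_lit 2, nat_lit 3, nat_lit 1], [nat_lit 16, nat_lit 5, nat_lit 0, nat_lit 25, nat_lit 16, nat_lit 16, nat_lit 26], (nat_lit 12895)), ((nat_lit 793), [nat_lit 6, nat_lit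 1, nat_lit 2, nat_lit 3, nat_lit 4, nat_lit 7, nat_lit 2, nat_lit 3, nat_lit 4, nat_lit 2, nat_lit 3, nat_lit 0, nat_lit 1], [nat_lit 11, nat_lit 2, nat_lit 0, nat_lit 24, nat_lit 36, nat_lit 11], (nat_lit 5339)), ((nat_lit 324), [nat_lit 5, nat_lit 7, nat_lit 1, nat_lit 2, nat_lit 3, nat_lit 4, nat_lit 8, nat_lit 2, nat_lit 3, nat_lit 0, nat_lit 1], [nat_lit 5, nat_lit 16, nat_lit 2, nat_lit 18, nat_lit 35, nat_lit 11], (nat_lit 2090)), ((nat_lit 1868), [nat_lit 1, nat_lit 2, nat_lit 3, nat_lit 4, nat_lit 8, nat_lit 2, nat_lit 3, nat_lit 4, nat_lit 8, nat_lit 2, nat_lit 3, nat_lit 0, nat_lit 1], [nat_lit 24, nat_lit 1, nat_lit 24, nat_lit 24, nat_lit 27], (nat_lit 5536)), ((nat_lit 1294), [nat_lit 1, nat_lit 2, nat_lit 3, nat_lit 4, nat_lit 7, nat_lit 5, nat_lit 0, nat_lit 1, nat_lit 2, nat_lit 3, nat_lit 4, nat_lit 8, nat_lit 2, nat_lit 3, nat_lit 1],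 [nat_lit 25, nat_lit 2, nat_lit 0, nat_lit 35, nat_lit 36, nat_lit 26], (nat_lit 14257)), ((nat_lit 1206), [nat_lit 1, nat_lit 2, nat_lit 3, nat_lit 4, nat_lit 7, nat_lit 6, nat_lit 0, nat_lit 1, nat_lit 2, nat_lit 3, nat_lit 4, nat_lit 7, nat_lit 2, nat_lit 3, nat_lit 1], [nat_lit 16, nat_lit 5, nat_lit 2, nat_lit 18, nat_lit 36, nat_lit 11, nat_lit 27], (nat_lit 14474)), ((nat_lit 2222), [nat_lit 4, nat_lit 7, nat_lit 3, nat_lit 4, nat_lit 7, nat_lit 2, nat_lit 3, nat_lit 1], [nat_lit 16, nat_lit 5, nat_lit 0, nat_lit 15, nat_lit 32, nat_lit 11], (nat_lit 565)), ((nat_lit 1434), [nat_lit 3, nat_lit 4, nat_lit 8, nat_lit 5, nat_lit 1, nat_lit 2, nat_lit 3, nat_lit 4, nat_lit 8, nat_lit 2, nat_lit 3, nat_lit 0, nat_lit 1], [nat_lit 1, nat_lit 14, nat_lit 17, nat_lit 15, nat_lit 26], (nat_lit 5485)), ((nat_lit 1041), [nat_lit 3, nat_lit 2, nat_lit 3, nat_lit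 4, nat_lit 8, nat_lit 3, nat_lit 4, nat_lit 2, nat_lit 3, nat_lit 0, nat_lit 1], [nat_lit 16, nat_lit 17, nat_lit 15, nat_lit 27], (nat_lit 2021)), ((nat_lit 566), [nat_lit 8, nat_lit 4, nat_lit 8, nat_lit 2, nat_lit 3, nat_lit 4, nat_lit 8, nat_lit 1, nat_lit 2, nat_lit 3, nat_lit 0, nat_lit 1], [nat_lit 5, nat_lit 2, nat_lit 18, nat_lit 36, nat_lit 27], (nat_lit 3001)), ((nat_lit 271), [nat_lit 3, nat_lit 2, nat_lit 3, nat_lit 1, nat_lit 2, nat_lit 3, nat_lit 4, nat_lit 7, nat_lit 4, nat_lit 2, nat_lit 3, nat_lit 1], [nat_lit 25, nat_lit 36, nat_lit 15, nat_lit 27], (nat_lit 4258)), ((nat_lit 315), [nat_lit 7, nat_lit 2, nat_lit 3, nat_lit 4, nat_lit 1, nat_lit 2, nat_lit 3, nat_lit 0, nat_lit 1], [nat_lit 33, nat_lit 16, nat_lit 27], (nat_lit 602)), ((nat_lit 279), [nat_lit 5, nat_lit 3, nat_lit 2, nat_lit 3, nat_lit 0, nat_lit 1, nat_lit 2, nat_lit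 3, nat_lit 4, nat_lit 8, nat_lit 4, nat_lit 2, nat_lit 3, nat_lit 1], [nat_lit 2, nat_lit 0, nat_lit 17, nat_lit 34, nat_lit 11], (nat_lit 10275)), ((nat_lit 280), [nat_lit 8, nat_lit 3, nat_lit 0, nat_lit 1, nat_lit 2, nat_lit 3, nat_lit 4, nat_lit 1, nat_lit 2, nat_lit 3, nat_lit 0, nat_lit 1], [nat_lit 2, nat_lit 0, nat_lit 34, nat_lit 25, nat_lit 11, nat_lit 26], (nat_lit 2866)), ((nat_lit 311), [nat_lit 8, nat_lit 3, nat_lit 4, nat_lit 8, nat_lit 1, nat_lit 2, nat_lit 3, nat_lit 0, nat_lit 1], [nat_lit 5, nat_lit 35, nat_lit 36, nat_lit 26], (nat_lit 622)), ((nat_lit 269), [nat_lit 3, nat_lit 2, nat_lit 3, nat_lit 0, nat_lit 1, nat_lit 2, nat_lit 3, nat_lit 4, nat_lit 8, nat_lit 4, nat_lit 8, nat_lit 2, nat_lit 3, nat_lit 1], [nat_lit 36, nat_lit 18, nat_lit 15, nat_lit 26], (nat_lit 10631)), ((nat_lit 2257), [nat_lit 3, nat_lit 1, nat_lit 2, nat_lit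 3, nat_lit 0, nat_lit 1, nat_lit 2, nat_lit 3, nat_lit 4, nat_lit 7, nat_lit 3, nat_lit 4, nat_lit 3, nat_lit 2, nat_lit 3, nat_lit 1], [nat_lit 5, nat_lit 2, nat_lit 0, nat_lit 25, nat_lit 35, nat_lit 27], (nat_lit 15892)), ((nat_lit 996), [nat_lit 6, nat_lit 8, nat_lit 5, nat_lit 4, nat_lit 3, nat_lit 1, nat_lit 2, nat_lit 3, nat_lit 4, nat_lit 8, nat_lit 4, nat_lit 3, nat_lit 2, nat_lit 3, nat_lit 1], [nat_lit 5, nat_lit 0, nat_lit 11], (nat_lit 12889)), ((nat_lit 1260), [nat_lit 8, nat_lit 6, nat_lit 4, nat_lit 8, nat_lit 3, nat_lit 4, nat_lit 8, nat_lit 1, nat_lit 2, nat_lit 3, nat_lit 4, nat_lit 2, nat_lit 3, nat_lit 1], [nat_lit 25, nat_lit 2, nat_lit 0, nat_lit 15, nat_lit 35, nat_lit 27], (nat_lit 9751)), ((nat_lit 1736), [nat_lit 4, nat_lit 7, nat_lit 4, nat_lit 7, nat_lit 3, nat_lit 0, nat_lit 1, nat_lit 2, nat_lit 3, nat_lit 4, nat_lit 8, nat_lit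 3, nat_lit 2, nat_lit 3, nat_lit 1], [nat_lit 14, nat_lit 15, nat_lit 0, nat_lit 17, nat_lit 37], (nat_lit 13071)), ((nat_lit 1439), [nat_lit 5, nat_lit 4, nat_lit 3, nat_lit 2, nat_lit 3, nat_lit 4, nat_lit 8, nat_lit 3, nat_lit 1, nat_lit 2, nat_lit 3, nat_lit 4, nat_lit 3, nat_lit 2, nat_lit 3, nat_lit 0, nat_lit 1], [nat_lit 25, nat_lit 16, nat_lit 0, nat_lit 36, nat_lit 18, nat_lit 26], (nat_lit 16858)), ((nat_lit 2181), [nat_lit 8, nat_lit 5, nat_lit 4, nat_lit 3, nat_lit 0, nat_lit 1, nat_lit 2, nat_lit 3, nat_lit 4, nat_lit 8, nat_lit 4, nat_lit 3, nat_lit 2, nat_lit 3, nat_lit 1], [nat_lit 1, nat_lit 5, nat_lit 18, nat_lit 15, nat_lit 11, nat_lit 27], (nat_lit 12847)), ((nat_lit 781), [nat_lit 1, nat_lit 2, nat_lit 3, nat_lit 4, nat_lit 7, nat_lit 3, nat_lit 4, nat_lit 3, nat_lit 1, nat_lit 2, nat_lit 3, nat_lit 0, nat_lit 1], [nat_lit 5, nat_lit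 2, nat_lit 32, nat_lit 34, nat_lit 11], (nat_lit 4547)), ((nat_lit 908), [nat_lit 5, nat_lit 8, nat_lit 4, nat_lit 2, nat_lit 3, nat_lit 1, nat_lit 2, nat_lit 3, nat_lit 0, nat_lit 1], [nat_lit 15, nat_lit 0, nat_lit 36, nat_lit 18, nat_lit 15], (nat_lit 954)), ((nat_lit 1946), [nat_lit 8, nat_lit 4, nat_lit 8, nat_lit 1, nat_lit 2, nat_lit 3, nat_lit 4, nat_lit 3, nat_lit 2, nat_lit 3, nat_lit 1], [nat_lit 26, nat_lit 2, nat_lit 0, nat_lit 17, nat_lit 11, nat_lit 27], (nat_lit 2213)), ((nat_lit 778), [nat_lit 6, nat_lit 8, nat_lit 4, nat_lit 8, nat_lit 2, nat_lit 3, nat_lit 1, nat_lit 2, nat_lit 3, nat_lit 4, nat_lit 3, nat_lit 2, nat_lit 3, nat_lit 0, nat_lit 1], [nat_lit 24, nat_lit 1, nat_lit 17, nat_lit 17, nat_lit 15, nat_lit 27], (nat_lit 11153)), ((nat_lit 473), [nat_lit 6, nat_lit 4, nat_lit 7, nat_lit 4, nat_lit 3, nat_lit 2, nat_lit 3, nat_lit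 0, nat_lit 1], [nat_lit 24, nat_lit 1, nat_lit 25, nat_lit 18, nat_lit 16], (nat_lit 661)), ((nat_lit 2121), [nat_lit 3, nat_lit 4, nat_lit 8, nat_lit 4, nat_lit 2, nat_lit 3, nat_lit 1, nat_lit 2, nat_lit 3, nat_lit 0, nat_lit 1], [nat_lit 16, nat_lit 0, nat_lit 24, nat_lit 26], (nat_lit 1624)), ((nat_lit 1138), [nat_lit 8, nat_lit 5, nat_lit 3, nat_lit 2, nat_lit 3, nat_lit 4, nat_lit 8, nat_lit 0, nat_lit 1, nat_lit 2, nat_lit 3, nat_lit 4, nat_lit 3, nat_lit 2, nat_lit 3, nat_lit 1], [nat_lit 1, nat_lit 24, nat_lit 0, nat_lit 35, nat_lit 15], (nat_lit 15701)), ((nat_lit 1274), [nat_lit 5, nat_lit 7, nat_lit 4, nat_lit 7, nat_lit 2, nat_lit 3, nat_lit 1, nat_lit 2, nat_lit 3, nat_lit 0, nat_lit 1], [nat_lit 5, nat_lit 16, nat_lit 2, nat_lit 34, nat_lit 24, nat_lit 17, nat_lit 27], (nat_lit 1647)), ((nat_lit 587), [nat_lit 5, nat_lit 7, nat_lit 4, nat_lit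 3, nat_lit 2, nat_lit 3, nat_lit 1, nat_lit 2, nat_lit 3, nat_lit 4, nat_lit 7, nat_lit 4, nat_lit 3, nat_lit 2, nat_lit 3, nat_lit 1], [nat_lit 16, nat_lit 16, nat_lit 11, nat_lit 26], (nat_lit 16064)), ((nat_lit 250), [nat_lit 4, nat_lit 8, nat_lit 4, nat_lit 8, nat_lit 5, nat_lit 3, nat_lit 2, nat_lit 3, nat_lit 4, nat_lit 7, nat_lit 3, nat_lit 2, nat_lit 3, nat_lit 1], [nat_lit 5, nat_lit 2, nat_lit 0, nat_lit 18, nat_lit 16, nat_lit 11, nat_lit 26], (nat_lit 9586)), ((nat_lit 1095), [nat_lit 7, nat_lit 5, nat_lit 4, nat_lit 8, nat_lit 3, nat_lit 2, nat_lit 3, nat_lit 4, nat_lit 7, nat_lit 3, nat_lit 2, nat_lit 3, nat_lit 1], [nat_lit 16, nat_lit 0, nat_lit 24, nat_lit 37, nat_lit 27], (nat_lit 6270)), ((nat_lit 483), [nat_lit 8, nat_lit 3, nat_lit 4, nat_lit 8, nat_lit 5, nat_lit 0, nat_lit 1, nat_lit 2, nat_lit 3, nat_lit 4, nat_lit 8, nat_lit 2,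 nat_lit 3, nat_lit 1], [nat_lit 14, nat_lit 0, nat_lit 17, nat_lit 37, nat_lit 11], (nat_lit 10389)), ((nat_lit 1498), [nat_lit 7, nat_lit 4, nat_lit 7, nat_lit 2, nat_lit 3, nat_lit 1, nat_lit 2, nat_lit 3, nat_lit 4, nat_lit 7, nat_lit 4, nat_lit 3, nat_lit 2, nat_lit 3, nat_lit 1], [nat_lit 24, nat_lit 16, nat_lit 0, nat_lit 27, nat_lit 37], (nat_lit 12979)), ((nat_lit 2073), [nat_lit 5, nat_lit 7, nat_lit 4, nat_lit 7, nat_lit 6, nat_lit 2, nat_lit 3, nat_lit 4, nat_lit 7, nat_lit 1, nat_lit 2, nat_lit 3, nat_lit 0, nat_lit 1], [nat_lit 25, nat_lit 2, nat_lit 0, nat_lit 15, nat_lit 11, nat_lit 15, nat_lit 27], (nat_lit 7527)), ((nat_lit 2071), [nat_lit 7, nat_lit 6, nat_lit 4, nat_lit 8, nat_lit 2, nat_lit 3, nat_lit 4, nat_lit 7, nat_lit 3, nat_lit 1, nat_lit 2, nat_lit 3, nat_lit 0, nat_lit 1], [nat_lit 14, nat_lit 18, nat_lit 16, nat_lit 11, nat_lit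 26], (nat_lit 7335)), ((nat_lit 385), [nat_lit 5, nat_lit 8, nat_lit 4, nat_lit 7, nat_lit 3, nat_lit 2, nat_lit 3, nat_lit 0, nat_lit 1], [nat_lit 25, nat_lit 1, nat_lit 35, nat_lit 15, nat_lit 26], (nat_lit 685)), ((nat_lit 693), [nat_lit 8, nat_lit 8, nat_lit 4, nat_lit 7, nat_lit 3, nat_lit 2, nat_lit 3, nat_lit 0, nat_lit 1], [nat_lit 16, nat_lit 5, nat_lit 0, nat_lit 32, nat_lit 32, nat_lit 26], (nat_lit 686)), ((nat_lit 2252), [nat_lit 7, nat_lit 4, nat_lit 7, nat_lit 2, nat_lit 3, nat_lit 4, nat_lit 1, nat_lit 2, nat_lit 3, nat_lit 0, nat_lit 1], [nat_lit 1, nat_lit 27, nat_lit 24, nat_lit 27], (nat_lit 1736)), ((nat_lit 1063), [nat_lit 4, nat_lit 8, nat_lit 5, nat_lit 4, nat_lit 3, nat_lit 2, nat_lit 3, nat_lit 4, nat_lit 7, nat_lit 4, nat_lit 3, nat_lit 2, nat_lit 3, nat_lit 1], [nat_lit 26, nat_lit 2, nat_lit 0, nat_lit 24, nat_lit 37, nat_lit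 17, nat_lit 27], (nat_lit 9176)), ((nat_lit 604), [nat_lit 8, nat_lit 5, nat_lit 4, nat_lit 8, nat_lit 2, nat_lit 3, nat_lit 1, nat_lit 2, nat_lit 3, nat_lit 0, nat_lit 1], [nat_lit 5, nat_lit 37, nat_lit 16, nat_lit 27], (nat_lit 1634)), ((nat_lit 1025), [nat_lit 3, nat_lit 1, nat_lit 2, nat_lit 3, nat_lit 4, nat_lit 7, nat_lit 1, nat_lit 2, nat_lit 3, nat_lit 4, nat_lit 2, nat_lit 3, nat_lit 1], [nat_lit 14, nat_lit 33, nat_lit 25, nat_lit 26], (nat_lit 6391)), ((nat_lit 2196), [nat_lit 6, nat_lit 4, nat_lit 8, nat_lit 0, nat_lit 1, nat_lit 2, nat_lit 3, nat_lit 4, nat_lit 1, nat_lit 2, nat_lit 3, nat_lit 0, nat_lit 1], [nat_lit 24, nat_lit 1, nat_lit 36, nat_lit 16, nat_lit 27], (nat_lit 4673)), ((nat_lit 617), [nat_lit 5, nat_lit 3, nat_lit 0, nat_lit 1, nat_lit 2, nat_lit 3, nat_lit 4, nat_lit 7, nat_lit 2, nat_lit 3, nat_lit 4, nat_lit 2, nat_lit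 3, nat_lit 1], [nat_lit 15, nat_lit 5, nat_lit 37, nat_lit 11, nat_lit 27], (nat_lit 9926)), ((nat_lit 1660), [nat_lit 3, nat_lit 4, nat_lit 7, nat_lit 5, nat_lit 2, nat_lit 3, nat_lit 4, nat_lit 8, nat_lit 4, nat_lit 2, nat_lit 3, nat_lit 1], [nat_lit 0, nat_lit 37, nat_lit 18, nat_lit 26], (nat_lit 4234)), ((nat_lit 2545), [nat_lit 2, nat_lit 3, nat_lit 4, nat_lit 7, nat_lit 3, nat_lit 4, nat_lit 2, nat_lit 3, nat_lit 0, nat_lit 1], [nat_lit 34, nat_lit 34, nat_lit 11], (nat_lit 1181)), ((nat_lit 637), [nat_lit 6, nat_lit 8, nat_lit 4, nat_lit 7, nat_lit 3, nat_lit 1, nat_lit 2, nat_lit 3, nat_lit 4, nat_lit 7, nat_lit 3, nat_lit 2, nat_lit 3, nat_lit 1], [nat_lit 24, nat_lit 1, nat_lit 24, nat_lit 15, nat_lit 26], (nat_lit 9548)), ((nat_lit 2279), [nat_lit 5, nat_lit 8, nat_lit 1, nat_lit 2, nat_lit 3, nat_lit 4, nat_lit 1, nat_lit 2, nat_lit 3, nat_lit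 0, nat_lit 1], [nat_lit 17, nat_lit 17, nat_lit 11, nat_lit 26], (nat_lit 1721)), ((nat_lit 572), [nat_lit 7, nat_lit 6, nat_lit 4, nat_lit 8, nat_lit 3, nat_lit 4, nat_lit 8, nat_lit 1, nat_lit 2, nat_lit 3, nat_lit 4, nat_lit 7, nat_lit 2, nat_lit 3, nat_lit 1], [nat_lit 24, nat_lit 1, nat_lit 37, nat_lit 37, nat_lit 26], (nat_lit 14539)), ((nat_lit 1647), [nat_lit 7, nat_lit 4, nat_lit 8, nat_lit 1, nat_lit 2, nat_lit 3, nat_lit 4, nat_lit 3, nat_lit 1, nat_lit 2, nat_lit 3, nat_lit 0, nat_lit 1], [nat_lit 25, nat_lit 1, nat_lit 33, nat_lit 26], (nat_lit 4527)), ((nat_lit 1734), [nat_lit 1, nat_lit 2, nat_lit 3, nat_lit 4, nat_lit 8, nat_lit 4, nat_lit 1, nat_lit 2, nat_lit 3, nat_lit 0, nat_lit 1], [nat_lit 26, nat_lit 24, nat_lit 0, nat_lit 32, nat_lit 11], (nat_lit 1763)), ((nat_lit 2271), [nat_lit 4, nat_lit 8, nat_lit 8, nat_lit 2, nat_lit 3, nat_lit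 4, nat_lit 8, nat_lit 2, nat_lit 3, nat_lit 0, nat_lit 1], [nat_lit 14, nat_lit 0, nat_lit 18, nat_lit 16, nat_lit 11], (nat_lit 2098)), ((nat_lit 1904), [nat_lit 5, nat_lit 4, nat_lit 7, nat_lit 3, nat_lit 4, nat_lit 2, nat_lit 3, nat_lit 0, nat_lit 1], [nat_lit 17, nat_lit 2, nat_lit 0, nat_lit 32, nat_lit 32, nat_lit 11, nat_lit 27], (nat_lit 707)), ((nat_lit 757), [nat_lit 4, nat_lit 8, nat_lit 3, nat_lit 4, nat_lit 7, nat_lit 1, nat_lit 2, nat_lit 3, nat_lit 4, nat_lit 2, nat_lit 3, nat_lit 0, nat_lit 1], [nat_lit 25, nat_lit 14, nat_lit 0, nat_lit 16, nat_lit 37], (nat_lit 5303)), ((nat_lit 2120), [nat_lit 2, nat_lit 3, nat_lit 0, nat_lit 1, nat_lit 2, nat_lit 3, nat_lit 4, nat_lit 8, nat_lit 3, nat_lit 4, nat_lit 7, nat_lit 3, nat_lit 2, nat_lit 3, nat_lit 0, nat_lit 1], [nat_lit 5, nat_lit 0, nat_lit 17, nat_lit 33, nat_lit 27], (nat_lit 15197)),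 ((nat_lit 1726), [nat_lit 6, nat_lit 2, nat_lit 3, nat_lit 4, nat_lit 8, nat_lit 2, nat_lit 3, nat_lit 4, nat_lit 2, nat_lit 3, nat_lit 0, nat_lit 1], [nat_lit 17, nat_lit 2, nat_lit 0, nat_lit 35, nat_lit 32, nat_lit 27], (nat_lit 3371)), ((nat_lit 2138), [nat_lit 0, nat_lit 1, nat_lit 2, nat_lit 3, nat_lit 4, nat_lit 8, nat_lit 6, nat_lit 1, nat_lit 2, nat_lit 3, nat_lit 4, nat_lit 8, nat_lit 2, nat_lit 3, nat_lit 0, nat_lit 1], [nat_lit 24, nat_lit 2, nat_lit 15, nat_lit 35, nat_lit 26], (nat_lit 15436)), ((nat_lit 1891), [nat_lit 4, nat_lit 7, nat_lit 1, nat_lit 2, nat_lit 3, nat_lit 4, nat_lit 8, nat_lit 4, nat_lit 1, nat_lit 2, nat_lit 3, nat_lit 0, nat_lit 1], [nat_lit 26, nat_lit 24, nat_lit 0, nat_lit 25, nat_lit 36, nat_lit 15, nat_lit 26], (nat_lit 4742)), ((nat_lit 2281), [nat_lit 0, nat_lit 1, nat_lit 2, nat_lit 3, nat_lit 4, nat_lit 8, nat_lit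 3, nat_lit 4, nat_lit 1, nat_lit 2, nat_lit 3, nat_lit 0, nat_lit 1], [nat_lit 1, nat_lit 5, nat_lit 37, nat_lit 37, nat_lit 11, nat_lit 26], (nat_lit 4697)), ((nat_lit 1590), [nat_lit 6, nat_lit 3, nat_lit 4, nat_lit 7, nat_lit 4, nat_lit 2, nat_lit 3, nat_lit 0, nat_lit 1], [nat_lit 10, nat_lit 0, nat_lit 34, nat_lit 32, nat_lit 26], (nat_lit 719)), ((nat_lit 967), [nat_lit 0, nat_lit 1, nat_lit 2, nat_lit 3, nat_lit 4, nat_lit 8, nat_lit 1, nat_lit 2, nat_lit 3, nat_lit 4, nat_lit 2, nat_lit 3, nat_lit 0, nat_lit 1], [nat_lit 25, nat_lit 2, nat_lit 0, nat_lit 16, nat_lit 16, nat_lit 11, nat_lit 26], (nat_lit 8062)), ((nat_lit 2140), [nat_lit 2, nat_lit 3, nat_lit 4, nat_lit 8, nat_lit 2, nat_lit 3, nat_lit 4, nat_lit 7, nat_lit 2, nat_lit 3, nat_lit 0, nat_lit 1], [nat_lit 2, nat_lit 0, nat_lit 15, nat_lit 35, nat_lit 11, nat_lit 26], (nat_lit 3585)),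 ((nat_lit 2260), [nat_lit 6, nat_lit 2, nat_lit 3, nat_lit 4, nat_lit 8, nat_lit 1, nat_lit 2, nat_lit 3, nat_lit 4, nat_lit 7, nat_lit 2, nat_lit 3, nat_lit 0, nat_lit 1], [nat_lit 5, nat_lit 14, nat_lit 15, nat_lit 26], (nat_lit 8567)), ((nat_lit 1474), [nat_lit 5, nat_lit 0, nat_lit 1, nat_lit 2, nat_lit 3, nat_lit 4, nat_lit 8, nat_lit 1, nat_lit 2, nat_lit 3, nat_lit 4, nat_lit 7, nat_lit 2, nat_lit 3, nat_lit 0, nat_lit 1], [nat_lit 18, nat_lit 15, nat_lit 0, nat_lit 34, nat_lit 37, nat_lit 27], (nat_lit 15571))] m5_5_2 m5_5_3) = 0 := by decide +kernel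
theorem e5_5_4 : dt.run q (fun c => c.edges (SP THn.T THn.Rl (nat_lit 15)) (nat_lit 4429) THn.T.n (nat_lit 5) (nat_lit 5)
  [((nat_lit 2043), [nat_lit 8, nat_lit 4, nat_lit 8, nat_lit 3, nat_lit 4, nat_lit 7, nat_lit 0, nat_lit 1, nat_lit 2, nat_lit 3, nat_lit 4, nat_lit 2, nat_lit 3, nat_lit 0, nat_lit 1], [nat_lit 5, nat_lit 25, nat_lit 37, nat_lit 11], (nat_lit 11704)), ((nat_lit 916), [nat_lit 5, nat_lit 2, nat_lit 3, nat_lit 4, nat_lit 8, nat_lit 2, nat_lit 3, nat_lit 4, nat_lit 7, nat_lit 2, nat_lit 3, nat_lit 0, nat_lit 1], [nat_lit 16, nat_lit 2, nat_lit 35, nat_lit 32, nat_lit 11], (nat_lit 5643)), ((nat_lit 1385), [nat_lit 6, nat_lit 3, nat_lit 2, nat_lit 3, nat_lit 4, nat_lit 7, nat_lit 2, nat_lit 3, nat_lit 4, nat_lit 2, nat_lit 3, nat_lit 1], [nat_lit 5, nat_lit 37, nat_lit 34, nat_lit 11], (nat_lit 4094)), ((nat_lit 613), [nat_lit 7, nat_lit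 4, nat_lit 8, nat_lit 2, nat_lit 3, nat_lit 0, nat_lit 1, nat_lit 2, nat_lit 3, nat_lit 4, nat_lit 3, nat_lit 2, nat_lit 3, nat_lit 1], [nat_lit 16, nat_lit 0, nat_lit 33, nat_lit 33], (nat_lit 8690)), ((nat_lit 2076), [nat_lit 2, nat_lit 3, nat_lit 4, nat_lit 7, nat_lit 5, nat_lit 2, nat_lit 3, nat_lit 4, nat_lit 8, nat_lit 2, nat_lit 3, nat_lit 0, nat_lit 1], [nat_lit 18, nat_lit 15, nat_lit 0, nat_lit 34, nat_lit 32, nat_lit 16], (nat_lit 5532)), ((nat_lit 1364), [nat_lit 7, nat_lit 7, nat_lit 4, nat_lit 3, nat_lit 0, nat_lit 1, nat_lit 2, nat_lit 3, nat_lit 4, nat_lit 7, nat_lit 3, nat_lit 4, nat_lit 3, nat_lit 2, nat_lit 3, nat_lit 1], [nat_lit 5, nat_lit 36, nat_lit 25], (nat_lit 15912)), ((nat_lit 1248), [nat_lit 4, nat_lit 8, nat_lit 3, nat_lit 4, nat_lit 8, nat_lit 2, nat_lit 3, nat_lit 1, nat_lit 2, nat_lit 3, nat_lit 4, nat_lit 3, nat_lit 2,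 nat_lit 3, nat_lit 0, nat_lit 1], [nat_lit 15, nat_lit 1, nat_lit 11, nat_lit 16], (nat_lit 14798)), ((nat_lit 2075), [nat_lit 3, nat_lit 4, nat_lit 7, nat_lit 6, nat_lit 2, nat_lit 3, nat_lit 4, nat_lit 7, nat_lit 4, nat_lit 2, nat_lit 3, nat_lit 1], [nat_lit 1, nat_lit 24, nat_lit 24, nat_lit 11, nat_lit 26], (nat_lit 4273)), ((nat_lit 2193), [nat_lit 4, nat_lit 2, nat_lit 3, nat_lit 1, nat_lit 2, nat_lit 3, nat_lit 4, nat_lit 8, nat_lit 3, nat_lit 4, nat_lit 7, nat_lit 2, nat_lit 3, nat_lit 1], [nat_lit 10, nat_lit 0, nat_lit 26, nat_lit 15], (nat_lit 10883)), ((nat_lit 2045), [nat_lit 6, nat_lit 7, nat_lit 4, nat_lit 7, nat_lit 6, nat_lit 2, nat_lit 3, nat_lit 4, nat_lit 7, nat_lit 2, nat_lit 3, nat_lit 4, nat_lit 2, nat_lit 3, nat_lit 1], [nat_lit 25, nat_lit 14, nat_lit 0, nat_lit 33, nat_lit 15, nat_lit 27], (nat_lit 13893)), ((nat_lit 1477), [nat_lit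 7, nat_lit 5, nat_lit 3, nat_lit 4, nat_lit 7, nat_lit 2, nat_lit 3, nat_lit 0, nat_lit 1], [nat_lit 5, nat_lit 16, nat_lit 2, nat_lit 32, nat_lit 18, nat_lit 11, nat_lit 26], (nat_lit 746)), ((nat_lit 463), [nat_lit 2, nat_lit 3, nat_lit 4, nat_lit 8, nat_lit 5, nat_lit 2, nat_lit 3, nat_lit 4, nat_lit 8, nat_lit 2, nat_lit 3, nat_lit 0, nat_lit 1], [nat_lit 24, nat_lit 1, nat_lit 32, nat_lit 34], (nat_lit 5526)), ((nat_lit 538), [nat_lit 3, nat_lit 1, nat_lit 2, nat_lit 3, nat_lit 1, nat_lit 2, nat_lit 3, nat_lit 4, nat_lit 8, nat_lit 3, nat_lit 4, nat_lit 7, nat_lit 2, nat_lit 3, nat_lit 1], [nat_lit 11, nat_lit 5, nat_lit 2, nat_lit 11], (nat_lit 14679)), ((nat_lit 1939), [nat_lit 5, nat_lit 7, nat_lit 3, nat_lit 4, nat_lit 7, nat_lit 2, nat_lit 3, nat_lit 0, nat_lit 1], [nat_lit 1, nat_lit 14, nat_lit 37, nat_lit 34, nat_lit 25, nat_lit 26], (nat_lit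 752)), ((nat_lit 734), [nat_lit 0, nat_lit 1, nat_lit 2, nat_lit 3, nat_lit 4, nat_lit 8, nat_lit 0, nat_lit 1, nat_lit 2, nat_lit 3, nat_lit 4, nat_lit 7, nat_lit 2, nat_lit 3, nat_lit 1], [nat_lit 1, nat_lit 14, nat_lit 37, nat_lit 24, nat_lit 15, nat_lit 26], (nat_lit 14486)), ((nat_lit 1571), [nat_lit 8, nat_lit 4, nat_lit 7, nat_lit 1, nat_lit 2, nat_lit 3, nat_lit 4, nat_lit 7, nat_lit 2, nat_lit 3, nat_lit 1], [nat_lit 25, nat_lit 0, nat_lit 15, nat_lit 24, nat_lit 11], (nat_lit 2696)), ((nat_lit 1193), [nat_lit 8, nat_lit 3, nat_lit 2, nat_lit 3, nat_lit 1, nat_lit 2, nat_lit 3, nat_lit 4, nat_lit 7, nat_lit 4, nat_lit 3, nat_lit 2, nat_lit 3, nat_lit 1], [nat_lit 10, nat_lit 10, nat_lit 0, nat_lit 17, nat_lit 34, nat_lit 15], (nat_lit 9144)), ((nat_lit 418), [nat_lit 8, nat_lit 4, nat_lit 7, nat_lit 2, nat_lit 3, nat_lit 4, nat_lit 7, nat_lit 4,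 nat_lit 1, nat_lit 2, nat_lit 3, nat_lit 0, nat_lit 1], [nat_lit 5, nat_lit 14, nat_lit 32, nat_lit 35], (nat_lit 4775)), ((nat_lit 2317), [nat_lit 4, nat_lit 7, nat_lit 2, nat_lit 3, nat_lit 1, nat_lit 2, nat_lit 3, nat_lit 4, nat_lit 7, nat_lit 3, nat_lit 4, nat_lit 3, nat_lit 2, nat_lit 3, nat_lit 1], [nat_lit 24, nat_lit 16, nat_lit 0, nat_lit 32], (nat_lit 12759)), ((nat_lit 1010), [nat_lit 8, nat_lit 3, nat_lit 4, nat_lit 7, nat_lit 3, nat_lit 2, nat_lit 3, nat_lit 4, nat_lit 3, nat_lit 2, nat_lit 3, nat_lit 1], [nat_lit 25, nat_lit 1, nat_lit 16, nat_lit 25, nat_lit 26], (nat_lit 3699)), ((nat_lit 1319), [nat_lit 6, nat_lit 4, nat_lit 7, nat_lit 0, nat_lit 1, nat_lit 2, nat_lit 3, nat_lit 4, nat_lit 3, nat_lit 2, nat_lit 3, nat_lit 0, nat_lit 1], [nat_lit 25, nat_lit 1, nat_lit 36, nat_lit 11, nat_lit 27], (nat_lit 4934)), ((nat_lit 2145), [nat_lit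 8, nat_lit 5, nat_lit 4, nat_lit 2, nat_lit 3, nat_lit 0, nat_lit 1, nat_lit 2, nat_lit 3, nat_lit 4, nat_lit 8, nat_lit 4, nat_lit 3, nat_lit 2, nat_lit 3, nat_lit 1], [nat_lit 18, nat_lit 15, nat_lit 0, nat_lit 37, nat_lit 32, nat_lit 26], (nat_lit 15983)), ((nat_lit 2328), [nat_lit 1, nat_lit 2, nat_lit 3, nat_lit 4, nat_lit 7, nat_lit 4, nat_lit 3, nat_lit 2, nat_lit 3, nat_lit 0, nat_lit 1], [nat_lit 14, nat_lit 15, nat_lit 0, nat_lit 33, nat_lit 18, nat_lit 11, nat_lit 27], (nat_lit 1903)), ((nat_lit 841), [nat_lit 8, nat_lit 4, nat_lit 7, nat_lit 3, nat_lit 4, nat_lit 7, nat_lit 7, nat_lit 2, nat_lit 3, nat_lit 4, nat_lit 7, nat_lit 2, nat_lit 3, nat_lit 1], [nat_lit 1, nat_lit 37, nat_lit 37, nat_lit 16, nat_lit 26], (nat_lit 10877)), ((nat_lit 641), [nat_lit 7, nat_lit 4, nat_lit 8, nat_lit 1, nat_lit 2, nat_lit 3, nat_lit 4, nat_lit 2, nat_lit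 3, nat_lit 0, nat_lit 1], [nat_lit 15, nat_lit 5, nat_lit 27, nat_lit 18, nat_lit 11, nat_lit 26], (nat_lit 1988)), ((nat_lit 2304), [nat_lit 4, nat_lit 8, nat_lit 4, nat_lit 8, nat_lit 2, nat_lit 3, nat_lit 4, nat_lit 8, nat_lit 2, nat_lit 3, nat_lit 4, nat_lit 7, nat_lit 2, nat_lit 3, nat_lit 1], [nat_lit 10, nat_lit 0, nat_lit 35, nat_lit 17, nat_lit 16, nat_lit 27], (nat_lit 14612)), ((nat_lit 2268), [nat_lit 6, nat_lit 7, nat_lit 1, nat_lit 2, nat_lit 3, nat_lit 4, nat_lit 3, nat_lit 2, nat_lit 3, nat_lit 0, nat_lit 1], [nat_lit 14, nat_lit 25, nat_lit 37, nat_lit 15, nat_lit 27], (nat_lit 1858)), ((nat_lit 2241), [nat_lit 8, nat_lit 5, nat_lit 2, nat_lit 3, nat_lit 1, nat_lit 2, nat_lit 3, nat_lit 4, nat_lit 8, nat_lit 2, nat_lit 3, nat_lit 4, nat_lit 3, nat_lit 2, nat_lit 3, nat_lit 1], [nat_lit 33, nat_lit 15, nat_lit 27], (nat_lit 15817)), ((nat_lit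 2332), [nat_lit 7, nat_lit 4, nat_lit 8, nat_lit 0, nat_lit 1, nat_lit 2, nat_lit 3, nat_lit 4, nat_lit 8, nat_lit 4, nat_lit 2, nat_lit 3, nat_lit 0, nat_lit 1], [nat_lit 15, nat_lit 5, nat_lit 17, nat_lit 37, nat_lit 11, nat_lit 27], (nat_lit 8299)), ((nat_lit 1367), [nat_lit 2, nat_lit 3, nat_lit 4, nat_lit 8, nat_lit 4, nat_lit 3, nat_lit 2, nat_lit 3, nat_lit 1], [nat_lit 25, nat_lit 16, nat_lit 0, nat_lit 37, nat_lit 25, nat_lit 26], (nat_lit 779)), ((nat_lit 1370), [nat_lit 4, nat_lit 7, nat_lit 4, nat_lit 7, nat_lit 2, nat_lit 3, nat_lit 1, nat_lit 2, nat_lit 3, nat_lit 4, nat_lit 3, nat_lit 2, nat_lit 3, nat_lit 1], [nat_lit 1, nat_lit 36, nat_lit 24], (nat_lit 8774)), ((nat_lit 1678), [nat_lit 8, nat_lit 8, nat_lit 4, nat_lit 7, nat_lit 2, nat_lit 3, nat_lit 1, nat_lit 2, nat_lit 3, nat_lit 4, nat_lit 8, nat_lit 3, nat_lit 2, nat_lit 3, nat_lit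 1], [nat_lit 14, nat_lit 0, nat_lit 36, nat_lit 24, nat_lit 26], (nat_lit 13144)), ((nat_lit 2089), [nat_lit 7, nat_lit 6, nat_lit 4, nat_lit 8, nat_lit 3, nat_lit 1, nat_lit 2, nat_lit 3, nat_lit 0, nat_lit 1], [nat_lit 25, nat_lit 0, nat_lit 15, nat_lit 18, nat_lit 11, nat_lit 27], (nat_lit 990)), ((nat_lit 864), [nat_lit 8, nat_lit 4, nat_lit 3, nat_lit 2, nat_lit 3, nat_lit 4, nat_lit 8, nat_lit 4, nat_lit 3, nat_lit 2, nat_lit 3, nat_lit 0, nat_lit 1], [nat_lit 25, nat_lit 0, nat_lit 16, nat_lit 18, nat_lit 15, nat_lit 26], (nat_lit 5053)), ((nat_lit 2026), [nat_lit 8, nat_lit 4, nat_lit 8, nat_lit 3, nat_lit 2, nat_lit 3, nat_lit 1, nat_lit 2, nat_lit 3, nat_lit 4, nat_lit 7, nat_lit 3, nat_lit 2, nat_lit 3, nat_lit 1], [nat_lit 16, nat_lit 5, nat_lit 0, nat_lit 15, nat_lit 18, nat_lit 16, nat_lit 26], (nat_lit 13380)), ((nat_lit 694), [nat_lit 8,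 nat_lit 2, nat_lit 3, nat_lit 4, nat_lit 8, nat_lit 1, nat_lit 2, nat_lit 3, nat_lit 4, nat_lit 7, nat_lit 3, nat_lit 2, nat_lit 3, nat_lit 1], [nat_lit 33, nat_lit 27], (nat_lit 9565)), ((nat_lit 603), [nat_lit 7, nat_lit 7, nat_lit 4, nat_lit 7, nat_lit 3, nat_lit 0, nat_lit 1, nat_lit 2, nat_lit 3, nat_lit 4, nat_lit 3, nat_lit 2, nat_lit 3, nat_lit 1], [nat_lit 1, nat_lit 14, nat_lit 25, nat_lit 36, nat_lit 11, nat_lit 27], (nat_lit 8721)), ((nat_lit 1189), [nat_lit 7, nat_lit 3, nat_lit 4, nat_lit 7, nat_lit 1, nat_lit 2, nat_lit 3, nat_lit 4, nat_lit 3, nat_lit 2, nat_lit 3, nat_lit 1], [nat_lit 5, nat_lit 16, nat_lit 2, nat_lit 17, nat_lit 16], (nat_lit 3679)), ((nat_lit 2057), [nat_lit 7, nat_lit 4, nat_lit 3, nat_lit 2, nat_lit 3, nat_lit 0, nat_lit 1, nat_lit 2, nat_lit 3, nat_lit 4, nat_lit 7, nat_lit 4, nat_lit 3, nat_lit 2, nat_lit 3, nat_lit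 1], [nat_lit 5, nat_lit 16, nat_lit 2, nat_lit 18, nat_lit 36, nat_lit 11], (nat_lit 16022)), ((nat_lit 607), [nat_lit 6, nat_lit 7, nat_lit 4, nat_lit 7, nat_lit 3, nat_lit 1, nat_lit 2, nat_lit 3, nat_lit 0, nat_lit 1], [nat_lit 10, nat_lit 10, nat_lit 0, nat_lit 35, nat_lit 17, nat_lit 26], (nat_lit 1008)), ((nat_lit 2053), [nat_lit 7, nat_lit 4, nat_lit 7, nat_lit 4, nat_lit 3, nat_lit 1, nat_lit 2, nat_lit 3, nat_lit 0, nat_lit 1], [nat_lit 16, nat_lit 2, nat_lit 36, nat_lit 11, nat_lit 26], (nat_lit 984)), ((nat_lit 2315), [nat_lit 4, nat_lit 8, nat_lit 0, nat_lit 1, nat_lit 2, nat_lit 3, nat_lit 4, nat_lit 8, nat_lit 3, nat_lit 2, nat_lit 3, nat_lit 0, nat_lit 1], [nat_lit 2, nat_lit 0, nat_lit 15, nat_lit 35, nat_lit 26], (nat_lit 5097)), ((nat_lit 2093), [nat_lit 8, nat_lit 3, nat_lit 4, nat_lit 8, nat_lit 1, nat_lit 2, nat_lit 3, nat_lit 4, nat_lit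 7, nat_lit 2, nat_lit 3, nat_lit 1], [nat_lit 15, nat_lit 5, nat_lit 26, nat_lit 17, nat_lit 15], (nat_lit 4425)), ((nat_lit 631), [nat_lit 8, nat_lit 4, nat_lit 8, nat_lit 2, nat_lit 3, nat_lit 4, nat_lit 8, nat_lit 2, nat_lit 3, nat_lit 4, nat_lit 7, nat_lit 3, nat_lit 2, nat_lit 3, nat_lit 0, nat_lit 1], [nat_lit 14, nat_lit 17, nat_lit 15, nat_lit 26], (nat_lit 15180)), ((nat_lit 1588), [nat_lit 4, nat_lit 8, nat_lit 3, nat_lit 4, nat_lit 8, nat_lit 3, nat_lit 2, nat_lit 3, nat_lit 1], [nat_lit 16, nat_lit 5, nat_lit 2, nat_lit 36, nat_lit 18, nat_lit 15, nat_lit 26], (nat_lit 804)), ((nat_lit 406), [nat_lit 6, nat_lit 8, nat_lit 3, nat_lit 4, nat_lit 8, nat_lit 1, nat_lit 2, nat_lit 3, nat_lit 4, nat_lit 2, nat_lit 3, nat_lit 1], [nat_lit 10, nat_lit 10, nat_lit 0, nat_lit 32], (nat_lit 4033)), ((nat_lit 477), [nat_lit 8, nat_lit 8, nat_lit 3, nat_lit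 4, nat_lit 8, nat_lit 3, nat_lit 2, nat_lit 3, nat_lit 1], [nat_lit 24, nat_lit 16, nat_lit 0, nat_lit 34, nat_lit 17, nat_lit 33], (nat_lit 806)), ((nat_lit 2085), [nat_lit 7, nat_lit 1, nat_lit 2, nat_lit 3, nat_lit 4, nat_lit 8, nat_lit 3, nat_lit 2, nat_lit 3, nat_lit 0, nat_lit 1], [nat_lit 2, nat_lit 0, nat_lit 32, nat_lit 11], (nat_lit 1919)), ((nat_lit 1013), [nat_lit 7, nat_lit 5, nat_lit 4, nat_lit 8, nat_lit 2, nat_lit 3, nat_lit 1, nat_lit 2, nat_lit 3, nat_lit 4, nat_lit 8, nat_lit 3, nat_lit 2, nat_lit 3, nat_lit 0, nat_lit 1], [nat_lit 16, nat_lit 5, nat_lit 0, nat_lit 32, nat_lit 24, nat_lit 11], (nat_lit 15016)), ((nat_lit 726), [nat_lit 8, nat_lit 4, nat_lit 8, nat_lit 6, nat_lit 2, nat_lit 3, nat_lit 1, nat_lit 2, nat_lit 3, nat_lit 4, nat_lit 7, nat_lit 4, nat_lit 3, nat_lit 2, nat_lit 3, nat_lit 1], [nat_lit 24, nat_lit 16, nat_lit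 0, nat_lit 24, nat_lit 15], (nat_lit 16079)), ((nat_lit 1638), [nat_lit 3, nat_lit 4, nat_lit 8, nat_lit 2, nat_lit 3, nat_lit 4, nat_lit 7, nat_lit 1, nat_lit 2, nat_lit 3, nat_lit 4, nat_lit 7, nat_lit 3, nat_lit 2, nat_lit 3, nat_lit 0, nat_lit 1], [nat_lit 15, nat_lit 2, nat_lit 17, nat_lit 15, nat_lit 27], (nat_lit 16971)), ((nat_lit 809), [nat_lit 7, nat_lit 4, nat_lit 7, nat_lit 2, nat_lit 3, nat_lit 0, nat_lit 1, nat_lit 2, nat_lit 3, nat_lit 4, nat_lit 7, nat_lit 4, nat_lit 3, nat_lit 2, nat_lit 3, nat_lit 1], [nat_lit 24, nat_lit 2, nat_lit 32, nat_lit 18, nat_lit 27], (nat_lit 16038)), ((nat_lit 1737), [nat_lit 4, nat_lit 8, nat_lit 4, nat_lit 8, nat_lit 2, nat_lit 3, nat_lit 1, nat_lit 2, nat_lit 3, nat_lit 4, nat_lit 8, nat_lit 3, nat_lit 2, nat_lit 3, nat_lit 0, nat_lit 1], [nat_lit 10, nat_lit 0, nat_lit 35], (nat_lit 15017)), ((nat_lit 1878),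 [nat_lit 8, nat_lit 3, nat_lit 4, nat_lit 7, nat_lit 2, nat_lit 3, nat_lit 1, nat_lit 2, nat_lit 3, nat_lit 4, nat_lit 7, nat_lit 4, nat_lit 3, nat_lit 2, nat_lit 3, nat_lit 1], [nat_lit 24, nat_lit 2, nat_lit 0, nat_lit 16, nat_lit 25, nat_lit 27], (nat_lit 16085)), ((nat_lit 1204), [nat_lit 7, nat_lit 4, nat_lit 7, nat_lit 6, nat_lit 3, nat_lit 0, nat_lit 1, nat_lit 2, nat_lit 3, nat_lit 4, nat_lit 8, nat_lit 3, nat_lit 2, nat_lit 3, nat_lit 1], [nat_lit 24, nat_lit 1, nat_lit 32, nat_lit 16], (nat_lit 13044)), ((nat_lit 1220), [nat_lit 4, nat_lit 8, nat_lit 8, nat_lit 3, nat_lit 1, nat_lit 2, nat_lit 3, nat_lit 4, nat_lit 7, nat_lit 2, nat_lit 3, nat_lit 4, nat_lit 8, nat_lit 2, nat_lit 3, nat_lit 1], [nat_lit 0, nat_lit 2, nat_lit 16, nat_lit 37, nat_lit 26], (nat_lit 16737)), ((nat_lit 979), [nat_lit 4, nat_lit 8, nat_lit 8, nat_lit 3, nat_lit 4, nat_lit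 8, nat_lit 0, nat_lit 1, nat_lit 2, nat_lit 3, nat_lit 4, nat_lit 7, nat_lit 2, nat_lit 3, nat_lit 1], [nat_lit 17, nat_lit 2, nat_lit 0, nat_lit 37, nat_lit 25], (nat_lit 14494)), ((nat_lit 1680), [nat_lit 8, nat_lit 8, nat_lit 4, nat_lit 7, nat_lit 2, nat_lit 3, nat_lit 1, nat_lit 2, nat_lit 3, nat_lit 4, nat_lit 7, nat_lit 3, nat_lit 2, nat_lit 3, nat_lit 1], [nat_lit 1, nat_lit 5, nat_lit 34, nat_lit 17, nat_lit 26], (nat_lit 13413)), ((nat_lit 2340), [nat_lit 4, nat_lit 8, nat_lit 2, nat_lit 3, nat_lit 4, nat_lit 1, nat_lit 2, nat_lit 3, nat_lit 0, nat_lit 1], [nat_lit 14, nat_lit 0, nat_lit 37, nat_lit 32, nat_lit 27], (nat_lit 1017)), ((nat_lit 1256), [nat_lit 4, nat_lit 7, nat_lit 2, nat_lit 3, nat_lit 4, nat_lit 1, nat_lit 2, nat_lit 3, nat_lit 0, nat_lit 1], [nat_lit 5, nat_lit 34, nat_lit 34, nat_lit 15], (nat_lit 1020)), ((nat_lit 1116), [nat_lit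 6, nat_lit 4, nat_lit 8, nat_lit 3, nat_lit 4, nat_lit 1, nat_lit 2, nat_lit 3, nat_lit 0, nat_lit 1], [nat_lit 26, nat_lit 2, nat_lit 0, nat_lit 15, nat_lit 27, nat_lit 16, nat_lit 27], (nat_lit 1024)), ((nat_lit 1295), [nat_lit 8, nat_lit 4, nat_lit 7, nat_lit 5, nat_lit 3, nat_lit 2, nat_lit 3, nat_lit 4, nat_lit 8, nat_lit 3, nat_lit 2, nat_lit 3, nat_lit 1], [nat_lit 5, nat_lit 14, nat_lit 27, nat_lit 24], (nat_lit 6105)), ((nat_lit 2103), [nat_lit 6, nat_lit 7, nat_lit 1, nat_lit 2, nat_lit 3, nat_lit 4, nat_lit 2, nat_lit 3, nat_lit 1], [nat_lit 15, nat_lit 2, nat_lit 32, nat_lit 37, nat_lit 15], (nat_lit 833)), ((nat_lit 1450), [nat_lit 5, nat_lit 1, nat_lit 2, nat_lit 3, nat_lit 4, nat_lit 8, nat_lit 4, nat_lit 2, nat_lit 3, nat_lit 1], [nat_lit 2, nat_lit 0, nat_lit 37, nat_lit 34, nat_lit 24], (nat_lit 1475)), ((nat_lit 2216), [nat_lit 6, nat_lit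 8, nat_lit 0, nat_lit 1, nat_lit 2, nat_lit 3, nat_lit 4, nat_lit 2, nat_lit 3, nat_lit 0, nat_lit 1], [nat_lit 24, nat_lit 0, nat_lit 34, nat_lit 11, nat_lit 17, nat_lit 27], (nat_lit 1979)), ((nat_lit 2166), [nat_lit 5, nat_lit 3, nat_lit 0, nat_lit 1, nat_lit 2, nat_lit 3, nat_lit 4, nat_lit 8, nat_lit 4, nat_lit 2, nat_lit 3, nat_lit 1], [nat_lit 26, nat_lit 24, nat_lit 0, nat_lit 17, nat_lit 11], (nat_lit 4210)), ((nat_lit 2364), [nat_lit 7, nat_lit 3, nat_lit 4, nat_lit 7, nat_lit 5, nat_lit 2, nat_lit 3, nat_lit 4, nat_lit 7, nat_lit 2, nat_lit 3, nat_lit 0, nat_lit 1], [nat_lit 5, nat_lit 2, nat_lit 33, nat_lit 18, nat_lit 11, nat_lit 26], (nat_lit 5640)), ((nat_lit 2366), [nat_lit 4, nat_lit 7, nat_lit 3, nat_lit 2, nat_lit 3, nat_lit 4, nat_lit 8, nat_lit 3, nat_lit 4, nat_lit 3, nat_lit 2, nat_lit 3, nat_lit 0, nat_lit 1], [nat_lit 1, nat_lit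 5, nat_lit 24, nat_lit 37, nat_lit 15], (nat_lit 7671)), ((nat_lit 1918), [nat_lit 6, nat_lit 7, nat_lit 0, nat_lit 1, nat_lit 2, nat_lit 3, nat_lit 4, nat_lit 2, nat_lit 3, nat_lit 0, nat_lit 1], [nat_lit 5, nat_lit 16, nat_lit 2, nat_lit 36, nat_lit 24, nat_lit 27], (nat_lit 1982)), ((nat_lit 633), [nat_lit 8, nat_lit 6, nat_lit 0, nat_lit 1, nat_lit 2, nat_lit 3, nat_lit 4, nat_lit 8, nat_lit 2, nat_lit 3, nat_lit 0, nat_lit 1], [nat_lit 15, nat_lit 1, nat_lit 37, nat_lit 34, nat_lit 11], (nat_lit 3482)), ((nat_lit 1845), [nat_lit 4, nat_lit 8, nat_lit 2, nat_lit 3, nat_lit 4, nat_lit 7, nat_lit 1, nat_lit 2, nat_lit 3, nat_lit 4, nat_lit 2, nat_lit 3, nat_lit 0, nat_lit 1], [nat_lit 26, nat_lit 2, nat_lit 35, nat_lit 36, nat_lit 11, nat_lit 26], (nat_lit 8096)), ((nat_lit 1196), [nat_lit 8, nat_lit 4, nat_lit 7, nat_lit 3, nat_lit 2, nat_lit 3, nat_lit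 4, nat_lit 7, nat_lit 3, nat_lit 4, nat_lit 8, nat_lit 3, nat_lit 2, nat_lit 3, nat_lit 1], [nat_lit 5, nat_lit 2, nat_lit 15], (nat_lit 13301)), ((nat_lit 1827), [nat_lit 0, nat_lit 1, nat_lit 2, nat_lit 3, nat_lit 4, nat_lit 8, nat_lit 4, nat_lit 2, nat_lit 3, nat_lit 0, nat_lit 1], [nat_lit 24, nat_lit 16, nat_lit 0, nat_lit 33, nat_lit 33], (nat_lit 2052)), ((nat_lit 1794), [nat_lit 5, nat_lit 3, nat_lit 4, nat_lit 7, nat_lit 3, nat_lit 4, nat_lit 2, nat_lit 3, nat_lit 1], [nat_lit 14, nat_lit 15, nat_lit 0, nat_lit 24, nat_lit 18, nat_lit 27], (nat_lit 860)), ((nat_lit 2298), [nat_lit 4, nat_lit 8, nat_lit 1, nat_lit 2, nat_lit 3, nat_lit 4, nat_lit 8, nat_lit 2, nat_lit 3, nat_lit 4, nat_lit 3, nat_lit 2, nat_lit 3, nat_lit 1], [nat_lit 5, nat_lit 2, nat_lit 0, nat_lit 25, nat_lit 37, nat_lit 15, nat_lit 27], (nat_lit 8876)), ((nat_lit 1245), [nat_lit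 4, nat_lit 7, nat_lit 1, nat_lit 2, nat_lit 3, nat_lit 4, nat_lit 8, nat_lit 3, nat_lit 4, nat_lit 2, nat_lit 3, nat_lit 0, nat_lit 1], [nat_lit 1, nat_lit 1, nat_lit 27, nat_lit 24, nat_lit 15], (nat_lit 5381)), ((nat_lit 2348), [nat_lit 8, nat_lit 4, nat_lit 7, nat_lit 5, nat_lit 2, nat_lit 3, nat_lit 4, nat_lit 8, nat_lit 4, nat_lit 2, nat_lit 3, nat_lit 1], [nat_lit 15, nat_lit 1, nat_lit 37, nat_lit 34, nat_lit 11, nat_lit 26], (nat_lit 4235)), ((nat_lit 767), [nat_lit 3, nat_lit 4, nat_lit 7, nat_lit 5, nat_lit 0, nat_lit 1, nat_lit 2, nat_lit 3, nat_lit 4, nat_lit 8, nat_lit 3, nat_lit 1, nat_lit 2, nat_lit 3, nat_lit 0, nat_lit 1], [nat_lit 5, nat_lit 16, nat_lit 2, nat_lit 37, nat_lit 34, nat_lit 24, nat_lit 26], (nat_lit 14709)), ((nat_lit 1546), [nat_lit 8, nat_lit 4, nat_lit 8, nat_lit 0, nat_lit 1, nat_lit 2, nat_lit 3, nat_lit 4, nat_lit 7,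 nat_lit 2, nat_lit 3, nat_lit 0, nat_lit 1], [nat_lit 24, nat_lit 2, nat_lit 0, nat_lit 36, nat_lit 33, nat_lit 24], (nat_lit 5586)), ((nat_lit 1694), [nat_lit 6, nat_lit 3, nat_lit 4, nat_lit 8, nat_lit 2, nat_lit 3, nat_lit 4, nat_lit 8, nat_lit 2, nat_lit 3, nat_lit 4, nat_lit 2, nat_lit 3, nat_lit 0, nat_lit 1], [nat_lit 1, nat_lit 1, nat_lit 17, nat_lit 37, nat_lit 26], (nat_lit 11814)), ((nat_lit 2235), [nat_lit 8, nat_lit 6, nat_lit 4, nat_lit 7, nat_lit 1, nat_lit 2, nat_lit 3, nat_lit 4, nat_lit 3, nat_lit 2, nat_lit 3, nat_lit 0, nat_lit 1], [nat_lit 1, nat_lit 1, nat_lit 27, nat_lit 24, nat_lit 11], (nat_lit 4967)), ((nat_lit 850), [nat_lit 6, nat_lit 1, nat_lit 2, nat_lit 3, nat_lit 4, nat_lit 7, nat_lit 1, nat_lit 2, nat_lit 3, nat_lit 4, nat_lit 8, nat_lit 3, nat_lit 2, nat_lit 3, nat_lit 0, nat_lit 1], [nat_lit 17, nat_lit 24, nat_lit 0,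 nat_lit 15, nat_lit 15], (nat_lit 15040)), ((nat_lit 1179), [nat_lit 8, nat_lit 5, nat_lit 4, nat_lit 7, nat_lit 1, nat_lit 2, nat_lit 3, nat_lit 4, nat_lit 2, nat_lit 3, nat_lit 0, nat_lit 1], [nat_lit 11, nat_lit 5, nat_lit 2, nat_lit 17, nat_lit 36, nat_lit 15], (nat_lit 3363)), ((nat_lit 1815), [nat_lit 7, nat_lit 4, nat_lit 7, nat_lit 3, nat_lit 4, nat_lit 8, nat_lit 2, nat_lit 3, nat_lit 1, nat_lit 2, nat_lit 3, nat_lit 4, nat_lit 3, nat_lit 2, nat_lit 3, nat_lit 1], [nat_lit 26, nat_lit 2, nat_lit 0, nat_lit 17, nat_lit 33, nat_lit 27], (nat_lit 15743)), ((nat_lit 1499), [nat_lit 8, nat_lit 5, nat_lit 4, nat_lit 7, nat_lit 3, nat_lit 4, nat_lit 2, nat_lit 3, nat_lit 1], [nat_lit 26, nat_lit 2, nat_lit 0, nat_lit 25, nat_lit 16, nat_lit 16, nat_lit 26], (nat_lit 864)), ((nat_lit 2374), [nat_lit 5, nat_lit 8, nat_lit 4, nat_lit 7, nat_lit 3, nat_lit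 4, nat_lit 2, nat_lit 3, nat_lit 1], [nat_lit 15, nat_lit 0, nat_lit 18, nat_lit 36, nat_lit 26], (nat_lit 865)), ((nat_lit 1132), [nat_lit 8, nat_lit 4, nat_lit 8, nat_lit 3, nat_lit 4, nat_lit 8, nat_lit 0, nat_lit 1, nat_lit 2, nat_lit 3, nat_lit 4, nat_lit 3, nat_lit 2, nat_lit 3, nat_lit 1], [nat_lit 26, nat_lit 2, nat_lit 18, nat_lit 35], (nat_lit 12451)), ((nat_lit 2376), [nat_lit 8, nat_lit 4, nat_lit 7, nat_lit 7, nat_lit 2, nat_lit 3, nat_lit 4, nat_lit 7, nat_lit 2, nat_lit 3, nat_lit 0, nat_lit 1], [nat_lit 17, nat_lit 24, nat_lit 0, nat_lit 37, nat_lit 17], (nat_lit 3614))] m5_5_3 m5_5_4) = 0 := by decide +kernel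
theorem e5_5_5 : dt.run q (fun c => c.edges (SP THn.T THn.Rl (nat_lit 15)) (nat_lit 4429) THn.T.n (nat_lit 5) (nat_lit 5)
  [((nat_lit 1681), [nat_lit 8, nat_lit 5, nat_lit 4, nat_lit 8, nat_lit 1, nat_lit 2, nat_lit 3, nat_lit 4, nat_lit 2, nat_lit 3, nat_lit 0, nat_lit 1], [nat_lit 24, nat_lit 16, nat_lit 0, nat_lit 34, nat_lit 37, nat_lit 11, nat_lit 26], (nat_lit 3350)), ((nat_lit 2345), [nat_lit 8, nat_lit 6, nat_lit 4, nat_lit 7, nat_lit 1, nat_lit 2, nat_lit 3, nat_lit 4, nat_lit 2, nat_lit 3, nat_lit 0, nat_lit 1], [nat_lit 26, nat_lit 24, nat_lit 0, nat_lit 25, nat_lit 16, nat_lit 16, nat_lit 27], (nat_lit 3362)), ((nat_lit 1352), [nat_lit 0, nat_lit 1, nat_lit 2, nat_lit 3, nat_lit 4, nat_lit 7, nat_lit 2, nat_lit 3, nat_lit 4, nat_lit 2, nat_lit 3, nat_lit 0, nat_lit 1], [nat_lit 1, nat_lit 5, nat_lit 34, nat_lit 11, nat_lit 17, nat_lit 27],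 (nat_lit 5338)), ((nat_lit 1494), [nat_lit 6, nat_lit 0, nat_lit 1, nat_lit 2, nat_lit 3, nat_lit 4, nat_lit 7, nat_lit 0, nat_lit 1, nat_lit 2, nat_lit 3, nat_lit 4, nat_lit 2, nat_lit 3, nat_lit 0, nat_lit 1], [nat_lit 5, nat_lit 0, nat_lit 35, nat_lit 33, nat_lit 26], (nat_lit 15222)), ((nat_lit 1712), [nat_lit 5, nat_lit 2, nat_lit 3, nat_lit 4, nat_lit 8, nat_lit 2, nat_lit 3, nat_lit 4, nat_lit 2, nat_lit 3, nat_lit 1], [nat_lit 11, nat_lit 5, nat_lit 2, nat_lit 15, nat_lit 17, nat_lit 11, nat_lit 26], (nat_lit 2463)), ((nat_lit 2059), [nat_lit 8, nat_lit 4, nat_lit 8, nat_lit 3, nat_lit 4, nat_lit 7, nat_lit 0, nat_lit 1, nat_lit 2, nat_lit 3, nat_lit 4, nat_lit 8, nat_lit 2, nat_lit 3, nat_lit 1], [nat_lit 14, nat_lit 0, nat_lit 35, nat_lit 35, nat_lit 27], (nat_lit 14278)), ((nat_lit 1544), [nat_lit 6, nat_lit 7, nat_lit 3, nat_lit 4, nat_lit 7,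 nat_lit 3, nat_lit 1, nat_lit 2, nat_lit 3, nat_lit 4, nat_lit 8, nat_lit 3, nat_lit 2, nat_lit 3, nat_lit 1], [nat_lit 5, nat_lit 0, nat_lit 16, nat_lit 32, nat_lit 15], (nat_lit 13171)), ((nat_lit 481), [nat_lit 1, nat_lit 2, nat_lit 3, nat_lit 4, nat_lit 8, nat_lit 4, nat_lit 8, nat_lit 2, nat_lit 3, nat_lit 0, nat_lit 1], [nat_lit 1, nat_lit 24, nat_lit 0, nat_lit 16, nat_lit 16, nat_lit 11, nat_lit 26], (nat_lit 2135)), ((nat_lit 1335), [nat_lit 7, nat_lit 1, nat_lit 2, nat_lit 3, nat_lit 4, nat_lit 8, nat_lit 4, nat_lit 2, nat_lit 3, nat_lit 0, nat_lit 1], [nat_lit 14, nat_lit 15, nat_lit 0, nat_lit 17, nat_lit 37, nat_lit 11, nat_lit 26], (nat_lit 2056)), ((nat_lit 1633), [nat_lit 1, nat_lit 2, nat_lit 3, nat_lit 4, nat_lit 7, nat_lit 0, nat_lit 1, nat_lit 2, nat_lit 3, nat_lit 4, nat_lit 8, nat_lit 4, nat_lit 2, nat_lit 3, nat_lit 1], [nat_lit 25,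 nat_lit 14, nat_lit 0, nat_lit 24, nat_lit 37, nat_lit 11], (nat_lit 14197)), ((nat_lit 1616), [nat_lit 4, nat_lit 2, nat_lit 3, nat_lit 0, nat_lit 1, nat_lit 2, nat_lit 3, nat_lit 4, nat_lit 7, nat_lit 4, nat_lit 2, nat_lit 3, nat_lit 1], [nat_lit 17, nat_lit 24, nat_lit 0, nat_lit 15, nat_lit 32, nat_lit 26], (nat_lit 6791)), ((nat_lit 1933), [nat_lit 6, nat_lit 0, nat_lit 1, nat_lit 2, nat_lit 3, nat_lit 4, nat_lit 8, nat_lit 0, nat_lit 1, nat_lit 2, nat_lit 3, nat_lit 4, nat_lit 2, nat_lit 3, nat_lit 0, nat_lit 1], [nat_lit 25, nat_lit 16, nat_lit 0, nat_lit 17, nat_lit 34, nat_lit 11, nat_lit 27], (nat_lit 15208)), ((nat_lit 1216), [nat_lit 5, nat_lit 0, nat_lit 1, nat_lit 2, nat_lit 3, nat_lit 4, nat_lit 8, nat_lit 3, nat_lit 4, nat_lit 2, nat_lit 3, nat_lit 0, nat_lit 1], [nat_lit 14, nat_lit 15, nat_lit 0, nat_lit 11, nat_lit 37, nat_lit 26], (nat_lit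 5367)), ((nat_lit 1288), [nat_lit 3, nat_lit 0, nat_lit 1, nat_lit 2, nat_lit 3, nat_lit 4, nat_lit 8, nat_lit 3, nat_lit 4, nat_lit 7, nat_lit 2, nat_lit 3, nat_lit 0, nat_lit 1], [nat_lit 17, nat_lit 2, nat_lit 0, nat_lit 34, nat_lit 32, nat_lit 26], (nat_lit 8675)), ((nat_lit 2063), [nat_lit 1, nat_lit 2, nat_lit 3, nat_lit 4, nat_lit 8, nat_lit 2, nat_lit 3, nat_lit 4, nat_lit 7, nat_lit 2, nat_lit 3, nat_lit 0, nat_lit 1], [nat_lit 18, nat_lit 15, nat_lit 0, nat_lit 33, nat_lit 34], (nat_lit 5641)), ((nat_lit 975), [nat_lit 6, nat_lit 7, nat_lit 4, nat_lit 8, nat_lit 3, nat_lit 0, nat_lit 1, nat_lit 2, nat_lit 3, nat_lit 4, nat_lit 7, nat_lit 3, nat_lit 2, nat_lit 3, nat_lit 1], [nat_lit 25, nat_lit 2, nat_lit 0, nat_lit 33, nat_lit 18, nat_lit 27], (nat_lit 13333)), ((nat_lit 395), [nat_lit 8, nat_lit 1, nat_lit 2, nat_lit 3, nat_lit 4, nat_lit 8,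 nat_lit 4, nat_lit 2, nat_lit 3, nat_lit 1], [nat_lit 18, nat_lit 35], (nat_lit 1476)), ((nat_lit 2068), [nat_lit 6, nat_lit 7, nat_lit 4, nat_lit 7, nat_lit 1, nat_lit 2, nat_lit 3, nat_lit 2, nat_lit 3, nat_lit 4, nat_lit 8, nat_lit 3, nat_lit 4, nat_lit 2, nat_lit 3, nat_lit 1], [nat_lit 5, nat_lit 25, nat_lit 37, nat_lit 11, nat_lit 26], (nat_lit 16605)), ((nat_lit 2200), [nat_lit 4, nat_lit 7, nat_lit 5, nat_lit 0, nat_lit 1, nat_lit 2, nat_lit 3, nat_lit 4, nat_lit 8, nat_lit 2, nat_lit 3, nat_lit 0, nat_lit 1], [nat_lit 10, nat_lit 0, nat_lit 34, nat_lit 17, nat_lit 33], (nat_lit 5471)), ((nat_lit 1142), [nat_lit 6, nat_lit 4, nat_lit 8, nat_lit 0, nat_lit 1, nat_lit 2, nat_lit 3, nat_lit 4, nat_lit 8, nat_lit 2, nat_lit 3, nat_lit 0, nat_lit 1], [nat_lit 24, nat_lit 15, nat_lit 0, nat_lit 18, nat_lit 11, nat_lit 15, nat_lit 27], (nat_lit 5473)),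 ((nat_lit 2224), [nat_lit 6, nat_lit 7, nat_lit 2, nat_lit 3, nat_lit 4, nat_lit 8, nat_lit 2, nat_lit 3, nat_lit 1], [nat_lit 24, nat_lit 16, nat_lit 0, nat_lit 25, nat_lit 16, nat_lit 26], (nat_lit 904)), ((nat_lit 539), [nat_lit 5, nat_lit 7, nat_lit 2, nat_lit 3, nat_lit 4, nat_lit 8, nat_lit 2, nat_lit 3, nat_lit 1], [nat_lit 16, nat_lit 5, nat_lit 2, nat_lit 33, nat_lit 34, nat_lit 27], (nat_lit 905)), ((nat_lit 1333), [nat_lit 8, nat_lit 5, nat_lit 1, nat_lit 2, nat_lit 3, nat_lit 4, nat_lit 8, nat_lit 2, nat_lit 3, nat_lit 0, nat_lit 1], [nat_lit 10, nat_lit 10, nat_lit 0, nat_lit 35, nat_lit 36, nat_lit 11], (nat_lit 2083)), ((nat_lit 1303), [nat_lit 3, nat_lit 4, nat_lit 8, nat_lit 2, nat_lit 3, nat_lit 4, nat_lit 8, nat_lit 2, nat_lit 3, nat_lit 4, nat_lit 8, nat_lit 2, nat_lit 3, nat_lit 0, nat_lit 1], [nat_lit 5], (nat_lit 12128)), ((nat_lit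 645), [nat_lit 1, nat_lit 2, nat_lit 3, nat_lit 4, nat_lit 7, nat_lit 1, nat_lit 2, nat_lit 3, nat_lit 4, nat_lit 3, nat_lit 2, nat_lit 3, nat_lit 0, nat_lit 1], [nat_lit 10, nat_lit 10, nat_lit 0, nat_lit 34, nat_lit 24, nat_lit 15, nat_lit 26], (nat_lit 7602)), ((nat_lit 384), [nat_lit 5, nat_lit 8, nat_lit 1, nat_lit 2, nat_lit 3, nat_lit 4, nat_lit 7, nat_lit 2, nat_lit 3, nat_lit 0, nat_lit 1], [nat_lit 26, nat_lit 2, nat_lit 33, nat_lit 34, nat_lit 26], (nat_lit 2144)), ((nat_lit 2101), [nat_lit 1, nat_lit 2, nat_lit 3, nat_lit 4, nat_lit 7, nat_lit 4, nat_lit 7, nat_lit 2, nat_lit 3, nat_lit 1], [nat_lit 24, nat_lit 2, nat_lit 0, nat_lit 37, nat_lit 34, nat_lit 25], (nat_lit 1619)), ((nat_lit 1049), [nat_lit 8, nat_lit 4, nat_lit 8, nat_lit 8, nat_lit 1, nat_lit 2, nat_lit 3, nat_lit 4, nat_lit 7, nat_lit 1, nat_lit 2, nat_lit 3, nat_lit 4, nat_lit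 2, nat_lit 3, nat_lit 1], [nat_lit 11, nat_lit 5, nat_lit 2, nat_lit 18, nat_lit 35, nat_lit 15, nat_lit 26], (nat_lit 16448)), ((nat_lit 2204), [nat_lit 8, nat_lit 4, nat_lit 8, nat_lit 2, nat_lit 3, nat_lit 4, nat_lit 7, nat_lit 2, nat_lit 3, nat_lit 4, nat_lit 2, nat_lit 3, nat_lit 1], [nat_lit 25, nat_lit 2, nat_lit 0, nat_lit 34, nat_lit 15, nat_lit 11, nat_lit 26], (nat_lit 6533)), ((nat_lit 1440), [nat_lit 2, nat_lit 3, nat_lit 4, nat_lit 7, nat_lit 2, nat_lit 3, nat_lit 4, nat_lit 8, nat_lit 4, nat_lit 2, nat_lit 3, nat_lit 1], [nat_lit 2, nat_lit 0, nat_lit 18, nat_lit 11, nat_lit 15, nat_lit 26], (nat_lit 4243)), ((nat_lit 1537), [nat_lit 3, nat_lit 0, nat_lit 1, nat_lit 2, nat_lit 3, nat_lit 4, nat_lit 7, nat_lit 4, nat_lit 7, nat_lit 2, nat_lit 3, nat_lit 1], [nat_lit 25, nat_lit 14, nat_lit 0, nat_lit 32, nat_lit 24, nat_lit 27], (nat_lit 4509)),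 ((nat_lit 2105), [nat_lit 5, nat_lit 7, nat_lit 2, nat_lit 3, nat_lit 4, nat_lit 7, nat_lit 2, nat_lit 3, nat_lit 1], [nat_lit 25, nat_lit 16, nat_lit 0, nat_lit 37, nat_lit 32, nat_lit 27], (nat_lit 931)), ((nat_lit 987), [nat_lit 4, nat_lit 7, nat_lit 7, nat_lit 0, nat_lit 1, nat_lit 2, nat_lit 3, nat_lit 4, nat_lit 7, nat_lit 2, nat_lit 3, nat_lit 0, nat_lit 1], [nat_lit 1, nat_lit 14, nat_lit 16, nat_lit 18, nat_lit 15, nat_lit 26], (nat_lit 5593)), ((nat_lit 1547), [nat_lit 4, nat_lit 7, nat_lit 6, nat_lit 3, nat_lit 4, nat_lit 7, nat_lit 2, nat_lit 3, nat_lit 1], [nat_lit 1, nat_lit 14, nat_lit 34, nat_lit 17, nat_lit 11, nat_lit 27], (nat_lit 933)), ((nat_lit 2212), [nat_lit 3, nat_lit 4, nat_lit 8, nat_lit 2, nat_lit 3, nat_lit 4, nat_lit 8, nat_lit 2, nat_lit 3, nat_lit 4, nat_lit 7, nat_lit 2, nat_lit 3, nat_lit 0, nat_lit 1], [nat_lit 25, nat_lit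 14, nat_lit 0, nat_lit 32, nat_lit 24], (nat_lit 12327)), ((nat_lit 1009), [nat_lit 4, nat_lit 7, nat_lit 3, nat_lit 4, nat_lit 8, nat_lit 2, nat_lit 3, nat_lit 4, nat_lit 8, nat_lit 4, nat_lit 3, nat_lit 2, nat_lit 3, nat_lit 1], [nat_lit 17, nat_lit 24, nat_lit 0, nat_lit 18, nat_lit 15], (nat_lit 9112)), ((nat_lit 2109), [nat_lit 4, nat_lit 8, nat_lit 8, nat_lit 3, nat_lit 4, nat_lit 7, nat_lit 2, nat_lit 3, nat_lit 1], [nat_lit 14, nat_lit 15, nat_lit 0, nat_lit 32, nat_lit 32, nat_lit 27], (nat_lit 940)), ((nat_lit 899), [nat_lit 2, nat_lit 3, nat_lit 4, nat_lit 7, nat_lit 4, nat_lit 7, nat_lit 2, nat_lit 3, nat_lit 1], [nat_lit 25, nat_lit 16, nat_lit 0, nat_lit 34, nat_lit 15, nat_lit 11], (nat_lit 945)), ((nat_lit 1357), [nat_lit 4, nat_lit 3, nat_lit 0, nat_lit 1, nat_lit 2, nat_lit 3, nat_lit 4, nat_lit 8, nat_lit 4, nat_lit 2, nat_lit 3, nat_lit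 1], [nat_lit 10, nat_lit 10, nat_lit 0, nat_lit 15, nat_lit 35, nat_lit 11], (nat_lit 4209)), ((nat_lit 530), [nat_lit 8, nat_lit 4, nat_lit 8, nat_lit 3, nat_lit 4, nat_lit 8, nat_lit 1, nat_lit 2, nat_lit 3, nat_lit 0, nat_lit 1], [nat_lit 5, nat_lit 14, nat_lit 17, nat_lit 37, nat_lit 27], (nat_lit 1807)), ((nat_lit 958), [nat_lit 6, nat_lit 7, nat_lit 4, nat_lit 7, nat_lit 3, nat_lit 2, nat_lit 3, nat_lit 4, nat_lit 3, nat_lit 2, nat_lit 3, nat_lit 1], [nat_lit 24, nat_lit 0, nat_lit 16, nat_lit 17, nat_lit 15], (nat_lit 3706)), ((nat_lit 559), [nat_lit 8, nat_lit 6, nat_lit 4, nat_lit 7, nat_lit 3, nat_lit 2, nat_lit 3, nat_lit 1, nat_lit 2, nat_lit 3, nat_lit 4, nat_lit 3, nat_lit 2, nat_lit 3, nat_lit 1], [nat_lit 32, nat_lit 16, nat_lit 27], (nat_lit 12481)), ((nat_lit 1773), [nat_lit 5, nat_lit 4, nat_lit 8, nat_lit 4, nat_lit 8, nat_lit 0, nat_lit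 1, nat_lit 2, nat_lit 3, nat_lit 4, nat_lit 8, nat_lit 2, nat_lit 3, nat_lit 1], [nat_lit 24, nat_lit 16, nat_lit 0, nat_lit 24, nat_lit 26], (nat_lit 10399)), ((nat_lit 1748), [nat_lit 6, nat_lit 7, nat_lit 3, nat_lit 4, nat_lit 3, nat_lit 1, nat_lit 2, nat_lit 3, nat_lit 0, nat_lit 1], [nat_lit 17, nat_lit 2, nat_lit 0, nat_lit 24, nat_lit 37, nat_lit 15, nat_lit 27], (nat_lit 973)), ((nat_lit 790), [nat_lit 4, nat_lit 7, nat_lit 4, nat_lit 7, nat_lit 3, nat_lit 2, nat_lit 3, nat_lit 1, nat_lit 2, nat_lit 3, nat_lit 4, nat_lit 3, nat_lit 2, nat_lit 3, nat_lit 1], [nat_lit 1, nat_lit 24, nat_lit 0, nat_lit 24, nat_lit 24, nat_lit 26], (nat_lit 12485)), ((nat_lit 813), [nat_lit 8, nat_lit 4, nat_lit 8, nat_lit 6, nat_lit 3, nat_lit 2, nat_lit 3, nat_lit 4, nat_lit 7, nat_lit 3, nat_lit 2, nat_lit 3, nat_lit 1], [nat_lit 1, nat_lit 25, nat_lit 37, nat_lit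 27], (nat_lit 6260)), ((nat_lit 1858), [nat_lit 1, nat_lit 2, nat_lit 3, nat_lit 4, nat_lit 8, nat_lit 3, nat_lit 4, nat_lit 3, nat_lit 2, nat_lit 3, nat_lit 1], [nat_lit 24, nat_lit 2, nat_lit 0, nat_lit 15, nat_lit 15, nat_lit 26], (nat_lit 2246)), ((nat_lit 565), [nat_lit 8, nat_lit 4, nat_lit 8, nat_lit 2, nat_lit 3, nat_lit 4, nat_lit 1, nat_lit 2, nat_lit 3, nat_lit 0, nat_lit 1], [nat_lit 16, nat_lit 11, nat_lit 26], (nat_lit 1731)), ((nat_lit 632), [nat_lit 7, nat_lit 3, nat_lit 4, nat_lit 7, nat_lit 3, nat_lit 1, nat_lit 2, nat_lit 3, nat_lit 0, nat_lit 1], [nat_lit 10, nat_lit 10, nat_lit 0, nat_lit 37, nat_lit 25], (nat_lit 1002)), ((nat_lit 287), [nat_lit 7, nat_lit 7, nat_lit 3, nat_lit 1, nat_lit 2, nat_lit 3, nat_lit 4, nat_lit 8, nat_lit 1, nat_lit 2, nat_lit 3, nat_lit 0, nat_lit 1], [nat_lit 14, nat_lit 0, nat_lit 37, nat_lit 32], (nat_lit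 4803)), ((nat_lit 285), [nat_lit 5, nat_lit 8, nat_lit 2, nat_lit 3, nat_lit 4, nat_lit 1, nat_lit 2, nat_lit 3, nat_lit 0, nat_lit 1], [nat_lit 18, nat_lit 15, nat_lit 0, nat_lit 17, nat_lit 25, nat_lit 15, nat_lit 27], (nat_lit 1019)), ((nat_lit 316), [nat_lit 6, nat_lit 7, nat_lit 2, nat_lit 3, nat_lit 4, nat_lit 1, nat_lit 2, nat_lit 3, nat_lit 0, nat_lit 1], [nat_lit 10, nat_lit 10, nat_lit 0, nat_lit 33, nat_lit 27], (nat_lit 1021)), ((nat_lit 286), [nat_lit 2, nat_lit 3, nat_lit 4, nat_lit 8, nat_lit 4, nat_lit 1, nat_lit 2, nat_lit 3, nat_lit 0, nat_lit 1], [nat_lit 24, nat_lit 0, nat_lit 34, nat_lit 37, nat_lit 26], (nat_lit 1033)), ((nat_lit 336), [nat_lit 5, nat_lit 7, nat_lit 3, nat_lit 0, nat_lit 1, nat_lit 2, nat_lit 3, nat_lit 4, nat_lit 1, nat_lit 2, nat_lit 3, nat_lit 0, nat_lit 1], [nat_lit 14, nat_lit 26, nat_lit 15, nat_lit 15], (nat_lit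 4672)), ((nat_lit 333), [nat_lit 7, nat_lit 3, nat_lit 4, nat_lit 8, nat_lit 4, nat_lit 1, nat_lit 2, nat_lit 3, nat_lit 0, nat_lit 1], [nat_lit 27, nat_lit 36, nat_lit 26], (nat_lit 1037)), ((nat_lit 252), [nat_lit 4, nat_lit 7, nat_lit 1, nat_lit 2, nat_lit 3, nat_lit 4, nat_lit 7, nat_lit 4, nat_lit 2, nat_lit 3, nat_lit 1], [nat_lit 27, nat_lit 17], (nat_lit 2583)), ((nat_lit 346), [nat_lit 7, nat_lit 2, nat_lit 3, nat_lit 4, nat_lit 8, nat_lit 1, nat_lit 2, nat_lit 3, nat_lit 0, nat_lit 1], [nat_lit 5, nat_lit 16, nat_lit 2, nat_lit 33, nat_lit 18, nat_lit 11], (nat_lit 1053)), ((nat_lit 313), [nat_lit 6, nat_lit 8, nat_lit 3, nat_lit 4, nat_lit 8, nat_lit 1, nat_lit 2, nat_lit 3, nat_lit 0, nat_lit 1], [nat_lit 26, nat_lit 15, nat_lit 15], (nat_lit 1058)), ((nat_lit 359), [nat_lit 6, nat_lit 3, nat_lit 0, nat_lit 1, nat_lit 2, nat_lit 3, nat_lit 4,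 nat_lit 8, nat_lit 4, nat_lit 1, nat_lit 2, nat_lit 3, nat_lit 0, nat_lit 1], [nat_lit 24, nat_lit 2, nat_lit 33, nat_lit 25, nat_lit 26], (nat_lit 7396)), ((nat_lit 330), [nat_lit 3, nat_lit 4, nat_lit 8, nat_lit 4, nat_lit 8, nat_lit 1, nat_lit 2, nat_lit 3, nat_lit 0, nat_lit 1], [nat_lit 15, nat_lit 35, nat_lit 11, nat_lit 26], (nat_lit 1063)), ((nat_lit 281), [nat_lit 3, nat_lit 2, nat_lit 3, nat_lit 1, nat_lit 2, nat_lit 3, nat_lit 4, nat_lit 7, nat_lit 4, nat_lit 7, nat_lit 2, nat_lit 3, nat_lit 1], [nat_lit 24, nat_lit 2, nat_lit 0, nat_lit 25, nat_lit 18, nat_lit 18, nat_lit 27], (nat_lit 7201)), ((nat_lit 248), [nat_lit 7, nat_lit 2, nat_lit 3, nat_lit 4, nat_lit 7, nat_lit 1, nat_lit 2, nat_lit 3, nat_lit 0, nat_lit 1], [nat_lit 25, nat_lit 27], (nat_lit 1069)), ((nat_lit 261), [nat_lit 6, nat_lit 3, nat_lit 0, nat_lit 1, nat_lit 2, nat_lit 3,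 nat_lit 4, nat_lit 7, nat_lit 4, nat_lit 1, nat_lit 2, nat_lit 3, nat_lit 0, nat_lit 1], [nat_lit 1, nat_lit 1, nat_lit 33, nat_lit 16, nat_lit 27], (nat_lit 7417)), ((nat_lit 323), [nat_lit 6, nat_lit 8, nat_lit 3, nat_lit 4, nat_lit 7, nat_lit 1, nat_lit 2, nat_lit 3, nat_lit 0, nat_lit 1], [nat_lit 5, nat_lit 16, nat_lit 2, nat_lit 17, nat_lit 34, nat_lit 15], (nat_lit 1073)), ((nat_lit 531), [nat_lit 8, nat_lit 3, nat_lit 2, nat_lit 3, nat_lit 4, nat_lit 3, nat_lit 2, nat_lit 3, nat_lit 0, nat_lit 1], [nat_lit 25, nat_lit 16, nat_lit 0, nat_lit 24, nat_lit 15, nat_lit 27], (nat_lit 1084)), ((nat_lit 2365), [nat_lit 4, nat_lit 7, nat_lit 3, nat_lit 2, nat_lit 3, nat_lit 1, nat_lit 2, nat_lit 3, nat_lit 4, nat_lit 3, nat_lit 2, nat_lit 3, nat_lit 1], [nat_lit 1, nat_lit 24, nat_lit 0, nat_lit 36, nat_lit 16, nat_lit 11, nat_lit 27], (nat_lit 5721)), ((nat_lit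 1645), [nat_lit 0, nat_lit 1, nat_lit 2, nat_lit 3, nat_lit 4, nat_lit 7, nat_lit 4, nat_lit 7, nat_lit 2, nat_lit 3, nat_lit 4, nat_lit 3, nat_lit 2, nat_lit 3, nat_lit 1], [nat_lit 24, nat_lit 15, nat_lit 0, nat_lit 35, nat_lit 35, nat_lit 11, nat_lit 27], (nat_lit 12678)), ((nat_lit 1919), [nat_lit 7, nat_lit 4, nat_lit 7, nat_lit 2, nat_lit 3, nat_lit 0, nat_lit 1, nat_lit 2, nat_lit 3, nat_lit 4, nat_lit 8, nat_lit 3, nat_lit 2, nat_lit 3, nat_lit 1], [nat_lit 16, nat_lit 5, nat_lit 0, nat_lit 33, nat_lit 35, nat_lit 27], (nat_lit 13040)), ((nat_lit 1054), [nat_lit 6, nat_lit 7, nat_lit 4, nat_lit 7, nat_lit 2, nat_lit 3, nat_lit 0, nat_lit 1, nat_lit 2, nat_lit 3, nat_lit 4, nat_lit 8, nat_lit 3, nat_lit 2, nat_lit 3, nat_lit 1], [nat_lit 25, nat_lit 2, nat_lit 0, nat_lit 18, nat_lit 11, nat_lit 15, nat_lit 26], (nat_lit 16128)), ((nat_lit 1159),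 [nat_lit 6, nat_lit 7, nat_lit 2, nat_lit 3, nat_lit 4, nat_lit 7, nat_lit 0, nat_lit 1, nat_lit 2, nat_lit 3, nat_lit 4, nat_lit 7, nat_lit 2, nat_lit 3, nat_lit 1], [nat_lit 1, nat_lit 1, nat_lit 33, nat_lit 27], (nat_lit 14499)), ((nat_lit 1604), [nat_lit 8, nat_lit 8, nat_lit 4, nat_lit 7, nat_lit 2, nat_lit 3, nat_lit 4, nat_lit 7, nat_lit 2, nat_lit 3, nat_lit 4, nat_lit 7, nat_lit 2, nat_lit 3, nat_lit 1], [nat_lit 1, nat_lit 1, nat_lit 34, nat_lit 11, nat_lit 27], (nat_lit 14657)), ((nat_lit 1388), [nat_lit 4, nat_lit 3, nat_lit 1, nat_lit 2, nat_lit 3, nat_lit 4, nat_lit 7, nat_lit 4, nat_lit 7, nat_lit 3, nat_lit 4, nat_lit 3, nat_lit 2, nat_lit 3, nat_lit 0, nat_lit 1], [nat_lit 17, nat_lit 2, nat_lit 0, nat_lit 17, nat_lit 15, nat_lit 11, nat_lit 27], (nat_lit 14910)), ((nat_lit 1613), [nat_lit 7, nat_lit 5, nat_lit 1, nat_lit 2, nat_lit 3,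 nat_lit 4, nat_lit 8, nat_lit 2, nat_lit 3, nat_lit 4, nat_lit 3, nat_lit 2, nat_lit 3, nat_lit 1], [nat_lit 1, nat_lit 27, nat_lit 15, nat_lit 27], (nat_lit 8875)), ((nat_lit 1431), [nat_lit 8, nat_lit 4, nat_lit 8, nat_lit 3, nat_lit 4, nat_lit 3, nat_lit 2, nat_lit 3, nat_lit 0, nat_lit 1], [nat_lit 25, nat_lit 1, nat_lit 26, nat_lit 15, nat_lit 26], (nat_lit 1095)), ((nat_lit 1392), [nat_lit 7, nat_lit 4, nat_lit 8, nat_lit 1, nat_lit 2, nat_lit 3, nat_lit 4, nat_lit 1, nat_lit 2, nat_lit 3, nat_lit 0, nat_lit 1], [nat_lit 10, nat_lit 0, nat_lit 35, nat_lit 26], (nat_lit 2881)), ((nat_lit 1539), [nat_lit 4, nat_lit 8, nat_lit 8, nat_lit 3, nat_lit 4, nat_lit 8, nat_lit 1, nat_lit 2, nat_lit 3, nat_lit 4, nat_lit 2, nat_lit 3, nat_lit 0, nat_lit 1], [nat_lit 5, nat_lit 17, nat_lit 25, nat_lit 15, nat_lit 26], (nat_lit 8082)), ((nat_lit 1553), [nat_lit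 5, nat_lit 4, nat_lit 7, nat_lit 3, nat_lit 4, nat_lit 3, nat_lit 2, nat_lit 3, nat_lit 0, nat_lit 1], [nat_lit 14, nat_lit 15, nat_lit 0, nat_lit 37, nat_lit 34, nat_lit 11, nat_lit 26], (nat_lit 1099)), ((nat_lit 2126), [nat_lit 5, nat_lit 4, nat_lit 7, nat_lit 1, nat_lit 2, nat_lit 3, nat_lit 4, nat_lit 7, nat_lit 2, nat_lit 3, nat_lit 4, nat_lit 8, nat_lit 2, nat_lit 3, nat_lit 1], [nat_lit 25, nat_lit 0, nat_lit 24, nat_lit 18, nat_lit 18], (nat_lit 14416)), ((nat_lit 1621), [nat_lit 6, nat_lit 7, nat_lit 4, nat_lit 7, nat_lit 2, nat_lit 3, nat_lit 0, nat_lit 1, nat_lit 2, nat_lit 3, nat_lit 4, nat_lit 3, nat_lit 2, nat_lit 3, nat_lit 1], [nat_lit 16, nat_lit 5, nat_lit 2, nat_lit 17, nat_lit 25, nat_lit 15, nat_lit 27], (nat_lit 12408)), ((nat_lit 482), [nat_lit 8, nat_lit 3, nat_lit 4, nat_lit 7, nat_lit 0, nat_lit 1, nat_lit 2, nat_lit 3, nat_lit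 4, nat_lit 8, nat_lit 4, nat_lit 2, nat_lit 3, nat_lit 1], [nat_lit 15, nat_lit 2, nat_lit 16, nat_lit 18, nat_lit 15, nat_lit 27], (nat_lit 10295)), ((nat_lit 1361), [nat_lit 5, nat_lit 3, nat_lit 4, nat_lit 8, nat_lit 4, nat_lit 3, nat_lit 2, nat_lit 3, nat_lit 0, nat_lit 1], [nat_lit 15, nat_lit 5, nat_lit 26, nat_lit 34, nat_lit 32, nat_lit 27], (nat_lit 1104)), ((nat_lit 1846), [nat_lit 6, nat_lit 7, nat_lit 4, nat_lit 7, nat_lit 2, nat_lit 3, nat_lit 1, nat_lit 2, nat_lit 3, nat_lit 4, nat_lit 7, nat_lit 4, nat_lit 3, nat_lit 2, nat_lit 3, nat_lit 1], [nat_lit 16, nat_lit 5, nat_lit 0, nat_lit 36, nat_lit 24, nat_lit 26], (nat_lit 16087)), ((nat_lit 1104), [nat_lit 7, nat_lit 4, nat_lit 7, nat_lit 5, nat_lit 2, nat_lit 3, nat_lit 4, nat_lit 8, nat_lit 1, nat_lit 2, nat_lit 3, nat_lit 0, nat_lit 1], [nat_lit 1, nat_lit 14, nat_lit 37, nat_lit 18, nat_lit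 15], (nat_lit 4820)), ((nat_lit 678), [nat_lit 8, nat_lit 8, nat_lit 4, nat_lit 7, nat_lit 2, nat_lit 3, nat_lit 1, nat_lit 2, nat_lit 3, nat_lit 0, nat_lit 1], [nat_lit 16, nat_lit 5, nat_lit 0, nat_lit 24, nat_lit 37, nat_lit 26], (nat_lit 1644)), ((nat_lit 769), [nat_lit 8, nat_lit 6, nat_lit 4, nat_lit 7, nat_lit 3, nat_lit 0, nat_lit 1, nat_lit 2, nat_lit 3, nat_lit 4, nat_lit 3, nat_lit 2, nat_lit 3, nat_lit 1], [nat_lit 24, nat_lit 2, nat_lit 17], (nat_lit 8714)), ((nat_lit 2119), [nat_lit 4, nat_lit 7, nat_lit 1, nat_lit 2, nat_lit 3, nat_lit 4, nat_lit 7, nat_lit 1, nat_lit 2, nat_lit 3, nat_lit 4, nat_lit 3, nat_lit 2, nat_lit 3, nat_lit 0, nat_lit 1], [nat_lit 25, nat_lit 2, nat_lit 0, nat_lit 25, nat_lit 16, nat_lit 16, nat_lit 26], (nat_lit 14841)), ((nat_lit 391), [nat_lit 6, nat_lit 7, nat_lit 4, nat_lit 7, nat_lit 2, nat_lit 3, nat_lit 1,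 nat_lit 2, nat_lit 3, nat_lit 0, nat_lit 1], [nat_lit 32, nat_lit 16], (nat_lit 1646)), ((nat_lit 2067), [nat_lit 4, nat_lit 3, nat_lit 2, nat_lit 3, nat_lit 1, nat_lit 2, nat_lit 3, nat_lit 4, nat_lit 7, nat_lit 3, nat_lit 4, nat_lit 3, nat_lit 2, nat_lit 3, nat_lit 1], [nat_lit 15, nat_lit 1, nat_lit 26, nat_lit 34, nat_lit 11, nat_lit 26], (nat_lit 12746)), ((nat_lit 2229), [nat_lit 7, nat_lit 2, nat_lit 3, nat_lit 4, nat_lit 7, nat_lit 2, nat_lit 3, nat_lit 4, nat_lit 8, nat_lit 2, nat_lit 3, nat_lit 4, nat_lit 2, nat_lit 3, nat_lit 0, nat_lit 1], [nat_lit 24, nat_lit 0, nat_lit 17, nat_lit 26], (nat_lit 15322)), ((nat_lit 1762), [nat_lit 7, nat_lit 6, nat_lit 4, nat_lit 7, nat_lit 3, nat_lit 1, nat_lit 2, nat_lit 3, nat_lit 4, nat_lit 8, nat_lit 3, nat_lit 2, nat_lit 3, nat_lit 1], [nat_lit 1, nat_lit 5, nat_lit 18, nat_lit 25, nat_lit 26], (nat_lit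 9304)), ((nat_lit 771), [nat_lit 8, nat_lit 3, nat_lit 4, nat_lit 8, nat_lit 6, nat_lit 0, nat_lit 1, nat_lit 2, nat_lit 3, nat_lit 4, nat_lit 8, nat_lit 2, nat_lit 3, nat_lit 1], [nat_lit 16, nat_lit 2, nat_lit 32, nat_lit 15, nat_lit 26], (nat_lit 10388))] m5_5_4 m5_5_5) = 0 := by decide +kernel
theorem e5_5_6 : dt.run q (fun c => c.edges (SP THn.T THn.Rl (nat_lit 15)) (nat_lit 4429) THn.T.n (nat_lit 5) (nat_lit 5)
  [((nat_lit 763), [nat_lit 8, nat_lit 3, nat_lit 4, nat_lit 8, nat_lit 0, nat_lit 1, nat_lit 2, nat_lit 3, nat_lit 4, nat_lit 7, nat_lit 2, nat_lit 3, nat_lit 1], [nat_lit 24, nat_lit 2, nat_lit 0, nat_lit 18, nat_lit 35, nat_lit 15, nat_lit 27], (nat_lit 7028)), ((nat_lit 2151), [nat_lit 4, nat_lit 7, nat_lit 5, nat_lit 1, nat_lit 2, nat_lit 3, nat_lit 4, nat_lit 8, nat_lit 3, nat_lit 1, nat_lit 2, nat_lit 3, nat_lit 0, nat_lit 1], [nat_lit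 11, nat_lit 5, nat_lit 2, nat_lit 27, nat_lit 18, nat_lit 27], (nat_lit 7278)), ((nat_lit 1281), [nat_lit 4, nat_lit 7, nat_lit 3, nat_lit 4, nat_lit 8, nat_lit 3, nat_lit 2, nat_lit 3, nat_lit 0, nat_lit 1], [nat_lit 15, nat_lit 1, nat_lit 37, nat_lit 34, nat_lit 11], (nat_lit 1130)), ((nat_lit 928), [nat_lit 7, nat_lit 7, nat_lit 4, nat_lit 8, nat_lit 3, nat_lit 4, nat_lit 7, nat_lit 2, nat_lit 3, nat_lit 4, nat_lit 7, nat_lit 3, nat_lit 2, nat_lit 3, nat_lit 1], [nat_lit 10, nat_lit 0, nat_lit 35, nat_lit 32, nat_lit 11, nat_lit 26], (nat_lit 13566)), ((nat_lit 2254), [nat_lit 8, nat_lit 4, nat_lit 8, nat_lit 6, nat_lit 3, nat_lit 0, nat_lit 1, nat_lit 2, nat_lit 3, nat_lit 4, nat_lit 7, nat_lit 4, nat_lit 3, nat_lit 2, nat_lit 3, nat_lit 1], [nat_lit 25, nat_lit 0, nat_lit 34, nat_lit 17, nat_lit 33, nat_lit 26], (nat_lit 16043)), ((nat_lit 615), [nat_lit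 8, nat_lit 6, nat_lit 4, nat_lit 2, nat_lit 3, nat_lit 0, nat_lit 1, nat_lit 2, nat_lit 3, nat_lit 4, nat_lit 7, nat_lit 4, nat_lit 3, nat_lit 2, nat_lit 3, nat_lit 1], [nat_lit 0, nat_lit 27, nat_lit 24, nat_lit 15, nat_lit 26], (nat_lit 16026)), ((nat_lit 570), [nat_lit 7, nat_lit 4, nat_lit 7, nat_lit 3, nat_lit 1, nat_lit 2, nat_lit 3, nat_lit 4, nat_lit 7, nat_lit 4, nat_lit 3, nat_lit 2, nat_lit 3, nat_lit 1], [nat_lit 26, nat_lit 24, nat_lit 0, nat_lit 34, nat_lit 16, nat_lit 11], (nat_lit 9169)), ((nat_lit 301), [nat_lit 8, nat_lit 4, nat_lit 8, nat_lit 2, nat_lit 3, nat_lit 1, nat_lit 2, nat_lit 3, nat_lit 4, nat_lit 7, nat_lit 3, nat_lit 2, nat_lit 3, nat_lit 0, nat_lit 1], [nat_lit 26, nat_lit 24, nat_lit 0, nat_lit 33, nat_lit 37, nat_lit 27], (nat_lit 11567)), ((nat_lit 1212), [nat_lit 4, nat_lit 7, nat_lit 5, nat_lit 1, nat_lit 2, nat_lit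 3, nat_lit 4, nat_lit 7, nat_lit 3, nat_lit 1, nat_lit 2, nat_lit 3, nat_lit 0, nat_lit 1], [nat_lit 24, nat_lit 2, nat_lit 24, nat_lit 37, nat_lit 17, nat_lit 26], (nat_lit 7319)), ((nat_lit 448), [nat_lit 7, nat_lit 4, nat_lit 8, nat_lit 2, nat_lit 3, nat_lit 4, nat_lit 8, nat_lit 6, nat_lit 2, nat_lit 3, nat_lit 4, nat_lit 8, nat_lit 2, nat_lit 3, nat_lit 1], [nat_lit 0, nat_lit 35, nat_lit 15, nat_lit 26], (nat_lit 14346)), ((nat_lit 1917), [nat_lit 7, nat_lit 4, nat_lit 7, nat_lit 6, nat_lit 2, nat_lit 3, nat_lit 1, nat_lit 2, nat_lit 3, nat_lit 4, nat_lit 8, nat_lit 3, nat_lit 2, nat_lit 3, nat_lit 1], [nat_lit 10, nat_lit 0, nat_lit 25, nat_lit 18, nat_lit 18, nat_lit 26], (nat_lit 13116)), ((nat_lit 1750), [nat_lit 4, nat_lit 8, nat_lit 8, nat_lit 4, nat_lit 2, nat_lit 3, nat_lit 1, nat_lit 2, nat_lit 3, nat_lit 4, nat_lit 7, nat_lit 4, nat_lit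 3, nat_lit 2, nat_lit 3, nat_lit 1], [nat_lit 2, nat_lit 0, nat_lit 16, nat_lit 11], (nat_lit 16077)), ((nat_lit 1766), [nat_lit 4, nat_lit 8, nat_lit 8, nat_lit 3, nat_lit 4, nat_lit 8, nat_lit 1, nat_lit 2, nat_lit 3, nat_lit 4, nat_lit 7, nat_lit 2, nat_lit 3, nat_lit 1], [nat_lit 16, nat_lit 5, nat_lit 0, nat_lit 18, nat_lit 18], (nat_lit 10709)), ((nat_lit 451), [nat_lit 8, nat_lit 6, nat_lit 4, nat_lit 7, nat_lit 3, nat_lit 0, nat_lit 1, nat_lit 2, nat_lit 3, nat_lit 4, nat_lit 8, nat_lit 3, nat_lit 2, nat_lit 3, nat_lit 1], [nat_lit 24, nat_lit 2, nat_lit 0, nat_lit 25, nat_lit 18, nat_lit 26], (nat_lit 13066)), ((nat_lit 704), [nat_lit 4, nat_lit 8, nat_lit 8, nat_lit 4, nat_lit 7, nat_lit 2, nat_lit 3, nat_lit 1, nat_lit 2, nat_lit 3, nat_lit 4, nat_lit 7, nat_lit 3, nat_lit 2, nat_lit 3, nat_lit 1], [nat_lit 1, nat_lit 1, nat_lit 33, nat_lit 24,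 nat_lit 26], (nat_lit 16336)), ((nat_lit 557), [nat_lit 6, nat_lit 4, nat_lit 8, nat_lit 2, nat_lit 3, nat_lit 4, nat_lit 2, nat_lit 3, nat_lit 0, nat_lit 1], [nat_lit 0, nat_lit 2, nat_lit 37, nat_lit 18, nat_lit 26], (nat_lit 1159)), ((nat_lit 2273), [nat_lit 5, nat_lit 4, nat_lit 8, nat_lit 2, nat_lit 3, nat_lit 4, nat_lit 2, nat_lit 3, nat_lit 0, nat_lit 1], [nat_lit 24, nat_lit 0, nat_lit 36, nat_lit 25, nat_lit 27], (nat_lit 1160)), ((nat_lit 1836), [nat_lit 8, nat_lit 4, nat_lit 8, nat_lit 2, nat_lit 3, nat_lit 4, nat_lit 2, nat_lit 3, nat_lit 0, nat_lit 1], [nat_lit 25, nat_lit 1, nat_lit 33, nat_lit 16, nat_lit 11, nat_lit 27], (nat_lit 1161)), ((nat_lit 1659), [nat_lit 4, nat_lit 7, nat_lit 2, nat_lit 3, nat_lit 2, nat_lit 3, nat_lit 4, nat_lit 8, nat_lit 3, nat_lit 4, nat_lit 3, nat_lit 2, nat_lit 3, nat_lit 1], [nat_lit 14, nat_lit 27, nat_lit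 18, nat_lit 11, nat_lit 26], (nat_lit 8964)), ((nat_lit 2277), [nat_lit 8, nat_lit 8, nat_lit 1, nat_lit 2, nat_lit 3, nat_lit 4, nat_lit 8, nat_lit 1, nat_lit 2, nat_lit 3, nat_lit 0, nat_lit 1], [nat_lit 26, nat_lit 24, nat_lit 0, nat_lit 33, nat_lit 36, nat_lit 27], (nat_lit 2986)), ((nat_lit 2551), [nat_lit 5, nat_lit 4, nat_lit 7, nat_lit 2, nat_lit 3, nat_lit 4, nat_lit 2, nat_lit 3, nat_lit 0, nat_lit 1], [nat_lit 1, nat_lit 5, nat_lit 27, nat_lit 24, nat_lit 11, nat_lit 26], (nat_lit 1165)), ((nat_lit 2135), [nat_lit 2, nat_lit 3, nat_lit 4, nat_lit 7, nat_lit 3, nat_lit 1, nat_lit 2, nat_lit 3, nat_lit 4, nat_lit 7, nat_lit 3, nat_lit 4, nat_lit 2, nat_lit 3, nat_lit 1], [nat_lit 17, nat_lit 24, nat_lit 0, nat_lit 16, nat_lit 17, nat_lit 15, nat_lit 26], (nat_lit 14122)), ((nat_lit 2436), [nat_lit 3, nat_lit 0, nat_lit 1, nat_lit 2, nat_lit 3,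 nat_lit 4, nat_lit 8, nat_lit 3, nat_lit 4, nat_lit 7, nat_lit 3, nat_lit 2, nat_lit 3, nat_lit 0, nat_lit 1], [nat_lit 25, nat_lit 2, nat_lit 0, nat_lit 17, nat_lit 34, nat_lit 15, nat_lit 26], (nat_lit 11665)), ((nat_lit 1153), [nat_lit 5, nat_lit 2, nat_lit 3, nat_lit 4, nat_lit 7, nat_lit 3, nat_lit 4, nat_lit 2, nat_lit 3, nat_lit 0, nat_lit 1], [nat_lit 24, nat_lit 15, nat_lit 0, nat_lit 34, nat_lit 34, nat_lit 15], (nat_lit 2039)), ((nat_lit 825), [nat_lit 7, nat_lit 6, nat_lit 4, nat_lit 8, nat_lit 2, nat_lit 3, nat_lit 4, nat_lit 7, nat_lit 2, nat_lit 3, nat_lit 1], [nat_lit 14, nat_lit 17, nat_lit 34, nat_lit 26], (nat_lit 2711)), ((nat_lit 1796), [nat_lit 8, nat_lit 2, nat_lit 3, nat_lit 4, nat_lit 8, nat_lit 8, nat_lit 1, nat_lit 2, nat_lit 3, nat_lit 4, nat_lit 8, nat_lit 2, nat_lit 3, nat_lit 0, nat_lit 1], [nat_lit 24, nat_lit 15, nat_lit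 0, nat_lit 25, nat_lit 33, nat_lit 15], (nat_lit 12078)), ((nat_lit 2054), [nat_lit 8, nat_lit 4, nat_lit 7, nat_lit 5, nat_lit 3, nat_lit 4, nat_lit 8, nat_lit 4, nat_lit 2, nat_lit 3, nat_lit 1], [nat_lit 15, nat_lit 0, nat_lit 16, nat_lit 18, nat_lit 26], (nat_lit 2564)), ((nat_lit 784), [nat_lit 5, nat_lit 8, nat_lit 4, nat_lit 7, nat_lit 7, nat_lit 2, nat_lit 3, nat_lit 4, nat_lit 7, nat_lit 2, nat_lit 3, nat_lit 1], [nat_lit 15, nat_lit 1, nat_lit 35, nat_lit 35], (nat_lit 4502)), ((nat_lit 903), [nat_lit 6, nat_lit 8, nat_lit 4, nat_lit 8, nat_lit 1, nat_lit 2, nat_lit 3, nat_lit 4, nat_lit 1, nat_lit 2, nat_lit 3, nat_lit 0, nat_lit 1], [nat_lit 18, nat_lit 15, nat_lit 0, nat_lit 17, nat_lit 16, nat_lit 27], (nat_lit 4685)), ((nat_lit 1688), [nat_lit 8, nat_lit 4, nat_lit 8, nat_lit 1, nat_lit 2, nat_lit 3, nat_lit 4, nat_lit 1, nat_lit 2, nat_lit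 3, nat_lit 0, nat_lit 1], [nat_lit 26, nat_lit 2, nat_lit 0, nat_lit 34, nat_lit 16, nat_lit 26], (nat_lit 2880)), ((nat_lit 2431), [nat_lit 6, nat_lit 2, nat_lit 3, nat_lit 4, nat_lit 8, nat_lit 2, nat_lit 3, nat_lit 4, nat_lit 8, nat_lit 2, nat_lit 3, nat_lit 4, nat_lit 2, nat_lit 3, nat_lit 1], [nat_lit 2, nat_lit 32, nat_lit 34, nat_lit 11, nat_lit 26], (nat_lit 13776)), ((nat_lit 639), [nat_lit 6, nat_lit 8, nat_lit 4, nat_lit 7, nat_lit 3, nat_lit 1, nat_lit 2, nat_lit 3, nat_lit 4, nat_lit 8, nat_lit 3, nat_lit 2, nat_lit 3, nat_lit 1], [nat_lit 24, nat_lit 16, nat_lit 0, nat_lit 34, nat_lit 34, nat_lit 15, nat_lit 27], (nat_lit 9305)), ((nat_lit 2267), [nat_lit 4, nat_lit 7, nat_lit 1, nat_lit 2, nat_lit 3, nat_lit 4, nat_lit 7, nat_lit 3, nat_lit 4, nat_lit 1, nat_lit 2, nat_lit 3, nat_lit 0, nat_lit 1], [nat_lit 5, nat_lit 2, nat_lit 35, nat_lit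 27], (nat_lit 7390)), ((nat_lit 1758), [nat_lit 4, nat_lit 8, nat_lit 2, nat_lit 3, nat_lit 4, nat_lit 7, nat_lit 3, nat_lit 1, nat_lit 2, nat_lit 3, nat_lit 4, nat_lit 8, nat_lit 3, nat_lit 2, nat_lit 3, nat_lit 1], [nat_lit 1, nat_lit 5, nat_lit 27, nat_lit 16, nat_lit 27], (nat_lit 16214)), ((nat_lit 2282), [nat_lit 6, nat_lit 8, nat_lit 4, nat_lit 8, nat_lit 1, nat_lit 2, nat_lit 3, nat_lit 4, nat_lit 3, nat_lit 1, nat_lit 2, nat_lit 3, nat_lit 0, nat_lit 1], [nat_lit 5, nat_lit 18, nat_lit 26], (nat_lit 7220)), ((nat_lit 1365), [nat_lit 4, nat_lit 7, nat_lit 1, nat_lit 2, nat_lit 3, nat_lit 4, nat_lit 7, nat_lit 0, nat_lit 1, nat_lit 2, nat_lit 3, nat_lit 4, nat_lit 3, nat_lit 2, nat_lit 3, nat_lit 1], [nat_lit 5, nat_lit 14, nat_lit 16, nat_lit 11], (nat_lit 15719)), ((nat_lit 901), [nat_lit 7, nat_lit 6, nat_lit 2, nat_lit 3, nat_lit 4, nat_lit 8,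 nat_lit 0, nat_lit 1, nat_lit 2, nat_lit 3, nat_lit 4, nat_lit 7, nat_lit 2, nat_lit 3, nat_lit 0, nat_lit 1], [nat_lit 17, nat_lit 2, nat_lit 0, nat_lit 11, nat_lit 16, nat_lit 27], (nat_lit 15548)), ((nat_lit 2333), [nat_lit 3, nat_lit 4, nat_lit 7, nat_lit 4, nat_lit 2, nat_lit 3, nat_lit 2, nat_lit 3, nat_lit 4, nat_lit 7, nat_lit 3, nat_lit 4, nat_lit 2, nat_lit 3, nat_lit 1], [nat_lit 16, nat_lit 5, nat_lit 2, nat_lit 33, nat_lit 15, nat_lit 11], (nat_lit 14134)), ((nat_lit 1908), [nat_lit 2, nat_lit 3, nat_lit 4, nat_lit 7, nat_lit 1, nat_lit 2, nat_lit 3, nat_lit 4, nat_lit 8, nat_lit 3, nat_lit 4, nat_lit 3, nat_lit 2, nat_lit 3, nat_lit 0, nat_lit 1], [nat_lit 5, nat_lit 2, nat_lit 0, nat_lit 15, nat_lit 11, nat_lit 27], (nat_lit 14894)), ((nat_lit 1504), [nat_lit 6, nat_lit 2, nat_lit 3, nat_lit 1, nat_lit 2, nat_lit 3, nat_lit 4, nat_lit 8,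 nat_lit 3, nat_lit 4, nat_lit 2, nat_lit 3, nat_lit 0, nat_lit 1], [nat_lit 15, nat_lit 2, nat_lit 17, nat_lit 37, nat_lit 27], (nat_lit 8213)), ((nat_lit 1614), [nat_lit 5, nat_lit 0, nat_lit 1, nat_lit 2, nat_lit 3, nat_lit 4, nat_lit 7, nat_lit 3, nat_lit 4, nat_lit 1, nat_lit 2, nat_lit 3, nat_lit 0, nat_lit 1], [nat_lit 0, nat_lit 25, nat_lit 11], (nat_lit 7381)), ((nat_lit 2269), [nat_lit 2, nat_lit 3, nat_lit 4, nat_lit 7, nat_lit 7, nat_lit 1, nat_lit 2, nat_lit 3, nat_lit 4, nat_lit 7, nat_lit 2, nat_lit 3, nat_lit 0, nat_lit 1], [nat_lit 18, nat_lit 15, nat_lit 0, nat_lit 32, nat_lit 11, nat_lit 26], (nat_lit 8600)), ((nat_lit 2077), [nat_lit 6, nat_lit 7, nat_lit 3, nat_lit 4, nat_lit 7, nat_lit 3, nat_lit 0, nat_lit 1, nat_lit 2, nat_lit 3, nat_lit 4, nat_lit 8, nat_lit 3, nat_lit 2, nat_lit 3, nat_lit 1], [nat_lit 0, nat_lit 17, nat_lit 17,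 nat_lit 15, nat_lit 27], (nat_lit 16147)), ((nat_lit 1035), [nat_lit 2, nat_lit 3, nat_lit 4, nat_lit 7, nat_lit 3, nat_lit 4, nat_lit 8, nat_lit 2, nat_lit 3, nat_lit 0, nat_lit 1], [nat_lit 2, nat_lit 17, nat_lit 11, nat_lit 17], (nat_lit 2121)), ((nat_lit 2552), [nat_lit 4, nat_lit 7, nat_lit 7, nat_lit 2, nat_lit 3, nat_lit 4, nat_lit 7, nat_lit 2, nat_lit 3, nat_lit 0, nat_lit 1], [nat_lit 24, nat_lit 2, nat_lit 17], (nat_lit 2161)), ((nat_lit 410), [nat_lit 2, nat_lit 3, nat_lit 4, nat_lit 7, nat_lit 6, nat_lit 2, nat_lit 3, nat_lit 4, nat_lit 7, nat_lit 2, nat_lit 3, nat_lit 0, nat_lit 1], [nat_lit 1, nat_lit 14, nat_lit 16, nat_lit 16, nat_lit 11, nat_lit 26], (nat_lit 5631)), ((nat_lit 2194), [nat_lit 7, nat_lit 4, nat_lit 7, nat_lit 3, nat_lit 2, nat_lit 3, nat_lit 4, nat_lit 8, nat_lit 3, nat_lit 4, nat_lit 2, nat_lit 3, nat_lit 1], [nat_lit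 5, nat_lit 0, nat_lit 25, nat_lit 37], (nat_lit 6639)), ((nat_lit 2084), [nat_lit 5, nat_lit 2, nat_lit 3, nat_lit 4, nat_lit 7, nat_lit 4, nat_lit 2, nat_lit 3, nat_lit 0, nat_lit 1], [nat_lit 1, nat_lit 16, nat_lit 25, nat_lit 27], (nat_lit 1206)), ((nat_lit 546), [nat_lit 2, nat_lit 3, nat_lit 1, nat_lit 2, nat_lit 3, nat_lit 4, nat_lit 8, nat_lit 3, nat_lit 4, nat_lit 7, nat_lit 2, nat_lit 3, nat_lit 0, nat_lit 1], [nat_lit 15, nat_lit 2, nat_lit 36, nat_lit 18, nat_lit 15, nat_lit 27], (nat_lit 8677)), ((nat_lit 1548), [nat_lit 7, nat_lit 6, nat_lit 3, nat_lit 4, nat_lit 7, nat_lit 4, nat_lit 2, nat_lit 3, nat_lit 0, nat_lit 1], [nat_lit 16, nat_lit 5, nat_lit 0, nat_lit 32, nat_lit 34, nat_lit 16, nat_lit 27], (nat_lit 1208)), ((nat_lit 1555), [nat_lit 0, nat_lit 1, nat_lit 2, nat_lit 3, nat_lit 4, nat_lit 7, nat_lit 1, nat_lit 2, nat_lit 3, nat_lit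 4, nat_lit 8, nat_lit 2, nat_lit 3, nat_lit 0, nat_lit 1], [nat_lit 24, nat_lit 2, nat_lit 25, nat_lit 37, nat_lit 17], (nat_lit 12081)), ((nat_lit 1709), [nat_lit 7, nat_lit 1, nat_lit 2, nat_lit 3, nat_lit 4, nat_lit 7, nat_lit 4, nat_lit 1, nat_lit 2, nat_lit 3, nat_lit 0, nat_lit 1], [nat_lit 2, nat_lit 0, nat_lit 33, nat_lit 33, nat_lit 11], (nat_lit 2958)), ((nat_lit 773), [nat_lit 8, nat_lit 4, nat_lit 8, nat_lit 3, nat_lit 4, nat_lit 7, nat_lit 5, nat_lit 1, nat_lit 2, nat_lit 3, nat_lit 4, nat_lit 8, nat_lit 2, nat_lit 3, nat_lit 1], [nat_lit 24, nat_lit 15, nat_lit 0, nat_lit 35, nat_lit 32, nat_lit 26], (nat_lit 14290)), ((nat_lit 1559), [nat_lit 7, nat_lit 5, nat_lit 2, nat_lit 3, nat_lit 4, nat_lit 8, nat_lit 2, nat_lit 3, nat_lit 0, nat_lit 1], [nat_lit 16, nat_lit 5, nat_lit 2, nat_lit 17, nat_lit 25, nat_lit 15, nat_lit 26], (nat_lit 1219)),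 ((nat_lit 1453), [nat_lit 6, nat_lit 4, nat_lit 8, nat_lit 0, nat_lit 1, nat_lit 2, nat_lit 3, nat_lit 4, nat_lit 8, nat_lit 1, nat_lit 2, nat_lit 3, nat_lit 0, nat_lit 1], [nat_lit 1, nat_lit 14, nat_lit 18, nat_lit 11, nat_lit 15], (nat_lit 7437)), ((nat_lit 2074), [nat_lit 6, nat_lit 0, nat_lit 1, nat_lit 2, nat_lit 3, nat_lit 4, nat_lit 8, nat_lit 2, nat_lit 3, nat_lit 4, nat_lit 2, nat_lit 3, nat_lit 0, nat_lit 1], [nat_lit 24, nat_lit 15, nat_lit 0, nat_lit 33, nat_lit 26], (nat_lit 8114)), ((nat_lit 2358), [nat_lit 5, nat_lit 2, nat_lit 3, nat_lit 4, nat_lit 8, nat_lit 1, nat_lit 2, nat_lit 3, nat_lit 4, nat_lit 7, nat_lit 2, nat_lit 3, nat_lit 0, nat_lit 1], [nat_lit 25, nat_lit 1, nat_lit 16, nat_lit 24, nat_lit 27], (nat_lit 8568)), ((nat_lit 2082), [nat_lit 3, nat_lit 2, nat_lit 3, nat_lit 4, nat_lit 8, nat_lit 3, nat_lit 4, nat_lit 7, nat_lit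 2, nat_lit 3, nat_lit 1], [nat_lit 24, nat_lit 15, nat_lit 0, nat_lit 15, nat_lit 35, nat_lit 11, nat_lit 27], (nat_lit 2741)), ((nat_lit 625), [nat_lit 6, nat_lit 3, nat_lit 1, nat_lit 2, nat_lit 3, nat_lit 4, nat_lit 7, nat_lit 1, nat_lit 2, nat_lit 3, nat_lit 4, nat_lit 8, nat_lit 2, nat_lit 3, nat_lit 1], [nat_lit 10, nat_lit 10, nat_lit 0, nat_lit 34, nat_lit 24, nat_lit 17, nat_lit 26], (nat_lit 14296)), ((nat_lit 2125), [nat_lit 7, nat_lit 4, nat_lit 8, nat_lit 3, nat_lit 1, nat_lit 2, nat_lit 3, nat_lit 4, nat_lit 7, nat_lit 3, nat_lit 2, nat_lit 3, nat_lit 0, nat_lit 1], [nat_lit 17, nat_lit 24, nat_lit 0, nat_lit 16, nat_lit 25], (nat_lit 7942)), ((nat_lit 661), [nat_lit 4, nat_lit 7, nat_lit 4, nat_lit 7, nat_lit 2, nat_lit 3, nat_lit 4, nat_lit 8, nat_lit 2, nat_lit 3, nat_lit 4, nat_lit 2, nat_lit 3, nat_lit 1], [nat_lit 24, nat_lit 2, nat_lit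 17, nat_lit 25, nat_lit 15, nat_lit 26], (nat_lit 9906)), ((nat_lit 2004), [nat_lit 7, nat_lit 4, nat_lit 8, nat_lit 1, nat_lit 2, nat_lit 3, nat_lit 4, nat_lit 7, nat_lit 3, nat_lit 1, nat_lit 2, nat_lit 3, nat_lit 0, nat_lit 1], [nat_lit 17, nat_lit 24, nat_lit 0, nat_lit 37, nat_lit 32, nat_lit 27], (nat_lit 7324)), ((nat_lit 1570), [nat_lit 4, nat_lit 8, nat_lit 2, nat_lit 3, nat_lit 4, nat_lit 7, nat_lit 2, nat_lit 3, nat_lit 0, nat_lit 1], [nat_lit 5, nat_lit 34, nat_lit 17, nat_lit 11, nat_lit 27], (nat_lit 1246)), ((nat_lit 2136), [nat_lit 4, nat_lit 8, nat_lit 3, nat_lit 4, nat_lit 7, nat_lit 1, nat_lit 2, nat_lit 3, nat_lit 4, nat_lit 8, nat_lit 2, nat_lit 3, nat_lit 0, nat_lit 1], [nat_lit 2, nat_lit 26, nat_lit 16, nat_lit 11], (nat_lit 8418)), ((nat_lit 1656), [nat_lit 6, nat_lit 7, nat_lit 4, nat_lit 8, nat_lit 3, nat_lit 4, nat_lit 8, nat_lit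 1, nat_lit 2, nat_lit 3, nat_lit 4, nat_lit 8, nat_lit 3, nat_lit 2, nat_lit 3, nat_lit 1], [nat_lit 1, nat_lit 35, nat_lit 27], (nat_lit 16248)), ((nat_lit 1246), [nat_lit 7, nat_lit 6, nat_lit 2, nat_lit 3, nat_lit 4, nat_lit 7, nat_lit 2, nat_lit 3, nat_lit 0, nat_lit 1], [nat_lit 1, nat_lit 27, nat_lit 24, nat_lit 26], (nat_lit 1244)), ((nat_lit 1075), [nat_lit 6, nat_lit 2, nat_lit 3, nat_lit 4, nat_lit 8, nat_lit 1, nat_lit 2, nat_lit 3, nat_lit 4, nat_lit 2, nat_lit 3, nat_lit 0, nat_lit 1], [nat_lit 0, nat_lit 2, nat_lit 25, nat_lit 15, nat_lit 27], (nat_lit 5282)), ((nat_lit 1296), [nat_lit 4, nat_lit 8, nat_lit 3, nat_lit 4, nat_lit 8, nat_lit 3, nat_lit 1, nat_lit 2, nat_lit 3, nat_lit 4, nat_lit 7, nat_lit 3, nat_lit 2, nat_lit 3, nat_lit 0, nat_lit 1], [nat_lit 17, nat_lit 2, nat_lit 0, nat_lit 15, nat_lit 32, nat_lit 11], (nat_lit 15136)),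 ((nat_lit 2275), [nat_lit 8, nat_lit 4, nat_lit 8, nat_lit 3, nat_lit 4, nat_lit 7, nat_lit 2, nat_lit 3, nat_lit 4, nat_lit 8, nat_lit 2, nat_lit 3, nat_lit 0, nat_lit 1], [nat_lit 26, nat_lit 24, nat_lit 0, nat_lit 34, nat_lit 24, nat_lit 15, nat_lit 26], (nat_lit 8503)), ((nat_lit 2127), [nat_lit 7, nat_lit 4, nat_lit 8, nat_lit 5, nat_lit 3, nat_lit 1, nat_lit 2, nat_lit 3, nat_lit 4, nat_lit 8, nat_lit 3, nat_lit 2, nat_lit 3, nat_lit 0, nat_lit 1], [nat_lit 11, nat_lit 2, nat_lit 0, nat_lit 11, nat_lit 36, nat_lit 27], (nat_lit 11431)), ((nat_lit 1492), [nat_lit 6, nat_lit 3, nat_lit 4, nat_lit 7, nat_lit 2, nat_lit 3, nat_lit 4, nat_lit 8, nat_lit 2, nat_lit 3, nat_lit 1], [nat_lit 5, nat_lit 0, nat_lit 18, nat_lit 11], (nat_lit 2648)), ((nat_lit 1460), [nat_lit 3, nat_lit 2, nat_lit 3, nat_lit 4, nat_lit 7, nat_lit 3, nat_lit 4, nat_lit 8, nat_lit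 4, nat_lit 2, nat_lit 3, nat_lit 1], [nat_lit 15, nat_lit 0, nat_lit 36, nat_lit 17], (nat_lit 4249)), ((nat_lit 1867), [nat_lit 6, nat_lit 4, nat_lit 7, nat_lit 2, nat_lit 3, nat_lit 4, nat_lit 8, nat_lit 4, nat_lit 2, nat_lit 3, nat_lit 0, nat_lit 1], [nat_lit 24, nat_lit 2, nat_lit 0, nat_lit 27, nat_lit 18, nat_lit 11], (nat_lit 3456)), ((nat_lit 2372), [nat_lit 4, nat_lit 7, nat_lit 2, nat_lit 3, nat_lit 4, nat_lit 7, nat_lit 4, nat_lit 2, nat_lit 3, nat_lit 0, nat_lit 1], [nat_lit 26, nat_lit 24, nat_lit 0, nat_lit 25, nat_lit 36, nat_lit 11, nat_lit 26], (nat_lit 2072)), ((nat_lit 775), [nat_lit 7, nat_lit 4, nat_lit 8, nat_lit 4, nat_lit 2, nat_lit 3, nat_lit 2, nat_lit 3, nat_lit 4, nat_lit 8, nat_lit 3, nat_lit 4, nat_lit 3, nat_lit 2, nat_lit 3, nat_lit 1], [nat_lit 26, nat_lit 2, nat_lit 15, nat_lit 32, nat_lit 11, nat_lit 26], (nat_lit 15884)),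 ((nat_lit 1052), [nat_lit 7, nat_lit 0, nat_lit 1, nat_lit 2, nat_lit 3, nat_lit 4, nat_lit 8, nat_lit 2, nat_lit 3, nat_lit 4, nat_lit 7, nat_lit 2, nat_lit 3, nat_lit 1], [nat_lit 24, nat_lit 1, nat_lit 34, nat_lit 17, nat_lit 11, nat_lit 27], (nat_lit 10764)), ((nat_lit 2134), [nat_lit 8, nat_lit 8, nat_lit 1, nat_lit 2, nat_lit 3, nat_lit 4, nat_lit 7, nat_lit 1, nat_lit 2, nat_lit 3, nat_lit 0, nat_lit 1], [nat_lit 15, nat_lit 5, nat_lit 25, nat_lit 37, nat_lit 15], (nat_lit 3055)), ((nat_lit 2123), [nat_lit 3, nat_lit 1, nat_lit 2, nat_lit 3, nat_lit 4, nat_lit 7, nat_lit 5, nat_lit 1, nat_lit 2, nat_lit 3, nat_lit 4, nat_lit 8, nat_lit 2, nat_lit 3, nat_lit 1], [nat_lit 5, nat_lit 34, nat_lit 32], (nat_lit 14283)), ((nat_lit 2171), [nat_lit 8, nat_lit 4, nat_lit 7, nat_lit 1, nat_lit 2, nat_lit 3, nat_lit 4, nat_lit 8, nat_lit 3, nat_lit 1, nat_lit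 2, nat_lit 3, nat_lit 0, nat_lit 1], [nat_lit 1, nat_lit 1, nat_lit 32, nat_lit 37, nat_lit 15], (nat_lit 7286)), ((nat_lit 1353), [nat_lit 4, nat_lit 7, nat_lit 2, nat_lit 3, nat_lit 4, nat_lit 8, nat_lit 4, nat_lit 2, nat_lit 3, nat_lit 0, nat_lit 1], [nat_lit 14, nat_lit 35, nat_lit 16, nat_lit 16, nat_lit 26], (nat_lit 2058)), ((nat_lit 1828), [nat_lit 0, nat_lit 1, nat_lit 2, nat_lit 3, nat_lit 4, nat_lit 8, nat_lit 3, nat_lit 4, nat_lit 7, nat_lit 1, nat_lit 2, nat_lit 3, nat_lit 0, nat_lit 1], [nat_lit 1, nat_lit 5, nat_lit 32, nat_lit 27], (nat_lit 7530)), ((nat_lit 2455), [nat_lit 4, nat_lit 8, nat_lit 2, nat_lit 3, nat_lit 4, nat_lit 3, nat_lit 1, nat_lit 2, nat_lit 3, nat_lit 0, nat_lit 1], [nat_lit 17, nat_lit 2, nat_lit 0, nat_lit 26, nat_lit 15, nat_lit 26], (nat_lit 1652)), ((nat_lit 662), [nat_lit 1, nat_lit 2, nat_lit 3, nat_lit 0, nat_lit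 1, nat_lit 2, nat_lit 3, nat_lit 4, nat_lit 7, nat_lit 4, nat_lit 3, nat_lit 2, nat_lit 3, nat_lit 1], [nat_lit 24, nat_lit 2, nat_lit 0, nat_lit 32, nat_lit 32, nat_lit 11, nat_lit 27], (nat_lit 9122)), ((nat_lit 1522), [nat_lit 8, nat_lit 3, nat_lit 4, nat_lit 8, nat_lit 1, nat_lit 2, nat_lit 3, nat_lit 4, nat_lit 8, nat_lit 4, nat_lit 2, nat_lit 3, nat_lit 1], [nat_lit 1, nat_lit 25, nat_lit 37, nat_lit 17], (nat_lit 6755)), ((nat_lit 1733), [nat_lit 4, nat_lit 3, nat_lit 0, nat_lit 1, nat_lit 2, nat_lit 3, nat_lit 4, nat_lit 7, nat_lit 4, nat_lit 7, nat_lit 4, nat_lit 3, nat_lit 2, nat_lit 3, nat_lit 1], [nat_lit 11, nat_lit 2, nat_lit 0, nat_lit 36], (nat_lit 13021)), ((nat_lit 2384), [nat_lit 6, nat_lit 4, nat_lit 3, nat_lit 2, nat_lit 3, nat_lit 4, nat_lit 8, nat_lit 4, nat_lit 3, nat_lit 2, nat_lit 3, nat_lit 0, nat_lit 1], [nat_lit 14, nat_lit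 11, nat_lit 16, nat_lit 27], (nat_lit 5051))] m5_5_5 m5_5_6) = 0 := by decide +kernel

end H16.THc
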