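import Cfsg.Agent.H16.D.THc.D

/-! Generated by tools/h16 (computation kit). -/

set_option maxRecDepth 100000
set_option maxHeartbeats 0

namespace H16.THc

open H26 (jn)
open DC
theorem e5_5_7 : dt.run q (fun c => c.edges (SP THn.T THn.Rl (nat_lit 15)) (nat_lit 4429) THn.T.n (nat_lit 5) (nat_lit 5)
  [((nat_lit 846), [nat_lit 7, nat_lit 5, nat_lit 3, nat_lit 2, nat_lit 3, nat_lit 1, nat_lit 2, nat_lit 3, nat_lit 4, nat_lit 8, nat_lit 4, nat_lit 3, nat_lit 2, nat_lit 3, nat_lit 1], [nat_lit 32, nat_lit 18, nat_lit 15, nat_lit 27], (nat_lit 12866)), ((nat_lit 427), [nat_lit 8, nat_lit 8, nat_lit 3, nat_lit 2, nat_lit 3, nat_lit 1, nat_lit 2, nat_lit 3, nat_lit 4, nat_lit 8, nat_lit 3, nat_lit 2, nat_lit 3, nat_lit 1], [nat_lit 17, nat_lit 15, nat_lit 11, nat_lit 26], (nat_lit 9262)), ((nat_lit 567), [nat_lit 8, nat_lit 4, nat_lit 7, nat_lit 5, nat_lit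 2, nat_lit 3, nat_lit 4, nat_lit 8, nat_lit 1, nat_lit 2, nat_lit 3, nat_lit 0, nat_lit 1], [nat_lit 10, nat_lit 10, nat_lit 0, nat_lit 18, nat_lit 11, nat_lit 15, nat_lit 26], (nat_lit 4819)), ((nat_lit 599), [nat_lit 6, nat_lit 8, nat_lit 3, nat_lit 2, nat_lit 3, nat_lit 4, nat_lit 3, nat_lit 2, nat_lit 3, nat_lit 1], [nat_lit 10, nat_lit 0, nat_lit 33, nat_lit 37, nat_lit 11, nat_lit 27], (nat_lit 1281)), ((nat_lit 2443), [nat_lit 8, nat_lit 8, nat_lit 4, nat_lit 8, nat_lit 3, nat_lit 4, nat_lit 8, nat_lit 4, nat_lit 1, nat_lit 2, nat_lit 3, nat_lit 0, nat_lit 1], [nat_lit 16, nat_lit 5, nat_lit 2, nat_lit 37, nat_lit 34, nat_lit 11, nat_lit 26], (nat_lit 4755)), ((nat_lit 1083), [nat_lit 8, nat_lit 0, nat_lit 1, nat_lit 2, nat_lit 3, nat_lit 4, nat_lit 7, nat_lit 4, nat_lit 3, nat_lit 2, nat_lit 3, nat_lit 1], [nat_lit 16, nat_lit 0, nat_lit 25,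 nat_lit 11, nat_lit 26], (nat_lit 3795)), ((nat_lit 2451), [nat_lit 6, nat_lit 4, nat_lit 7, nat_lit 1, nat_lit 2, nat_lit 3, nat_lit 0, nat_lit 1, nat_lit 2, nat_lit 3, nat_lit 4, nat_lit 3, nat_lit 2, nat_lit 3, nat_lit 1], [nat_lit 25, nat_lit 14, nat_lit 0, nat_lit 26, nat_lit 24, nat_lit 11, nat_lit 26], (nat_lit 12385)), ((nat_lit 541), [nat_lit 7, nat_lit 7, nat_lit 4, nat_lit 7, nat_lit 3, nat_lit 4, nat_lit 7, nat_lit 1, nat_lit 2, nat_lit 3, nat_lit 0, nat_lit 1], [nat_lit 35, nat_lit 32, nat_lit 11, nat_lit 27], (nat_lit 3100)), ((nat_lit 1561), [nat_lit 3, nat_lit 4, nat_lit 8, nat_lit 2, nat_lit 3, nat_lit 4, nat_lit 3, nat_lit 2, nat_lit 3, nat_lit 1], [nat_lit 25, nat_lit 1, nat_lit 35, nat_lit 17, nat_lit 16, nat_lit 27], (nat_lit 1286)), ((nat_lit 1869), [nat_lit 6, nat_lit 4, nat_lit 8, nat_lit 2, nat_lit 3, nat_lit 4, nat_lit 3,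 nat_lit 2, nat_lit 3, nat_lit 1], [nat_lit 5, nat_lit 0, nat_lit 36, nat_lit 18, nat_lit 27], (nat_lit 1287)), ((nat_lit 1943), [nat_lit 5, nat_lit 4, nat_lit 8, nat_lit 2, nat_lit 3, nat_lit 4, nat_lit 3, nat_lit 2, nat_lit 3, nat_lit 1], [nat_lit 15, nat_lit 1, nat_lit 33, nat_lit 33, nat_lit 27], (nat_lit 1288)), ((nat_lit 407), [nat_lit 8, nat_lit 4, nat_lit 8, nat_lit 2, nat_lit 3, nat_lit 4, nat_lit 3, nat_lit 2, nat_lit 3, nat_lit 1], [nat_lit 0, nat_lit 2, nat_lit 24, nat_lit 18, nat_lit 27], (nat_lit 1289)), ((nat_lit 2470), [nat_lit 6, nat_lit 4, nat_lit 8, nat_lit 2, nat_lit 3, nat_lit 4, nat_lit 7, nat_lit 1, nat_lit 2, nat_lit 3, nat_lit 4, nat_lit 2, nat_lit 3, nat_lit 0, nat_lit 1], [nat_lit 24, nat_lit 2, nat_lit 0, nat_lit 24, nat_lit 37, nat_lit 17], (nat_lit 11767)), ((nat_lit 1381), [nat_lit 3, nat_lit 4, nat_lit 7, nat_lit 2,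 nat_lit 3, nat_lit 4, nat_lit 3, nat_lit 2, nat_lit 3, nat_lit 1], [nat_lit 16, nat_lit 2, nat_lit 15, nat_lit 15], (nat_lit 1291)), ((nat_lit 2203), [nat_lit 4, nat_lit 8, nat_lit 5, nat_lit 2, nat_lit 3, nat_lit 1, nat_lit 2, nat_lit 3, nat_lit 4, nat_lit 7, nat_lit 3, nat_lit 4, nat_lit 2, nat_lit 3, nat_lit 1], [nat_lit 1, nat_lit 34, nat_lit 26], (nat_lit 14110)), ((nat_lit 780), [nat_lit 5, nat_lit 4, nat_lit 7, nat_lit 2, nat_lit 3, nat_lit 4, nat_lit 3, nat_lit 2, nat_lit 3, nat_lit 1], [nat_lit 0, nat_lit 11], (nat_lit 1293)), ((nat_lit 1123), [nat_lit 7, nat_lit 4, nat_lit 7, nat_lit 2, nat_lit 3, nat_lit 4, nat_lit 3, nat_lit 2, nat_lit 3, nat_lit 1], [nat_lit 17, nat_lit 24, nat_lit 0, nat_lit 37, nat_lit 34, nat_lit 25, nat_lit 27], (nat_lit 1295)), ((nat_lit 2163), [nat_lit 8, nat_lit 4, nat_lit 8, nat_lit 8, nat_lit 3, nat_lit 4, nat_lit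 8, nat_lit 2, nat_lit 3, nat_lit 4, nat_lit 2, nat_lit 3, nat_lit 1], [nat_lit 5, nat_lit 11, nat_lit 17, nat_lit 27], (nat_lit 6479)), ((nat_lit 2102), [nat_lit 8, nat_lit 5, nat_lit 4, nat_lit 7, nat_lit 2, nat_lit 3, nat_lit 4, nat_lit 7, nat_lit 2, nat_lit 3, nat_lit 4, nat_lit 2, nat_lit 3, nat_lit 1], [nat_lit 14, nat_lit 26, nat_lit 15, nat_lit 15, nat_lit 27], (nat_lit 9999)), ((nat_lit 1580), [nat_lit 4, nat_lit 7, nat_lit 1, nat_lit 2, nat_lit 3, nat_lit 4, nat_lit 8, nat_lit 3, nat_lit 4, nat_lit 3, nat_lit 2, nat_lit 3, nat_lit 0, nat_lit 1], [nat_lit 1, nat_lit 1, nat_lit 26, nat_lit 24, nat_lit 11], (nat_lit 7663)), ((nat_lit 1793), [nat_lit 5, nat_lit 7, nat_lit 3, nat_lit 4, nat_lit 7, nat_lit 2, nat_lit 3, nat_lit 4, nat_lit 7, nat_lit 2, nat_lit 3, nat_lit 4, nat_lit 8, nat_lit 2, nat_lit 3, nat_lit 1], [nat_lit 5, nat_lit 2, nat_lit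 0, nat_lit 34, nat_lit 25, nat_lit 11, nat_lit 27], (nat_lit 16762)), ((nat_lit 1998), [nat_lit 8, nat_lit 8, nat_lit 4, nat_lit 7, nat_lit 3, nat_lit 4, nat_lit 7, nat_lit 0, nat_lit 1, nat_lit 2, nat_lit 3, nat_lit 4, nat_lit 2, nat_lit 3, nat_lit 1], [nat_lit 5, nat_lit 16, nat_lit 2, nat_lit 18, nat_lit 11, nat_lit 15, nat_lit 26], (nat_lit 13650)), ((nat_lit 1299), [nat_lit 7, nat_lit 7, nat_lit 4, nat_lit 7, nat_lit 3, nat_lit 4, nat_lit 7, nat_lit 2, nat_lit 3, nat_lit 4, nat_lit 7, nat_lit 2, nat_lit 3, nat_lit 1], [nat_lit 24, nat_lit 1, nat_lit 25, nat_lit 15], (nat_lit 10864)), ((nat_lit 2299), [nat_lit 2, nat_lit 3, nat_lit 4, nat_lit 7, nat_lit 3, nat_lit 4, nat_lit 3, nat_lit 2, nat_lit 3, nat_lit 1], [nat_lit 5, nat_lit 33, nat_lit 16, nat_lit 11], (nat_lit 1304)), ((nat_lit 2444), [nat_lit 8, nat_lit 3, nat_lit 4, nat_lit 7, nat_lit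 3, nat_lit 4, nat_lit 3, nat_lit 2, nat_lit 3, nat_lit 1], [nat_lit 15, nat_lit 2, nat_lit 17, nat_lit 17, nat_lit 11, nat_lit 26], (nat_lit 1307)), ((nat_lit 1768), [nat_lit 4, nat_lit 7, nat_lit 1, nat_lit 2, nat_lit 3, nat_lit 4, nat_lit 7, nat_lit 3, nat_lit 4, nat_lit 3, nat_lit 2, nat_lit 3, nat_lit 0, nat_lit 1], [nat_lit 16, nat_lit 5, nat_lit 0, nat_lit 15, nat_lit 35, nat_lit 11, nat_lit 26], (nat_lit 7688)), ((nat_lit 2459), [nat_lit 7, nat_lit 7, nat_lit 4, nat_lit 3, nat_lit 2, nat_lit 3, nat_lit 4, nat_lit 7, nat_lit 4, nat_lit 2, nat_lit 3, nat_lit 1], [nat_lit 25, nat_lit 2, nat_lit 0, nat_lit 36, nat_lit 25, nat_lit 27], (nat_lit 4272)), ((nat_lit 1764), [nat_lit 8, nat_lit 5, nat_lit 4, nat_lit 7, nat_lit 3, nat_lit 4, nat_lit 3, nat_lit 2, nat_lit 3, nat_lit 1], [nat_lit 5, nat_lit 16, nat_lit 2, nat_lit 25, nat_lit 37, nat_lit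 11, nat_lit 27], (nat_lit 1310)), ((nat_lit 466), [nat_lit 4, nat_lit 7, nat_lit 4, nat_lit 7, nat_lit 3, nat_lit 4, nat_lit 3, nat_lit 2, nat_lit 3, nat_lit 1], [nat_lit 16, nat_lit 2, nat_lit 34, nat_lit 17, nat_lit 33, nat_lit 26], (nat_lit 1311)), ((nat_lit 2287), [nat_lit 3, nat_lit 2, nat_lit 3, nat_lit 1, nat_lit 2, nat_lit 3, nat_lit 4, nat_lit 7, nat_lit 4, nat_lit 3, nat_lit 2, nat_lit 3, nat_lit 1], [nat_lit 24, nat_lit 0, nat_lit 24, nat_lit 37, nat_lit 11, nat_lit 26], (nat_lit 5976)), ((nat_lit 489), [nat_lit 4, nat_lit 8, nat_lit 4, nat_lit 8, nat_lit 3, nat_lit 4, nat_lit 8, nat_lit 4, nat_lit 1, nat_lit 2, nat_lit 3, nat_lit 0, nat_lit 1], [nat_lit 24, nat_lit 0, nat_lit 33, nat_lit 16, nat_lit 11, nat_lit 26], (nat_lit 4753)), ((nat_lit 455), [nat_lit 7, nat_lit 4, nat_lit 7, nat_lit 3, nat_lit 1, nat_lit 2, nat_lit 3, nat_lit 4,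 nat_lit 3, nat_lit 2, nat_lit 3, nat_lit 1], [nat_lit 24, nat_lit 2, nat_lit 0, nat_lit 37, nat_lit 27], (nat_lit 3666)), ((nat_lit 2108), [nat_lit 4, nat_lit 8, nat_lit 0, nat_lit 1, nat_lit 2, nat_lit 3, nat_lit 4, nat_lit 8, nat_lit 4, nat_lit 3, nat_lit 2, nat_lit 3, nat_lit 0, nat_lit 1], [nat_lit 26, nat_lit 2, nat_lit 16, nat_lit 11, nat_lit 27], (nat_lit 7706)), ((nat_lit 1011), [nat_lit 6, nat_lit 8, nat_lit 4, nat_lit 8, nat_lit 3, nat_lit 0, nat_lit 1, nat_lit 2, nat_lit 3, nat_lit 4, nat_lit 8, nat_lit 3, nat_lit 2, nat_lit 3, nat_lit 0, nat_lit 1], [nat_lit 0, nat_lit 24, nat_lit 37], (nat_lit 14981)), ((nat_lit 2274), [nat_lit 8, nat_lit 1, nat_lit 2, nat_lit 3, nat_lit 4, nat_lit 8, nat_lit 4, nat_lit 3, nat_lit 2, nat_lit 3, nat_lit 0, nat_lit 1], [nat_lit 18, nat_lit 15, nat_lit 0, nat_lit 34, nat_lit 37, nat_lit 11, nat_lit 26],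 (nat_lit 3182)), ((nat_lit 2322), [nat_lit 7, nat_lit 3, nat_lit 4, nat_lit 8, nat_lit 2, nat_lit 3, nat_lit 1, nat_lit 2, nat_lit 3, nat_lit 4, nat_lit 7, nat_lit 3, nat_lit 2, nat_lit 3, nat_lit 0, nat_lit 1], [nat_lit 16, nat_lit 0, nat_lit 36, nat_lit 33, nat_lit 11, nat_lit 27], (nat_lit 15115)), ((nat_lit 1280), [nat_lit 4, nat_lit 3, nat_lit 2, nat_lit 3, nat_lit 4, nat_lit 7, nat_lit 4, nat_lit 7, nat_lit 4, nat_lit 3, nat_lit 2, nat_lit 3, nat_lit 0, nat_lit 1], [nat_lit 5, nat_lit 16, nat_lit 2, nat_lit 11, nat_lit 15], (nat_lit 7770)), ((nat_lit 2453), [nat_lit 4, nat_lit 1, nat_lit 2, nat_lit 3, nat_lit 0, nat_lit 1, nat_lit 2, nat_lit 3, nat_lit 4, nat_lit 7, nat_lit 4, nat_lit 3, nat_lit 2, nat_lit 3, nat_lit 1], [nat_lit 5, nat_lit 14, nat_lit 35, nat_lit 32, nat_lit 11], (nat_lit 12917)), ((nat_lit 1545), [nat_lit 7, nat_lit 7, nat_lit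 4, nat_lit 7, nat_lit 2, nat_lit 3, nat_lit 0, nat_lit 1, nat_lit 2, nat_lit 3, nat_lit 4, nat_lit 3, nat_lit 2, nat_lit 3, nat_lit 1], [nat_lit 14, nat_lit 15, nat_lit 0, nat_lit 24, nat_lit 17], (nat_lit 12410)), ((nat_lit 2112), [nat_lit 8, nat_lit 4, nat_lit 8, nat_lit 2, nat_lit 3, nat_lit 0, nat_lit 1, nat_lit 2, nat_lit 3, nat_lit 4, nat_lit 3, nat_lit 2, nat_lit 3, nat_lit 0, nat_lit 1], [nat_lit 15, nat_lit 5, nat_lit 17, nat_lit 15, nat_lit 27], (nat_lit 11103)), ((nat_lit 1040), [nat_lit 7, nat_lit 4, nat_lit 8, nat_lit 3, nat_lit 1, nat_lit 2, nat_lit 3, nat_lit 4, nat_lit 8, nat_lit 4, nat_lit 3, nat_lit 2, nat_lit 3, nat_lit 1], [nat_lit 0, nat_lit 2, nat_lit 36, nat_lit 18, nat_lit 15, nat_lit 26], (nat_lit 9087)), ((nat_lit 453), [nat_lit 7, nat_lit 2, nat_lit 3, nat_lit 4, nat_lit 7, nat_lit 0, nat_lit 1, nat_lit 2, nat_lit 3, nat_lit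 4, nat_lit 3, nat_lit 2, nat_lit 3, nat_lit 1], [nat_lit 5, nat_lit 0, nat_lit 35, nat_lit 33, nat_lit 11], (nat_lit 8736)), ((nat_lit 1538), [nat_lit 7, nat_lit 4, nat_lit 7, nat_lit 5, nat_lit 3, nat_lit 0, nat_lit 1, nat_lit 2, nat_lit 3, nat_lit 4, nat_lit 8, nat_lit 3, nat_lit 2, nat_lit 3, nat_lit 1], [nat_lit 11, nat_lit 2, nat_lit 0, nat_lit 36, nat_lit 25, nat_lit 27], (nat_lit 13050)), ((nat_lit 2087), [nat_lit 3, nat_lit 4, nat_lit 7, nat_lit 1, nat_lit 2, nat_lit 3, nat_lit 4, nat_lit 8, nat_lit 2, nat_lit 3, nat_lit 4, nat_lit 2, nat_lit 3, nat_lit 0, nat_lit 1], [nat_lit 24, nat_lit 15, nat_lit 0, nat_lit 36, nat_lit 33, nat_lit 24], (nat_lit 11804)), ((nat_lit 2092), [nat_lit 4, nat_lit 8, nat_lit 3, nat_lit 4, nat_lit 7, nat_lit 4, nat_lit 3, nat_lit 2, nat_lit 3, nat_lit 1], [nat_lit 0, nat_lit 2, nat_lit 37, nat_lit 34, nat_lit 24,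 nat_lit 26], (nat_lit 1331)), ((nat_lit 2326), [nat_lit 4, nat_lit 8, nat_lit 4, nat_lit 8, nat_lit 2, nat_lit 3, nat_lit 4, nat_lit 8, nat_lit 2, nat_lit 3, nat_lit 4, nat_lit 2, nat_lit 3, nat_lit 1], [nat_lit 26, nat_lit 2, nat_lit 24, nat_lit 37, nat_lit 17], (nat_lit 9886)), ((nat_lit 801), [nat_lit 5, nat_lit 8, nat_lit 4, nat_lit 8, nat_lit 3, nat_lit 0, nat_lit 1, nat_lit 2, nat_lit 3, nat_lit 4, nat_lit 8, nat_lit 3, nat_lit 2, nat_lit 3, nat_lit 0, nat_lit 1], [nat_lit 1, nat_lit 18, nat_lit 16, nat_lit 11, nat_lit 26], (nat_lit 14982)), ((nat_lit 796), [nat_lit 5, nat_lit 7, nat_lit 4, nat_lit 8, nat_lit 3, nat_lit 4, nat_lit 7, nat_lit 1, nat_lit 2, nat_lit 3, nat_lit 0, nat_lit 1], [nat_lit 14, nat_lit 0, nat_lit 37, nat_lit 25, nat_lit 26], (nat_lit 3089)), ((nat_lit 304), [nat_lit 7, nat_lit 4, nat_lit 8, nat_lit 0, nat_lit 1, nat_lit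 2, nat_lit 3, nat_lit 4, nat_lit 2, nat_lit 3, nat_lit 1], [nat_lit 27, nat_lit 25], (nat_lit 2428)), ((nat_lit 409), [nat_lit 7, nat_lit 3, nat_lit 2, nat_lit 3, nat_lit 4, nat_lit 8, nat_lit 3, nat_lit 2, nat_lit 3, nat_lit 1], [nat_lit 2, nat_lit 0, nat_lit 37, nat_lit 26], (nat_lit 1343)), ((nat_lit 744), [nat_lit 5, nat_lit 7, nat_lit 4, nat_lit 8, nat_lit 3, nat_lit 1, nat_lit 2, nat_lit 3, nat_lit 4, nat_lit 8, nat_lit 4, nat_lit 3, nat_lit 2, nat_lit 3, nat_lit 1], [nat_lit 1, nat_lit 1, nat_lit 33, nat_lit 24], (nat_lit 12900)), ((nat_lit 1141), [nat_lit 4, nat_lit 8, nat_lit 5, nat_lit 0, nat_lit 1, nat_lit 2, nat_lit 3, nat_lit 4, nat_lit 8, nat_lit 3, nat_lit 2, nat_lit 3, nat_lit 0, nat_lit 1], [nat_lit 5, nat_lit 25, nat_lit 11], (nat_lit 7785)), ((nat_lit 1310), [nat_lit 5, nat_lit 8, nat_lit 3, nat_lit 1, nat_lit 2, nat_lit 3, nat_lit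 4, nat_lit 7, nat_lit 1, nat_lit 2, nat_lit 3, nat_lit 4, nat_lit 2, nat_lit 3, nat_lit 1], [nat_lit 35, nat_lit 33, nat_lit 11, nat_lit 27], (nat_lit 13680)), ((nat_lit 791), [nat_lit 3, nat_lit 4, nat_lit 8, nat_lit 2, nat_lit 3, nat_lit 4, nat_lit 8, nat_lit 1, nat_lit 2, nat_lit 3, nat_lit 4, nat_lit 3, nat_lit 2, nat_lit 3, nat_lit 1], [nat_lit 11, nat_lit 2, nat_lit 0, nat_lit 18, nat_lit 36, nat_lit 11, nat_lit 27], (nat_lit 12560)), ((nat_lit 1313), [nat_lit 6, nat_lit 8, nat_lit 2, nat_lit 3, nat_lit 4, nat_lit 8, nat_lit 3, nat_lit 2, nat_lit 3, nat_lit 1], [nat_lit 24, nat_lit 16, nat_lit 0, nat_lit 35], (nat_lit 1348)), ((nat_lit 1608), [nat_lit 6, nat_lit 7, nat_lit 4, nat_lit 8, nat_lit 3, nat_lit 1, nat_lit 2, nat_lit 3, nat_lit 4, nat_lit 8, nat_lit 4, nat_lit 3, nat_lit 2, nat_lit 3, nat_lit 1], [nat_lit 25, nat_lit 37, nat_lit 27],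 (nat_lit 12899)), ((nat_lit 1235), [nat_lit 8, nat_lit 4, nat_lit 7, nat_lit 2, nat_lit 3, nat_lit 4, nat_lit 8, nat_lit 2, nat_lit 3, nat_lit 4, nat_lit 2, nat_lit 3, nat_lit 1], [nat_lit 11, nat_lit 5, nat_lit 2, nat_lit 36, nat_lit 25, nat_lit 11], (nat_lit 6462)), ((nat_lit 2313), [nat_lit 7, nat_lit 7, nat_lit 4, nat_lit 7, nat_lit 2, nat_lit 3, nat_lit 0, nat_lit 1, nat_lit 2, nat_lit 3, nat_lit 4, nat_lit 8, nat_lit 3, nat_lit 2, nat_lit 3, nat_lit 1], [nat_lit 17, nat_lit 24, nat_lit 0, nat_lit 18, nat_lit 35, nat_lit 15, nat_lit 27], (nat_lit 16129)), ((nat_lit 1398), [nat_lit 7, nat_lit 3, nat_lit 4, nat_lit 8, nat_lit 2, nat_lit 3, nat_lit 1, nat_lit 2, nat_lit 3, nat_lit 4, nat_lit 3, nat_lit 2, nat_lit 3, nat_lit 0, nat_lit 1], [nat_lit 14, nat_lit 15, nat_lit 0, nat_lit 34, nat_lit 32, nat_lit 27], (nat_lit 11150)), ((nat_lit 897), [nat_lit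 7, nat_lit 5, nat_lit 4, nat_lit 8, nat_lit 2, nat_lit 3, nat_lit 2, nat_lit 3, nat_lit 4, nat_lit 7, nat_lit 3, nat_lit 4, nat_lit 2, nat_lit 3, nat_lit 1], [nat_lit 2, nat_lit 16], (nat_lit 14146)), ((nat_lit 2083), [nat_lit 7, nat_lit 5, nat_lit 1, nat_lit 2, nat_lit 3, nat_lit 4, nat_lit 8, nat_lit 3, nat_lit 2, nat_lit 3, nat_lit 0, nat_lit 1], [nat_lit 2, nat_lit 0, nat_lit 37, nat_lit 34], (nat_lit 3226)), ((nat_lit 1476), [nat_lit 6, nat_lit 4, nat_lit 8, nat_lit 3, nat_lit 4, nat_lit 8, nat_lit 3, nat_lit 2, nat_lit 3, nat_lit 1], [nat_lit 16, nat_lit 5, nat_lit 0, nat_lit 32, nat_lit 18], (nat_lit 1356)), ((nat_lit 1761), [nat_lit 6, nat_lit 7, nat_lit 4, nat_lit 8, nat_lit 3, nat_lit 4, nat_lit 8, nat_lit 2, nat_lit 3, nat_lit 4, nat_lit 7, nat_lit 3, nat_lit 2, nat_lit 3, nat_lit 1], [nat_lit 11, nat_lit 5, nat_lit 2, nat_lit 17, nat_lit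 24, nat_lit 26], (nat_lit 13539)), ((nat_lit 1702), [nat_lit 7, nat_lit 4, nat_lit 8, nat_lit 3, nat_lit 4, nat_lit 8, nat_lit 3, nat_lit 2, nat_lit 3, nat_lit 1], [nat_lit 2, nat_lit 0, nat_lit 33, nat_lit 33, nat_lit 11], (nat_lit 1358)), ((nat_lit 651), [nat_lit 7, nat_lit 7, nat_lit 4, nat_lit 7, nat_lit 2, nat_lit 3, nat_lit 2, nat_lit 3, nat_lit 4, nat_lit 8, nat_lit 3, nat_lit 4, nat_lit 3, nat_lit 2, nat_lit 3, nat_lit 1], [nat_lit 25, nat_lit 0, nat_lit 37, nat_lit 11, nat_lit 26], (nat_lit 15889)), ((nat_lit 2529), [nat_lit 6, nat_lit 7, nat_lit 1, nat_lit 2, nat_lit 3, nat_lit 4, nat_lit 8, nat_lit 3, nat_lit 2, nat_lit 3, nat_lit 0, nat_lit 1], [nat_lit 17, nat_lit 24, nat_lit 0, nat_lit 25, nat_lit 36, nat_lit 15, nat_lit 27], (nat_lit 3231)), ((nat_lit 2336), [nat_lit 8, nat_lit 1, nat_lit 2, nat_lit 3, nat_lit 4, nat_lit 7, nat_lit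 1, nat_lit 2, nat_lit 3, nat_lit 4, nat_lit 7, nat_lit 3, nat_lit 2, nat_lit 3, nat_lit 0, nat_lit 1], [nat_lit 24, nat_lit 2, nat_lit 37, nat_lit 18, nat_lit 26], (nat_lit 15158)), ((nat_lit 2354), [nat_lit 8, nat_lit 4, nat_lit 7, nat_lit 1, nat_lit 2, nat_lit 3, nat_lit 4, nat_lit 7, nat_lit 2, nat_lit 3, nat_lit 0, nat_lit 1], [nat_lit 14, nat_lit 0, nat_lit 34, nat_lit 37, nat_lit 26], (nat_lit 3576)), ((nat_lit 2330), [nat_lit 7, nat_lit 0, nat_lit 1, nat_lit 2, nat_lit 3, nat_lit 4, nat_lit 8, nat_lit 3, nat_lit 4, nat_lit 2, nat_lit 3, nat_lit 0, nat_lit 1], [nat_lit 25, nat_lit 2, nat_lit 0, nat_lit 37, nat_lit 32, nat_lit 11], (nat_lit 5369)), ((nat_lit 1601), [nat_lit 6, nat_lit 8, nat_lit 1, nat_lit 2, nat_lit 3, nat_lit 4, nat_lit 8, nat_lit 3, nat_lit 4, nat_lit 7, nat_lit 2, nat_lit 3, nat_lit 1], [nat_lit 1, nat_lit 1, nat_lit 33,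 nat_lit 15, nat_lit 27], (nat_lit 6911)), ((nat_lit 1912), [nat_lit 7, nat_lit 5, nat_lit 2, nat_lit 3, nat_lit 4, nat_lit 7, nat_lit 3, nat_lit 2, nat_lit 3, nat_lit 1], [nat_lit 5, nat_lit 0, nat_lit 27, nat_lit 36, nat_lit 11, nat_lit 27], (nat_lit 1377)), ((nat_lit 1894), [nat_lit 1, nat_lit 2, nat_lit 3, nat_lit 4, nat_lit 7, nat_lit 4, nat_lit 7, nat_lit 1, nat_lit 2, nat_lit 3, nat_lit 4, nat_lit 7, nat_lit 3, nat_lit 2, nat_lit 3, nat_lit 1], [nat_lit 15, nat_lit 0, nat_lit 37, nat_lit 15, nat_lit 11, nat_lit 27], (nat_lit 16368)), ((nat_lit 487), [nat_lit 7, nat_lit 4, nat_lit 7, nat_lit 6, nat_lit 3, nat_lit 1, nat_lit 2, nat_lit 3, nat_lit 4, nat_lit 8, nat_lit 3, nat_lit 2, nat_lit 3, nat_lit 1], [nat_lit 5, nat_lit 16, nat_lit 2, nat_lit 24, nat_lit 18, nat_lit 18], (nat_lit 9281)), ((nat_lit 1304), [nat_lit 8, nat_lit 6, nat_lit 4, nat_lit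 3, nat_lit 2, nat_lit 3, nat_lit 4, nat_lit 7, nat_lit 3, nat_lit 4, nat_lit 3, nat_lit 2, nat_lit 3, nat_lit 1], [nat_lit 24, nat_lit 1, nat_lit 36, nat_lit 32, nat_lit 11], (nat_lit 9023)), ((nat_lit 1401), [nat_lit 8, nat_lit 8, nat_lit 2, nat_lit 3, nat_lit 4, nat_lit 7, nat_lit 3, nat_lit 2, nat_lit 3, nat_lit 1], [nat_lit 15, nat_lit 1, nat_lit 34, nat_lit 11, nat_lit 26], (nat_lit 1381)), ((nat_lit 2320), [nat_lit 7, nat_lit 6, nat_lit 4, nat_lit 3, nat_lit 1, nat_lit 2, nat_lit 3, nat_lit 4, nat_lit 8, nat_lit 3, nat_lit 4, nat_lit 3, nat_lit 2, nat_lit 3, nat_lit 1], [nat_lit 5, nat_lit 2, nat_lit 15, nat_lit 17, nat_lit 26], (nat_lit 12694)), ((nat_lit 491), [nat_lit 8, nat_lit 6, nat_lit 4, nat_lit 7, nat_lit 2, nat_lit 3, nat_lit 0, nat_lit 1, nat_lit 2, nat_lit 3, nat_lit 4, nat_lit 8, nat_lit 3, nat_lit 2, nat_lit 3, nat_lit 1], [nat_lit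 5, nat_lit 2, nat_lit 0, nat_lit 37, nat_lit 37, nat_lit 27], (nat_lit 16123)), ((nat_lit 1732), [nat_lit 8, nat_lit 4, nat_lit 8, nat_lit 3, nat_lit 2, nat_lit 3, nat_lit 4, nat_lit 8, nat_lit 2, nat_lit 3, nat_lit 4, nat_lit 3, nat_lit 2, nat_lit 3, nat_lit 1], [nat_lit 25, nat_lit 16, nat_lit 0, nat_lit 37, nat_lit 15, nat_lit 11, nat_lit 26], (nat_lit 12629)), ((nat_lit 962), [nat_lit 4, nat_lit 7, nat_lit 5, nat_lit 3, nat_lit 4, nat_lit 7, nat_lit 3, nat_lit 2, nat_lit 3, nat_lit 1], [nat_lit 2, nat_lit 0, nat_lit 32, nat_lit 37, nat_lit 15], (nat_lit 1386)), ((nat_lit 581), [nat_lit 1, nat_lit 2, nat_lit 3, nat_lit 4, nat_lit 7, nat_lit 4, nat_lit 7, nat_lit 3, nat_lit 2, nat_lit 3, nat_lit 0, nat_lit 1], [nat_lit 14, nat_lit 15, nat_lit 0, nat_lit 37, nat_lit 33, nat_lit 26], (nat_lit 3332)), ((nat_lit 638), [nat_lit 5, nat_lit 8, nat_lit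 4, nat_lit 7, nat_lit 6, nat_lit 3, nat_lit 2, nat_lit 3, nat_lit 4, nat_lit 8, nat_lit 3, nat_lit 4, nat_lit 2, nat_lit 3, nat_lit 1], [nat_lit 5, nat_lit 14, nat_lit 18, nat_lit 16, nat_lit 27], (nat_lit 14064)), ((nat_lit 2152), [nat_lit 8, nat_lit 4, nat_lit 7, nat_lit 6, nat_lit 3, nat_lit 2, nat_lit 3, nat_lit 4, nat_lit 8, nat_lit 3, nat_lit 4, nat_lit 2, nat_lit 3, nat_lit 1], [nat_lit 17, nat_lit 2, nat_lit 0, nat_lit 32, nat_lit 34, nat_lit 11], (nat_lit 10119)), ((nat_lit 1089), [nat_lit 3, nat_lit 4, nat_lit 8, nat_lit 2, nat_lit 3, nat_lit 1, nat_lit 2, nat_lit 3, nat_lit 4, nat_lit 3, nat_lit 2, nat_lit 3, nat_lit 1], [nat_lit 11, nat_lit 5, nat_lit 2, nat_lit 26, nat_lit 24, nat_lit 11, nat_lit 27], (nat_lit 5724)), ((nat_lit 2338), [nat_lit 8, nat_lit 1, nat_lit 2, nat_lit 3, nat_lit 4, nat_lit 7, nat_lit 5, nat_lit 1, nat_lit 2, nat_lit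 3, nat_lit 4, nat_lit 8, nat_lit 3, nat_lit 2, nat_lit 3, nat_lit 0, nat_lit 1], [nat_lit 24, nat_lit 2, nat_lit 0, nat_lit 32, nat_lit 24, nat_lit 27], (nat_lit 16922)), ((nat_lit 2276), [nat_lit 8, nat_lit 4, nat_lit 7, nat_lit 1, nat_lit 2, nat_lit 3, nat_lit 4, nat_lit 8, nat_lit 2, nat_lit 3, nat_lit 0, nat_lit 1], [nat_lit 25, nat_lit 1, nat_lit 17, nat_lit 26], (nat_lit 3502)), ((nat_lit 1484), [nat_lit 7, nat_lit 6, nat_lit 4, nat_lit 7, nat_lit 0, nat_lit 1, nat_lit 2, nat_lit 3, nat_lit 4, nat_lit 8, nat_lit 2, nat_lit 3, nat_lit 0, nat_lit 1], [nat_lit 26, nat_lit 24, nat_lit 0, nat_lit 35, nat_lit 17, nat_lit 16], (nat_lit 8374)), ((nat_lit 1454), [nat_lit 8, nat_lit 1, nat_lit 2, nat_lit 3, nat_lit 4, nat_lit 7, nat_lit 6, nat_lit 1, nat_lit 2, nat_lit 3, nat_lit 4, nat_lit 7, nat_lit 3, nat_lit 2, nat_lit 3, nat_lit 0, nat_lit 1], [nat_lit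 11, nat_lit 5, nat_lit 2, nat_lit 33, nat_lit 11, nat_lit 26], (nat_lit 16961))] m5_5_6 m5_5_7) = 0 := by decide +kernel
theorem e5_5_8 : dt.run q (fun c => c.edges (SP THn.T THn.Rl (nat_lit 15)) (nat_lit 4429) THn.T.n (nat_lit 5) (nat_lit 5)
  [((nat_lit 1520), [nat_lit 8, nat_lit 3, nat_lit 1, nat_lit 2, nat_lit 3, nat_lit 4, nat_lit 7, nat_lit 1, nat_lit 2, nat_lit 3, nat_lit 4, nat_lit 2, nat_lit 3, nat_lit 1], [nat_lit 25, nat_lit 1, nat_lit 34, nat_lit 37, nat_lit 11, nat_lit 26], (nat_lit 9767)), ((nat_lit 1325), [nat_lit 6, nat_lit 0, nat_lit 1, nat_lit 2, nat_lit 3, nat_lit 4, nat_lit 7, nat_lit 4, nat_lit 2, nat_lit 3, nat_lit 1], [nat_lit 2, nat_lit 0, nat_lit 17, nat_lit 33, nat_lit 26], (nat_lit 2574)), ((nat_lit 1874), [nat_lit 5, nat_lit 2, nat_lit 3, nat_lit 4, nat_lit 8, nat_lit 3, nat_lit 4, nat_lit 1, nat_lit 2, nat_lit 3, nat_lit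 0, nat_lit 1], [nat_lit 5, nat_lit 35, nat_lit 27], (nat_lit 2904)), ((nat_lit 1535), [nat_lit 6, nat_lit 2, nat_lit 3, nat_lit 4, nat_lit 7, nat_lit 3, nat_lit 4, nat_lit 1, nat_lit 2, nat_lit 3, nat_lit 0, nat_lit 1], [nat_lit 2, nat_lit 15, nat_lit 18, nat_lit 16], (nat_lit 2918)), ((nat_lit 1225), [nat_lit 5, nat_lit 3, nat_lit 2, nat_lit 3, nat_lit 4, nat_lit 7, nat_lit 1, nat_lit 2, nat_lit 3, nat_lit 4, nat_lit 2, nat_lit 3, nat_lit 1], [nat_lit 2, nat_lit 34, nat_lit 17, nat_lit 33], (nat_lit 6397)), ((nat_lit 944), [nat_lit 7, nat_lit 4, nat_lit 7, nat_lit 6, nat_lit 3, nat_lit 2, nat_lit 3, nat_lit 4, nat_lit 8, nat_lit 3, nat_lit 2, nat_lit 3, nat_lit 0, nat_lit 1], [nat_lit 1, nat_lit 5, nat_lit 36, nat_lit 24], (nat_lit 7845)), ((nat_lit 2096), [nat_lit 4, nat_lit 7, nat_lit 6, nat_lit 3, nat_lit 2, nat_lit 3, nat_lit 1, nat_lit 2, nat_lit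 3, nat_lit 4, nat_lit 7, nat_lit 4, nat_lit 3, nat_lit 2, nat_lit 3, nat_lit 1], [nat_lit 0, nat_lit 2, nat_lit 18, nat_lit 36, nat_lit 27], (nat_lit 16066)), ((nat_lit 814), [nat_lit 8, nat_lit 5, nat_lit 4, nat_lit 7, nat_lit 3, nat_lit 4, nat_lit 3, nat_lit 2, nat_lit 3, nat_lit 0, nat_lit 1], [nat_lit 24, nat_lit 2, nat_lit 0, nat_lit 16, nat_lit 18], (nat_lit 1890)), ((nat_lit 2190), [nat_lit 8, nat_lit 4, nat_lit 8, nat_lit 8, nat_lit 1, nat_lit 2, nat_lit 3, nat_lit 4, nat_lit 8, nat_lit 2, nat_lit 3, nat_lit 0, nat_lit 1], [nat_lit 1, nat_lit 37, nat_lit 34, nat_lit 25, nat_lit 26], (nat_lit 5505)), ((nat_lit 2263), [nat_lit 7, nat_lit 6, nat_lit 4, nat_lit 8, nat_lit 2, nat_lit 3, nat_lit 4, nat_lit 2, nat_lit 3, nat_lit 1], [nat_lit 5, nat_lit 0, nat_lit 32, nat_lit 18, nat_lit 27], (nat_lit 1419)), ((nat_lit 685), [nat_lit 7, nat_lit 3,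 nat_lit 4, nat_lit 7, nat_lit 2, nat_lit 3, nat_lit 4, nat_lit 7, nat_lit 2, nat_lit 3, nat_lit 4, nat_lit 7, nat_lit 2, nat_lit 3, nat_lit 1], [nat_lit 5, nat_lit 14, nat_lit 34, nat_lit 27], (nat_lit 14651)), ((nat_lit 2457), [nat_lit 5, nat_lit 7, nat_lit 2, nat_lit 3, nat_lit 4, nat_lit 7, nat_lit 3, nat_lit 4, nat_lit 2, nat_lit 3, nat_lit 0, nat_lit 1], [nat_lit 5, nat_lit 16, nat_lit 2, nat_lit 25, nat_lit 37, nat_lit 17, nat_lit 26], (nat_lit 3440)), ((nat_lit 2188), [nat_lit 8, nat_lit 2, nat_lit 3, nat_lit 4, nat_lit 8, nat_lit 3, nat_lit 4, nat_lit 3, nat_lit 2, nat_lit 3, nat_lit 0, nat_lit 1], [nat_lit 5, nat_lit 25, nat_lit 16], (nat_lit 3162)), ((nat_lit 1384), [nat_lit 8, nat_lit 3, nat_lit 4, nat_lit 8, nat_lit 1, nat_lit 2, nat_lit 3, nat_lit 4, nat_lit 7, nat_lit 2, nat_lit 3, nat_lit 0, nat_lit 1], [nat_lit 25, nat_lit 1, nat_lit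 26, nat_lit 17, nat_lit 15], (nat_lit 5603)), ((nat_lit 858), [nat_lit 8, nat_lit 5, nat_lit 4, nat_lit 8, nat_lit 3, nat_lit 4, nat_lit 8, nat_lit 2, nat_lit 3, nat_lit 4, nat_lit 7, nat_lit 2, nat_lit 3, nat_lit 1], [nat_lit 1, nat_lit 24, nat_lit 0, nat_lit 11, nat_lit 17, nat_lit 27], (nat_lit 10797)), ((nat_lit 785), [nat_lit 6, nat_lit 7, nat_lit 4, nat_lit 8, nat_lit 1, nat_lit 2, nat_lit 3, nat_lit 4, nat_lit 8, nat_lit 4, nat_lit 1, nat_lit 2, nat_lit 3, nat_lit 0, nat_lit 1], [nat_lit 25, nat_lit 0, nat_lit 36, nat_lit 25], (nat_lit 11025)), ((nat_lit 749), [nat_lit 8, nat_lit 3, nat_lit 4, nat_lit 7, nat_lit 2, nat_lit 3, nat_lit 4, nat_lit 2, nat_lit 3, nat_lit 1], [nat_lit 0, nat_lit 24, nat_lit 37, nat_lit 11, nat_lit 26], (nat_lit 1430)), ((nat_lit 2128), [nat_lit 4, nat_lit 7, nat_lit 1, nat_lit 2, nat_lit 3, nat_lit 4, nat_lit 7,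 nat_lit 1, nat_lit 2, nat_lit 3, nat_lit 4, nat_lit 3, nat_lit 2, nat_lit 3, nat_lit 1], [nat_lit 1, nat_lit 24, nat_lit 0, nat_lit 33, nat_lit 37, nat_lit 11, nat_lit 27], (nat_lit 12579)), ((nat_lit 2227), [nat_lit 8, nat_lit 6, nat_lit 4, nat_lit 7, nat_lit 2, nat_lit 3, nat_lit 4, nat_lit 2, nat_lit 3, nat_lit 1], [nat_lit 25, nat_lit 1, nat_lit 32, nat_lit 34, nat_lit 27], (nat_lit 1432)), ((nat_lit 838), [nat_lit 7, nat_lit 3, nat_lit 4, nat_lit 7, nat_lit 2, nat_lit 3, nat_lit 4, nat_lit 7, nat_lit 3, nat_lit 2, nat_lit 3, nat_lit 1], [nat_lit 14, nat_lit 34, nat_lit 24, nat_lit 17], (nat_lit 3985)), ((nat_lit 1373), [nat_lit 7, nat_lit 7, nat_lit 4, nat_lit 8, nat_lit 1, nat_lit 2, nat_lit 3, nat_lit 4, nat_lit 7, nat_lit 2, nat_lit 3, nat_lit 0, nat_lit 1], [nat_lit 25, nat_lit 1, nat_lit 35, nat_lit 11, nat_lit 27], (nat_lit 5612)), ((nat_lit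 2468), [nat_lit 7, nat_lit 7, nat_lit 4, nat_lit 7, nat_lit 2, nat_lit 3, nat_lit 4, nat_lit 7, nat_lit 1, nat_lit 2, nat_lit 3, nat_lit 4, nat_lit 8, nat_lit 2, nat_lit 3, nat_lit 1], [nat_lit 32, nat_lit 27, nat_lit 17], (nat_lit 16713)), ((nat_lit 915), [nat_lit 8, nat_lit 5, nat_lit 4, nat_lit 8, nat_lit 0, nat_lit 1, nat_lit 2, nat_lit 3, nat_lit 4, nat_lit 2, nat_lit 3, nat_lit 0, nat_lit 1], [nat_lit 24, nat_lit 0, nat_lit 25, nat_lit 37, nat_lit 26], (nat_lit 5261)), ((nat_lit 1742), [nat_lit 7, nat_lit 7, nat_lit 4, nat_lit 7, nat_lit 2, nat_lit 3, nat_lit 4, nat_lit 2, nat_lit 3, nat_lit 1], [nat_lit 26, nat_lit 2, nat_lit 36, nat_lit 25], (nat_lit 1439)), ((nat_lit 2220), [nat_lit 5, nat_lit 0, nat_lit 1, nat_lit 2, nat_lit 3, nat_lit 4, nat_lit 8, nat_lit 4, nat_lit 2, nat_lit 3, nat_lit 0, nat_lit 1], [nat_lit 11, nat_lit 5, nat_lit 2,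 nat_lit 35, nat_lit 27, nat_lit 15, nat_lit 27], (nat_lit 3446)), ((nat_lit 2141), [nat_lit 8, nat_lit 2, nat_lit 3, nat_lit 4, nat_lit 8, nat_lit 0, nat_lit 1, nat_lit 2, nat_lit 3, nat_lit 4, nat_lit 3, nat_lit 2, nat_lit 3, nat_lit 0, nat_lit 1], [nat_lit 25, nat_lit 0, nat_lit 17, nat_lit 36, nat_lit 15, nat_lit 27], (nat_lit 11130)), ((nat_lit 2219), [nat_lit 7, nat_lit 2, nat_lit 3, nat_lit 4, nat_lit 8, nat_lit 3, nat_lit 4, nat_lit 2, nat_lit 3, nat_lit 1], [nat_lit 16, nat_lit 2, nat_lit 15, nat_lit 32, nat_lit 11, nat_lit 26], (nat_lit 1445)), ((nat_lit 2311), [nat_lit 8, nat_lit 8, nat_lit 3, nat_lit 4, nat_lit 8, nat_lit 3, nat_lit 4, nat_lit 2, nat_lit 3, nat_lit 1], [nat_lit 24, nat_lit 0, nat_lit 32, nat_lit 35], (nat_lit 1451)), ((nat_lit 1290), [nat_lit 7, nat_lit 4, nat_lit 8, nat_lit 3, nat_lit 4, nat_lit 8, nat_lit 2, nat_lit 3,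 nat_lit 4, nat_lit 3, nat_lit 2, nat_lit 3, nat_lit 1], [nat_lit 15, nat_lit 2, nat_lit 34, nat_lit 34, nat_lit 27], (nat_lit 5827)), ((nat_lit 2373), [nat_lit 2, nat_lit 3, nat_lit 4, nat_lit 8, nat_lit 3, nat_lit 2, nat_lit 3, nat_lit 4, nat_lit 8, nat_lit 3, nat_lit 4, nat_lit 2, nat_lit 3, nat_lit 1], [nat_lit 14, nat_lit 37, nat_lit 37, nat_lit 27], (nat_lit 10126)), ((nat_lit 1581), [nat_lit 7, nat_lit 4, nat_lit 8, nat_lit 5, nat_lit 1, nat_lit 2, nat_lit 3, nat_lit 4, nat_lit 8, nat_lit 3, nat_lit 2, nat_lit 3, nat_lit 0, nat_lit 1], [nat_lit 14, nat_lit 15, nat_lit 0, nat_lit 37, nat_lit 26], (nat_lit 7821)), ((nat_lit 1760), [nat_lit 8, nat_lit 2, nat_lit 3, nat_lit 4, nat_lit 7, nat_lit 3, nat_lit 4, nat_lit 8, nat_lit 4, nat_lit 2, nat_lit 3, nat_lit 1], [nat_lit 18, nat_lit 15, nat_lit 0, nat_lit 25, nat_lit 27], (nat_lit 4250)), ((nat_lit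 431), [nat_lit 7, nat_lit 5, nat_lit 4, nat_lit 8, nat_lit 2, nat_lit 3, nat_lit 4, nat_lit 8, nat_lit 2, nat_lit 3, nat_lit 4, nat_lit 8, nat_lit 2, nat_lit 3, nat_lit 1], [nat_lit 15, nat_lit 2, nat_lit 18, nat_lit 25, nat_lit 26], (nat_lit 14377)), ((nat_lit 642), [nat_lit 5, nat_lit 8, nat_lit 2, nat_lit 3, nat_lit 4, nat_lit 8, nat_lit 2, nat_lit 3, nat_lit 4, nat_lit 7, nat_lit 2, nat_lit 3, nat_lit 0, nat_lit 1], [nat_lit 11, nat_lit 2, nat_lit 0, nat_lit 17, nat_lit 11, nat_lit 26], (nat_lit 8623)), ((nat_lit 2300), [nat_lit 4, nat_lit 7, nat_lit 4, nat_lit 3, nat_lit 2, nat_lit 3, nat_lit 4, nat_lit 7, nat_lit 4, nat_lit 2, nat_lit 3, nat_lit 1], [nat_lit 10, nat_lit 0, nat_lit 17, nat_lit 27], (nat_lit 4270)), ((nat_lit 1485), [nat_lit 8, nat_lit 6, nat_lit 4, nat_lit 7, nat_lit 1, nat_lit 2, nat_lit 3, nat_lit 4, nat_lit 8, nat_lit 3, nat_lit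 2, nat_lit 3, nat_lit 0, nat_lit 1], [nat_lit 15, nat_lit 0, nat_lit 16, nat_lit 37, nat_lit 27], (nat_lit 7838)), ((nat_lit 467), [nat_lit 8, nat_lit 6, nat_lit 3, nat_lit 2, nat_lit 3, nat_lit 4, nat_lit 7, nat_lit 2, nat_lit 3, nat_lit 4, nat_lit 3, nat_lit 2, nat_lit 3, nat_lit 1], [nat_lit 17, nat_lit 24, nat_lit 0, nat_lit 24, nat_lit 18, nat_lit 26], (nat_lit 8915)), ((nat_lit 1941), [nat_lit 8, nat_lit 4, nat_lit 8, nat_lit 2, nat_lit 3, nat_lit 4, nat_lit 8, nat_lit 4, nat_lit 3, nat_lit 2, nat_lit 3, nat_lit 1], [nat_lit 5, nat_lit 16, nat_lit 2, nat_lit 17, nat_lit 37, nat_lit 27], (nat_lit 3787)), ((nat_lit 1177), [nat_lit 8, nat_lit 4, nat_lit 7, nat_lit 6, nat_lit 1, nat_lit 2, nat_lit 3, nat_lit 4, nat_lit 7, nat_lit 2, nat_lit 3, nat_lit 0, nat_lit 1], [nat_lit 16, nat_lit 5, nat_lit 2, nat_lit 24, nat_lit 36, nat_lit 16, nat_lit 27],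 (nat_lit 5595)), ((nat_lit 1459), [nat_lit 7, nat_lit 1, nat_lit 2, nat_lit 3, nat_lit 4, nat_lit 8, nat_lit 4, nat_lit 2, nat_lit 3, nat_lit 1], [nat_lit 26, nat_lit 24, nat_lit 0, nat_lit 24, nat_lit 17, nat_lit 11, nat_lit 27], (nat_lit 1477)), ((nat_lit 1334), [nat_lit 5, nat_lit 2, nat_lit 3, nat_lit 4, nat_lit 8, nat_lit 1, nat_lit 2, nat_lit 3, nat_lit 4, nat_lit 2, nat_lit 3, nat_lit 0, nat_lit 1], [nat_lit 10, nat_lit 0, nat_lit 32, nat_lit 34, nat_lit 11, nat_lit 27], (nat_lit 5283)), ((nat_lit 1468), [nat_lit 2, nat_lit 3, nat_lit 4, nat_lit 7, nat_lit 3, nat_lit 4, nat_lit 8, nat_lit 2, nat_lit 3, nat_lit 1], [nat_lit 11, nat_lit 2, nat_lit 0, nat_lit 17, nat_lit 33, nat_lit 27], (nat_lit 1551)), ((nat_lit 1778), [nat_lit 8, nat_lit 4, nat_lit 8, nat_lit 2, nat_lit 3, nat_lit 1, nat_lit 2, nat_lit 3, nat_lit 4, nat_lit 8, nat_lit 4, nat_lit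 3, nat_lit 2, nat_lit 3, nat_lit 0, nat_lit 1], [nat_lit 24, nat_lit 15, nat_lit 0, nat_lit 34, nat_lit 27], (nat_lit 14934)), ((nat_lit 1232), [nat_lit 6, nat_lit 7, nat_lit 2, nat_lit 3, nat_lit 4, nat_lit 8, nat_lit 4, nat_lit 2, nat_lit 3, nat_lit 1], [nat_lit 5, nat_lit 26, nat_lit 16, nat_lit 11, nat_lit 27], (nat_lit 1483)), ((nat_lit 1205), [nat_lit 4, nat_lit 8, nat_lit 1, nat_lit 2, nat_lit 3, nat_lit 4, nat_lit 8, nat_lit 2, nat_lit 3, nat_lit 4, nat_lit 7, nat_lit 3, nat_lit 2, nat_lit 3, nat_lit 1], [nat_lit 10, nat_lit 0, nat_lit 24, nat_lit 11, nat_lit 27], (nat_lit 13514)), ((nat_lit 1234), [nat_lit 7, nat_lit 4, nat_lit 8, nat_lit 1, nat_lit 2, nat_lit 3, nat_lit 4, nat_lit 7, nat_lit 3, nat_lit 4, nat_lit 2, nat_lit 3, nat_lit 0, nat_lit 1], [nat_lit 16, nat_lit 0, nat_lit 35, nat_lit 17, nat_lit 16, nat_lit 27], (nat_lit 8274)),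 ((nat_lit 2208), [nat_lit 5, nat_lit 7, nat_lit 4, nat_lit 7, nat_lit 3, nat_lit 4, nat_lit 7, nat_lit 0, nat_lit 1, nat_lit 2, nat_lit 3, nat_lit 4, nat_lit 2, nat_lit 3, nat_lit 1], [nat_lit 24, nat_lit 15, nat_lit 0, nat_lit 32, nat_lit 34, nat_lit 16], (nat_lit 13653)), ((nat_lit 1515), [nat_lit 2, nat_lit 3, nat_lit 4, nat_lit 8, nat_lit 4, nat_lit 8, nat_lit 4, nat_lit 2, nat_lit 3, nat_lit 1], [nat_lit 15, nat_lit 2, nat_lit 16, nat_lit 32, nat_lit 15], (nat_lit 1491)), ((nat_lit 2118), [nat_lit 4, nat_lit 8, nat_lit 3, nat_lit 4, nat_lit 7, nat_lit 4, nat_lit 1, nat_lit 2, nat_lit 3, nat_lit 0, nat_lit 1], [nat_lit 24, nat_lit 1, nat_lit 34, nat_lit 15, nat_lit 26], (nat_lit 1782)), ((nat_lit 1317), [nat_lit 7, nat_lit 5, nat_lit 2, nat_lit 3, nat_lit 4, nat_lit 7, nat_lit 4, nat_lit 2, nat_lit 3, nat_lit 1], [nat_lit 15, nat_lit 1, nat_lit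 35, nat_lit 15], (nat_lit 1500)), ((nat_lit 2176), [nat_lit 7, nat_lit 0, nat_lit 1, nat_lit 2, nat_lit 3, nat_lit 4, nat_lit 7, nat_lit 4, nat_lit 2, nat_lit 3, nat_lit 0, nat_lit 1], [nat_lit 1, nat_lit 14, nat_lit 17, nat_lit 36, nat_lit 26], (nat_lit 3470)), ((nat_lit 2180), [nat_lit 3, nat_lit 4, nat_lit 7, nat_lit 0, nat_lit 1, nat_lit 2, nat_lit 3, nat_lit 4, nat_lit 3, nat_lit 1, nat_lit 2, nat_lit 3, nat_lit 0, nat_lit 1], [nat_lit 2, nat_lit 0, nat_lit 33, nat_lit 33, nat_lit 26], (nat_lit 7214)), ((nat_lit 1830), [nat_lit 4, nat_lit 8, nat_lit 4, nat_lit 8, nat_lit 2, nat_lit 3, nat_lit 4, nat_lit 8, nat_lit 2, nat_lit 3, nat_lit 1], [nat_lit 24, nat_lit 15, nat_lit 0, nat_lit 24, nat_lit 17], (nat_lit 2637)), ((nat_lit 387), [nat_lit 8, nat_lit 0, nat_lit 1, nat_lit 2, nat_lit 3, nat_lit 4, nat_lit 8, nat_lit 4, nat_lit 2, nat_lit 3, nat_lit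 1], [nat_lit 17, nat_lit 15, nat_lit 27], (nat_lit 2544)), ((nat_lit 2356), [nat_lit 8, nat_lit 6, nat_lit 1, nat_lit 2, nat_lit 3, nat_lit 4, nat_lit 8, nat_lit 2, nat_lit 3, nat_lit 1], [nat_lit 5, nat_lit 2, nat_lit 24, nat_lit 24], (nat_lit 1512)), ((nat_lit 2099), [nat_lit 6, nat_lit 7, nat_lit 1, nat_lit 2, nat_lit 3, nat_lit 4, nat_lit 8, nat_lit 2, nat_lit 3, nat_lit 1], [nat_lit 16, nat_lit 5, nat_lit 2, nat_lit 36, nat_lit 16], (nat_lit 1519)), ((nat_lit 684), [nat_lit 7, nat_lit 5, nat_lit 1, nat_lit 2, nat_lit 3, nat_lit 4, nat_lit 8, nat_lit 2, nat_lit 3, nat_lit 1], [nat_lit 5, nat_lit 16, nat_lit 18, nat_lit 15], (nat_lit 1514)), ((nat_lit 772), [nat_lit 8, nat_lit 4, nat_lit 7, nat_lit 3, nat_lit 2, nat_lit 3, nat_lit 1, nat_lit 2, nat_lit 3, nat_lit 4, nat_lit 8, nat_lit 3, nat_lit 2, nat_lit 3, nat_lit 1], [nat_lit 27, nat_lit 37,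 nat_lit 27], (nat_lit 13112)), ((nat_lit 2164), [nat_lit 7, nat_lit 6, nat_lit 1, nat_lit 2, nat_lit 3, nat_lit 4, nat_lit 7, nat_lit 4, nat_lit 2, nat_lit 3, nat_lit 1], [nat_lit 25, nat_lit 0, nat_lit 32, nat_lit 18, nat_lit 26], (nat_lit 2580)), ((nat_lit 2170), [nat_lit 8, nat_lit 5, nat_lit 0, nat_lit 1, nat_lit 2, nat_lit 3, nat_lit 4, nat_lit 8, nat_lit 2, nat_lit 3, nat_lit 0, nat_lit 1], [nat_lit 16, nat_lit 2, nat_lit 34, nat_lit 34, nat_lit 11, nat_lit 27], (nat_lit 3483)), ((nat_lit 2218), [nat_lit 6, nat_lit 8, nat_lit 0, nat_lit 1, nat_lit 2, nat_lit 3, nat_lit 4, nat_lit 8, nat_lit 2, nat_lit 3, nat_lit 0, nat_lit 1], [nat_lit 10, nat_lit 10, nat_lit 0, nat_lit 18, nat_lit 26], (nat_lit 3486)), ((nat_lit 1213), [nat_lit 7, nat_lit 3, nat_lit 4, nat_lit 7, nat_lit 2, nat_lit 3, nat_lit 4, nat_lit 7, nat_lit 2, nat_lit 3, nat_lit 0, nat_lit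 1], [nat_lit 18, nat_lit 15, nat_lit 0, nat_lit 33, nat_lit 15, nat_lit 11, nat_lit 26], (nat_lit 3604)), ((nat_lit 1713), [nat_lit 7, nat_lit 4, nat_lit 7, nat_lit 7, nat_lit 3, nat_lit 4, nat_lit 7, nat_lit 2, nat_lit 3, nat_lit 4, nat_lit 7, nat_lit 2, nat_lit 3, nat_lit 1], [nat_lit 25, nat_lit 1, nat_lit 27, nat_lit 15, nat_lit 11, nat_lit 27], (nat_lit 10867)), ((nat_lit 249), [nat_lit 6, nat_lit 7, nat_lit 0, nat_lit 1, nat_lit 2, nat_lit 3, nat_lit 4, nat_lit 8, nat_lit 2, nat_lit 3, nat_lit 0, nat_lit 1], [nat_lit 16, nat_lit 5, nat_lit 2, nat_lit 18, nat_lit 18], (nat_lit 3489)), ((nat_lit 758), [nat_lit 8, nat_lit 0, nat_lit 1, nat_lit 2, nat_lit 3, nat_lit 4, nat_lit 7, nat_lit 2, nat_lit 3, nat_lit 4, nat_lit 8, nat_lit 2, nat_lit 3, nat_lit 1], [nat_lit 16, nat_lit 5, nat_lit 2, nat_lit 17, nat_lit 17, nat_lit 26], (nat_lit 10540)),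 ((nat_lit 1562), [nat_lit 6, nat_lit 7, nat_lit 3, nat_lit 4, nat_lit 8, nat_lit 2, nat_lit 3, nat_lit 4, nat_lit 8, nat_lit 2, nat_lit 3, nat_lit 0, nat_lit 1], [nat_lit 17, nat_lit 24, nat_lit 0, nat_lit 34, nat_lit 24, nat_lit 17], (nat_lit 5547)), ((nat_lit 2210), [nat_lit 3, nat_lit 4, nat_lit 8, nat_lit 2, nat_lit 3, nat_lit 4, nat_lit 8, nat_lit 6, nat_lit 2, nat_lit 3, nat_lit 4, nat_lit 8, nat_lit 2, nat_lit 3, nat_lit 0, nat_lit 1], [nat_lit 24, nat_lit 2, nat_lit 0, nat_lit 11, nat_lit 36], (nat_lit 15483)), ((nat_lit 1480), [nat_lit 5, nat_lit 3, nat_lit 1, nat_lit 2, nat_lit 3, nat_lit 4, nat_lit 7, nat_lit 2, nat_lit 3, nat_lit 4, nat_lit 3, nat_lit 2, nat_lit 3, nat_lit 1], [nat_lit 15, nat_lit 1, nat_lit 25, nat_lit 33, nat_lit 15, nat_lit 26], (nat_lit 8906)), ((nat_lit 2206), [nat_lit 3, nat_lit 4, nat_lit 8, nat_lit 2, nat_lit 3,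 nat_lit 4, nat_lit 8, nat_lit 5, nat_lit 2, nat_lit 3, nat_lit 4, nat_lit 8, nat_lit 2, nat_lit 3, nat_lit 0, nat_lit 1], [nat_lit 16, nat_lit 5, nat_lit 2, nat_lit 32, nat_lit 34, nat_lit 11], (nat_lit 15490)), ((nat_lit 2107), [nat_lit 4, nat_lit 8, nat_lit 3, nat_lit 4, nat_lit 7, nat_lit 7, nat_lit 1, nat_lit 2, nat_lit 3, nat_lit 4, nat_lit 7, nat_lit 2, nat_lit 3, nat_lit 1], [nat_lit 14, nat_lit 15, nat_lit 0, nat_lit 17, nat_lit 25, nat_lit 15], (nat_lit 10742)), ((nat_lit 1818), [nat_lit 7, nat_lit 4, nat_lit 7, nat_lit 5, nat_lit 3, nat_lit 4, nat_lit 8, nat_lit 2, nat_lit 3, nat_lit 1], [nat_lit 25, nat_lit 2, nat_lit 0, nat_lit 33, nat_lit 15], (nat_lit 1539)), ((nat_lit 2352), [nat_lit 8, nat_lit 2, nat_lit 3, nat_lit 4, nat_lit 8, nat_lit 3, nat_lit 4, nat_lit 7, nat_lit 3, nat_lit 2, nat_lit 3, nat_lit 1], [nat_lit 2, nat_lit 0, nat_lit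 32, nat_lit 34, nat_lit 16, nat_lit 27], (nat_lit 3995)), ((nat_lit 677), [nat_lit 5, nat_lit 7, nat_lit 2, nat_lit 3, nat_lit 4, nat_lit 7, nat_lit 2, nat_lit 3, nat_lit 4, nat_lit 7, nat_lit 2, nat_lit 3, nat_lit 0, nat_lit 1], [nat_lit 16, nat_lit 5, nat_lit 2, nat_lit 11, nat_lit 17, nat_lit 26], (nat_lit 8654)), ((nat_lit 1738), [nat_lit 3, nat_lit 4, nat_lit 7, nat_lit 7, nat_lit 3, nat_lit 1, nat_lit 2, nat_lit 3, nat_lit 4, nat_lit 8, nat_lit 3, nat_lit 2, nat_lit 3, nat_lit 1], [nat_lit 5, nat_lit 0, nat_lit 15, nat_lit 27, nat_lit 16], (nat_lit 9311)), ((nat_lit 619), [nat_lit 8, nat_lit 8, nat_lit 4, nat_lit 7, nat_lit 2, nat_lit 3, nat_lit 4, nat_lit 7, nat_lit 2, nat_lit 3, nat_lit 1], [nat_lit 17, nat_lit 2, nat_lit 0, nat_lit 34, nat_lit 15, nat_lit 11], (nat_lit 2728)), ((nat_lit 2211), [nat_lit 7, nat_lit 5, nat_lit 1, nat_lit 2,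 nat_lit 3, nat_lit 4, nat_lit 7, nat_lit 3, nat_lit 4, nat_lit 3, nat_lit 2, nat_lit 3, nat_lit 0, nat_lit 1], [nat_lit 24, nat_lit 1, nat_lit 36, nat_lit 36, nat_lit 17, nat_lit 26], (nat_lit 7687)), ((nat_lit 2182), [nat_lit 8, nat_lit 4, nat_lit 7, nat_lit 0, nat_lit 1, nat_lit 2, nat_lit 3, nat_lit 4, nat_lit 8, nat_lit 4, nat_lit 2, nat_lit 3, nat_lit 0, nat_lit 1], [nat_lit 2, nat_lit 17, nat_lit 36, nat_lit 15, nat_lit 27], (nat_lit 8302)), ((nat_lit 1394), [nat_lit 8, nat_lit 6, nat_lit 4, nat_lit 7, nat_lit 3, nat_lit 4, nat_lit 8, nat_lit 2, nat_lit 3, nat_lit 1], [nat_lit 16, nat_lit 5, nat_lit 2, nat_lit 27, nat_lit 16], (nat_lit 1554)), ((nat_lit 1749), [nat_lit 6, nat_lit 7, nat_lit 6, nat_lit 4, nat_lit 7, nat_lit 3, nat_lit 4, nat_lit 7, nat_lit 2, nat_lit 3, nat_lit 4, nat_lit 8, nat_lit 2, nat_lit 3, nat_lit 1], [nat_lit 24, nat_lit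 2, nat_lit 34, nat_lit 34, nat_lit 11], (nat_lit 14465)), ((nat_lit 1692), [nat_lit 7, nat_lit 4, nat_lit 8, nat_lit 1, nat_lit 2, nat_lit 3, nat_lit 4, nat_lit 8, nat_lit 2, nat_lit 3, nat_lit 4, nat_lit 2, nat_lit 3, nat_lit 0, nat_lit 1], [nat_lit 18, nat_lit 15, nat_lit 0, nat_lit 34, nat_lit 32, nat_lit 16], (nat_lit 11802)), ((nat_lit 2154), [nat_lit 7, nat_lit 4, nat_lit 8, nat_lit 6, nat_lit 1, nat_lit 2, nat_lit 3, nat_lit 4, nat_lit 8, nat_lit 2, nat_lit 3, nat_lit 0, nat_lit 1], [nat_lit 5, nat_lit 2, nat_lit 0, nat_lit 27, nat_lit 15, nat_lit 26], (nat_lit 5484)), ((nat_lit 1739), [nat_lit 8, nat_lit 8, nat_lit 4, nat_lit 8, nat_lit 3, nat_lit 2, nat_lit 3, nat_lit 4, nat_lit 7, nat_lit 2, nat_lit 3, nat_lit 4, nat_lit 2, nat_lit 3, nat_lit 1], [nat_lit 11, nat_lit 5, nat_lit 2, nat_lit 25, nat_lit 36], (nat_lit 13881)), ((nat_lit 1936),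 [nat_lit 8, nat_lit 5, nat_lit 4, nat_lit 7, nat_lit 2, nat_lit 3, nat_lit 4, nat_lit 2, nat_lit 3, nat_lit 0, nat_lit 1], [nat_lit 16, nat_lit 0, nat_lit 27, nat_lit 16, nat_lit 27], (nat_lit 2013)), ((nat_lit 1901), [nat_lit 5, nat_lit 3, nat_lit 4, nat_lit 7, nat_lit 1, nat_lit 2, nat_lit 3, nat_lit 4, nat_lit 3, nat_lit 2, nat_lit 3, nat_lit 0, nat_lit 1], [nat_lit 1, nat_lit 5, nat_lit 18, nat_lit 16, nat_lit 26], (nat_lit 4964)), ((nat_lit 2189), [nat_lit 7, nat_lit 4, nat_lit 7, nat_lit 2, nat_lit 3, nat_lit 4, nat_lit 7, nat_lit 2, nat_lit 3, nat_lit 4, nat_lit 7, nat_lit 3, nat_lit 2, nat_lit 3, nat_lit 1], [nat_lit 10, nat_lit 10, nat_lit 0, nat_lit 33, nat_lit 36, nat_lit 11], (nat_lit 13560)), ((nat_lit 2032), [nat_lit 7, nat_lit 6, nat_lit 4, nat_lit 7, nat_lit 3, nat_lit 4, nat_lit 7, nat_lit 2, nat_lit 3, nat_lit 4, nat_lit 8, nat_lit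 2, nat_lit 3, nat_lit 1], [nat_lit 1, nat_lit 24, nat_lit 0, nat_lit 11, nat_lit 37, nat_lit 27], (nat_lit 10603)), ((nat_lit 1356), [nat_lit 0, nat_lit 1, nat_lit 2, nat_lit 3, nat_lit 4, nat_lit 7, nat_lit 2, nat_lit 3, nat_lit 4, nat_lit 8, nat_lit 2, nat_lit 3, nat_lit 0, nat_lit 1], [nat_lit 24, nat_lit 16, nat_lit 0, nat_lit 25, nat_lit 36, nat_lit 11, nat_lit 27], (nat_lit 8480)), ((nat_lit 1223), [nat_lit 3, nat_lit 2, nat_lit 3, nat_lit 1, nat_lit 2, nat_lit 3, nat_lit 4, nat_lit 8, nat_lit 3, nat_lit 4, nat_lit 7, nat_lit 2, nat_lit 3, nat_lit 1], [nat_lit 2, nat_lit 34, nat_lit 34, nat_lit 11], (nat_lit 10882)), ((nat_lit 1418), [nat_lit 8, nat_lit 4, nat_lit 8, nat_lit 3, nat_lit 2, nat_lit 3, nat_lit 4, nat_lit 8, nat_lit 4, nat_lit 3, nat_lit 2, nat_lit 3, nat_lit 1], [nat_lit 14, nat_lit 15, nat_lit 0, nat_lit 37, nat_lit 11, nat_lit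 27], (nat_lit 5954)), ((nat_lit 2214), [nat_lit 6, nat_lit 7, nat_lit 0, nat_lit 1, nat_lit 2, nat_lit 3, nat_lit 4, nat_lit 8, nat_lit 4, nat_lit 2, nat_lit 3, nat_lit 0, nat_lit 1], [nat_lit 24, nat_lit 37, nat_lit 11, nat_lit 27], (nat_lit 5436))] m5_5_7 m5_5_8) = 0 := by decide +kernel
theorem e5_5_9 : dt.run q (fun c => c.edges (SP THn.T THn.Rl (nat_lit 15)) (nat_lit 4429) THn.T.n (nat_lit 5) (nat_lit 5)
  [((nat_lit 2172), [nat_lit 7, nat_lit 3, nat_lit 1, nat_lit 2, nat_lit 3, nat_lit 4, nat_lit 8, nat_lit 2, nat_lit 3, nat_lit 4, nat_lit 8, nat_lit 2, nat_lit 3, nat_lit 1], [nat_lit 10, nat_lit 0, nat_lit 15, nat_lit 35, nat_lit 11, nat_lit 27], (nat_lit 10500)), ((nat_lit 2174), [nat_lit 8, nat_lit 4, nat_lit 7, nat_lit 5, nat_lit 3, nat_lit 4, nat_lit 8, nat_lit 2, nat_lit 3, nat_lit 4, nat_lit 7, nat_lit 3, nat_lit 2, nat_lit 3, nat_lit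 1], [nat_lit 5, nat_lit 16, nat_lit 2, nat_lit 34, nat_lit 37, nat_lit 11, nat_lit 26], (nat_lit 13533)), ((nat_lit 2565), [nat_lit 4, nat_lit 7, nat_lit 6, nat_lit 2, nat_lit 3, nat_lit 4, nat_lit 7, nat_lit 0, nat_lit 1, nat_lit 2, nat_lit 3, nat_lit 4, nat_lit 2, nat_lit 3, nat_lit 1], [nat_lit 26, nat_lit 2, nat_lit 0, nat_lit 36, nat_lit 32, nat_lit 26], (nat_lit 13627)), ((nat_lit 1875), [nat_lit 3, nat_lit 1, nat_lit 2, nat_lit 3, nat_lit 4, nat_lit 7, nat_lit 3, nat_lit 4, nat_lit 8, nat_lit 4, nat_lit 3, nat_lit 2, nat_lit 3, nat_lit 0, nat_lit 1], [nat_lit 25, nat_lit 1, nat_lit 34, nat_lit 17, nat_lit 27], (nat_lit 11334)), ((nat_lit 2569), [nat_lit 7, nat_lit 2, nat_lit 3, nat_lit 0, nat_lit 1, nat_lit 2, nat_lit 3, nat_lit 4, nat_lit 8, nat_lit 2, nat_lit 3, nat_lit 4, nat_lit 2, nat_lit 3, nat_lit 1], [nat_lit 17, nat_lit 2, nat_lit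 0, nat_lit 36, nat_lit 24, nat_lit 27], (nat_lit 13733)), ((nat_lit 611), [nat_lit 6, nat_lit 8, nat_lit 1, nat_lit 2, nat_lit 3, nat_lit 4, nat_lit 7, nat_lit 3, nat_lit 4, nat_lit 2, nat_lit 3, nat_lit 0, nat_lit 1], [nat_lit 24, nat_lit 0, nat_lit 24, nat_lit 16], (nat_lit 5413)), ((nat_lit 644), [nat_lit 8, nat_lit 4, nat_lit 7, nat_lit 1, nat_lit 2, nat_lit 3, nat_lit 4, nat_lit 7, nat_lit 1, nat_lit 2, nat_lit 3, nat_lit 4, nat_lit 3, nat_lit 2, nat_lit 3, nat_lit 0, nat_lit 1], [nat_lit 24, nat_lit 16, nat_lit 0, nat_lit 17, nat_lit 17, nat_lit 11], (nat_lit 16869)), ((nat_lit 883), [nat_lit 5, nat_lit 4, nat_lit 8, nat_lit 4, nat_lit 8, nat_lit 2, nat_lit 3, nat_lit 4, nat_lit 8, nat_lit 2, nat_lit 3, nat_lit 0, nat_lit 1], [nat_lit 26, nat_lit 2, nat_lit 0, nat_lit 33, nat_lit 18], (nat_lit 5551)), ((nat_lit 2175), [nat_lit 8, nat_lit 1,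 nat_lit 2, nat_lit 3, nat_lit 4, nat_lit 8, nat_lit 3, nat_lit 4, nat_lit 3, nat_lit 2, nat_lit 3, nat_lit 0, nat_lit 1], [nat_lit 25, nat_lit 16, nat_lit 0, nat_lit 37, nat_lit 18, nat_lit 15, nat_lit 26], (nat_lit 5010)), ((nat_lit 2270), [nat_lit 3, nat_lit 4, nat_lit 8, nat_lit 3, nat_lit 1, nat_lit 2, nat_lit 3, nat_lit 4, nat_lit 7, nat_lit 4, nat_lit 3, nat_lit 2, nat_lit 3, nat_lit 1], [nat_lit 25, nat_lit 2, nat_lit 0, nat_lit 27, nat_lit 24, nat_lit 11], (nat_lit 9165)), ((nat_lit 2461), [nat_lit 8, nat_lit 4, nat_lit 7, nat_lit 5, nat_lit 1, nat_lit 2, nat_lit 3, nat_lit 4, nat_lit 7, nat_lit 2, nat_lit 3, nat_lit 0, nat_lit 1], [nat_lit 24, nat_lit 2, nat_lit 0, nat_lit 17, nat_lit 16, nat_lit 27], (nat_lit 5598)), ((nat_lit 1069), [nat_lit 7, nat_lit 2, nat_lit 3, nat_lit 4, nat_lit 7, nat_lit 0, nat_lit 1, nat_lit 2, nat_lit 3, nat_lit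 4, nat_lit 2, nat_lit 3, nat_lit 0, nat_lit 1], [nat_lit 14, nat_lit 34, nat_lit 27], (nat_lit 8051)), ((nat_lit 1609), [nat_lit 5, nat_lit 7, nat_lit 4, nat_lit 7, nat_lit 6, nat_lit 1, nat_lit 2, nat_lit 3, nat_lit 4, nat_lit 7, nat_lit 2, nat_lit 3, nat_lit 0, nat_lit 1], [nat_lit 5, nat_lit 14, nat_lit 35, nat_lit 15, nat_lit 26], (nat_lit 8562)), ((nat_lit 1716), [nat_lit 8, nat_lit 6, nat_lit 4, nat_lit 7, nat_lit 2, nat_lit 3, nat_lit 4, nat_lit 8, nat_lit 3, nat_lit 2, nat_lit 3, nat_lit 0, nat_lit 1], [nat_lit 25, nat_lit 2, nat_lit 0, nat_lit 36, nat_lit 26], (nat_lit 5161)), ((nat_lit 2137), [nat_lit 1, nat_lit 2, nat_lit 3, nat_lit 4, nat_lit 7, nat_lit 4, nat_lit 7, nat_lit 3, nat_lit 4, nat_lit 3, nat_lit 2, nat_lit 3, nat_lit 0, nat_lit 1], [nat_lit 16, nat_lit 0, nat_lit 17, nat_lit 11, nat_lit 17], (nat_lit 7697)), ((nat_lit 2158),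 [nat_lit 7, nat_lit 4, nat_lit 7, nat_lit 1, nat_lit 2, nat_lit 3, nat_lit 4, nat_lit 8, nat_lit 4, nat_lit 2, nat_lit 3, nat_lit 0, nat_lit 1], [nat_lit 5, nat_lit 0, nat_lit 24, nat_lit 36], (nat_lit 5443)), ((nat_lit 2359), [nat_lit 7, nat_lit 3, nat_lit 4, nat_lit 7, nat_lit 5, nat_lit 1, nat_lit 2, nat_lit 3, nat_lit 4, nat_lit 8, nat_lit 2, nat_lit 3, nat_lit 0, nat_lit 1], [nat_lit 1, nat_lit 15, nat_lit 35, nat_lit 11], (nat_lit 8395)), ((nat_lit 2350), [nat_lit 7, nat_lit 2, nat_lit 3, nat_lit 4, nat_lit 7, nat_lit 2, nat_lit 3, nat_lit 4, nat_lit 8, nat_lit 3, nat_lit 2, nat_lit 3, nat_lit 0, nat_lit 1], [nat_lit 24, nat_lit 16, nat_lit 0, nat_lit 24, nat_lit 18], (nat_lit 7885)), ((nat_lit 2052), [nat_lit 6, nat_lit 4, nat_lit 7, nat_lit 4, nat_lit 7, nat_lit 1, nat_lit 2, nat_lit 3, nat_lit 4, nat_lit 7, nat_lit 2, nat_lit 3, nat_lit 0,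 nat_lit 1], [nat_lit 26, nat_lit 2, nat_lit 33, nat_lit 34, nat_lit 26], (nat_lit 8581)), ((nat_lit 2192), [nat_lit 8, nat_lit 5, nat_lit 4, nat_lit 8, nat_lit 1, nat_lit 2, nat_lit 3, nat_lit 4, nat_lit 7, nat_lit 2, nat_lit 3, nat_lit 0, nat_lit 1], [nat_lit 11, nat_lit 2, nat_lit 0, nat_lit 33, nat_lit 18, nat_lit 27], (nat_lit 5607)), ((nat_lit 1309), [nat_lit 8, nat_lit 5, nat_lit 4, nat_lit 3, nat_lit 1, nat_lit 2, nat_lit 3, nat_lit 4, nat_lit 8, nat_lit 4, nat_lit 2, nat_lit 3, nat_lit 1], [nat_lit 25, nat_lit 1, nat_lit 15, nat_lit 18, nat_lit 11], (nat_lit 6747)), ((nat_lit 2177), [nat_lit 8, nat_lit 4, nat_lit 3, nat_lit 2, nat_lit 3, nat_lit 4, nat_lit 8, nat_lit 4, nat_lit 3, nat_lit 1], [nat_lit 5, nat_lit 14, nat_lit 34, nat_lit 15], (nat_lit 1623)), ((nat_lit 493), [nat_lit 8, nat_lit 5, nat_lit 4, nat_lit 8, nat_lit 1, nat_lit 2,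 nat_lit 3, nat_lit 0, nat_lit 1, nat_lit 2, nat_lit 3, nat_lit 4, nat_lit 3, nat_lit 2, nat_lit 3, nat_lit 1], [nat_lit 25, nat_lit 1, nat_lit 32, nat_lit 36, nat_lit 16], (nat_lit 15657)), ((nat_lit 1271), [nat_lit 8, nat_lit 4, nat_lit 8, nat_lit 6, nat_lit 0, nat_lit 1, nat_lit 2, nat_lit 3, nat_lit 4, nat_lit 8, nat_lit 2, nat_lit 3, nat_lit 1], [nat_lit 25, nat_lit 16, nat_lit 0, nat_lit 15, nat_lit 35], (nat_lit 6833)), ((nat_lit 1717), [nat_lit 7, nat_lit 4, nat_lit 7, nat_lit 6, nat_lit 3, nat_lit 4, nat_lit 7, nat_lit 4, nat_lit 1, nat_lit 2, nat_lit 3, nat_lit 0, nat_lit 1], [nat_lit 14, nat_lit 37, nat_lit 34, nat_lit 24, nat_lit 26], (nat_lit 4777)), ((nat_lit 2449), [nat_lit 4, nat_lit 3, nat_lit 2, nat_lit 3, nat_lit 0, nat_lit 1, nat_lit 2, nat_lit 3, nat_lit 4, nat_lit 7, nat_lit 4, nat_lit 3, nat_lit 2, nat_lit 3, nat_lit 1], [nat_lit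 24, nat_lit 0, nat_lit 34, nat_lit 37], (nat_lit 12921)), ((nat_lit 2472), [nat_lit 7, nat_lit 6, nat_lit 4, nat_lit 7, nat_lit 3, nat_lit 2, nat_lit 3, nat_lit 4, nat_lit 7, nat_lit 3, nat_lit 2, nat_lit 3, nat_lit 1], [nat_lit 11, nat_lit 5, nat_lit 2, nat_lit 32, nat_lit 18, nat_lit 27], (nat_lit 6286)), ((nat_lit 1186), [nat_lit 8, nat_lit 3, nat_lit 2, nat_lit 3, nat_lit 4, nat_lit 7, nat_lit 0, nat_lit 1, nat_lit 2, nat_lit 3, nat_lit 4, nat_lit 8, nat_lit 2, nat_lit 3, nat_lit 1], [nat_lit 1, nat_lit 24, nat_lit 0, nat_lit 11, nat_lit 18, nat_lit 27], (nat_lit 14267)), ((nat_lit 1725), [nat_lit 7, nat_lit 5, nat_lit 4, nat_lit 8, nat_lit 0, nat_lit 1, nat_lit 2, nat_lit 3, nat_lit 4, nat_lit 7, nat_lit 2, nat_lit 3, nat_lit 1], [nat_lit 1, nat_lit 5, nat_lit 32, nat_lit 24, nat_lit 27], (nat_lit 7033)), ((nat_lit 495), [nat_lit 2, nat_lit 3,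 nat_lit 4, nat_lit 7, nat_lit 4, nat_lit 3, nat_lit 1, nat_lit 2, nat_lit 3, nat_lit 0, nat_lit 1], [nat_lit 1, nat_lit 24, nat_lit 0, nat_lit 34, nat_lit 34], (nat_lit 1676)), ((nat_lit 2316), [nat_lit 7, nat_lit 4, nat_lit 7, nat_lit 3, nat_lit 2, nat_lit 3, nat_lit 4, nat_lit 8, nat_lit 3, nat_lit 2, nat_lit 3, nat_lit 0, nat_lit 1], [nat_lit 16, nat_lit 5, nat_lit 0, nat_lit 15, nat_lit 32, nat_lit 15, nat_lit 26], (nat_lit 5139)), ((nat_lit 1057), [nat_lit 7, nat_lit 5, nat_lit 4, nat_lit 8, nat_lit 3, nat_lit 4, nat_lit 7, nat_lit 1, nat_lit 2, nat_lit 3, nat_lit 0, nat_lit 1], [nat_lit 11, nat_lit 5, nat_lit 2, nat_lit 34, nat_lit 32, nat_lit 27], (nat_lit 3086)), ((nat_lit 1455), [nat_lit 3, nat_lit 2, nat_lit 3, nat_lit 4, nat_lit 7, nat_lit 3, nat_lit 2, nat_lit 3, nat_lit 4, nat_lit 3, nat_lit 2, nat_lit 3, nat_lit 1], [nat_lit 24, nat_lit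 16, nat_lit 0, nat_lit 37, nat_lit 26], (nat_lit 5795)), ((nat_lit 2217), [nat_lit 5, nat_lit 8, nat_lit 4, nat_lit 8, nat_lit 2, nat_lit 3, nat_lit 4, nat_lit 1, nat_lit 2, nat_lit 3, nat_lit 0, nat_lit 1], [nat_lit 16, nat_lit 5, nat_lit 0, nat_lit 34, nat_lit 15, nat_lit 11, nat_lit 27], (nat_lit 2891)), ((nat_lit 444), [nat_lit 7, nat_lit 7, nat_lit 4, nat_lit 8, nat_lit 3, nat_lit 2, nat_lit 3, nat_lit 4, nat_lit 8, nat_lit 3, nat_lit 2, nat_lit 3, nat_lit 0, nat_lit 1], [nat_lit 16, nat_lit 5, nat_lit 0, nat_lit 36, nat_lit 25, nat_lit 26], (nat_lit 7858)), ((nat_lit 1857), [nat_lit 4, nat_lit 8, nat_lit 4, nat_lit 8, nat_lit 3, nat_lit 2, nat_lit 3, nat_lit 4, nat_lit 7, nat_lit 4, nat_lit 3, nat_lit 2, nat_lit 3, nat_lit 1], [nat_lit 5, nat_lit 2, nat_lit 0, nat_lit 33], (nat_lit 9183)), ((nat_lit 589), [nat_lit 7, nat_lit 3, nat_lit 2, nat_lit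 3, nat_lit 4, nat_lit 8, nat_lit 0, nat_lit 1, nat_lit 2, nat_lit 3, nat_lit 4, nat_lit 8, nat_lit 3, nat_lit 2, nat_lit 3, nat_lit 1], [nat_lit 10, nat_lit 10, nat_lit 0, nat_lit 32, nat_lit 34, nat_lit 11, nat_lit 27], (nat_lit 16162)), ((nat_lit 405), [nat_lit 3, nat_lit 2, nat_lit 3, nat_lit 4, nat_lit 8, nat_lit 1, nat_lit 2, nat_lit 3, nat_lit 4, nat_lit 7, nat_lit 3, nat_lit 2, nat_lit 3, nat_lit 1], [nat_lit 17, nat_lit 25, nat_lit 15, nat_lit 26], (nat_lit 9562)), ((nat_lit 1369), [nat_lit 5, nat_lit 8, nat_lit 4, nat_lit 8, nat_lit 2, nat_lit 3, nat_lit 4, nat_lit 7, nat_lit 1, nat_lit 2, nat_lit 3, nat_lit 0, nat_lit 1], [nat_lit 25, nat_lit 14, nat_lit 0, nat_lit 33, nat_lit 35, nat_lit 11], (nat_lit 4893)), ((nat_lit 2117), [nat_lit 7, nat_lit 3, nat_lit 4, nat_lit 7, nat_lit 3, nat_lit 4, nat_lit 8, nat_lit 1, nat_lit 2, nat_lit 3, nat_lit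 0, nat_lit 1], [nat_lit 17, nat_lit 15, nat_lit 11, nat_lit 26], (nat_lit 3027)), ((nat_lit 397), [nat_lit 5, nat_lit 8, nat_lit 4, nat_lit 8, nat_lit 5, nat_lit 3, nat_lit 2, nat_lit 3, nat_lit 4, nat_lit 7, nat_lit 3, nat_lit 2, nat_lit 3, nat_lit 1], [nat_lit 25, nat_lit 14, nat_lit 0, nat_lit 37, nat_lit 33], (nat_lit 9333)), ((nat_lit 2226), [nat_lit 8, nat_lit 6, nat_lit 4, nat_lit 7, nat_lit 0, nat_lit 1, nat_lit 2, nat_lit 3, nat_lit 4, nat_lit 8, nat_lit 3, nat_lit 2, nat_lit 3, nat_lit 1], [nat_lit 25, nat_lit 1, nat_lit 17, nat_lit 15, nat_lit 26], (nat_lit 9250)), ((nat_lit 609), [nat_lit 3, nat_lit 2, nat_lit 3, nat_lit 4, nat_lit 8, nat_lit 5, nat_lit 1, nat_lit 2, nat_lit 3, nat_lit 4, nat_lit 8, nat_lit 3, nat_lit 2, nat_lit 3, nat_lit 1], [nat_lit 5, nat_lit 36, nat_lit 24, nat_lit 26], (nat_lit 13180)), ((nat_lit 2230), [nat_lit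 3, nat_lit 2, nat_lit 3, nat_lit 4, nat_lit 7, nat_lit 1, nat_lit 2, nat_lit 3, nat_lit 4, nat_lit 8, nat_lit 4, nat_lit 3, nat_lit 2, nat_lit 3, nat_lit 1], [nat_lit 18, nat_lit 15, nat_lit 0, nat_lit 33, nat_lit 16, nat_lit 11], (nat_lit 12906)), ((nat_lit 2228), [nat_lit 3, nat_lit 4, nat_lit 7, nat_lit 4, nat_lit 7, nat_lit 3, nat_lit 1, nat_lit 2, nat_lit 3, nat_lit 0, nat_lit 1], [nat_lit 1, nat_lit 34, nat_lit 16, nat_lit 11, nat_lit 26], (nat_lit 1713)), ((nat_lit 413), [nat_lit 4, nat_lit 7, nat_lit 3, nat_lit 2, nat_lit 3, nat_lit 4, nat_lit 8, nat_lit 3, nat_lit 2, nat_lit 3, nat_lit 1], [nat_lit 24, nat_lit 0, nat_lit 33, nat_lit 37, nat_lit 27], (nat_lit 2327)), ((nat_lit 577), [nat_lit 8, nat_lit 4, nat_lit 8, nat_lit 3, nat_lit 4, nat_lit 8, nat_lit 3, nat_lit 1, nat_lit 2, nat_lit 3, nat_lit 0, nat_lit 1], [nat_lit 10, nat_lit 10,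 nat_lit 0, nat_lit 26, nat_lit 34, nat_lit 11, nat_lit 27], (nat_lit 2830)), ((nat_lit 1594), [nat_lit 7, nat_lit 3, nat_lit 2, nat_lit 3, nat_lit 4, nat_lit 8, nat_lit 1, nat_lit 2, nat_lit 3, nat_lit 4, nat_lit 8, nat_lit 3, nat_lit 2, nat_lit 3, nat_lit 1], [nat_lit 10, nat_lit 10, nat_lit 0, nat_lit 37, nat_lit 32, nat_lit 11, nat_lit 27], (nat_lit 13194)), ((nat_lit 1143), [nat_lit 6, nat_lit 7, nat_lit 3, nat_lit 2, nat_lit 3, nat_lit 4, nat_lit 8, nat_lit 1, nat_lit 2, nat_lit 3, nat_lit 4, nat_lit 8, nat_lit 3, nat_lit 2, nat_lit 3, nat_lit 1], [nat_lit 11, nat_lit 2, nat_lit 0, nat_lit 35, nat_lit 16, nat_lit 16, nat_lit 27], (nat_lit 16237)), ((nat_lit 388), [nat_lit 5, nat_lit 8, nat_lit 4, nat_lit 7, nat_lit 1, nat_lit 2, nat_lit 3, nat_lit 4, nat_lit 2, nat_lit 3, nat_lit 1], [nat_lit 10, nat_lit 10, nat_lit 0, nat_lit 32, nat_lit 27],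 (nat_lit 2454)), ((nat_lit 1150), [nat_lit 5, nat_lit 8, nat_lit 4, nat_lit 8, nat_lit 3, nat_lit 4, nat_lit 8, nat_lit 3, nat_lit 1, nat_lit 2, nat_lit 3, nat_lit 0, nat_lit 1], [nat_lit 0, nat_lit 2, nat_lit 25, nat_lit 36, nat_lit 11, nat_lit 27], (nat_lit 4611)), ((nat_lit 401), [nat_lit 5, nat_lit 8, nat_lit 1, nat_lit 2, nat_lit 3, nat_lit 0, nat_lit 1, nat_lit 2, nat_lit 3, nat_lit 4, nat_lit 7, nat_lit 3, nat_lit 2, nat_lit 3, nat_lit 1], [nat_lit 18, nat_lit 15, nat_lit 0, nat_lit 24, nat_lit 15], (nat_lit 13310)), ((nat_lit 1139), [nat_lit 8, nat_lit 5, nat_lit 4, nat_lit 7, nat_lit 1, nat_lit 2, nat_lit 3, nat_lit 4, nat_lit 8, nat_lit 2, nat_lit 3, nat_lit 1], [nat_lit 5, nat_lit 16, nat_lit 2, nat_lit 36, nat_lit 15, nat_lit 26], (nat_lit 4329)), ((nat_lit 282), [nat_lit 6, nat_lit 7, nat_lit 3, nat_lit 1, nat_lit 2, nat_lit 3, nat_lit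 4, nat_lit 1, nat_lit 2, nat_lit 3, nat_lit 0, nat_lit 1], [nat_lit 24, nat_lit 0, nat_lit 27, nat_lit 17], (nat_lit 2876)), ((nat_lit 308), [nat_lit 8, nat_lit 3, nat_lit 1, nat_lit 2, nat_lit 3, nat_lit 4, nat_lit 8, nat_lit 1, nat_lit 2, nat_lit 3, nat_lit 0, nat_lit 1], [nat_lit 26, nat_lit 2, nat_lit 33, nat_lit 25], (nat_lit 2979)), ((nat_lit 267), [nat_lit 8, nat_lit 6, nat_lit 3, nat_lit 0, nat_lit 1, nat_lit 2, nat_lit 3, nat_lit 4, nat_lit 7, nat_lit 1, nat_lit 2, nat_lit 3, nat_lit 0, nat_lit 1], [nat_lit 26, nat_lit 2, nat_lit 33, nat_lit 37, nat_lit 26], (nat_lit 7482)), ((nat_lit 341), [nat_lit 6, nat_lit 2, nat_lit 3, nat_lit 4, nat_lit 7, nat_lit 4, nat_lit 1, nat_lit 2, nat_lit 3, nat_lit 0, nat_lit 1], [nat_lit 10, nat_lit 10, nat_lit 0, nat_lit 11, nat_lit 16, nat_lit 26], (nat_lit 1776)), ((nat_lit 357), [nat_lit 5, nat_lit 8,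 nat_lit 3, nat_lit 1, nat_lit 2, nat_lit 3, nat_lit 4, nat_lit 1, nat_lit 2, nat_lit 3, nat_lit 0, nat_lit 1], [nat_lit 14, nat_lit 32, nat_lit 35, nat_lit 27], (nat_lit 2875)), ((nat_lit 291), [nat_lit 3, nat_lit 1, nat_lit 2, nat_lit 3, nat_lit 4, nat_lit 8, nat_lit 4, nat_lit 1, nat_lit 2, nat_lit 3, nat_lit 0, nat_lit 1], [nat_lit 0, nat_lit 37, nat_lit 34, nat_lit 25, nat_lit 27], (nat_lit 2933)), ((nat_lit 265), [nat_lit 7, nat_lit 3, nat_lit 0, nat_lit 1, nat_lit 2, nat_lit 3, nat_lit 4, nat_lit 8, nat_lit 4, nat_lit 1, nat_lit 2, nat_lit 3, nat_lit 0, nat_lit 1], [nat_lit 25, nat_lit 0, nat_lit 32, nat_lit 15, nat_lit 27], (nat_lit 7399)), ((nat_lit 275), [nat_lit 5, nat_lit 3, nat_lit 1, nat_lit 2, nat_lit 3, nat_lit 4, nat_lit 8, nat_lit 4, nat_lit 1, nat_lit 2, nat_lit 3, nat_lit 0, nat_lit 1], [nat_lit 25, nat_lit 14, nat_lit 0, nat_lit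 26, nat_lit 34], (nat_lit 4738)), ((nat_lit 277), [nat_lit 6, nat_lit 7, nat_lit 3, nat_lit 1, nat_lit 2, nat_lit 3, nat_lit 4, nat_lit 8, nat_lit 1, nat_lit 2, nat_lit 3, nat_lit 0, nat_lit 1], [nat_lit 5, nat_lit 2, nat_lit 0, nat_lit 15, nat_lit 11, nat_lit 26], (nat_lit 4802)), ((nat_lit 351), [nat_lit 5, nat_lit 8, nat_lit 3, nat_lit 1, nat_lit 2, nat_lit 3, nat_lit 4, nat_lit 7, nat_lit 1, nat_lit 2, nat_lit 3, nat_lit 0, nat_lit 1], [nat_lit 16, nat_lit 5, nat_lit 2, nat_lit 15, nat_lit 32, nat_lit 11, nat_lit 26], (nat_lit 4869)), ((nat_lit 352), [nat_lit 6, nat_lit 7, nat_lit 2, nat_lit 3, nat_lit 4, nat_lit 8, nat_lit 1, nat_lit 2, nat_lit 3, nat_lit 0, nat_lit 1], [nat_lit 15, nat_lit 2, nat_lit 36, nat_lit 36, nat_lit 17, nat_lit 26], (nat_lit 1801)), ((nat_lit 317), [nat_lit 5, nat_lit 7, nat_lit 2, nat_lit 3, nat_lit 4, nat_lit 8, nat_lit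 1, nat_lit 2, nat_lit 3, nat_lit 0, nat_lit 1], [nat_lit 10, nat_lit 10, nat_lit 0, nat_lit 11, nat_lit 36], (nat_lit 1802)), ((nat_lit 1443), [nat_lit 4, nat_lit 7, nat_lit 3, nat_lit 2, nat_lit 3, nat_lit 4, nat_lit 3, nat_lit 2, nat_lit 3, nat_lit 0, nat_lit 1], [nat_lit 26, nat_lit 2, nat_lit 35, nat_lit 35, nat_lit 26], (nat_lit 1863)), ((nat_lit 284), [nat_lit 2, nat_lit 3, nat_lit 4, nat_lit 8, nat_lit 4, nat_lit 8, nat_lit 1, nat_lit 2, nat_lit 3, nat_lit 0, nat_lit 1], [nat_lit 15, nat_lit 11, nat_lit 15], (nat_lit 1815)), ((nat_lit 318), [nat_lit 7, nat_lit 6, nat_lit 2, nat_lit 3, nat_lit 4, nat_lit 7, nat_lit 1, nat_lit 2, nat_lit 3, nat_lit 0, nat_lit 1], [nat_lit 10, nat_lit 10, nat_lit 0, nat_lit 36, nat_lit 18, nat_lit 27], (nat_lit 1826)), ((nat_lit 355), [nat_lit 7, nat_lit 5, nat_lit 2, nat_lit 3, nat_lit 4, nat_lit 7, nat_lit 1,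 nat_lit 2, nat_lit 3, nat_lit 0, nat_lit 1], [nat_lit 2, nat_lit 32, nat_lit 18, nat_lit 11], (nat_lit 1827)), ((nat_lit 283), [nat_lit 3, nat_lit 1, nat_lit 2, nat_lit 3, nat_lit 4, nat_lit 8, nat_lit 4, nat_lit 8, nat_lit 1, nat_lit 2, nat_lit 3, nat_lit 0, nat_lit 1], [nat_lit 1, nat_lit 24, nat_lit 0, nat_lit 15, nat_lit 27, nat_lit 16, nat_lit 26], (nat_lit 4853)), ((nat_lit 290), [nat_lit 5, nat_lit 8, nat_lit 2, nat_lit 3, nat_lit 4, nat_lit 7, nat_lit 1, nat_lit 2, nat_lit 3, nat_lit 0, nat_lit 1], [nat_lit 24, nat_lit 0, nat_lit 26, nat_lit 16, nat_lit 27], (nat_lit 1830)), ((nat_lit 288), [nat_lit 8, nat_lit 8, nat_lit 2, nat_lit 3, nat_lit 4, nat_lit 7, nat_lit 1, nat_lit 2, nat_lit 3, nat_lit 0, nat_lit 1], [nat_lit 14, nat_lit 0, nat_lit 37, nat_lit 27], (nat_lit 1831)), ((nat_lit 309), [nat_lit 5, nat_lit 7, nat_lit 2, nat_lit 3, nat_lit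 4, nat_lit 7, nat_lit 1, nat_lit 2, nat_lit 3, nat_lit 0, nat_lit 1], [nat_lit 5, nat_lit 16, nat_lit 11, nat_lit 27], (nat_lit 1833)), ((nat_lit 353), [nat_lit 3, nat_lit 1, nat_lit 2, nat_lit 3, nat_lit 4, nat_lit 8, nat_lit 4, nat_lit 8, nat_lit 4, nat_lit 1, nat_lit 2, nat_lit 3, nat_lit 0, nat_lit 1], [nat_lit 15, nat_lit 2, nat_lit 37, nat_lit 18, nat_lit 15], (nat_lit 7416)), ((nat_lit 428), [nat_lit 5, nat_lit 7, nat_lit 1, nat_lit 2, nat_lit 3, nat_lit 4, nat_lit 7, nat_lit 3, nat_lit 4, nat_lit 2, nat_lit 3, nat_lit 1], [nat_lit 16, nat_lit 5, nat_lit 2, nat_lit 33, nat_lit 35, nat_lit 11], (nat_lit 4182)), ((nat_lit 1651), [nat_lit 7, nat_lit 5, nat_lit 3, nat_lit 2, nat_lit 3, nat_lit 1, nat_lit 2, nat_lit 3, nat_lit 4, nat_lit 8, nat_lit 3, nat_lit 2, nat_lit 3, nat_lit 1], [nat_lit 26, nat_lit 2, nat_lit 17, nat_lit 36], (nat_lit 9259)),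 ((nat_lit 348), [nat_lit 8, nat_lit 3, nat_lit 1, nat_lit 2, nat_lit 3, nat_lit 4, nat_lit 7, nat_lit 1, nat_lit 2, nat_lit 3, nat_lit 0, nat_lit 1], [nat_lit 5, nat_lit 2, nat_lit 37, nat_lit 25, nat_lit 26], (nat_lit 3048)), ((nat_lit 1527), [nat_lit 8, nat_lit 4, nat_lit 7, nat_lit 4, nat_lit 3, nat_lit 0, nat_lit 1, nat_lit 2, nat_lit 3, nat_lit 4, nat_lit 7, nat_lit 3, nat_lit 4, nat_lit 2, nat_lit 3, nat_lit 1], [nat_lit 11, nat_lit 2, nat_lit 0, nat_lit 33, nat_lit 33, nat_lit 11, nat_lit 26], (nat_lit 16632)), ((nat_lit 848), [nat_lit 7, nat_lit 4, nat_lit 8, nat_lit 4, nat_lit 2, nat_lit 3, nat_lit 1, nat_lit 2, nat_lit 3, nat_lit 4, nat_lit 8, nat_lit 3, nat_lit 4, nat_lit 2, nat_lit 3, nat_lit 1], [nat_lit 25, nat_lit 14, nat_lit 0, nat_lit 34, nat_lit 34, nat_lit 11, nat_lit 27], (nat_lit 16585)), ((nat_lit 1386), [nat_lit 8, nat_lit 8,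 nat_lit 0, nat_lit 1, nat_lit 2, nat_lit 3, nat_lit 4, nat_lit 8, nat_lit 3, nat_lit 4, nat_lit 2, nat_lit 3, nat_lit 1], [nat_lit 25, nat_lit 2, nat_lit 0, nat_lit 27, nat_lit 36, nat_lit 11], (nat_lit 6580)), ((nat_lit 869), [nat_lit 8, nat_lit 4, nat_lit 7, nat_lit 5, nat_lit 0, nat_lit 1, nat_lit 2, nat_lit 3, nat_lit 4, nat_lit 8, nat_lit 4, nat_lit 2, nat_lit 3, nat_lit 1], [nat_lit 25, nat_lit 0, nat_lit 33, nat_lit 36, nat_lit 26], (nat_lit 10285)), ((nat_lit 1241), [nat_lit 8, nat_lit 4, nat_lit 7, nat_lit 3, nat_lit 4, nat_lit 7, nat_lit 7, nat_lit 2, nat_lit 3, nat_lit 4, nat_lit 7, nat_lit 2, nat_lit 3, nat_lit 0, nat_lit 1], [nat_lit 14, nat_lit 18, nat_lit 36, nat_lit 11, nat_lit 26], (nat_lit 12379)), ((nat_lit 997), [nat_lit 3, nat_lit 4, nat_lit 8, nat_lit 2, nat_lit 3, nat_lit 0, nat_lit 1, nat_lit 2, nat_lit 3, nat_lit 4, nat_lit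 8, nat_lit 3, nat_lit 2, nat_lit 3, nat_lit 1], [nat_lit 24, nat_lit 0, nat_lit 32, nat_lit 34, nat_lit 11, nat_lit 26], (nat_lit 13032)), ((nat_lit 1699), [nat_lit 7, nat_lit 4, nat_lit 7, nat_lit 2, nat_lit 3, nat_lit 4, nat_lit 8, nat_lit 1, nat_lit 2, nat_lit 3, nat_lit 4, nat_lit 2, nat_lit 3, nat_lit 0, nat_lit 1], [nat_lit 24, nat_lit 2, nat_lit 32, nat_lit 18, nat_lit 15, nat_lit 26], (nat_lit 11734)), ((nat_lit 1329), [nat_lit 4, nat_lit 8, nat_lit 8, nat_lit 2, nat_lit 3, nat_lit 4, nat_lit 8, nat_lit 1, nat_lit 2, nat_lit 3, nat_lit 4, nat_lit 2, nat_lit 3, nat_lit 0, nat_lit 1], [nat_lit 15, nat_lit 5, nat_lit 25, nat_lit 15, nat_lit 27], (nat_lit 11729)), ((nat_lit 2454), [nat_lit 5, nat_lit 3, nat_lit 4, nat_lit 8, nat_lit 3, nat_lit 1, nat_lit 2, nat_lit 3, nat_lit 4, nat_lit 8, nat_lit 3, nat_lit 2, nat_lit 3, nat_lit 1], [nat_lit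 14, nat_lit 37, nat_lit 33, nat_lit 26], (nat_lit 9289)), ((nat_lit 1516), [nat_lit 7, nat_lit 4, nat_lit 8, nat_lit 2, nat_lit 3, nat_lit 4, nat_lit 7, nat_lit 3, nat_lit 4, nat_lit 2, nat_lit 3, nat_lit 0, nat_lit 1], [nat_lit 27, nat_lit 15, nat_lit 11, nat_lit 26], (nat_lit 5429))] m5_5_8 m5_5_9) = 0 := by decide +kernel
theorem e5_5_10 : dt.run q (fun c => c.edges (SP THn.T THn.Rl (nat_lit 15)) (nat_lit 4429) THn.T.n (nat_lit 5) (nat_lit 5)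
  [((nat_lit 2404), [nat_lit 4, nat_lit 2, nat_lit 3, nat_lit 1, nat_lit 2, nat_lit 3, nat_lit 4, nat_lit 7, nat_lit 4, nat_lit 7, nat_lit 3, nat_lit 4, nat_lit 3, nat_lit 2, nat_lit 3, nat_lit 0, nat_lit 1], [nat_lit 5, nat_lit 0, nat_lit 27, nat_lit 36, nat_lit 11], (nat_lit 16874)), ((nat_lit 464), [nat_lit 4, nat_lit 7, nat_lit 5, nat_lit 2, nat_lit 3, nat_lit 4, nat_lit 8, nat_lit 3, nat_lit 2, nat_lit 3, nat_lit 4, nat_lit 3, nat_lit 2, nat_lit 3, nat_lit 1], [nat_lit 15, nat_lit 2, nat_lit 32, nat_lit 11, nat_lit 27], (nat_lit 12591)), ((nat_lit 941), [nat_lit 8, nat_lit 3, nat_lit 4, nat_lit 8, nat_lit 2, nat_lit 3, nat_lit 4, nat_lit 8, nat_lit 2, nat_lit 3, nat_lit 4, nat_lit 7, nat_lit 2, nat_lit 3, nat_lit 1], [nat_lit 26, nat_lit 2, nat_lit 16, nat_lit 32, nat_lit 15], (nat_lit 14609)), ((nat_lit 2130), [nat_lit 4, nat_lit 8, nat_lit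 3, nat_lit 4, nat_lit 7, nat_lit 3, nat_lit 1, nat_lit 2, nat_lit 3, nat_lit 4, nat_lit 7, nat_lit 3, nat_lit 2, nat_lit 3, nat_lit 0, nat_lit 1], [nat_lit 1, nat_lit 5, nat_lit 34, nat_lit 11], (nat_lit 15144)), ((nat_lit 1642), [nat_lit 8, nat_lit 5, nat_lit 4, nat_lit 8, nat_lit 3, nat_lit 4, nat_lit 3, nat_lit 2, nat_lit 3, nat_lit 0, nat_lit 1], [nat_lit 14, nat_lit 15, nat_lit 0, nat_lit 33, nat_lit 33, nat_lit 11, nat_lit 26], (nat_lit 1881)), ((nat_lit 2040), [nat_lit 7, nat_lit 4, nat_lit 7, nat_lit 6, nat_lit 2, nat_lit 3, nat_lit 4, nat_lit 7, nat_lit 3, nat_lit 2, nat_lit 3, nat_lit 1], [nat_lit 14, nat_lit 15, nat_lit 17, nat_lit 11, nat_lit 26], (nat_lit 3967)), ((nat_lit 1900), [nat_lit 6, nat_lit 8, nat_lit 4, nat_lit 8, nat_lit 3, nat_lit 4, nat_lit 3, nat_lit 2, nat_lit 3, nat_lit 0, nat_lit 1], [nat_lit 14, nat_lit 0, nat_lit 37,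 nat_lit 15, nat_lit 26], (nat_lit 1883)), ((nat_lit 1523), [nat_lit 4, nat_lit 7, nat_lit 5, nat_lit 2, nat_lit 3, nat_lit 4, nat_lit 7, nat_lit 0, nat_lit 1, nat_lit 2, nat_lit 3, nat_lit 4, nat_lit 7, nat_lit 2, nat_lit 3, nat_lit 1], [nat_lit 17, nat_lit 2, nat_lit 0, nat_lit 32, nat_lit 24, nat_lit 11], (nat_lit 16773)), ((nat_lit 991), [nat_lit 4, nat_lit 7, nat_lit 7, nat_lit 3, nat_lit 4, nat_lit 8, nat_lit 1, nat_lit 2, nat_lit 3, nat_lit 4, nat_lit 8, nat_lit 4, nat_lit 2, nat_lit 3, nat_lit 1], [nat_lit 26, nat_lit 2, nat_lit 24, nat_lit 33, nat_lit 15], (nat_lit 14209)), ((nat_lit 959), [nat_lit 8, nat_lit 3, nat_lit 4, nat_lit 8, nat_lit 0, nat_lit 1, nat_lit 2, nat_lit 3, nat_lit 4, nat_lit 7, nat_lit 3, nat_lit 1, nat_lit 2, nat_lit 3, nat_lit 0, nat_lit 1], [nat_lit 5, nat_lit 2, nat_lit 0, nat_lit 34], (nat_lit 14725)), ((nat_lit 1422),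 [nat_lit 4, nat_lit 7, nat_lit 1, nat_lit 2, nat_lit 3, nat_lit 4, nat_lit 7, nat_lit 3, nat_lit 4, nat_lit 3, nat_lit 1, nat_lit 2, nat_lit 3, nat_lit 0, nat_lit 1], [nat_lit 14, nat_lit 15, nat_lit 0, nat_lit 36, nat_lit 33, nat_lit 11, nat_lit 27], (nat_lit 10923)), ((nat_lit 1598), [nat_lit 5, nat_lit 7, nat_lit 4, nat_lit 7, nat_lit 0, nat_lit 1, nat_lit 2, nat_lit 3, nat_lit 4, nat_lit 8, nat_lit 1, nat_lit 2, nat_lit 3, nat_lit 0, nat_lit 1], [nat_lit 16, nat_lit 2, nat_lit 34, nat_lit 34, nat_lit 15, nat_lit 26], (nat_lit 11059)), ((nat_lit 896), [nat_lit 8, nat_lit 4, nat_lit 8, nat_lit 0, nat_lit 1, nat_lit 2, nat_lit 3, nat_lit 4, nat_lit 8, nat_lit 4, nat_lit 2, nat_lit 3, nat_lit 1], [nat_lit 18, nat_lit 15, nat_lit 0, nat_lit 27, nat_lit 17, nat_lit 26], (nat_lit 6737)), ((nat_lit 755), [nat_lit 8, nat_lit 2, nat_lit 3, nat_lit 4, nat_lit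 7, nat_lit 1, nat_lit 2, nat_lit 3, nat_lit 4, nat_lit 8, nat_lit 4, nat_lit 2, nat_lit 3, nat_lit 1], [nat_lit 24, nat_lit 16, nat_lit 0, nat_lit 24, nat_lit 37, nat_lit 26], (nat_lit 10314)), ((nat_lit 1070), [nat_lit 4, nat_lit 7, nat_lit 4, nat_lit 7, nat_lit 2, nat_lit 3, nat_lit 0, nat_lit 1, nat_lit 2, nat_lit 3, nat_lit 4, nat_lit 3, nat_lit 2, nat_lit 3, nat_lit 1], [nat_lit 24, nat_lit 15, nat_lit 0, nat_lit 25, nat_lit 15, nat_lit 27], (nat_lit 12407)), ((nat_lit 1880), [nat_lit 8, nat_lit 2, nat_lit 3, nat_lit 4, nat_lit 8, nat_lit 4, nat_lit 3, nat_lit 2, nat_lit 3, nat_lit 0, nat_lit 1], [nat_lit 5, nat_lit 2, nat_lit 0, nat_lit 16, nat_lit 17, nat_lit 15, nat_lit 26], (nat_lit 1896)), ((nat_lit 1424), [nat_lit 4, nat_lit 7, nat_lit 0, nat_lit 1, nat_lit 2, nat_lit 3, nat_lit 4, nat_lit 8, nat_lit 4, nat_lit 3, nat_lit 1, nat_lit 2,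 nat_lit 3, nat_lit 0, nat_lit 1], [nat_lit 15, nat_lit 0, nat_lit 27, nat_lit 15, nat_lit 26], (nat_lit 10927)), ((nat_lit 1591), [nat_lit 6, nat_lit 8, nat_lit 4, nat_lit 8, nat_lit 2, nat_lit 3, nat_lit 1, nat_lit 2, nat_lit 3, nat_lit 4, nat_lit 8, nat_lit 3, nat_lit 2, nat_lit 3, nat_lit 0, nat_lit 1], [nat_lit 15, nat_lit 0, nat_lit 36, nat_lit 16, nat_lit 11], (nat_lit 15018)), ((nat_lit 1567), [nat_lit 4, nat_lit 8, nat_lit 3, nat_lit 4, nat_lit 8, nat_lit 4, nat_lit 3, nat_lit 2, nat_lit 3, nat_lit 0, nat_lit 1], [nat_lit 17, nat_lit 24, nat_lit 0, nat_lit 34, nat_lit 34], (nat_lit 1899)), ((nat_lit 1862), [nat_lit 7, nat_lit 4, nat_lit 8, nat_lit 2, nat_lit 3, nat_lit 4, nat_lit 8, nat_lit 2, nat_lit 3, nat_lit 4, nat_lit 2, nat_lit 3, nat_lit 1], [nat_lit 1, nat_lit 1, nat_lit 35, nat_lit 27, nat_lit 15, nat_lit 27], (nat_lit 6457)), ((nat_lit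 424), [nat_lit 4, nat_lit 7, nat_lit 4, nat_lit 7, nat_lit 3, nat_lit 0, nat_lit 1, nat_lit 2, nat_lit 3, nat_lit 4, nat_lit 7, nat_lit 3, nat_lit 2, nat_lit 3, nat_lit 1], [nat_lit 17, nat_lit 2, nat_lit 0, nat_lit 37, nat_lit 17, nat_lit 11], (nat_lit 13351)), ((nat_lit 595), [nat_lit 4, nat_lit 8, nat_lit 3, nat_lit 2, nat_lit 3, nat_lit 1, nat_lit 2, nat_lit 3, nat_lit 4, nat_lit 7, nat_lit 4, nat_lit 3, nat_lit 2, nat_lit 3, nat_lit 1], [nat_lit 10, nat_lit 10, nat_lit 0, nat_lit 26, nat_lit 16, nat_lit 11], (nat_lit 12960)), ((nat_lit 990), [nat_lit 6, nat_lit 8, nat_lit 2, nat_lit 3, nat_lit 4, nat_lit 8, nat_lit 0, nat_lit 1, nat_lit 2, nat_lit 3, nat_lit 4, nat_lit 7, nat_lit 3, nat_lit 2, nat_lit 3, nat_lit 1], [nat_lit 10, nat_lit 10, nat_lit 0, nat_lit 37, nat_lit 25, nat_lit 26], (nat_lit 16314)), ((nat_lit 1955), [nat_lit 4, nat_lit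 8, nat_lit 4, nat_lit 8, nat_lit 3, nat_lit 1, nat_lit 2, nat_lit 3, nat_lit 4, nat_lit 3, nat_lit 2, nat_lit 3, nat_lit 0, nat_lit 1], [nat_lit 24, nat_lit 15, nat_lit 0, nat_lit 27, nat_lit 17, nat_lit 27], (nat_lit 7581)), ((nat_lit 1655), [nat_lit 8, nat_lit 4, nat_lit 3, nat_lit 2, nat_lit 3, nat_lit 4, nat_lit 8, nat_lit 3, nat_lit 4, nat_lit 3, nat_lit 2, nat_lit 3, nat_lit 1], [nat_lit 25, nat_lit 16, nat_lit 0, nat_lit 33, nat_lit 18, nat_lit 27], (nat_lit 5876)), ((nat_lit 1002), [nat_lit 7, nat_lit 2, nat_lit 3, nat_lit 4, nat_lit 7, nat_lit 1, nat_lit 2, nat_lit 3, nat_lit 4, nat_lit 3, nat_lit 2, nat_lit 3, nat_lit 1], [nat_lit 10, nat_lit 10, nat_lit 0, nat_lit 35, nat_lit 35, nat_lit 26], (nat_lit 5776)), ((nat_lit 1574), [nat_lit 7, nat_lit 4, nat_lit 7, nat_lit 7, nat_lit 1, nat_lit 2, nat_lit 3, nat_lit 4, nat_lit 7, nat_lit 1, nat_lit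 2, nat_lit 3, nat_lit 0, nat_lit 1], [nat_lit 24, nat_lit 0, nat_lit 36, nat_lit 32, nat_lit 11], (nat_lit 7523)), ((nat_lit 2147), [nat_lit 8, nat_lit 6, nat_lit 4, nat_lit 7, nat_lit 3, nat_lit 0, nat_lit 1, nat_lit 2, nat_lit 3, nat_lit 4, nat_lit 7, nat_lit 3, nat_lit 2, nat_lit 3, nat_lit 1], [nat_lit 16, nat_lit 5, nat_lit 0, nat_lit 33, nat_lit 25], (nat_lit 13344)), ((nat_lit 2410), [nat_lit 3, nat_lit 4, nat_lit 8, nat_lit 3, nat_lit 4, nat_lit 7, nat_lit 1, nat_lit 2, nat_lit 3, nat_lit 4, nat_lit 3, nat_lit 2, nat_lit 3, nat_lit 1], [nat_lit 14, nat_lit 15, nat_lit 24, nat_lit 26], (nat_lit 8839)), ((nat_lit 485), [nat_lit 8, nat_lit 4, nat_lit 7, nat_lit 3, nat_lit 0, nat_lit 1, nat_lit 2, nat_lit 3, nat_lit 4, nat_lit 7, nat_lit 4, nat_lit 3, nat_lit 2, nat_lit 3, nat_lit 1], [nat_lit 15, nat_lit 0, nat_lit 11, nat_lit 18, nat_lit 26],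 (nat_lit 12947)), ((nat_lit 561), [nat_lit 6, nat_lit 3, nat_lit 4, nat_lit 8, nat_lit 2, nat_lit 3, nat_lit 4, nat_lit 7, nat_lit 3, nat_lit 1, nat_lit 2, nat_lit 3, nat_lit 0, nat_lit 1], [nat_lit 16, nat_lit 25], (nat_lit 7332)), ((nat_lit 1022), [nat_lit 5, nat_lit 3, nat_lit 1, nat_lit 2, nat_lit 3, nat_lit 4, nat_lit 8, nat_lit 0, nat_lit 1, nat_lit 2, nat_lit 3, nat_lit 4, nat_lit 3, nat_lit 2, nat_lit 3, nat_lit 1], [nat_lit 18, nat_lit 35, nat_lit 11, nat_lit 26], (nat_lit 15694)), ((nat_lit 1254), [nat_lit 4, nat_lit 8, nat_lit 5, nat_lit 0, nat_lit 1, nat_lit 2, nat_lit 3, nat_lit 4, nat_lit 8, nat_lit 3, nat_lit 1, nat_lit 2, nat_lit 3, nat_lit 0, nat_lit 1], [nat_lit 0, nat_lit 2, nat_lit 32, nat_lit 16, nat_lit 27], (nat_lit 10940)), ((nat_lit 2418), [nat_lit 4, nat_lit 8, nat_lit 2, nat_lit 3, nat_lit 4, nat_lit 8, nat_lit 3, nat_lit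 2, nat_lit 3, nat_lit 0, nat_lit 1], [nat_lit 15, nat_lit 5, nat_lit 24, nat_lit 33, nat_lit 15, nat_lit 27], (nat_lit 1927)), ((nat_lit 2236), [nat_lit 7, nat_lit 6, nat_lit 4, nat_lit 2, nat_lit 3, nat_lit 0, nat_lit 1, nat_lit 2, nat_lit 3, nat_lit 4, nat_lit 8, nat_lit 4, nat_lit 3, nat_lit 2, nat_lit 3, nat_lit 1], [nat_lit 25, nat_lit 16, nat_lit 0, nat_lit 33, nat_lit 37], (nat_lit 15982)), ((nat_lit 1872), [nat_lit 4, nat_lit 8, nat_lit 8, nat_lit 0, nat_lit 1, nat_lit 2, nat_lit 3, nat_lit 4, nat_lit 8, nat_lit 3, nat_lit 1, nat_lit 2, nat_lit 3, nat_lit 0, nat_lit 1], [nat_lit 14, nat_lit 24, nat_lit 36, nat_lit 11, nat_lit 27], (nat_lit 10945)), ((nat_lit 1534), [nat_lit 8, nat_lit 2, nat_lit 3, nat_lit 4, nat_lit 8, nat_lit 0, nat_lit 1, nat_lit 2, nat_lit 3, nat_lit 4, nat_lit 8, nat_lit 3, nat_lit 2, nat_lit 3, nat_lit 1], [nat_lit 1,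 nat_lit 5, nat_lit 24, nat_lit 33, nat_lit 15], (nat_lit 13084)), ((nat_lit 1048), [nat_lit 6, nat_lit 8, nat_lit 2, nat_lit 3, nat_lit 4, nat_lit 8, nat_lit 0, nat_lit 1, nat_lit 2, nat_lit 3, nat_lit 4, nat_lit 8, nat_lit 3, nat_lit 2, nat_lit 3, nat_lit 1], [nat_lit 37, nat_lit 11], (nat_lit 16164)), ((nat_lit 2256), [nat_lit 7, nat_lit 4, nat_lit 8, nat_lit 2, nat_lit 3, nat_lit 4, nat_lit 8, nat_lit 2, nat_lit 3, nat_lit 4, nat_lit 7, nat_lit 2, nat_lit 3, nat_lit 1], [nat_lit 24, nat_lit 2, nat_lit 0, nat_lit 34, nat_lit 34, nat_lit 27], (nat_lit 10783)), ((nat_lit 1756), [nat_lit 8, nat_lit 4, nat_lit 7, nat_lit 3, nat_lit 4, nat_lit 8, nat_lit 2, nat_lit 3, nat_lit 4, nat_lit 7, nat_lit 2, nat_lit 3, nat_lit 1], [nat_lit 25, nat_lit 0, nat_lit 32, nat_lit 34, nat_lit 16], (nat_lit 7146)), ((nat_lit 949), [nat_lit 8, nat_lit 3, nat_lit 4, nat_lit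 8, nat_lit 3, nat_lit 4, nat_lit 7, nat_lit 2, nat_lit 3, nat_lit 4, nat_lit 7, nat_lit 2, nat_lit 3, nat_lit 0, nat_lit 1], [nat_lit 26, nat_lit 2, nat_lit 0, nat_lit 25, nat_lit 35], (nat_lit 12368)), ((nat_lit 1130), [nat_lit 5, nat_lit 7, nat_lit 4, nat_lit 8, nat_lit 2, nat_lit 3, nat_lit 4, nat_lit 8, nat_lit 2, nat_lit 3, nat_lit 4, nat_lit 8, nat_lit 2, nat_lit 3, nat_lit 1], [nat_lit 0, nat_lit 2, nat_lit 18, nat_lit 15, nat_lit 11], (nat_lit 14380)), ((nat_lit 2240), [nat_lit 3, nat_lit 4, nat_lit 7, nat_lit 4, nat_lit 3, nat_lit 1, nat_lit 2, nat_lit 3, nat_lit 4, nat_lit 7, nat_lit 3, nat_lit 4, nat_lit 2, nat_lit 3, nat_lit 1], [nat_lit 17, nat_lit 2, nat_lit 0, nat_lit 15, nat_lit 15, nat_lit 15, nat_lit 27], (nat_lit 14111)), ((nat_lit 1914), [nat_lit 4, nat_lit 8, nat_lit 3, nat_lit 4, nat_lit 7, nat_lit 1, nat_lit 2, nat_lit 3, nat_lit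 4, nat_lit 7, nat_lit 3, nat_lit 2, nat_lit 3, nat_lit 1], [nat_lit 25, nat_lit 0, nat_lit 18, nat_lit 16, nat_lit 26], (nat_lit 9579)), ((nat_lit 1637), [nat_lit 2, nat_lit 3, nat_lit 4, nat_lit 7, nat_lit 3, nat_lit 0, nat_lit 1, nat_lit 2, nat_lit 3, nat_lit 4, nat_lit 3, nat_lit 2, nat_lit 3, nat_lit 1], [nat_lit 16, nat_lit 5, nat_lit 0, nat_lit 17, nat_lit 11, nat_lit 26], (nat_lit 8709)), ((nat_lit 832), [nat_lit 5, nat_lit 8, nat_lit 2, nat_lit 3, nat_lit 4, nat_lit 8, nat_lit 1, nat_lit 2, nat_lit 3, nat_lit 4, nat_lit 7, nat_lit 2, nat_lit 3, nat_lit 1], [nat_lit 5, nat_lit 14, nat_lit 16], (nat_lit 10699)), ((nat_lit 1092), [nat_lit 8, nat_lit 4, nat_lit 8, nat_lit 3, nat_lit 1, nat_lit 2, nat_lit 3, nat_lit 4, nat_lit 7, nat_lit 3, nat_lit 2, nat_lit 3, nat_lit 0, nat_lit 1], [nat_lit 18, nat_lit 15, nat_lit 0, nat_lit 17, nat_lit 36,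 nat_lit 15, nat_lit 26], (nat_lit 7941)), ((nat_lit 982), [nat_lit 4, nat_lit 8, nat_lit 4, nat_lit 8, nat_lit 3, nat_lit 1, nat_lit 2, nat_lit 3, nat_lit 4, nat_lit 8, nat_lit 3, nat_lit 2, nat_lit 3, nat_lit 0, nat_lit 1], [nat_lit 24, nat_lit 0, nat_lit 33, nat_lit 37], (nat_lit 11439)), ((nat_lit 1589), [nat_lit 4, nat_lit 8, nat_lit 2, nat_lit 3, nat_lit 4, nat_lit 7, nat_lit 3, nat_lit 2, nat_lit 3, nat_lit 0, nat_lit 1], [nat_lit 26, nat_lit 24, nat_lit 0, nat_lit 25, nat_lit 37, nat_lit 11], (nat_lit 1958)), ((nat_lit 1840), [nat_lit 7, nat_lit 4, nat_lit 7, nat_lit 6, nat_lit 2, nat_lit 3, nat_lit 0, nat_lit 1, nat_lit 2, nat_lit 3, nat_lit 4, nat_lit 8, nat_lit 3, nat_lit 2, nat_lit 3, nat_lit 1], [nat_lit 18, nat_lit 15, nat_lit 0, nat_lit 34, nat_lit 17, nat_lit 26], (nat_lit 16109)), ((nat_lit 1001), [nat_lit 5, nat_lit 8, nat_lit 2,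 nat_lit 3, nat_lit 4, nat_lit 7, nat_lit 3, nat_lit 2, nat_lit 3, nat_lit 0, nat_lit 1], [nat_lit 15, nat_lit 2, nat_lit 37, nat_lit 15, nat_lit 11], (nat_lit 1960)), ((nat_lit 900), [nat_lit 8, nat_lit 3, nat_lit 4, nat_lit 7, nat_lit 3, nat_lit 2, nat_lit 3, nat_lit 4, nat_lit 7, nat_lit 3, nat_lit 2, nat_lit 3, nat_lit 0, nat_lit 1], [nat_lit 14, nat_lit 15, nat_lit 0, nat_lit 37, nat_lit 18, nat_lit 27], (nat_lit 7990)), ((nat_lit 1514), [nat_lit 4, nat_lit 8, nat_lit 2, nat_lit 3, nat_lit 4, nat_lit 7, nat_lit 1, nat_lit 2, nat_lit 3, nat_lit 4, nat_lit 7, nat_lit 3, nat_lit 2, nat_lit 3, nat_lit 0, nat_lit 1], [nat_lit 24, nat_lit 2, nat_lit 0, nat_lit 33, nat_lit 24, nat_lit 11], (nat_lit 15162)), ((nat_lit 2238), [nat_lit 8, nat_lit 8, nat_lit 4, nat_lit 7, nat_lit 2, nat_lit 3, nat_lit 4, nat_lit 7, nat_lit 2, nat_lit 3, nat_lit 4, nat_lit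 2, nat_lit 3, nat_lit 1], [nat_lit 1, nat_lit 1, nat_lit 16, nat_lit 18, nat_lit 15, nat_lit 26], (nat_lit 10002)), ((nat_lit 1122), [nat_lit 8, nat_lit 3, nat_lit 4, nat_lit 8, nat_lit 2, nat_lit 3, nat_lit 4, nat_lit 8, nat_lit 2, nat_lit 3, nat_lit 4, nat_lit 2, nat_lit 3, nat_lit 1], [nat_lit 16, nat_lit 2, nat_lit 37, nat_lit 11, nat_lit 17, nat_lit 26], (nat_lit 9882)), ((nat_lit 964), [nat_lit 5, nat_lit 4, nat_lit 8, nat_lit 3, nat_lit 4, nat_lit 7, nat_lit 1, nat_lit 2, nat_lit 3, nat_lit 4, nat_lit 8, nat_lit 3, nat_lit 2, nat_lit 3, nat_lit 1], [nat_lit 25, nat_lit 0, nat_lit 18, nat_lit 27], (nat_lit 13217)), ((nat_lit 1587), [nat_lit 4, nat_lit 7, nat_lit 4, nat_lit 3, nat_lit 1, nat_lit 2, nat_lit 3, nat_lit 4, nat_lit 7, nat_lit 3, nat_lit 4, nat_lit 8, nat_lit 2, nat_lit 3, nat_lit 1], [nat_lit 5, nat_lit 0, nat_lit 24, nat_lit 18,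 nat_lit 16, nat_lit 27], (nat_lit 14469)), ((nat_lit 2242), [nat_lit 7, nat_lit 5, nat_lit 1, nat_lit 2, nat_lit 3, nat_lit 4, nat_lit 8, nat_lit 2, nat_lit 3, nat_lit 4, nat_lit 7, nat_lit 3, nat_lit 2, nat_lit 3, nat_lit 1], [nat_lit 17, nat_lit 2, nat_lit 0, nat_lit 15, nat_lit 32], (nat_lit 13513)), ((nat_lit 1100), [nat_lit 6, nat_lit 8, nat_lit 1, nat_lit 2, nat_lit 3, nat_lit 4, nat_lit 8, nat_lit 3, nat_lit 4, nat_lit 1, nat_lit 2, nat_lit 3, nat_lit 0, nat_lit 1], [nat_lit 24, nat_lit 2, nat_lit 0, nat_lit 25, nat_lit 36, nat_lit 15], (nat_lit 7371)), ((nat_lit 1402), [nat_lit 7, nat_lit 4, nat_lit 8, nat_lit 1, nat_lit 2, nat_lit 3, nat_lit 4, nat_lit 8, nat_lit 1, nat_lit 2, nat_lit 3, nat_lit 0, nat_lit 1], [nat_lit 16, nat_lit 0, nat_lit 34, nat_lit 17, nat_lit 26], (nat_lit 4809)), ((nat_lit 1117), [nat_lit 7, nat_lit 1, nat_lit 2, nat_lit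 3, nat_lit 4, nat_lit 8, nat_lit 8, nat_lit 2, nat_lit 3, nat_lit 4, nat_lit 7, nat_lit 3, nat_lit 2, nat_lit 3, nat_lit 1], [nat_lit 17, nat_lit 2, nat_lit 0, nat_lit 11, nat_lit 37, nat_lit 27], (nat_lit 13548)), ((nat_lit 2122), [nat_lit 4, nat_lit 8, nat_lit 3, nat_lit 4, nat_lit 7, nat_lit 5, nat_lit 1, nat_lit 2, nat_lit 3, nat_lit 4, nat_lit 8, nat_lit 3, nat_lit 2, nat_lit 3, nat_lit 1], [nat_lit 26, nat_lit 2, nat_lit 24, nat_lit 36], (nat_lit 13185)), ((nat_lit 2416), [nat_lit 6, nat_lit 4, nat_lit 2, nat_lit 3, nat_lit 0, nat_lit 1, nat_lit 2, nat_lit 3, nat_lit 4, nat_lit 7, nat_lit 3, nat_lit 4, nat_lit 3, nat_lit 2, nat_lit 3, nat_lit 1], [nat_lit 24, nat_lit 1, nat_lit 18, nat_lit 11, nat_lit 15, nat_lit 26], (nat_lit 15902)), ((nat_lit 1834), [nat_lit 6, nat_lit 8, nat_lit 3, nat_lit 4, nat_lit 8, nat_lit 3, nat_lit 4, nat_lit 7, nat_lit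 2, nat_lit 3, nat_lit 1], [nat_lit 0, nat_lit 15, nat_lit 17, nat_lit 11, nat_lit 26], (nat_lit 2673)), ((nat_lit 2248), [nat_lit 4, nat_lit 7, nat_lit 7, nat_lit 3, nat_lit 4, nat_lit 7, nat_lit 3, nat_lit 2, nat_lit 3, nat_lit 0, nat_lit 1], [nat_lit 25, nat_lit 16, nat_lit 0, nat_lit 36, nat_lit 18, nat_lit 15, nat_lit 27], (nat_lit 1976)), ((nat_lit 1525), [nat_lit 8, nat_lit 6, nat_lit 2, nat_lit 3, nat_lit 0, nat_lit 1, nat_lit 2, nat_lit 3, nat_lit 4, nat_lit 7, nat_lit 3, nat_lit 4, nat_lit 3, nat_lit 2, nat_lit 3, nat_lit 1], [nat_lit 11, nat_lit 5, nat_lit 2, nat_lit 25, nat_lit 15, nat_lit 11, nat_lit 27], (nat_lit 15906)), ((nat_lit 1664), [nat_lit 2, nat_lit 3, nat_lit 4, nat_lit 7, nat_lit 1, nat_lit 2, nat_lit 3, nat_lit 4, nat_lit 8, nat_lit 3, nat_lit 2, nat_lit 3, nat_lit 0, nat_lit 1], [nat_lit 25, nat_lit 16, nat_lit 0, nat_lit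 36, nat_lit 33, nat_lit 27], (nat_lit 7833)), ((nat_lit 1677), [nat_lit 5, nat_lit 3, nat_lit 4, nat_lit 8, nat_lit 0, nat_lit 1, nat_lit 2, nat_lit 3, nat_lit 4, nat_lit 3, nat_lit 1, nat_lit 2, nat_lit 3, nat_lit 0, nat_lit 1], [nat_lit 5, nat_lit 2, nat_lit 0, nat_lit 17, nat_lit 36], (nat_lit 10903)), ((nat_lit 707), [nat_lit 8, nat_lit 5, nat_lit 4, nat_lit 8, nat_lit 2, nat_lit 3, nat_lit 4, nat_lit 2, nat_lit 3, nat_lit 0, nat_lit 1], [nat_lit 0, nat_lit 18, nat_lit 16, nat_lit 11], (nat_lit 2000)), ((nat_lit 1019), [nat_lit 8, nat_lit 2, nat_lit 3, nat_lit 4, nat_lit 8, nat_lit 1, nat_lit 2, nat_lit 3, nat_lit 4, nat_lit 7, nat_lit 2, nat_lit 3, nat_lit 0, nat_lit 1], [nat_lit 26, nat_lit 24, nat_lit 0, nat_lit 15, nat_lit 32, nat_lit 15, nat_lit 27], (nat_lit 8569)), ((nat_lit 666), [nat_lit 3, nat_lit 2, nat_lit 3, nat_lit 4, nat_lit 7,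 nat_lit 2, nat_lit 3, nat_lit 4, nat_lit 7, nat_lit 2, nat_lit 3, nat_lit 4, nat_lit 2, nat_lit 3, nat_lit 1], [nat_lit 0, nat_lit 26, nat_lit 16], (nat_lit 13901)), ((nat_lit 1506), [nat_lit 4, nat_lit 7, nat_lit 0, nat_lit 1, nat_lit 2, nat_lit 3, nat_lit 4, nat_lit 7, nat_lit 2, nat_lit 3, nat_lit 4, nat_lit 8, nat_lit 2, nat_lit 3, nat_lit 1], [nat_lit 25, nat_lit 14, nat_lit 0, nat_lit 37, nat_lit 16, nat_lit 27], (nat_lit 14393)), ((nat_lit 672), [nat_lit 4, nat_lit 7, nat_lit 4, nat_lit 7, nat_lit 3, nat_lit 4, nat_lit 8, nat_lit 2, nat_lit 3, nat_lit 1, nat_lit 2, nat_lit 3, nat_lit 4, nat_lit 3, nat_lit 2, nat_lit 3, nat_lit 1], [nat_lit 25, nat_lit 0, nat_lit 33, nat_lit 16, nat_lit 27], (nat_lit 17079)), ((nat_lit 2362), [nat_lit 7, nat_lit 3, nat_lit 4, nat_lit 7, nat_lit 2, nat_lit 3, nat_lit 4, nat_lit 2, nat_lit 3, nat_lit 0, nat_lit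 1], [nat_lit 1, nat_lit 24, nat_lit 0, nat_lit 24, nat_lit 15, nat_lit 26], (nat_lit 2011)), ((nat_lit 1307), [nat_lit 8, nat_lit 8, nat_lit 4, nat_lit 7, nat_lit 2, nat_lit 3, nat_lit 4, nat_lit 2, nat_lit 3, nat_lit 0, nat_lit 1], [nat_lit 25, nat_lit 14, nat_lit 0, nat_lit 26, nat_lit 15, nat_lit 27], (nat_lit 2015)), ((nat_lit 2264), [nat_lit 8, nat_lit 4, nat_lit 7, nat_lit 7, nat_lit 3, nat_lit 4, nat_lit 7, nat_lit 2, nat_lit 3, nat_lit 0, nat_lit 1], [nat_lit 2, nat_lit 0, nat_lit 34], (nat_lit 2186)), ((nat_lit 626), [nat_lit 7, nat_lit 4, nat_lit 7, nat_lit 3, nat_lit 4, nat_lit 7, nat_lit 0, nat_lit 1, nat_lit 2, nat_lit 3, nat_lit 4, nat_lit 3, nat_lit 2, nat_lit 3, nat_lit 1], [nat_lit 1, nat_lit 32, nat_lit 34, nat_lit 11], (nat_lit 12468)), ((nat_lit 1549), [nat_lit 7, nat_lit 2, nat_lit 3, nat_lit 4, nat_lit 8, nat_lit 2, nat_lit 3,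 nat_lit 4, nat_lit 7, nat_lit 2, nat_lit 3, nat_lit 1], [nat_lit 24, nat_lit 2, nat_lit 0, nat_lit 15, nat_lit 18, nat_lit 27], (nat_lit 4468)), ((nat_lit 747), [nat_lit 3, nat_lit 4, nat_lit 8, nat_lit 8, nat_lit 1, nat_lit 2, nat_lit 3, nat_lit 4, nat_lit 7, nat_lit 3, nat_lit 2, nat_lit 3, nat_lit 0, nat_lit 1], [nat_lit 1, nat_lit 1, nat_lit 15, nat_lit 27, nat_lit 16, nat_lit 26], (nat_lit 7964)), ((nat_lit 1661), [nat_lit 3, nat_lit 0, nat_lit 1, nat_lit 2, nat_lit 3, nat_lit 4, nat_lit 7, nat_lit 3, nat_lit 4, nat_lit 8, nat_lit 3, nat_lit 1, nat_lit 2, nat_lit 3, nat_lit 0, nat_lit 1], [nat_lit 25, nat_lit 16, nat_lit 0, nat_lit 35, nat_lit 33, nat_lit 27], (nat_lit 14720)), ((nat_lit 1448), [nat_lit 4, nat_lit 7, nat_lit 4, nat_lit 7, nat_lit 3, nat_lit 4, nat_lit 7, nat_lit 2, nat_lit 3, nat_lit 4, nat_lit 3, nat_lit 2, nat_lit 3, nat_lit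 1], [nat_lit 24, nat_lit 0, nat_lit 37, nat_lit 17, nat_lit 11], (nat_lit 8930)), ((nat_lit 1563), [nat_lit 8, nat_lit 5, nat_lit 1, nat_lit 2, nat_lit 3, nat_lit 2, nat_lit 3, nat_lit 4, nat_lit 8, nat_lit 3, nat_lit 4, nat_lit 2, nat_lit 3, nat_lit 1], [nat_lit 37, nat_lit 33, nat_lit 11], (nat_lit 10086))] m5_5_9 m5_5_10) = 0 := by decide +kernel
theorem e5_5_11 : dt.run q (fun c => c.edges (SP THn.T THn.Rl (nat_lit 15)) (nat_lit 4429) THn.T.n (nat_lit 5) (nat_lit 5)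
  [((nat_lit 1826), [nat_lit 6, nat_lit 7, nat_lit 2, nat_lit 3, nat_lit 4, nat_lit 8, nat_lit 2, nat_lit 3, nat_lit 4, nat_lit 2, nat_lit 3, nat_lit 0, nat_lit 1], [nat_lit 10, nat_lit 10, nat_lit 0, nat_lit 15, nat_lit 15, nat_lit 15, nat_lit 26], (nat_lit 5323)), ((nat_lit 584), [nat_lit 7, nat_lit 4, nat_lit 7, nat_lit 1, nat_lit 2, nat_lit 3, nat_lit 4, nat_lit 7, nat_lit 2, nat_lit 3, nat_lit 4, nat_lit 3, nat_lit 2, nat_lit 3, nat_lit 0, nat_lit 1], [nat_lit 17, nat_lit 24, nat_lit 0, nat_lit 27, nat_lit 36, nat_lit 11, nat_lit 27], (nat_lit 14858)), ((nat_lit 2375), [nat_lit 7, nat_lit 6, nat_lit 4, nat_lit 8, nat_lit 0, nat_lit 1, nat_lit 2, nat_lit 3, nat_lit 4, nat_lit 7, nat_lit 3, nat_lit 1, nat_lit 2, nat_lit 3, nat_lit 0, nat_lit 1], [nat_lit 24, nat_lit 1, nat_lit 32, nat_lit 18, nat_lit 11, nat_lit 26], (nat_lit 14726)), ((nat_lit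 2094), [nat_lit 7, nat_lit 4, nat_lit 7, nat_lit 2, nat_lit 3, nat_lit 4, nat_lit 8, nat_lit 3, nat_lit 2, nat_lit 3, nat_lit 1], [nat_lit 1, nat_lit 14, nat_lit 32, nat_lit 18, nat_lit 26], (nat_lit 2342)), ((nat_lit 1393), [nat_lit 7, nat_lit 4, nat_lit 8, nat_lit 6, nat_lit 3, nat_lit 4, nat_lit 8, nat_lit 2, nat_lit 3, nat_lit 4, nat_lit 7, nat_lit 3, nat_lit 2, nat_lit 3, nat_lit 1], [nat_lit 17, nat_lit 24, nat_lit 0, nat_lit 35, nat_lit 27, nat_lit 15, nat_lit 26], (nat_lit 13531)), ((nat_lit 993), [nat_lit 8, nat_lit 5, nat_lit 1, nat_lit 2, nat_lit 3, nat_lit 2, nat_lit 3, nat_lit 4, nat_lit 7, nat_lit 3, nat_lit 4, nat_lit 3, nat_lit 2, nat_lit 3, nat_lit 1], [nat_lit 25, nat_lit 0, nat_lit 24, nat_lit 24, nat_lit 26], (nat_lit 12782)), ((nat_lit 2445), [nat_lit 5, nat_lit 8, nat_lit 4, nat_lit 8, nat_lit 0, nat_lit 1, nat_lit 2, nat_lit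 3, nat_lit 4, nat_lit 2, nat_lit 3, nat_lit 0, nat_lit 1], [nat_lit 25, nat_lit 2, nat_lit 0, nat_lit 24, nat_lit 17, nat_lit 11, nat_lit 27], (nat_lit 5265)), ((nat_lit 1464), [nat_lit 7, nat_lit 6, nat_lit 3, nat_lit 4, nat_lit 7, nat_lit 3, nat_lit 4, nat_lit 2, nat_lit 3, nat_lit 0, nat_lit 1], [nat_lit 5, nat_lit 2, nat_lit 17, nat_lit 37, nat_lit 27], (nat_lit 2042)), ((nat_lit 2022), [nat_lit 8, nat_lit 3, nat_lit 4, nat_lit 7, nat_lit 3, nat_lit 4, nat_lit 8, nat_lit 4, nat_lit 2, nat_lit 3, nat_lit 1], [nat_lit 14, nat_lit 26, nat_lit 16, nat_lit 11, nat_lit 27], (nat_lit 2570)), ((nat_lit 646), [nat_lit 7, nat_lit 4, nat_lit 8, nat_lit 3, nat_lit 4, nat_lit 8, nat_lit 1, nat_lit 2, nat_lit 3, nat_lit 4, nat_lit 3, nat_lit 2, nat_lit 3, nat_lit 1], [nat_lit 16, nat_lit 2, nat_lit 34, nat_lit 15, nat_lit 26], (nat_lit 8824)), ((nat_lit 1359),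 [nat_lit 7, nat_lit 4, nat_lit 7, nat_lit 6, nat_lit 3, nat_lit 1, nat_lit 2, nat_lit 3, nat_lit 4, nat_lit 8, nat_lit 3, nat_lit 4, nat_lit 2, nat_lit 3, nat_lit 0, nat_lit 1], [nat_lit 24, nat_lit 1, nat_lit 17, nat_lit 33, nat_lit 26], (nat_lit 15340)), ((nat_lit 833), [nat_lit 7, nat_lit 7, nat_lit 4, nat_lit 7, nat_lit 3, nat_lit 4, nat_lit 7, nat_lit 6, nat_lit 1, nat_lit 2, nat_lit 3, nat_lit 4, nat_lit 7, nat_lit 2, nat_lit 3, nat_lit 1], [nat_lit 24, nat_lit 18, nat_lit 26], (nat_lit 16787)), ((nat_lit 1183), [nat_lit 3, nat_lit 4, nat_lit 8, nat_lit 6, nat_lit 2, nat_lit 3, nat_lit 4, nat_lit 8, nat_lit 2, nat_lit 3, nat_lit 4, nat_lit 8, nat_lit 2, nat_lit 3, nat_lit 0, nat_lit 1], [nat_lit 26, nat_lit 2, nat_lit 25, nat_lit 15, nat_lit 26], (nat_lit 15515)), ((nat_lit 828), [nat_lit 8, nat_lit 4, nat_lit 7, nat_lit 3, nat_lit 4, nat_lit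 8, nat_lit 4, nat_lit 2, nat_lit 3, nat_lit 0, nat_lit 1], [nat_lit 2, nat_lit 0, nat_lit 17, nat_lit 15, nat_lit 26], (nat_lit 2065)), ((nat_lit 2132), [nat_lit 6, nat_lit 8, nat_lit 4, nat_lit 7, nat_lit 1, nat_lit 2, nat_lit 3, nat_lit 4, nat_lit 7, nat_lit 1, nat_lit 2, nat_lit 3, nat_lit 0, nat_lit 1], [nat_lit 24, nat_lit 16, nat_lit 0, nat_lit 34, nat_lit 17, nat_lit 11], (nat_lit 7515)), ((nat_lit 1228), [nat_lit 0, nat_lit 1, nat_lit 2, nat_lit 3, nat_lit 4, nat_lit 7, nat_lit 3, nat_lit 4, nat_lit 8, nat_lit 4, nat_lit 1, nat_lit 2, nat_lit 3, nat_lit 0, nat_lit 1], [nat_lit 16, nat_lit 5, nat_lit 0, nat_lit 37, nat_lit 15, nat_lit 11, nat_lit 26], (nat_lit 11027)), ((nat_lit 777), [nat_lit 4, nat_lit 7, nat_lit 4, nat_lit 7, nat_lit 2, nat_lit 3, nat_lit 4, nat_lit 3, nat_lit 2, nat_lit 3, nat_lit 1], [nat_lit 5, nat_lit 2, nat_lit 0, nat_lit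 33, nat_lit 34, nat_lit 27], (nat_lit 2245)), ((nat_lit 1031), [nat_lit 4, nat_lit 8, nat_lit 4, nat_lit 8, nat_lit 3, nat_lit 4, nat_lit 8, nat_lit 2, nat_lit 3, nat_lit 0, nat_lit 1], [nat_lit 24, nat_lit 0, nat_lit 16, nat_lit 16, nat_lit 26], (nat_lit 2112)), ((nat_lit 1920), [nat_lit 7, nat_lit 2, nat_lit 3, nat_lit 4, nat_lit 7, nat_lit 2, nat_lit 3, nat_lit 4, nat_lit 7, nat_lit 2, nat_lit 3, nat_lit 1], [nat_lit 26, nat_lit 2, nat_lit 36, nat_lit 33], (nat_lit 4487)), ((nat_lit 2098), [nat_lit 4, nat_lit 7, nat_lit 2, nat_lit 3, nat_lit 2, nat_lit 3, nat_lit 4, nat_lit 8, nat_lit 3, nat_lit 4, nat_lit 7, nat_lit 3, nat_lit 2, nat_lit 3, nat_lit 1], [nat_lit 25, nat_lit 14, nat_lit 0, nat_lit 37, nat_lit 34, nat_lit 24, nat_lit 26], (nat_lit 13576)), ((nat_lit 1844), [nat_lit 6, nat_lit 3, nat_lit 4, nat_lit 2, nat_lit 3, nat_lit 0, nat_lit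 1, nat_lit 2, nat_lit 3, nat_lit 4, nat_lit 7, nat_lit 4, nat_lit 3, nat_lit 2, nat_lit 3, nat_lit 1], [nat_lit 26, nat_lit 24, nat_lit 0, nat_lit 37, nat_lit 16], (nat_lit 16023)), ((nat_lit 1950), [nat_lit 6, nat_lit 3, nat_lit 4, nat_lit 7, nat_lit 0, nat_lit 1, nat_lit 2, nat_lit 3, nat_lit 4, nat_lit 3, nat_lit 2, nat_lit 3, nat_lit 0, nat_lit 1], [nat_lit 16, nat_lit 5, nat_lit 2, nat_lit 33, nat_lit 36, nat_lit 26], (nat_lit 7558)), ((nat_lit 2088), [nat_lit 7, nat_lit 6, nat_lit 4, nat_lit 8, nat_lit 3, nat_lit 4, nat_lit 8, nat_lit 1, nat_lit 2, nat_lit 3, nat_lit 4, nat_lit 2, nat_lit 3, nat_lit 1], [nat_lit 11, nat_lit 2, nat_lit 0, nat_lit 27, nat_lit 36], (nat_lit 9752)), ((nat_lit 830), [nat_lit 4, nat_lit 7, nat_lit 2, nat_lit 3, nat_lit 4, nat_lit 8, nat_lit 6, nat_lit 1, nat_lit 2, nat_lit 3, nat_lit 4, nat_lit 8, nat_lit 2, nat_lit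 3, nat_lit 0, nat_lit 1], [nat_lit 11, nat_lit 2, nat_lit 0, nat_lit 15, nat_lit 11, nat_lit 26], (nat_lit 15439)), ((nat_lit 680), [nat_lit 7, nat_lit 6, nat_lit 1, nat_lit 2, nat_lit 3, nat_lit 4, nat_lit 7, nat_lit 3, nat_lit 4, nat_lit 3, nat_lit 1, nat_lit 2, nat_lit 3, nat_lit 0, nat_lit 1], [nat_lit 25, nat_lit 2, nat_lit 0, nat_lit 18, nat_lit 11], (nat_lit 10921)), ((nat_lit 1238), [nat_lit 5, nat_lit 7, nat_lit 4, nat_lit 8, nat_lit 1, nat_lit 2, nat_lit 3, nat_lit 4, nat_lit 8, nat_lit 1, nat_lit 2, nat_lit 3, nat_lit 0, nat_lit 1], [nat_lit 10, nat_lit 0, nat_lit 34, nat_lit 15, nat_lit 11], (nat_lit 7457)), ((nat_lit 1350), [nat_lit 7, nat_lit 1, nat_lit 2, nat_lit 3, nat_lit 4, nat_lit 8, nat_lit 3, nat_lit 1, nat_lit 2, nat_lit 3, nat_lit 4, nat_lit 3, nat_lit 2, nat_lit 3, nat_lit 0, nat_lit 1], [nat_lit 1, nat_lit 15, nat_lit 18,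 nat_lit 16], (nat_lit 14813)), ((nat_lit 1501), [nat_lit 6, nat_lit 8, nat_lit 4, nat_lit 8, nat_lit 3, nat_lit 4, nat_lit 8, nat_lit 2, nat_lit 3, nat_lit 0, nat_lit 1], [nat_lit 25, nat_lit 16, nat_lit 0, nat_lit 16, nat_lit 32, nat_lit 15], (nat_lit 2113)), ((nat_lit 552), [nat_lit 5, nat_lit 7, nat_lit 3, nat_lit 4, nat_lit 7, nat_lit 2, nat_lit 3, nat_lit 4, nat_lit 7, nat_lit 2, nat_lit 3, nat_lit 1], [nat_lit 24, nat_lit 0, nat_lit 24, nat_lit 17, nat_lit 11], (nat_lit 4495)), ((nat_lit 922), [nat_lit 8, nat_lit 8, nat_lit 1, nat_lit 2, nat_lit 3, nat_lit 4, nat_lit 8, nat_lit 2, nat_lit 3, nat_lit 4, nat_lit 8, nat_lit 2, nat_lit 3, nat_lit 1], [nat_lit 24, nat_lit 0, nat_lit 35, nat_lit 35, nat_lit 26], (nat_lit 10504)), ((nat_lit 1416), [nat_lit 6, nat_lit 7, nat_lit 4, nat_lit 8, nat_lit 3, nat_lit 4, nat_lit 8, nat_lit 2, nat_lit 3, nat_lit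 0, nat_lit 1], [nat_lit 0, nat_lit 2, nat_lit 17, nat_lit 25, nat_lit 15], (nat_lit 2116)), ((nat_lit 2265), [nat_lit 8, nat_lit 8, nat_lit 2, nat_lit 3, nat_lit 4, nat_lit 8, nat_lit 3, nat_lit 4, nat_lit 2, nat_lit 3, nat_lit 1], [nat_lit 5, nat_lit 35, nat_lit 36, nat_lit 11, nat_lit 26], (nat_lit 2509)), ((nat_lit 1586), [nat_lit 6, nat_lit 8, nat_lit 4, nat_lit 8, nat_lit 1, nat_lit 2, nat_lit 3, nat_lit 4, nat_lit 8, nat_lit 1, nat_lit 2, nat_lit 3, nat_lit 0, nat_lit 1], [nat_lit 25, nat_lit 2, nat_lit 0, nat_lit 34, nat_lit 11, nat_lit 17, nat_lit 27], (nat_lit 7453)), ((nat_lit 1120), [nat_lit 8, nat_lit 6, nat_lit 3, nat_lit 0, nat_lit 1, nat_lit 2, nat_lit 3, nat_lit 4, nat_lit 7, nat_lit 3, nat_lit 4, nat_lit 3, nat_lit 2, nat_lit 3, nat_lit 0, nat_lit 1], [nat_lit 16, nat_lit 0, nat_lit 32, nat_lit 32], (nat_lit 14906)), ((nat_lit 1889),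 [nat_lit 8, nat_lit 2, nat_lit 3, nat_lit 1, nat_lit 2, nat_lit 3, nat_lit 4, nat_lit 7, nat_lit 3, nat_lit 4, nat_lit 2, nat_lit 3, nat_lit 0, nat_lit 1], [nat_lit 5, nat_lit 35, nat_lit 32], (nat_lit 8262)), ((nat_lit 1940), [nat_lit 7, nat_lit 5, nat_lit 4, nat_lit 7, nat_lit 3, nat_lit 4, nat_lit 8, nat_lit 2, nat_lit 3, nat_lit 0, nat_lit 1], [nat_lit 18, nat_lit 15, nat_lit 0, nat_lit 35, nat_lit 33, nat_lit 11, nat_lit 27], (nat_lit 2127)), ((nat_lit 2205), [nat_lit 7, nat_lit 4, nat_lit 8, nat_lit 6, nat_lit 1, nat_lit 2, nat_lit 3, nat_lit 4, nat_lit 8, nat_lit 1, nat_lit 2, nat_lit 3, nat_lit 0, nat_lit 1], [nat_lit 16, nat_lit 2, nat_lit 32, nat_lit 18, nat_lit 15, nat_lit 26], (nat_lit 7446)), ((nat_lit 2114), [nat_lit 5, nat_lit 8, nat_lit 1, nat_lit 2, nat_lit 3, nat_lit 4, nat_lit 7, nat_lit 2, nat_lit 3, nat_lit 4, nat_lit 8, nat_lit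 2, nat_lit 3, nat_lit 1], [nat_lit 24, nat_lit 0, nat_lit 18, nat_lit 11], (nat_lit 10552)), ((nat_lit 1640), [nat_lit 8, nat_lit 4, nat_lit 3, nat_lit 1, nat_lit 2, nat_lit 3, nat_lit 4, nat_lit 8, nat_lit 4, nat_lit 3, nat_lit 1, nat_lit 2, nat_lit 3, nat_lit 0, nat_lit 1], [nat_lit 1, nat_lit 14, nat_lit 32, nat_lit 18, nat_lit 26], (nat_lit 10929)), ((nat_lit 925), [nat_lit 2, nat_lit 3, nat_lit 4, nat_lit 7, nat_lit 0, nat_lit 1, nat_lit 2, nat_lit 3, nat_lit 4, nat_lit 3, nat_lit 2, nat_lit 3, nat_lit 0, nat_lit 1], [nat_lit 15, nat_lit 5, nat_lit 25, nat_lit 16], (nat_lit 7557)), ((nat_lit 1293), [nat_lit 8, nat_lit 4, nat_lit 7, nat_lit 5, nat_lit 3, nat_lit 4, nat_lit 8, nat_lit 0, nat_lit 1, nat_lit 2, nat_lit 3, nat_lit 4, nat_lit 3, nat_lit 2, nat_lit 3, nat_lit 1], [nat_lit 1, nat_lit 24, nat_lit 0, nat_lit 15, nat_lit 24, nat_lit 26],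 (nat_lit 15710)), ((nat_lit 554), [nat_lit 5, nat_lit 7, nat_lit 0, nat_lit 1, nat_lit 2, nat_lit 3, nat_lit 4, nat_lit 7, nat_lit 3, nat_lit 4, nat_lit 1, nat_lit 2, nat_lit 3, nat_lit 0, nat_lit 1], [nat_lit 2, nat_lit 16, nat_lit 18, nat_lit 15, nat_lit 27], (nat_lit 11012)), ((nat_lit 2261), [nat_lit 7, nat_lit 4, nat_lit 8, nat_lit 3, nat_lit 2, nat_lit 3, nat_lit 4, nat_lit 7, nat_lit 2, nat_lit 3, nat_lit 4, nat_lit 3, nat_lit 2, nat_lit 3, nat_lit 1], [nat_lit 5, nat_lit 2, nat_lit 0, nat_lit 24, nat_lit 24, nat_lit 27], (nat_lit 12662)), ((nat_lit 2434), [nat_lit 8, nat_lit 4, nat_lit 7, nat_lit 2, nat_lit 3, nat_lit 4, nat_lit 7, nat_lit 2, nat_lit 3, nat_lit 0, nat_lit 1], [nat_lit 26, nat_lit 2, nat_lit 0, nat_lit 33, nat_lit 33], (nat_lit 2159)), ((nat_lit 872), [nat_lit 3, nat_lit 0, nat_lit 1, nat_lit 2, nat_lit 3, nat_lit 4, nat_lit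 8, nat_lit 3, nat_lit 4, nat_lit 3, nat_lit 2, nat_lit 3, nat_lit 0, nat_lit 1], [nat_lit 2, nat_lit 37, nat_lit 25, nat_lit 27], (nat_lit 7651)), ((nat_lit 1929), [nat_lit 7, nat_lit 7, nat_lit 1, nat_lit 2, nat_lit 3, nat_lit 4, nat_lit 7, nat_lit 3, nat_lit 4, nat_lit 1, nat_lit 2, nat_lit 3, nat_lit 0, nat_lit 1], [nat_lit 14, nat_lit 15, nat_lit 0, nat_lit 33, nat_lit 16, nat_lit 27], (nat_lit 7392)), ((nat_lit 2185), [nat_lit 2, nat_lit 3, nat_lit 0, nat_lit 1, nat_lit 2, nat_lit 3, nat_lit 4, nat_lit 7, nat_lit 3, nat_lit 4, nat_lit 8, nat_lit 4, nat_lit 3, nat_lit 2, nat_lit 3, nat_lit 0, nat_lit 1], [nat_lit 24, nat_lit 15, nat_lit 0, nat_lit 32, nat_lit 32], (nat_lit 16901)), ((nat_lit 1110), [nat_lit 7, nat_lit 2, nat_lit 3, nat_lit 1, nat_lit 2, nat_lit 3, nat_lit 4, nat_lit 8, nat_lit 2, nat_lit 3, nat_lit 4, nat_lit 2, nat_lit 3, nat_lit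 1], [nat_lit 16, nat_lit 5, nat_lit 0, nat_lit 34, nat_lit 37, nat_lit 27], (nat_lit 9842)), ((nat_lit 1486), [nat_lit 6, nat_lit 7, nat_lit 4, nat_lit 8, nat_lit 3, nat_lit 4, nat_lit 8, nat_lit 1, nat_lit 2, nat_lit 3, nat_lit 4, nat_lit 3, nat_lit 2, nat_lit 3, nat_lit 1], [nat_lit 2, nat_lit 0, nat_lit 17, nat_lit 17], (nat_lit 12571)), ((nat_lit 665), [nat_lit 8, nat_lit 3, nat_lit 4, nat_lit 8, nat_lit 0, nat_lit 1, nat_lit 2, nat_lit 3, nat_lit 4, nat_lit 8, nat_lit 3, nat_lit 2, nat_lit 3, nat_lit 0, nat_lit 1], [nat_lit 5, nat_lit 2, nat_lit 0, nat_lit 37, nat_lit 17, nat_lit 26], (nat_lit 11396)), ((nat_lit 590), [nat_lit 8, nat_lit 5, nat_lit 4, nat_lit 8, nat_lit 3, nat_lit 4, nat_lit 7, nat_lit 2, nat_lit 3, nat_lit 0, nat_lit 1], [nat_lit 1, nat_lit 24, nat_lit 0, nat_lit 26, nat_lit 15, nat_lit 15, nat_lit 27], (nat_lit 2170)), ((nat_lit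 835), [nat_lit 5, nat_lit 8, nat_lit 4, nat_lit 8, nat_lit 3, nat_lit 4, nat_lit 7, nat_lit 2, nat_lit 3, nat_lit 0, nat_lit 1], [nat_lit 15, nat_lit 1, nat_lit 25, nat_lit 15, nat_lit 27], (nat_lit 2172)), ((nat_lit 2110), [nat_lit 2, nat_lit 3, nat_lit 4, nat_lit 8, nat_lit 3, nat_lit 0, nat_lit 1, nat_lit 2, nat_lit 3, nat_lit 4, nat_lit 7, nat_lit 4, nat_lit 3, nat_lit 2, nat_lit 3, nat_lit 1], [nat_lit 25, nat_lit 14, nat_lit 0, nat_lit 37, nat_lit 34, nat_lit 25, nat_lit 26], (nat_lit 16044)), ((nat_lit 1233), [nat_lit 5, nat_lit 7, nat_lit 4, nat_lit 8, nat_lit 3, nat_lit 4, nat_lit 7, nat_lit 2, nat_lit 3, nat_lit 0, nat_lit 1], [nat_lit 24, nat_lit 16, nat_lit 0, nat_lit 16, nat_lit 11], (nat_lit 2174)), ((nat_lit 2086), [nat_lit 8, nat_lit 4, nat_lit 8, nat_lit 8, nat_lit 3, nat_lit 4, nat_lit 7, nat_lit 2, nat_lit 3, nat_lit 0, nat_lit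 1], [nat_lit 18, nat_lit 15, nat_lit 0, nat_lit 27], (nat_lit 2176)), ((nat_lit 725), [nat_lit 8, nat_lit 5, nat_lit 4, nat_lit 7, nat_lit 3, nat_lit 4, nat_lit 7, nat_lit 2, nat_lit 3, nat_lit 0, nat_lit 1], [nat_lit 16, nat_lit 5, nat_lit 2, nat_lit 34, nat_lit 34, nat_lit 11], (nat_lit 2178)), ((nat_lit 2179), [nat_lit 7, nat_lit 4, nat_lit 7, nat_lit 1, nat_lit 2, nat_lit 3, nat_lit 4, nat_lit 8, nat_lit 4, nat_lit 1, nat_lit 2, nat_lit 3, nat_lit 0, nat_lit 1], [nat_lit 1, nat_lit 5, nat_lit 11, nat_lit 36], (nat_lit 7408)), ((nat_lit 1203), [nat_lit 4, nat_lit 7, nat_lit 4, nat_lit 7, nat_lit 3, nat_lit 4, nat_lit 7, nat_lit 2, nat_lit 3, nat_lit 0, nat_lit 1], [nat_lit 17, nat_lit 2, nat_lit 0, nat_lit 34, nat_lit 16], (nat_lit 2182)), ((nat_lit 1622), [nat_lit 6, nat_lit 4, nat_lit 7, nat_lit 4, nat_lit 7, nat_lit 1, nat_lit 2, nat_lit 3,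 nat_lit 4, nat_lit 7, nat_lit 1, nat_lit 2, nat_lit 3, nat_lit 0, nat_lit 1], [nat_lit 24, nat_lit 16, nat_lit 0, nat_lit 18, nat_lit 16], (nat_lit 11097)), ((nat_lit 1510), [nat_lit 5, nat_lit 2, nat_lit 3, nat_lit 0, nat_lit 1, nat_lit 2, nat_lit 3, nat_lit 4, nat_lit 8, nat_lit 3, nat_lit 4, nat_lit 3, nat_lit 2, nat_lit 3, nat_lit 0, nat_lit 1], [nat_lit 5, nat_lit 14, nat_lit 24, nat_lit 18, nat_lit 16, nat_lit 27], (nat_lit 14866)), ((nat_lit 1925), [nat_lit 5, nat_lit 2, nat_lit 3, nat_lit 4, nat_lit 8, nat_lit 0, nat_lit 1, nat_lit 2, nat_lit 3, nat_lit 4, nat_lit 3, nat_lit 2, nat_lit 3, nat_lit 0, nat_lit 1], [nat_lit 15, nat_lit 5, nat_lit 27, nat_lit 15, nat_lit 11, nat_lit 26], (nat_lit 11129)), ((nat_lit 2412), [nat_lit 3, nat_lit 4, nat_lit 8, nat_lit 3, nat_lit 4, nat_lit 7, nat_lit 1, nat_lit 2, nat_lit 3, nat_lit 4, nat_lit 7, nat_lit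 3, nat_lit 2, nat_lit 3, nat_lit 1], [nat_lit 0, nat_lit 32, nat_lit 15], (nat_lit 13483)), ((nat_lit 340), [nat_lit 2, nat_lit 3, nat_lit 1, nat_lit 2, nat_lit 3, nat_lit 4, nat_lit 8, nat_lit 4, nat_lit 3, nat_lit 0, nat_lit 1], [nat_lit 26, nat_lit 2, nat_lit 37, nat_lit 26], (nat_lit 2189)), ((nat_lit 1421), [nat_lit 8, nat_lit 4, nat_lit 3, nat_lit 2, nat_lit 3, nat_lit 4, nat_lit 8, nat_lit 4, nat_lit 3, nat_lit 0, nat_lit 1], [nat_lit 26, nat_lit 24, nat_lit 0, nat_lit 35, nat_lit 33, nat_lit 11, nat_lit 26], (nat_lit 2191)), ((nat_lit 1273), [nat_lit 8, nat_lit 3, nat_lit 4, nat_lit 8, nat_lit 0, nat_lit 1, nat_lit 2, nat_lit 3, nat_lit 4, nat_lit 8, nat_lit 4, nat_lit 2, nat_lit 3, nat_lit 1], [nat_lit 0, nat_lit 2, nat_lit 35, nat_lit 36], (nat_lit 10287)), ((nat_lit 2506), [nat_lit 3, nat_lit 0, nat_lit 1, nat_lit 2, nat_lit 3, nat_lit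 4, nat_lit 7, nat_lit 4, nat_lit 7, nat_lit 4, nat_lit 3, nat_lit 2, nat_lit 3, nat_lit 1], [nat_lit 16, nat_lit 2, nat_lit 18, nat_lit 35, nat_lit 15, nat_lit 26], (nat_lit 9198)), ((nat_lit 1222), [nat_lit 6, nat_lit 1, nat_lit 2, nat_lit 3, nat_lit 0, nat_lit 1, nat_lit 2, nat_lit 3, nat_lit 4, nat_lit 8, nat_lit 4, nat_lit 3, nat_lit 2, nat_lit 3, nat_lit 1], [nat_lit 5, nat_lit 0, nat_lit 15, nat_lit 32, nat_lit 15, nat_lit 27], (nat_lit 12827)), ((nat_lit 1342), [nat_lit 5, nat_lit 8, nat_lit 0, nat_lit 1, nat_lit 2, nat_lit 3, nat_lit 4, nat_lit 3, nat_lit 2, nat_lit 3, nat_lit 1], [nat_lit 11, nat_lit 5, nat_lit 2, nat_lit 36, nat_lit 17, nat_lit 26], (nat_lit 2197)), ((nat_lit 601), [nat_lit 6, nat_lit 4, nat_lit 3, nat_lit 2, nat_lit 3, nat_lit 4, nat_lit 7, nat_lit 4, nat_lit 3, nat_lit 2, nat_lit 3, nat_lit 1], [nat_lit 16, nat_lit 0,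 nat_lit 36, nat_lit 32], (nat_lit 3807)), ((nat_lit 568), [nat_lit 5, nat_lit 4, nat_lit 7, nat_lit 2, nat_lit 3, nat_lit 4, nat_lit 3, nat_lit 1, nat_lit 2, nat_lit 3, nat_lit 0, nat_lit 1], [nat_lit 11, nat_lit 5, nat_lit 2, nat_lit 35, nat_lit 36, nat_lit 11], (nat_lit 2773)), ((nat_lit 1807), [nat_lit 8, nat_lit 2, nat_lit 3, nat_lit 4, nat_lit 8, nat_lit 0, nat_lit 1, nat_lit 2, nat_lit 3, nat_lit 4, nat_lit 8, nat_lit 4, nat_lit 2, nat_lit 3, nat_lit 1], [nat_lit 16, nat_lit 5, nat_lit 2, nat_lit 15, nat_lit 18, nat_lit 16], (nat_lit 14192)), ((nat_lit 1606), [nat_lit 7, nat_lit 2, nat_lit 3, nat_lit 1, nat_lit 2, nat_lit 3, nat_lit 4, nat_lit 3, nat_lit 2, nat_lit 3, nat_lit 1], [nat_lit 16, nat_lit 5, nat_lit 2, nat_lit 15, nat_lit 32, nat_lit 27], (nat_lit 2203)), ((nat_lit 1086), [nat_lit 3, nat_lit 4, nat_lit 8, nat_lit 4, nat_lit 8, nat_lit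 3, nat_lit 2, nat_lit 3, nat_lit 4, nat_lit 8, nat_lit 3, nat_lit 2, nat_lit 3, nat_lit 1], [nat_lit 17, nat_lit 2, nat_lit 0, nat_lit 36, nat_lit 18, nat_lit 15, nat_lit 26], (nat_lit 9357)), ((nat_lit 716), [nat_lit 5, nat_lit 4, nat_lit 8, nat_lit 3, nat_lit 1, nat_lit 2, nat_lit 3, nat_lit 4, nat_lit 3, nat_lit 2, nat_lit 3, nat_lit 1], [nat_lit 0, nat_lit 24, nat_lit 24, nat_lit 26], (nat_lit 3659)), ((nat_lit 1074), [nat_lit 5, nat_lit 4, nat_lit 3, nat_lit 2, nat_lit 3, nat_lit 4, nat_lit 7, nat_lit 3, nat_lit 1, nat_lit 2, nat_lit 3, nat_lit 4, nat_lit 3, nat_lit 2, nat_lit 3, nat_lit 1], [nat_lit 15, nat_lit 27, nat_lit 16], (nat_lit 15753)), ((nat_lit 1596), [nat_lit 3, nat_lit 4, nat_lit 8, nat_lit 1, nat_lit 2, nat_lit 3, nat_lit 4, nat_lit 3, nat_lit 2, nat_lit 3, nat_lit 1], [nat_lit 17, nat_lit 15, nat_lit 11, nat_lit 26], (nat_lit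 2210)), ((nat_lit 1379), [nat_lit 6, nat_lit 8, nat_lit 4, nat_lit 8, nat_lit 2, nat_lit 3, nat_lit 1, nat_lit 2, nat_lit 3, nat_lit 4, nat_lit 3, nat_lit 2, nat_lit 3, nat_lit 1], [nat_lit 24, nat_lit 16, nat_lit 0, nat_lit 24, nat_lit 26], (nat_lit 8761)), ((nat_lit 1374), [nat_lit 4, nat_lit 7, nat_lit 4, nat_lit 7, nat_lit 3, nat_lit 4, nat_lit 3, nat_lit 1, nat_lit 2, nat_lit 3, nat_lit 0, nat_lit 1], [nat_lit 25, nat_lit 2, nat_lit 0, nat_lit 34, nat_lit 24, nat_lit 15], (nat_lit 2790)), ((nat_lit 2302), [nat_lit 3, nat_lit 4, nat_lit 8, nat_lit 3, nat_lit 2, nat_lit 3, nat_lit 4, nat_lit 3, nat_lit 2, nat_lit 3, nat_lit 1], [nat_lit 18, nat_lit 15, nat_lit 0, nat_lit 37, nat_lit 25, nat_lit 26], (nat_lit 2220)), ((nat_lit 1671), [nat_lit 8, nat_lit 8, nat_lit 4, nat_lit 8, nat_lit 2, nat_lit 3, nat_lit 4, nat_lit 8, nat_lit 1, nat_lit 2, nat_lit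 3, nat_lit 0, nat_lit 1], [nat_lit 5, nat_lit 2, nat_lit 0, nat_lit 24, nat_lit 24, nat_lit 11, nat_lit 27], (nat_lit 4825)), ((nat_lit 1813), [nat_lit 3, nat_lit 4, nat_lit 7, nat_lit 3, nat_lit 2, nat_lit 3, nat_lit 4, nat_lit 3, nat_lit 2, nat_lit 3, nat_lit 1], [nat_lit 1, nat_lit 14, nat_lit 37, nat_lit 34, nat_lit 25, nat_lit 26], (nat_lit 2225)), ((nat_lit 1508), [nat_lit 6, nat_lit 4, nat_lit 7, nat_lit 3, nat_lit 2, nat_lit 3, nat_lit 4, nat_lit 3, nat_lit 2, nat_lit 3, nat_lit 1], [nat_lit 26, nat_lit 24, nat_lit 0, nat_lit 17, nat_lit 34, nat_lit 26], (nat_lit 2226)), ((nat_lit 2527), [nat_lit 7, nat_lit 4, nat_lit 8, nat_lit 4, nat_lit 3, nat_lit 2, nat_lit 3, nat_lit 4, nat_lit 8, nat_lit 2, nat_lit 3, nat_lit 4, nat_lit 2, nat_lit 3, nat_lit 1], [nat_lit 24, nat_lit 16, nat_lit 0, nat_lit 11, nat_lit 17], (nat_lit 13749)), ((nat_lit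 1812), [nat_lit 8, nat_lit 5, nat_lit 3, nat_lit 1, nat_lit 2, nat_lit 3, nat_lit 4, nat_lit 7, nat_lit 3, nat_lit 4, nat_lit 2, nat_lit 3, nat_lit 0, nat_lit 1], [nat_lit 26, nat_lit 24, nat_lit 0, nat_lit 33, nat_lit 35, nat_lit 11, nat_lit 27], (nat_lit 8265)), ((nat_lit 2504), [nat_lit 5, nat_lit 3, nat_lit 4, nat_lit 8, nat_lit 2, nat_lit 3, nat_lit 4, nat_lit 3, nat_lit 2, nat_lit 3, nat_lit 1], [nat_lit 10, nat_lit 0, nat_lit 17, nat_lit 11, nat_lit 17, nat_lit 26], (nat_lit 2232)), ((nat_lit 2438), [nat_lit 6, nat_lit 8, nat_lit 4, nat_lit 8, nat_lit 5, nat_lit 3, nat_lit 4, nat_lit 8, nat_lit 2, nat_lit 3, nat_lit 0, nat_lit 1], [nat_lit 24, nat_lit 1, nat_lit 24, nat_lit 17, nat_lit 11, nat_lit 26], (nat_lit 3545))] m5_5_10 m5_5_11) = 0 := by decide +kernel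
theorem e5_5_12 : dt.run q (fun c => c.edges (SP THn.T THn.Rl (nat_lit 15)) (nat_lit 4429) THn.T.n (nat_lit 5) (nat_lit 5)
  [((nat_lit 2290), [nat_lit 7, nat_lit 3, nat_lit 4, nat_lit 8, nat_lit 2, nat_lit 3, nat_lit 4, nat_lit 3, nat_lit 2, nat_lit 3, nat_lit 1], [nat_lit 18, nat_lit 15, nat_lit 0, nat_lit 16, nat_lit 16, nat_lit 11, nat_lit 27], (nat_lit 2234)), ((nat_lit 2334), [nat_lit 8, nat_lit 4, nat_lit 8, nat_lit 0, nat_lit 1, nat_lit 2, nat_lit 3, nat_lit 4, nat_lit 3, nat_lit 2, nat_lit 3, nat_lit 0, nat_lit 1], [nat_lit 14, nat_lit 24, nat_lit 37, nat_lit 17, nat_lit 26], (nat_lit 4931)), ((nat_lit 1151), [nat_lit 8, nat_lit 5, nat_lit 4, nat_lit 7, nat_lit 3, nat_lit 4, nat_lit 8, nat_lit 2, nat_lit 3, nat_lit 1, nat_lit 2, nat_lit 3, nat_lit 4, nat_lit 3, nat_lit 2, nat_lit 3, nat_lit 1], [nat_lit 14, nat_lit 15, nat_lit 0, nat_lit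 17, nat_lit 15, nat_lit 26], (nat_lit 17078)), ((nat_lit 2280), [nat_lit 7, nat_lit 1, nat_lit 2, nat_lit 3, nat_lit 4, nat_lit 8, nat_lit 2, nat_lit 3, nat_lit 4, nat_lit 8, nat_lit 2, nat_lit 3, nat_lit 0, nat_lit 1], [nat_lit 1, nat_lit 5, nat_lit 24, nat_lit 36, nat_lit 27], (nat_lit 8449)), ((nat_lit 2564), [nat_lit 4, nat_lit 7, nat_lit 7, nat_lit 1, nat_lit 2, nat_lit 3, nat_lit 2, nat_lit 3, nat_lit 4, nat_lit 8, nat_lit 3, nat_lit 4, nat_lit 2, nat_lit 3, nat_lit 1], [nat_lit 15, nat_lit 0, nat_lit 25, nat_lit 35, nat_lit 11], (nat_lit 14020)), ((nat_lit 1207), [nat_lit 7, nat_lit 6, nat_lit 3, nat_lit 1, nat_lit 2, nat_lit 3, nat_lit 4, nat_lit 8, nat_lit 3, nat_lit 4, nat_lit 2, nat_lit 3, nat_lit 0, nat_lit 1], [nat_lit 24, nat_lit 15, nat_lit 0, nat_lit 25, nat_lit 37, nat_lit 27], (nat_lit 8216)), ((nat_lit 2411), [nat_lit 4, nat_lit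 8, nat_lit 0, nat_lit 1, nat_lit 2, nat_lit 3, nat_lit 4, nat_lit 8, nat_lit 0, nat_lit 1, nat_lit 2, nat_lit 3, nat_lit 4, nat_lit 2, nat_lit 3, nat_lit 1], [nat_lit 11, nat_lit 2, nat_lit 0, nat_lit 33, nat_lit 24, nat_lit 27], (nat_lit 16407)), ((nat_lit 1511), [nat_lit 8, nat_lit 5, nat_lit 4, nat_lit 7, nat_lit 3, nat_lit 4, nat_lit 7, nat_lit 2, nat_lit 3, nat_lit 4, nat_lit 2, nat_lit 3, nat_lit 0, nat_lit 1], [nat_lit 5, nat_lit 16, nat_lit 2, nat_lit 17, nat_lit 37, nat_lit 11], (nat_lit 8192)), ((nat_lit 840), [nat_lit 3, nat_lit 4, nat_lit 8, nat_lit 6, nat_lit 2, nat_lit 3, nat_lit 2, nat_lit 3, nat_lit 4, nat_lit 7, nat_lit 3, nat_lit 4, nat_lit 2, nat_lit 3, nat_lit 1], [nat_lit 25, nat_lit 16, nat_lit 0, nat_lit 36, nat_lit 16, nat_lit 11, nat_lit 27], (nat_lit 14137)), ((nat_lit 1697), [nat_lit 8, nat_lit 8, nat_lit 4, nat_lit 7, nat_lit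 2, nat_lit 3, nat_lit 4, nat_lit 7, nat_lit 1, nat_lit 2, nat_lit 3, nat_lit 4, nat_lit 7, nat_lit 2, nat_lit 3, nat_lit 1], [nat_lit 10, nat_lit 0, nat_lit 36, nat_lit 18, nat_lit 27], (nat_lit 16804)), ((nat_lit 1687), [nat_lit 8, nat_lit 8, nat_lit 0, nat_lit 1, nat_lit 2, nat_lit 3, nat_lit 4, nat_lit 7, nat_lit 3, nat_lit 4, nat_lit 2, nat_lit 3, nat_lit 0, nat_lit 1], [nat_lit 5, nat_lit 16, nat_lit 2, nat_lit 25, nat_lit 11, nat_lit 26], (nat_lit 8256)), ((nat_lit 1755), [nat_lit 6, nat_lit 7, nat_lit 3, nat_lit 4, nat_lit 8, nat_lit 3, nat_lit 4, nat_lit 3, nat_lit 2, nat_lit 3, nat_lit 1], [nat_lit 17, nat_lit 2, nat_lit 0, nat_lit 18, nat_lit 35, nat_lit 11, nat_lit 26], (nat_lit 2254)), ((nat_lit 845), [nat_lit 3, nat_lit 4, nat_lit 7, nat_lit 7, nat_lit 3, nat_lit 1, nat_lit 2, nat_lit 3, nat_lit 4, nat_lit 7, nat_lit 3, nat_lit 2, nat_lit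 3, nat_lit 1], [nat_lit 15, nat_lit 0, nat_lit 25, nat_lit 18, nat_lit 16, nat_lit 27], (nat_lit 9555)), ((nat_lit 1021), [nat_lit 6, nat_lit 2, nat_lit 3, nat_lit 4, nat_lit 7, nat_lit 3, nat_lit 4, nat_lit 3, nat_lit 2, nat_lit 3, nat_lit 1], [nat_lit 16, nat_lit 5, nat_lit 0, nat_lit 34, nat_lit 37, nat_lit 27], (nat_lit 2258)), ((nat_lit 2297), [nat_lit 5, nat_lit 2, nat_lit 3, nat_lit 4, nat_lit 7, nat_lit 3, nat_lit 4, nat_lit 3, nat_lit 2, nat_lit 3, nat_lit 1], [nat_lit 5, nat_lit 2, nat_lit 17, nat_lit 15, nat_lit 26], (nat_lit 2259)), ((nat_lit 788), [nat_lit 7, nat_lit 4, nat_lit 7, nat_lit 5, nat_lit 3, nat_lit 4, nat_lit 7, nat_lit 1, nat_lit 2, nat_lit 3, nat_lit 4, nat_lit 2, nat_lit 3, nat_lit 1], [nat_lit 18, nat_lit 15, nat_lit 0, nat_lit 16, nat_lit 18, nat_lit 11], (nat_lit 9800)), ((nat_lit 2010), [nat_lit 3, nat_lit 4, nat_lit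 8, nat_lit 2, nat_lit 3, nat_lit 1, nat_lit 2, nat_lit 3, nat_lit 4, nat_lit 7, nat_lit 3, nat_lit 2, nat_lit 3, nat_lit 1], [nat_lit 24, nat_lit 0, nat_lit 34, nat_lit 27], (nat_lit 9507)), ((nat_lit 2186), [nat_lit 8, nat_lit 5, nat_lit 4, nat_lit 7, nat_lit 1, nat_lit 2, nat_lit 3, nat_lit 4, nat_lit 7, nat_lit 2, nat_lit 3, nat_lit 0, nat_lit 1], [nat_lit 16, nat_lit 5, nat_lit 2, nat_lit 32, nat_lit 11, nat_lit 27], (nat_lit 5620)), ((nat_lit 859), [nat_lit 3, nat_lit 2, nat_lit 3, nat_lit 0, nat_lit 1, nat_lit 2, nat_lit 3, nat_lit 4, nat_lit 7, nat_lit 4, nat_lit 3, nat_lit 2, nat_lit 3, nat_lit 1], [nat_lit 24, nat_lit 15, nat_lit 0, nat_lit 18, nat_lit 35, nat_lit 27], (nat_lit 9123)), ((nat_lit 754), [nat_lit 4, nat_lit 3, nat_lit 0, nat_lit 1, nat_lit 2, nat_lit 3, nat_lit 4, nat_lit 7, nat_lit 4, nat_lit 3, nat_lit 2, nat_lit 3, nat_lit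 1], [nat_lit 25, nat_lit 1, nat_lit 27, nat_lit 24, nat_lit 15, nat_lit 26], (nat_lit 5967)), ((nat_lit 1554), [nat_lit 8, nat_lit 4, nat_lit 7, nat_lit 1, nat_lit 2, nat_lit 3, nat_lit 4, nat_lit 8, nat_lit 2, nat_lit 3, nat_lit 1], [nat_lit 17, nat_lit 2, nat_lit 0, nat_lit 37, nat_lit 15, nat_lit 11, nat_lit 26], (nat_lit 2620)), ((nat_lit 643), [nat_lit 7, nat_lit 4, nat_lit 8, nat_lit 6, nat_lit 3, nat_lit 4, nat_lit 8, nat_lit 1, nat_lit 2, nat_lit 3, nat_lit 0, nat_lit 1], [nat_lit 5, nat_lit 14, nat_lit 37, nat_lit 11, nat_lit 26], (nat_lit 3009)), ((nat_lit 2159), [nat_lit 3, nat_lit 2, nat_lit 3, nat_lit 1, nat_lit 2, nat_lit 3, nat_lit 4, nat_lit 8, nat_lit 4, nat_lit 8, nat_lit 3, nat_lit 2, nat_lit 3, nat_lit 1], [nat_lit 16, nat_lit 0, nat_lit 33, nat_lit 11, nat_lit 16, nat_lit 27], (nat_lit 9442)), ((nat_lit 2144), [nat_lit 8, nat_lit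 4, nat_lit 7, nat_lit 6, nat_lit 1, nat_lit 2, nat_lit 3, nat_lit 4, nat_lit 7, nat_lit 2, nat_lit 3, nat_lit 1], [nat_lit 26, nat_lit 2, nat_lit 0, nat_lit 25, nat_lit 37, nat_lit 15, nat_lit 26], (nat_lit 4417)), ((nat_lit 2146), [nat_lit 8, nat_lit 4, nat_lit 8, nat_lit 8, nat_lit 1, nat_lit 2, nat_lit 3, nat_lit 4, nat_lit 8, nat_lit 3, nat_lit 2, nat_lit 3, nat_lit 1], [nat_lit 5, nat_lit 0, nat_lit 25, nat_lit 37], (nat_lit 6085)), ((nat_lit 889), [nat_lit 6, nat_lit 7, nat_lit 3, nat_lit 2, nat_lit 3, nat_lit 4, nat_lit 7, nat_lit 1, nat_lit 2, nat_lit 3, nat_lit 4, nat_lit 8, nat_lit 2, nat_lit 3, nat_lit 1], [nat_lit 0, nat_lit 2, nat_lit 37, nat_lit 37, nat_lit 11], (nat_lit 14315)), ((nat_lit 345), [nat_lit 4, nat_lit 7, nat_lit 1, nat_lit 2, nat_lit 3, nat_lit 0, nat_lit 1, nat_lit 2, nat_lit 3, nat_lit 4, nat_lit 8, nat_lit 4, nat_lit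 3, nat_lit 2, nat_lit 3, nat_lit 1], [nat_lit 0, nat_lit 27, nat_lit 24, nat_lit 15], (nat_lit 15977)), ((nat_lit 1744), [nat_lit 7, nat_lit 7, nat_lit 4, nat_lit 8, nat_lit 3, nat_lit 4, nat_lit 7, nat_lit 2, nat_lit 3, nat_lit 4, nat_lit 8, nat_lit 3, nat_lit 2, nat_lit 3, nat_lit 0, nat_lit 1], [nat_lit 25, nat_lit 0, nat_lit 37, nat_lit 34, nat_lit 27], (nat_lit 15066)), ((nat_lit 1435), [nat_lit 5, nat_lit 7, nat_lit 5, nat_lit 1, nat_lit 2, nat_lit 3, nat_lit 4, nat_lit 7, nat_lit 1, nat_lit 2, nat_lit 3, nat_lit 4, nat_lit 8, nat_lit 2, nat_lit 3, nat_lit 1], [nat_lit 14, nat_lit 0, nat_lit 36, nat_lit 36, nat_lit 17, nat_lit 27], (nat_lit 16696)), ((nat_lit 2149), [nat_lit 6, nat_lit 7, nat_lit 2, nat_lit 3, nat_lit 4, nat_lit 8, nat_lit 4, nat_lit 3, nat_lit 2, nat_lit 3, nat_lit 1], [nat_lit 14, nat_lit 15, nat_lit 35, nat_lit 26], (nat_lit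 2280)), ((nat_lit 2150), [nat_lit 0, nat_lit 1, nat_lit 2, nat_lit 3, nat_lit 4, nat_lit 7, nat_lit 3, nat_lit 4, nat_lit 8, nat_lit 4, nat_lit 3, nat_lit 2, nat_lit 3, nat_lit 0, nat_lit 1], [nat_lit 15, nat_lit 0, nat_lit 34, nat_lit 24, nat_lit 15, nat_lit 27], (nat_lit 11333)), ((nat_lit 2378), [nat_lit 3, nat_lit 2, nat_lit 3, nat_lit 0, nat_lit 1, nat_lit 2, nat_lit 3, nat_lit 4, nat_lit 8, nat_lit 4, nat_lit 3, nat_lit 2, nat_lit 3, nat_lit 1], [nat_lit 35, nat_lit 27, nat_lit 15, nat_lit 26], (nat_lit 9044)), ((nat_lit 564), [nat_lit 8, nat_lit 4, nat_lit 7, nat_lit 0, nat_lit 1, nat_lit 2, nat_lit 3, nat_lit 4, nat_lit 7, nat_lit 3, nat_lit 2, nat_lit 3, nat_lit 1], [nat_lit 24, nat_lit 2, nat_lit 34, nat_lit 37, nat_lit 11], (nat_lit 6202)), ((nat_lit 621), [nat_lit 5, nat_lit 3, nat_lit 2, nat_lit 3, nat_lit 1, nat_lit 2, nat_lit 3, nat_lit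 4, nat_lit 8, nat_lit 4, nat_lit 3, nat_lit 2, nat_lit 3, nat_lit 1], [nat_lit 16, nat_lit 18, nat_lit 26], (nat_lit 9063)), ((nat_lit 1034), [nat_lit 7, nat_lit 1, nat_lit 2, nat_lit 3, nat_lit 4, nat_lit 7, nat_lit 4, nat_lit 3, nat_lit 2, nat_lit 3, nat_lit 1], [nat_lit 17, nat_lit 24, nat_lit 0, nat_lit 34, nat_lit 25, nat_lit 27], (nat_lit 2289)), ((nat_lit 423), [nat_lit 5, nat_lit 7, nat_lit 3, nat_lit 4, nat_lit 8, nat_lit 3, nat_lit 4, nat_lit 1, nat_lit 2, nat_lit 3, nat_lit 0, nat_lit 1], [nat_lit 18, nat_lit 35, nat_lit 11], (nat_lit 2915)), ((nat_lit 472), [nat_lit 7, nat_lit 4, nat_lit 7, nat_lit 5, nat_lit 3, nat_lit 1, nat_lit 2, nat_lit 3, nat_lit 4, nat_lit 8, nat_lit 3, nat_lit 2, nat_lit 3, nat_lit 1], [nat_lit 18, nat_lit 15, nat_lit 0, nat_lit 36, nat_lit 32, nat_lit 26], (nat_lit 9287)), ((nat_lit 1339), [nat_lit 7, nat_lit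 5, nat_lit 2, nat_lit 3, nat_lit 4, nat_lit 7, nat_lit 4, nat_lit 3, nat_lit 2, nat_lit 3, nat_lit 1], [nat_lit 11, nat_lit 5, nat_lit 2, nat_lit 24, nat_lit 18, nat_lit 16, nat_lit 26], (nat_lit 2296)), ((nat_lit 1291), [nat_lit 4, nat_lit 8, nat_lit 2, nat_lit 3, nat_lit 4, nat_lit 7, nat_lit 4, nat_lit 3, nat_lit 2, nat_lit 3, nat_lit 1], [nat_lit 5, nat_lit 16, nat_lit 2, nat_lit 37, nat_lit 34], (nat_lit 2297)), ((nat_lit 2020), [nat_lit 7, nat_lit 0, nat_lit 1, nat_lit 2, nat_lit 3, nat_lit 4, nat_lit 7, nat_lit 4, nat_lit 3, nat_lit 2, nat_lit 3, nat_lit 0, nat_lit 1], [nat_lit 2, nat_lit 0, nat_lit 16, nat_lit 16, nat_lit 27], (nat_lit 5067)), ((nat_lit 902), [nat_lit 8, nat_lit 4, nat_lit 7, nat_lit 3, nat_lit 4, nat_lit 7, nat_lit 4, nat_lit 3, nat_lit 2, nat_lit 3, nat_lit 1], [nat_lit 10, nat_lit 0, nat_lit 27, nat_lit 18, nat_lit 26],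 (nat_lit 2299)), ((nat_lit 450), [nat_lit 8, nat_lit 4, nat_lit 7, nat_lit 2, nat_lit 3, nat_lit 0, nat_lit 1, nat_lit 2, nat_lit 3, nat_lit 4, nat_lit 7, nat_lit 4, nat_lit 3, nat_lit 2, nat_lit 3, nat_lit 1], [nat_lit 36, nat_lit 15, nat_lit 26], (nat_lit 16037)), ((nat_lit 1583), [nat_lit 4, nat_lit 8, nat_lit 2, nat_lit 3, nat_lit 4, nat_lit 8, nat_lit 3, nat_lit 1, nat_lit 2, nat_lit 3, nat_lit 0, nat_lit 1], [nat_lit 1, nat_lit 25, nat_lit 36, nat_lit 11, nat_lit 27], (nat_lit 2820)), ((nat_lit 986), [nat_lit 8, nat_lit 3, nat_lit 1, nat_lit 2, nat_lit 3, nat_lit 4, nat_lit 8, nat_lit 3, nat_lit 2, nat_lit 3, nat_lit 1], [nat_lit 25, nat_lit 0, nat_lit 37, nat_lit 34, nat_lit 24], (nat_lit 2310)), ((nat_lit 461), [nat_lit 2, nat_lit 3, nat_lit 4, nat_lit 8, nat_lit 0, nat_lit 1, nat_lit 2, nat_lit 3, nat_lit 4, nat_lit 8, nat_lit 3, nat_lit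 4, nat_lit 2, nat_lit 3, nat_lit 1], [nat_lit 15, nat_lit 11, nat_lit 27], (nat_lit 13936)), ((nat_lit 1582), [nat_lit 5, nat_lit 4, nat_lit 7, nat_lit 3, nat_lit 2, nat_lit 3, nat_lit 4, nat_lit 7, nat_lit 3, nat_lit 2, nat_lit 3, nat_lit 0, nat_lit 1], [nat_lit 26, nat_lit 24, nat_lit 0, nat_lit 35, nat_lit 15, nat_lit 27], (nat_lit 5221)), ((nat_lit 1007), [nat_lit 6, nat_lit 4, nat_lit 8, nat_lit 3, nat_lit 2, nat_lit 3, nat_lit 4, nat_lit 8, nat_lit 3, nat_lit 2, nat_lit 3, nat_lit 0, nat_lit 1], [nat_lit 14, nat_lit 15, nat_lit 0, nat_lit 15, nat_lit 32, nat_lit 11, nat_lit 26], (nat_lit 5132)), ((nat_lit 849), [nat_lit 4, nat_lit 8, nat_lit 8, nat_lit 3, nat_lit 4, nat_lit 8, nat_lit 3, nat_lit 1, nat_lit 2, nat_lit 3, nat_lit 0, nat_lit 1], [nat_lit 16, nat_lit 5, nat_lit 2, nat_lit 26, nat_lit 16, nat_lit 11, nat_lit 27], (nat_lit 2832)),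 ((nat_lit 560), [nat_lit 6, nat_lit 7, nat_lit 4, nat_lit 7, nat_lit 1, nat_lit 2, nat_lit 3, nat_lit 4, nat_lit 8, nat_lit 3, nat_lit 2, nat_lit 3, nat_lit 1], [nat_lit 16, nat_lit 2, nat_lit 32, nat_lit 15, nat_lit 26], (nat_lit 6095)), ((nat_lit 2148), [nat_lit 8, nat_lit 5, nat_lit 4, nat_lit 8, nat_lit 1, nat_lit 2, nat_lit 3, nat_lit 4, nat_lit 7, nat_lit 3, nat_lit 2, nat_lit 3, nat_lit 1], [nat_lit 26, nat_lit 2, nat_lit 0, nat_lit 34, nat_lit 11], (nat_lit 6242)), ((nat_lit 1096), [nat_lit 5, nat_lit 7, nat_lit 4, nat_lit 8, nat_lit 1, nat_lit 2, nat_lit 3, nat_lit 4, nat_lit 7, nat_lit 2, nat_lit 3, nat_lit 1], [nat_lit 26, nat_lit 2, nat_lit 24, nat_lit 18, nat_lit 16, nat_lit 27], (nat_lit 4433)), ((nat_lit 950), [nat_lit 6, nat_lit 8, nat_lit 3, nat_lit 2, nat_lit 3, nat_lit 4, nat_lit 8, nat_lit 3, nat_lit 2, nat_lit 3, nat_lit 1], [nat_lit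 15, nat_lit 1, nat_lit 37, nat_lit 11, nat_lit 17], (nat_lit 2325)), ((nat_lit 364), [nat_lit 7, nat_lit 4, nat_lit 7, nat_lit 5, nat_lit 3, nat_lit 4, nat_lit 8, nat_lit 3, nat_lit 1, nat_lit 2, nat_lit 3, nat_lit 0, nat_lit 1], [nat_lit 32, nat_lit 36, nat_lit 16, nat_lit 26], (nat_lit 4608)), ((nat_lit 2318), [nat_lit 4, nat_lit 7, nat_lit 5, nat_lit 2, nat_lit 3, nat_lit 4, nat_lit 8, nat_lit 1, nat_lit 2, nat_lit 3, nat_lit 4, nat_lit 3, nat_lit 2, nat_lit 3, nat_lit 1], [nat_lit 1, nat_lit 5, nat_lit 32, nat_lit 36, nat_lit 16, nat_lit 27], (nat_lit 12559)), ((nat_lit 614), [nat_lit 7, nat_lit 5, nat_lit 4, nat_lit 8, nat_lit 3, nat_lit 2, nat_lit 3, nat_lit 4, nat_lit 7, nat_lit 3, nat_lit 4, nat_lit 2, nat_lit 3, nat_lit 0, nat_lit 1], [nat_lit 17, nat_lit 24, nat_lit 0, nat_lit 26, nat_lit 34, nat_lit 32, nat_lit 26], (nat_lit 11944)), ((nat_lit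 1478), [nat_lit 4, nat_lit 7, nat_lit 5, nat_lit 2, nat_lit 3, nat_lit 4, nat_lit 8, nat_lit 3, nat_lit 2, nat_lit 3, nat_lit 1], [nat_lit 15, nat_lit 2, nat_lit 26, nat_lit 34, nat_lit 27], (nat_lit 2332)), ((nat_lit 1849), [nat_lit 5, nat_lit 8, nat_lit 4, nat_lit 3, nat_lit 1, nat_lit 2, nat_lit 3, nat_lit 4, nat_lit 8, nat_lit 3, nat_lit 4, nat_lit 2, nat_lit 3, nat_lit 1], [nat_lit 16, nat_lit 5, nat_lit 2, nat_lit 27, nat_lit 24, nat_lit 11, nat_lit 26], (nat_lit 10059)), ((nat_lit 1091), [nat_lit 6, nat_lit 8, nat_lit 0, nat_lit 1, nat_lit 2, nat_lit 3, nat_lit 4, nat_lit 8, nat_lit 3, nat_lit 2, nat_lit 3, nat_lit 0, nat_lit 1], [nat_lit 25, nat_lit 1, nat_lit 24, nat_lit 18, nat_lit 18, nat_lit 26], (nat_lit 5098)), ((nat_lit 1366), [nat_lit 4, nat_lit 8, nat_lit 4, nat_lit 8, nat_lit 0, nat_lit 1, nat_lit 2, nat_lit 3, nat_lit 4, nat_lit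 8, nat_lit 3, nat_lit 2, nat_lit 3, nat_lit 0, nat_lit 1], [nat_lit 18, nat_lit 15, nat_lit 0, nat_lit 26, nat_lit 16, nat_lit 11], (nat_lit 11398)), ((nat_lit 1751), [nat_lit 6, nat_lit 7, nat_lit 0, nat_lit 1, nat_lit 2, nat_lit 3, nat_lit 4, nat_lit 8, nat_lit 3, nat_lit 2, nat_lit 3, nat_lit 0, nat_lit 1], [nat_lit 15, nat_lit 1, nat_lit 15, nat_lit 26], (nat_lit 5101)), ((nat_lit 1532), [nat_lit 8, nat_lit 4, nat_lit 7, nat_lit 0, nat_lit 1, nat_lit 2, nat_lit 3, nat_lit 4, nat_lit 7, nat_lit 2, nat_lit 3, nat_lit 0, nat_lit 1], [nat_lit 26, nat_lit 2, nat_lit 26, nat_lit 34, nat_lit 32], (nat_lit 5591)), ((nat_lit 2044), [nat_lit 6, nat_lit 7, nat_lit 4, nat_lit 8, nat_lit 3, nat_lit 4, nat_lit 8, nat_lit 2, nat_lit 3, nat_lit 4, nat_lit 8, nat_lit 3, nat_lit 2, nat_lit 3, nat_lit 1], [nat_lit 25, nat_lit 14, nat_lit 0, nat_lit 36, nat_lit 17,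 nat_lit 27], (nat_lit 13262)), ((nat_lit 2156), [nat_lit 7, nat_lit 6, nat_lit 1, nat_lit 2, nat_lit 3, nat_lit 4, nat_lit 7, nat_lit 3, nat_lit 4, nat_lit 2, nat_lit 3, nat_lit 0, nat_lit 1], [nat_lit 14, nat_lit 24, nat_lit 17, nat_lit 27], (nat_lit 5410)), ((nat_lit 1848), [nat_lit 6, nat_lit 8, nat_lit 2, nat_lit 3, nat_lit 4, nat_lit 8, nat_lit 3, nat_lit 4, nat_lit 2, nat_lit 3, nat_lit 1], [nat_lit 26, nat_lit 24, nat_lit 0, nat_lit 37, nat_lit 17, nat_lit 27], (nat_lit 2508)), ((nat_lit 735), [nat_lit 3, nat_lit 2, nat_lit 3, nat_lit 4, nat_lit 7, nat_lit 4, nat_lit 7, nat_lit 1, nat_lit 2, nat_lit 3, nat_lit 4, nat_lit 7, nat_lit 2, nat_lit 3, nat_lit 0, nat_lit 1], [nat_lit 25, nat_lit 16, nat_lit 0, nat_lit 16, nat_lit 18, nat_lit 15, nat_lit 26], (nat_lit 15618)), ((nat_lit 392), [nat_lit 8, nat_lit 1, nat_lit 2, nat_lit 3, nat_lit 4,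 nat_lit 7, nat_lit 3, nat_lit 4, nat_lit 8, nat_lit 4, nat_lit 2, nat_lit 3, nat_lit 0, nat_lit 1], [nat_lit 16, nat_lit 2, nat_lit 25, nat_lit 15, nat_lit 11, nat_lit 27], (nat_lit 8330)), ((nat_lit 844), [nat_lit 6, nat_lit 7, nat_lit 4, nat_lit 8, nat_lit 3, nat_lit 4, nat_lit 8, nat_lit 3, nat_lit 2, nat_lit 3, nat_lit 1], [nat_lit 14, nat_lit 0, nat_lit 32, nat_lit 24, nat_lit 11, nat_lit 27], (nat_lit 2349)), ((nat_lit 1437), [nat_lit 5, nat_lit 7, nat_lit 3, nat_lit 4, nat_lit 8, nat_lit 5, nat_lit 2, nat_lit 3, nat_lit 4, nat_lit 8, nat_lit 2, nat_lit 3, nat_lit 1], [nat_lit 10, nat_lit 0, nat_lit 17, nat_lit 11], (nat_lit 6924)), ((nat_lit 2056), [nat_lit 0, nat_lit 1, nat_lit 2, nat_lit 3, nat_lit 4, nat_lit 8, nat_lit 4, nat_lit 8, nat_lit 3, nat_lit 2, nat_lit 3, nat_lit 0, nat_lit 1], [nat_lit 24, nat_lit 15, nat_lit 0, nat_lit 32, nat_lit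 32, nat_lit 11], (nat_lit 5170)), ((nat_lit 1497), [nat_lit 7, nat_lit 3, nat_lit 4, nat_lit 7, nat_lit 1, nat_lit 2, nat_lit 3, nat_lit 4, nat_lit 7, nat_lit 2, nat_lit 3, nat_lit 0, nat_lit 1], [nat_lit 14, nat_lit 15, nat_lit 0, nat_lit 37, nat_lit 34, nat_lit 11, nat_lit 26], (nat_lit 5619)), ((nat_lit 1842), [nat_lit 4, nat_lit 7, nat_lit 2, nat_lit 3, nat_lit 4, nat_lit 8, nat_lit 3, nat_lit 4, nat_lit 3, nat_lit 2, nat_lit 3, nat_lit 0, nat_lit 1], [nat_lit 15, nat_lit 5, nat_lit 15, nat_lit 17, nat_lit 26], (nat_lit 5018)), ((nat_lit 1192), [nat_lit 8, nat_lit 4, nat_lit 8, nat_lit 8, nat_lit 2, nat_lit 3, nat_lit 4, nat_lit 7, nat_lit 3, nat_lit 2, nat_lit 3, nat_lit 0, nat_lit 1], [nat_lit 25, nat_lit 14, nat_lit 0, nat_lit 17, nat_lit 37, nat_lit 11], (nat_lit 5240)), ((nat_lit 1467), [nat_lit 8, nat_lit 8, nat_lit 4, nat_lit 7, nat_lit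 2, nat_lit 3, nat_lit 4, nat_lit 8, nat_lit 2, nat_lit 3, nat_lit 1], [nat_lit 16, nat_lit 2, nat_lit 11, nat_lit 18, nat_lit 26], (nat_lit 2658)), ((nat_lit 1512), [nat_lit 6, nat_lit 8, nat_lit 3, nat_lit 4, nat_lit 7, nat_lit 3, nat_lit 2, nat_lit 3, nat_lit 4, nat_lit 7, nat_lit 3, nat_lit 4, nat_lit 2, nat_lit 3, nat_lit 1], [nat_lit 2, nat_lit 0, nat_lit 35, nat_lit 27, nat_lit 15], (nat_lit 14170)), ((nat_lit 1628), [nat_lit 8, nat_lit 4, nat_lit 2, nat_lit 3, nat_lit 1, nat_lit 2, nat_lit 3, nat_lit 4, nat_lit 8, nat_lit 2, nat_lit 3, nat_lit 4, nat_lit 3, nat_lit 2, nat_lit 3, nat_lit 1], [nat_lit 5, nat_lit 33, nat_lit 35, nat_lit 27], (nat_lit 15815)), ((nat_lit 623), [nat_lit 3, nat_lit 4, nat_lit 7, nat_lit 3, nat_lit 4, nat_lit 8, nat_lit 3, nat_lit 1, nat_lit 2, nat_lit 3, nat_lit 0, nat_lit 1], [nat_lit 10, nat_lit 10, nat_lit 0, nat_lit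 34, nat_lit 32, nat_lit 27], (nat_lit 2833)), ((nat_lit 1152), [nat_lit 6, nat_lit 7, nat_lit 4, nat_lit 7, nat_lit 3, nat_lit 4, nat_lit 7, nat_lit 3, nat_lit 1, nat_lit 2, nat_lit 3, nat_lit 0, nat_lit 1], [nat_lit 16, nat_lit 5, nat_lit 2, nat_lit 17, nat_lit 11, nat_lit 26], (nat_lit 4665)), ((nat_lit 1649), [nat_lit 4, nat_lit 3, nat_lit 2, nat_lit 3, nat_lit 4, nat_lit 7, nat_lit 4, nat_lit 7, nat_lit 3, nat_lit 2, nat_lit 3, nat_lit 1], [nat_lit 17, nat_lit 2, nat_lit 0, nat_lit 16, nat_lit 18, nat_lit 15], (nat_lit 3998)), ((nat_lit 988), [nat_lit 4, nat_lit 8, nat_lit 3, nat_lit 1, nat_lit 2, nat_lit 3, nat_lit 4, nat_lit 7, nat_lit 3, nat_lit 2, nat_lit 3, nat_lit 1], [nat_lit 25, nat_lit 0, nat_lit 35, nat_lit 32, nat_lit 11, nat_lit 26], (nat_lit 3932)), ((nat_lit 2285), [nat_lit 5, nat_lit 4, nat_lit 8, nat_lit 3, nat_lit 0, nat_lit 1,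 nat_lit 2, nat_lit 3, nat_lit 4, nat_lit 8, nat_lit 3, nat_lit 2, nat_lit 3, nat_lit 1], [nat_lit 17, nat_lit 24, nat_lit 0, nat_lit 27, nat_lit 24, nat_lit 11, nat_lit 27], (nat_lit 9220)), ((nat_lit 1345), [nat_lit 7, nat_lit 6, nat_lit 1, nat_lit 2, nat_lit 3, nat_lit 4, nat_lit 7, nat_lit 3, nat_lit 2, nat_lit 3, nat_lit 1], [nat_lit 16, nat_lit 5, nat_lit 0, nat_lit 26, nat_lit 16, nat_lit 11, nat_lit 27], (nat_lit 2374)), ((nat_lit 597), [nat_lit 6, nat_lit 8, nat_lit 3, nat_lit 2, nat_lit 3, nat_lit 1, nat_lit 2, nat_lit 3, nat_lit 4, nat_lit 3, nat_lit 2, nat_lit 3, nat_lit 1], [nat_lit 10, nat_lit 10, nat_lit 0, nat_lit 37, nat_lit 18, nat_lit 26], (nat_lit 5719)), ((nat_lit 679), [nat_lit 4, nat_lit 8, nat_lit 8, nat_lit 3, nat_lit 4, nat_lit 7, nat_lit 3, nat_lit 1, nat_lit 2, nat_lit 3, nat_lit 0, nat_lit 1], [nat_lit 32, nat_lit 11, nat_lit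 27], (nat_lit 2860)), ((nat_lit 605), [nat_lit 8, nat_lit 5, nat_lit 2, nat_lit 3, nat_lit 4, nat_lit 8, nat_lit 3, nat_lit 4, nat_lit 1, nat_lit 2, nat_lit 3, nat_lit 0, nat_lit 1], [nat_lit 5, nat_lit 14, nat_lit 32, nat_lit 18, nat_lit 15, nat_lit 27], (nat_lit 4703)), ((nat_lit 475), [nat_lit 8, nat_lit 4, nat_lit 8, nat_lit 8, nat_lit 2, nat_lit 3, nat_lit 4, nat_lit 7, nat_lit 1, nat_lit 2, nat_lit 3, nat_lit 0, nat_lit 1], [nat_lit 26, nat_lit 2, nat_lit 0, nat_lit 18, nat_lit 16], (nat_lit 4897)), ((nat_lit 968), [nat_lit 8, nat_lit 8, nat_lit 3, nat_lit 2, nat_lit 3, nat_lit 4, nat_lit 7, nat_lit 0, nat_lit 1, nat_lit 2, nat_lit 3, nat_lit 4, nat_lit 2, nat_lit 3, nat_lit 1], [nat_lit 2, nat_lit 27, nat_lit 18, nat_lit 11, nat_lit 26], (nat_lit 13626)), ((nat_lit 891), [nat_lit 4, nat_lit 7, nat_lit 3, nat_lit 2, nat_lit 3, nat_lit 4, nat_lit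 7, nat_lit 3, nat_lit 2, nat_lit 3, nat_lit 1], [nat_lit 24, nat_lit 16, nat_lit 0, nat_lit 15, nat_lit 15, nat_lit 27], (nat_lit 2388))] m5_5_11 m5_5_12) = 0 := by decide +kernel
theorem e5_5_13 : dt.run q (fun c => c.edges (SP THn.T THn.Rl (nat_lit 15)) (nat_lit 4429) THn.T.n (nat_lit 5) (nat_lit 5)
  [((nat_lit 1611), [nat_lit 6, nat_lit 7, nat_lit 4, nat_lit 7, nat_lit 3, nat_lit 4, nat_lit 8, nat_lit 3, nat_lit 1, nat_lit 2, nat_lit 3, nat_lit 0, nat_lit 1], [nat_lit 1, nat_lit 1, nat_lit 17, nat_lit 11, nat_lit 17, nat_lit 27], (nat_lit 4622)), ((nat_lit 837), [nat_lit 8, nat_lit 4, nat_lit 8, nat_lit 2, nat_lit 3, nat_lit 2, nat_lit 3, nat_lit 4, nat_lit 8, nat_lit 3, nat_lit 4, nat_lit 3, nat_lit 2, nat_lit 3, nat_lit 1], [nat_lit 15, nat_lit 1, nat_lit 24, nat_lit 33, nat_lit 15, nat_lit 27], (nat_lit 12704)), ((nat_lit 1509), [nat_lit 3,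 nat_lit 4, nat_lit 8, nat_lit 2, nat_lit 3, nat_lit 4, nat_lit 7, nat_lit 3, nat_lit 2, nat_lit 3, nat_lit 1], [nat_lit 24, nat_lit 2, nat_lit 36, nat_lit 16, nat_lit 27], (nat_lit 2394)), ((nat_lit 1877), [nat_lit 6, nat_lit 4, nat_lit 8, nat_lit 2, nat_lit 3, nat_lit 4, nat_lit 7, nat_lit 3, nat_lit 2, nat_lit 3, nat_lit 1], [nat_lit 24, nat_lit 16, nat_lit 0, nat_lit 33, nat_lit 11, nat_lit 16, nat_lit 26], (nat_lit 2395)), ((nat_lit 1924), [nat_lit 5, nat_lit 8, nat_lit 0, nat_lit 1, nat_lit 2, nat_lit 3, nat_lit 4, nat_lit 7, nat_lit 3, nat_lit 2, nat_lit 3, nat_lit 0, nat_lit 1], [nat_lit 16, nat_lit 2, nat_lit 33, nat_lit 18], (nat_lit 5182)), ((nat_lit 1851), [nat_lit 7, nat_lit 7, nat_lit 4, nat_lit 3, nat_lit 1, nat_lit 2, nat_lit 3, nat_lit 4, nat_lit 8, nat_lit 3, nat_lit 4, nat_lit 3, nat_lit 2, nat_lit 3, nat_lit 1], [nat_lit 5, nat_lit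 2, nat_lit 0, nat_lit 37, nat_lit 17, nat_lit 11, nat_lit 26], (nat_lit 12699)), ((nat_lit 1221), [nat_lit 8, nat_lit 4, nat_lit 7, nat_lit 2, nat_lit 3, nat_lit 4, nat_lit 7, nat_lit 3, nat_lit 2, nat_lit 3, nat_lit 1], [nat_lit 15, nat_lit 1, nat_lit 36, nat_lit 24, nat_lit 15, nat_lit 27], (nat_lit 2402)), ((nat_lit 673), [nat_lit 7, nat_lit 4, nat_lit 7, nat_lit 2, nat_lit 3, nat_lit 4, nat_lit 7, nat_lit 3, nat_lit 2, nat_lit 3, nat_lit 1], [nat_lit 1, nat_lit 1, nat_lit 37, nat_lit 34, nat_lit 11, nat_lit 27], (nat_lit 2403)), ((nat_lit 1287), [nat_lit 7, nat_lit 7, nat_lit 0, nat_lit 1, nat_lit 2, nat_lit 3, nat_lit 4, nat_lit 7, nat_lit 3, nat_lit 2, nat_lit 3, nat_lit 0, nat_lit 1], [nat_lit 10, nat_lit 10, nat_lit 0, nat_lit 25, nat_lit 37, nat_lit 26], (nat_lit 5186)), ((nat_lit 1181), [nat_lit 8, nat_lit 5, nat_lit 1, nat_lit 2, nat_lit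 3, nat_lit 4, nat_lit 8, nat_lit 3, nat_lit 4, nat_lit 2, nat_lit 3, nat_lit 0, nat_lit 1], [nat_lit 16, nat_lit 5, nat_lit 2, nat_lit 26, nat_lit 36, nat_lit 26], (nat_lit 5376)), ((nat_lit 1270), [nat_lit 8, nat_lit 8, nat_lit 4, nat_lit 3, nat_lit 2, nat_lit 3, nat_lit 4, nat_lit 7, nat_lit 4, nat_lit 7, nat_lit 3, nat_lit 4, nat_lit 2, nat_lit 3, nat_lit 1], [nat_lit 1, nat_lit 14, nat_lit 24, nat_lit 37, nat_lit 17], (nat_lit 14063)), ((nat_lit 1850), [nat_lit 8, nat_lit 4, nat_lit 8, nat_lit 8, nat_lit 3, nat_lit 4, nat_lit 8, nat_lit 2, nat_lit 3, nat_lit 4, nat_lit 8, nat_lit 2, nat_lit 3, nat_lit 1], [nat_lit 16, nat_lit 5, nat_lit 0, nat_lit 17, nat_lit 24], (nat_lit 10526)), ((nat_lit 2305), [nat_lit 7, nat_lit 4, nat_lit 7, nat_lit 1, nat_lit 2, nat_lit 3, nat_lit 4, nat_lit 8, nat_lit 3, nat_lit 4, nat_lit 2, nat_lit 3, nat_lit 0, nat_lit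 1], [nat_lit 15, nat_lit 0, nat_lit 17, nat_lit 33], (nat_lit 8225)), ((nat_lit 1146), [nat_lit 3, nat_lit 2, nat_lit 3, nat_lit 4, nat_lit 8, nat_lit 3, nat_lit 4, nat_lit 7, nat_lit 2, nat_lit 3, nat_lit 4, nat_lit 3, nat_lit 2, nat_lit 3, nat_lit 1], [nat_lit 10, nat_lit 10, nat_lit 0, nat_lit 24, nat_lit 37, nat_lit 17, nat_lit 26], (nat_lit 12676)), ((nat_lit 2303), [nat_lit 8, nat_lit 4, nat_lit 7, nat_lit 7, nat_lit 1, nat_lit 2, nat_lit 3, nat_lit 2, nat_lit 3, nat_lit 4, nat_lit 8, nat_lit 3, nat_lit 4, nat_lit 2, nat_lit 3, nat_lit 1], [nat_lit 15, nat_lit 5, nat_lit 36, nat_lit 16, nat_lit 26], (nat_lit 16606)), ((nat_lit 798), [nat_lit 8, nat_lit 2, nat_lit 3, nat_lit 4, nat_lit 8, nat_lit 5, nat_lit 2, nat_lit 3, nat_lit 4, nat_lit 8, nat_lit 2, nat_lit 3, nat_lit 0, nat_lit 1], [nat_lit 10, nat_lit 0, nat_lit 27, nat_lit 18, nat_lit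 11, nat_lit 27], (nat_lit 8433)), ((nat_lit 1169), [nat_lit 7, nat_lit 4, nat_lit 7, nat_lit 0, nat_lit 1, nat_lit 2, nat_lit 3, nat_lit 4, nat_lit 8, nat_lit 3, nat_lit 4, nat_lit 2, nat_lit 3, nat_lit 0, nat_lit 1], [nat_lit 5, nat_lit 14, nat_lit 34, nat_lit 34, nat_lit 15, nat_lit 27], (nat_lit 11868)), ((nat_lit 2307), [nat_lit 8, nat_lit 4, nat_lit 7, nat_lit 7, nat_lit 3, nat_lit 4, nat_lit 7, nat_lit 3, nat_lit 2, nat_lit 3, nat_lit 1], [nat_lit 11, nat_lit 5, nat_lit 2, nat_lit 34, nat_lit 24, nat_lit 26], (nat_lit 2421)), ((nat_lit 1289), [nat_lit 6, nat_lit 7, nat_lit 4, nat_lit 8, nat_lit 2, nat_lit 3, nat_lit 4, nat_lit 8, nat_lit 3, nat_lit 1, nat_lit 2, nat_lit 3, nat_lit 0, nat_lit 1], [nat_lit 26, nat_lit 2, nat_lit 26, nat_lit 24, nat_lit 27], (nat_lit 7297)), ((nat_lit 1837), [nat_lit 7, nat_lit 4, nat_lit 7, nat_lit 0, nat_lit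 1, nat_lit 2, nat_lit 3, nat_lit 4, nat_lit 2, nat_lit 3, nat_lit 1], [nat_lit 16, nat_lit 0, nat_lit 15, nat_lit 32, nat_lit 11, nat_lit 26], (nat_lit 2433)), ((nat_lit 1654), [nat_lit 8, nat_lit 4, nat_lit 8, nat_lit 0, nat_lit 1, nat_lit 2, nat_lit 3, nat_lit 4, nat_lit 2, nat_lit 3, nat_lit 1], [nat_lit 1, nat_lit 5, nat_lit 17, nat_lit 25, nat_lit 15], (nat_lit 2427)), ((nat_lit 363), [nat_lit 8, nat_lit 5, nat_lit 2, nat_lit 3, nat_lit 1, nat_lit 2, nat_lit 3, nat_lit 4, nat_lit 7, nat_lit 4, nat_lit 3, nat_lit 2, nat_lit 3, nat_lit 0, nat_lit 1], [nat_lit 25, nat_lit 16, nat_lit 0, nat_lit 24, nat_lit 15, nat_lit 27], (nat_lit 11359)), ((nat_lit 1720), [nat_lit 7, nat_lit 4, nat_lit 7, nat_lit 5, nat_lit 0, nat_lit 1, nat_lit 2, nat_lit 3, nat_lit 4, nat_lit 8, nat_lit 2, nat_lit 3, nat_lit 1], [nat_lit 0, nat_lit 11, nat_lit 15, nat_lit 27],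 (nat_lit 6840)), ((nat_lit 1843), [nat_lit 8, nat_lit 3, nat_lit 4, nat_lit 7, nat_lit 1, nat_lit 2, nat_lit 3, nat_lit 4, nat_lit 2, nat_lit 3, nat_lit 1], [nat_lit 5, nat_lit 14, nat_lit 32, nat_lit 32, nat_lit 11], (nat_lit 2450)), ((nat_lit 2048), [nat_lit 8, nat_lit 5, nat_lit 4, nat_lit 8, nat_lit 3, nat_lit 2, nat_lit 3, nat_lit 4, nat_lit 7, nat_lit 1, nat_lit 2, nat_lit 3, nat_lit 4, nat_lit 2, nat_lit 3, nat_lit 1], [nat_lit 5, nat_lit 16, nat_lit 2, nat_lit 34, nat_lit 24, nat_lit 27], (nat_lit 16457)), ((nat_lit 2002), [nat_lit 3, nat_lit 4, nat_lit 8, nat_lit 2, nat_lit 3, nat_lit 4, nat_lit 8, nat_lit 3, nat_lit 1, nat_lit 2, nat_lit 3, nat_lit 0, nat_lit 1], [nat_lit 5, nat_lit 14, nat_lit 36, nat_lit 15, nat_lit 26], (nat_lit 4597)), ((nat_lit 2370), [nat_lit 7, nat_lit 2, nat_lit 3, nat_lit 4, nat_lit 8, nat_lit 2, nat_lit 3, nat_lit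 4, nat_lit 2, nat_lit 3, nat_lit 1], [nat_lit 24, nat_lit 2, nat_lit 37, nat_lit 18, nat_lit 27], (nat_lit 2465)), ((nat_lit 1673), [nat_lit 5, nat_lit 4, nat_lit 8, nat_lit 3, nat_lit 4, nat_lit 8, nat_lit 2, nat_lit 3, nat_lit 4, nat_lit 8, nat_lit 2, nat_lit 3, nat_lit 0, nat_lit 1], [nat_lit 25, nat_lit 0, nat_lit 36, nat_lit 16], (nat_lit 8463)), ((nat_lit 1188), [nat_lit 7, nat_lit 7, nat_lit 3, nat_lit 4, nat_lit 7, nat_lit 2, nat_lit 3, nat_lit 4, nat_lit 8, nat_lit 2, nat_lit 3, nat_lit 0, nat_lit 1], [nat_lit 24, nat_lit 1, nat_lit 32, nat_lit 34, nat_lit 16], (nat_lit 5571)), ((nat_lit 898), [nat_lit 4, nat_lit 8, nat_lit 3, nat_lit 4, nat_lit 8, nat_lit 2, nat_lit 3, nat_lit 4, nat_lit 2, nat_lit 3, nat_lit 1], [nat_lit 16, nat_lit 0, nat_lit 26, nat_lit 34, nat_lit 27], (nat_lit 2469)), ((nat_lit 2129), [nat_lit 7, nat_lit 1, nat_lit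 2, nat_lit 3, nat_lit 2, nat_lit 3, nat_lit 4, nat_lit 7, nat_lit 3, nat_lit 4, nat_lit 8, nat_lit 4, nat_lit 2, nat_lit 3, nat_lit 1], [nat_lit 24, nat_lit 16, nat_lit 0, nat_lit 32, nat_lit 32, nat_lit 11], (nat_lit 14235)), ((nat_lit 2239), [nat_lit 3, nat_lit 4, nat_lit 8, nat_lit 3, nat_lit 1, nat_lit 2, nat_lit 3, nat_lit 4, nat_lit 8, nat_lit 3, nat_lit 2, nat_lit 3, nat_lit 0, nat_lit 1], [nat_lit 25, nat_lit 2, nat_lit 0, nat_lit 37, nat_lit 15, nat_lit 11, nat_lit 27], (nat_lit 7808)), ((nat_lit 494), [nat_lit 5, nat_lit 8, nat_lit 4, nat_lit 8, nat_lit 3, nat_lit 0, nat_lit 1, nat_lit 2, nat_lit 3, nat_lit 4, nat_lit 7, nat_lit 4, nat_lit 3, nat_lit 2, nat_lit 3, nat_lit 1], [nat_lit 1, nat_lit 14, nat_lit 37, nat_lit 18, nat_lit 26], (nat_lit 16047)), ((nat_lit 1577), [nat_lit 8, nat_lit 8, nat_lit 3, nat_lit 4, nat_lit 8, nat_lit 2, nat_lit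 3, nat_lit 4, nat_lit 7, nat_lit 2, nat_lit 3, nat_lit 0, nat_lit 1], [nat_lit 14, nat_lit 33, nat_lit 24, nat_lit 26], (nat_lit 5653)), ((nat_lit 1112), [nat_lit 4, nat_lit 7, nat_lit 4, nat_lit 7, nat_lit 3, nat_lit 4, nat_lit 8, nat_lit 2, nat_lit 3, nat_lit 4, nat_lit 8, nat_lit 2, nat_lit 3, nat_lit 0, nat_lit 1], [nat_lit 15, nat_lit 2, nat_lit 36, nat_lit 16, nat_lit 27], (nat_lit 12154)), ((nat_lit 1923), [nat_lit 8, nat_lit 2, nat_lit 3, nat_lit 4, nat_lit 7, nat_lit 6, nat_lit 1, nat_lit 2, nat_lit 3, nat_lit 4, nat_lit 7, nat_lit 2, nat_lit 3, nat_lit 1], [nat_lit 25, nat_lit 0, nat_lit 17, nat_lit 11, nat_lit 26], (nat_lit 10677)), ((nat_lit 2294), [nat_lit 7, nat_lit 5, nat_lit 3, nat_lit 4, nat_lit 7, nat_lit 2, nat_lit 3, nat_lit 4, nat_lit 2, nat_lit 3, nat_lit 1], [nat_lit 1, nat_lit 24, nat_lit 0, nat_lit 15, nat_lit 27, nat_lit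 16], (nat_lit 2483)), ((nat_lit 1399), [nat_lit 3, nat_lit 4, nat_lit 7, nat_lit 1, nat_lit 2, nat_lit 3, nat_lit 4, nat_lit 7, nat_lit 2, nat_lit 3, nat_lit 4, nat_lit 3, nat_lit 2, nat_lit 3, nat_lit 1], [nat_lit 18, nat_lit 15, nat_lit 0, nat_lit 33, nat_lit 35], (nat_lit 12656)), ((nat_lit 1147), [nat_lit 8, nat_lit 4, nat_lit 7, nat_lit 1, nat_lit 2, nat_lit 3, nat_lit 4, nat_lit 7, nat_lit 2, nat_lit 3, nat_lit 4, nat_lit 7, nat_lit 2, nat_lit 3, nat_lit 1], [nat_lit 25, nat_lit 0, nat_lit 35, nat_lit 35, nat_lit 11, nat_lit 26], (nat_lit 14637)), ((nat_lit 458), [nat_lit 8, nat_lit 8, nat_lit 3, nat_lit 4, nat_lit 7, nat_lit 2, nat_lit 3, nat_lit 4, nat_lit 2, nat_lit 3, nat_lit 1], [nat_lit 1, nat_lit 1, nat_lit 17, nat_lit 37, nat_lit 11], (nat_lit 2487)), ((nat_lit 1195), [nat_lit 8, nat_lit 6, nat_lit 3, nat_lit 4, nat_lit 7, nat_lit 2,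 nat_lit 3, nat_lit 4, nat_lit 8, nat_lit 2, nat_lit 3, nat_lit 1], [nat_lit 10, nat_lit 10, nat_lit 0, nat_lit 16, nat_lit 11, nat_lit 27], (nat_lit 4376)), ((nat_lit 540), [nat_lit 4, nat_lit 8, nat_lit 4, nat_lit 3, nat_lit 1, nat_lit 2, nat_lit 3, nat_lit 4, nat_lit 8, nat_lit 4, nat_lit 3, nat_lit 2, nat_lit 3, nat_lit 1], [nat_lit 18, nat_lit 15, nat_lit 0, nat_lit 11, nat_lit 17], (nat_lit 9078)), ((nat_lit 1883), [nat_lit 3, nat_lit 4, nat_lit 7, nat_lit 4, nat_lit 7, nat_lit 2, nat_lit 3, nat_lit 4, nat_lit 2, nat_lit 3, nat_lit 1], [nat_lit 24, nat_lit 1, nat_lit 32, nat_lit 15, nat_lit 26], (nat_lit 2491)), ((nat_lit 1097), [nat_lit 2, nat_lit 3, nat_lit 4, nat_lit 7, nat_lit 3, nat_lit 2, nat_lit 3, nat_lit 4, nat_lit 8, nat_lit 2, nat_lit 3, nat_lit 4, nat_lit 2, nat_lit 3, nat_lit 1], [nat_lit 25, nat_lit 14, nat_lit 0, nat_lit 25, nat_lit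 35, nat_lit 11], (nat_lit 13756)), ((nat_lit 1708), [nat_lit 8, nat_lit 2, nat_lit 3, nat_lit 4, nat_lit 7, nat_lit 5, nat_lit 1, nat_lit 2, nat_lit 3, nat_lit 4, nat_lit 7, nat_lit 2, nat_lit 3, nat_lit 1], [nat_lit 2, nat_lit 0, nat_lit 27, nat_lit 25, nat_lit 27], (nat_lit 10687)), ((nat_lit 2213), [nat_lit 4, nat_lit 7, nat_lit 4, nat_lit 7, nat_lit 5, nat_lit 3, nat_lit 4, nat_lit 8, nat_lit 2, nat_lit 3, nat_lit 0, nat_lit 1], [nat_lit 24, nat_lit 15, nat_lit 0, nat_lit 34, nat_lit 32, nat_lit 27], (nat_lit 3548)), ((nat_lit 2369), [nat_lit 4, nat_lit 7, nat_lit 3, nat_lit 1, nat_lit 2, nat_lit 3, nat_lit 4, nat_lit 8, nat_lit 3, nat_lit 4, nat_lit 7, nat_lit 2, nat_lit 3, nat_lit 1], [nat_lit 15, nat_lit 1, nat_lit 25, nat_lit 18, nat_lit 18, nat_lit 27], (nat_lit 10886)), ((nat_lit 924), [nat_lit 4, nat_lit 7, nat_lit 5, nat_lit 0, nat_lit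 1, nat_lit 2, nat_lit 3, nat_lit 4, nat_lit 8, nat_lit 3, nat_lit 4, nat_lit 2, nat_lit 3, nat_lit 0, nat_lit 1], [nat_lit 15, nat_lit 1, nat_lit 27, nat_lit 25, nat_lit 27], (nat_lit 11866)), ((nat_lit 592), [nat_lit 7, nat_lit 4, nat_lit 7, nat_lit 1, nat_lit 2, nat_lit 3, nat_lit 4, nat_lit 7, nat_lit 1, nat_lit 2, nat_lit 3, nat_lit 4, nat_lit 3, nat_lit 2, nat_lit 3, nat_lit 0, nat_lit 1], [nat_lit 10, nat_lit 0, nat_lit 16, nat_lit 32, nat_lit 15, nat_lit 27], (nat_lit 16870)), ((nat_lit 634), [nat_lit 7, nat_lit 7, nat_lit 4, nat_lit 7, nat_lit 2, nat_lit 3, nat_lit 4, nat_lit 7, nat_lit 2, nat_lit 3, nat_lit 4, nat_lit 2, nat_lit 3, nat_lit 1], [nat_lit 24, nat_lit 1, nat_lit 35, nat_lit 32, nat_lit 11], (nat_lit 10006)), ((nat_lit 2012), [nat_lit 2, nat_lit 3, nat_lit 4, nat_lit 8, nat_lit 8, nat_lit 2, nat_lit 3, nat_lit 4, nat_lit 8, nat_lit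 2, nat_lit 3, nat_lit 4, nat_lit 7, nat_lit 2, nat_lit 3, nat_lit 0, nat_lit 1], [nat_lit 24, nat_lit 0, nat_lit 25, nat_lit 37], (nat_lit 17063)), ((nat_lit 1619), [nat_lit 8, nat_lit 8, nat_lit 3, nat_lit 2, nat_lit 3, nat_lit 4, nat_lit 7, nat_lit 2, nat_lit 3, nat_lit 4, nat_lit 8, nat_lit 2, nat_lit 3, nat_lit 1], [nat_lit 15, nat_lit 5, nat_lit 34, nat_lit 32, nat_lit 11, nat_lit 26], (nat_lit 10561)), ((nat_lit 2272), [nat_lit 4, nat_lit 3, nat_lit 1, nat_lit 2, nat_lit 3, nat_lit 4, nat_lit 7, nat_lit 3, nat_lit 4, nat_lit 8, nat_lit 3, nat_lit 2, nat_lit 3, nat_lit 1], [nat_lit 5, nat_lit 2, nat_lit 0, nat_lit 32, nat_lit 16], (nat_lit 9431)), ((nat_lit 689), [nat_lit 7, nat_lit 4, nat_lit 7, nat_lit 2, nat_lit 3, nat_lit 4, nat_lit 7, nat_lit 1, nat_lit 2, nat_lit 3, nat_lit 4, nat_lit 3, nat_lit 2, nat_lit 3, nat_lit 0, nat_lit 1], [nat_lit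 18, nat_lit 15, nat_lit 0, nat_lit 27, nat_lit 36, nat_lit 11, nat_lit 26], (nat_lit 14849)), ((nat_lit 912), [nat_lit 6, nat_lit 8, nat_lit 1, nat_lit 2, nat_lit 3, nat_lit 4, nat_lit 7, nat_lit 1, nat_lit 2, nat_lit 3, nat_lit 4, nat_lit 2, nat_lit 3, nat_lit 0, nat_lit 1], [nat_lit 15, nat_lit 2, nat_lit 24, nat_lit 18, nat_lit 18, nat_lit 26], (nat_lit 11761)), ((nat_lit 548), [nat_lit 7, nat_lit 4, nat_lit 7, nat_lit 7, nat_lit 0, nat_lit 1, nat_lit 2, nat_lit 3, nat_lit 4, nat_lit 7, nat_lit 2, nat_lit 3, nat_lit 1], [nat_lit 5, nat_lit 2, nat_lit 0, nat_lit 33, nat_lit 18, nat_lit 27], (nat_lit 7055)), ((nat_lit 1346), [nat_lit 8, nat_lit 3, nat_lit 2, nat_lit 3, nat_lit 4, nat_lit 7, nat_lit 3, nat_lit 4, nat_lit 2, nat_lit 3, nat_lit 1], [nat_lit 16, nat_lit 5, nat_lit 2, nat_lit 37, nat_lit 24, nat_lit 11], (nat_lit 2527)), ((nat_lit 1805),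 [nat_lit 4, nat_lit 2, nat_lit 3, nat_lit 0, nat_lit 1, nat_lit 2, nat_lit 3, nat_lit 4, nat_lit 8, nat_lit 3, nat_lit 4, nat_lit 7, nat_lit 3, nat_lit 2, nat_lit 3, nat_lit 0, nat_lit 1], [nat_lit 17, nat_lit 24, nat_lit 0, nat_lit 25, nat_lit 36, nat_lit 15, nat_lit 27], (nat_lit 16977)), ((nat_lit 743), [nat_lit 4, nat_lit 8, nat_lit 5, nat_lit 2, nat_lit 3, nat_lit 4, nat_lit 7, nat_lit 1, nat_lit 2, nat_lit 3, nat_lit 4, nat_lit 8, nat_lit 2, nat_lit 3, nat_lit 1], [nat_lit 2, nat_lit 35, nat_lit 11], (nat_lit 14319)), ((nat_lit 1343), [nat_lit 7, nat_lit 5, nat_lit 2, nat_lit 3, nat_lit 4, nat_lit 7, nat_lit 3, nat_lit 4, nat_lit 2, nat_lit 3, nat_lit 1], [nat_lit 14, nat_lit 0, nat_lit 36, nat_lit 17], (nat_lit 2530)), ((nat_lit 873), [nat_lit 7, nat_lit 3, nat_lit 4, nat_lit 8, nat_lit 5, nat_lit 2, nat_lit 3, nat_lit 4, nat_lit 8, nat_lit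 2, nat_lit 3, nat_lit 0, nat_lit 1], [nat_lit 16, nat_lit 5, nat_lit 0, nat_lit 35, nat_lit 15, nat_lit 27], (nat_lit 5528)), ((nat_lit 946), [nat_lit 8, nat_lit 8, nat_lit 2, nat_lit 3, nat_lit 4, nat_lit 7, nat_lit 3, nat_lit 4, nat_lit 2, nat_lit 3, nat_lit 1], [nat_lit 25, nat_lit 16, nat_lit 0, nat_lit 32, nat_lit 32, nat_lit 27], (nat_lit 2534)), ((nat_lit 1774), [nat_lit 7, nat_lit 4, nat_lit 7, nat_lit 3, nat_lit 4, nat_lit 7, nat_lit 5, nat_lit 1, nat_lit 2, nat_lit 3, nat_lit 4, nat_lit 7, nat_lit 2, nat_lit 3, nat_lit 1], [nat_lit 25, nat_lit 0, nat_lit 25, nat_lit 18, nat_lit 26], (nat_lit 14530)), ((nat_lit 1860), [nat_lit 8, nat_lit 4, nat_lit 7, nat_lit 6, nat_lit 0, nat_lit 1, nat_lit 2, nat_lit 3, nat_lit 4, nat_lit 7, nat_lit 2, nat_lit 3, nat_lit 0, nat_lit 1], [nat_lit 5, nat_lit 2, nat_lit 0, nat_lit 15, nat_lit 17, nat_lit 11,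 nat_lit 26], (nat_lit 8520)), ((nat_lit 2447), [nat_lit 7, nat_lit 7, nat_lit 4, nat_lit 7, nat_lit 0, nat_lit 1, nat_lit 2, nat_lit 3, nat_lit 4, nat_lit 7, nat_lit 3, nat_lit 2, nat_lit 3, nat_lit 0, nat_lit 1], [nat_lit 24, nat_lit 2, nat_lit 0, nat_lit 36, nat_lit 24, nat_lit 15, nat_lit 27], (nat_lit 11560)), ((nat_lit 1922), [nat_lit 8, nat_lit 2, nat_lit 3, nat_lit 4, nat_lit 7, nat_lit 3, nat_lit 4, nat_lit 8, nat_lit 2, nat_lit 3, nat_lit 4, nat_lit 3, nat_lit 2, nat_lit 3, nat_lit 1], [nat_lit 5, nat_lit 2, nat_lit 18, nat_lit 18], (nat_lit 12650)), ((nat_lit 2360), [nat_lit 7, nat_lit 3, nat_lit 4, nat_lit 7, nat_lit 2, nat_lit 3, nat_lit 4, nat_lit 8, nat_lit 2, nat_lit 3, nat_lit 0, nat_lit 1], [nat_lit 10, nat_lit 10, nat_lit 0, nat_lit 35, nat_lit 27, nat_lit 15, nat_lit 26], (nat_lit 3533)), ((nat_lit 1475), [nat_lit 6, nat_lit 4,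 nat_lit 8, nat_lit 1, nat_lit 2, nat_lit 3, nat_lit 4, nat_lit 8, nat_lit 2, nat_lit 3, nat_lit 4, nat_lit 7, nat_lit 3, nat_lit 2, nat_lit 3, nat_lit 1], [nat_lit 24, nat_lit 2, nat_lit 37, nat_lit 34, nat_lit 25, nat_lit 26], (nat_lit 16378)), ((nat_lit 1029), [nat_lit 5, nat_lit 7, nat_lit 2, nat_lit 3, nat_lit 4, nat_lit 7, nat_lit 2, nat_lit 3, nat_lit 4, nat_lit 8, nat_lit 3, nat_lit 2, nat_lit 3, nat_lit 1], [nat_lit 5, nat_lit 2, nat_lit 0, nat_lit 37, nat_lit 16], (nat_lit 9415)), ((nat_lit 2078), [nat_lit 6, nat_lit 7, nat_lit 4, nat_lit 8, nat_lit 3, nat_lit 4, nat_lit 8, nat_lit 4, nat_lit 2, nat_lit 3, nat_lit 1], [nat_lit 17, nat_lit 24, nat_lit 0, nat_lit 15, nat_lit 32, nat_lit 15], (nat_lit 2568)), ((nat_lit 1722), [nat_lit 6, nat_lit 8, nat_lit 4, nat_lit 7, nat_lit 3, nat_lit 4, nat_lit 8, nat_lit 4, nat_lit 2, nat_lit 3, nat_lit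 1], [nat_lit 15, nat_lit 5, nat_lit 17, nat_lit 37, nat_lit 27], (nat_lit 2571)), ((nat_lit 2223), [nat_lit 0, nat_lit 1, nat_lit 2, nat_lit 3, nat_lit 2, nat_lit 3, nat_lit 4, nat_lit 8, nat_lit 4, nat_lit 3, nat_lit 1], [nat_lit 5, nat_lit 16, nat_lit 2, nat_lit 33, nat_lit 18, nat_lit 27], (nat_lit 2749)), ((nat_lit 1902), [nat_lit 4, nat_lit 8, nat_lit 4, nat_lit 2, nat_lit 3, nat_lit 1, nat_lit 2, nat_lit 3, nat_lit 4, nat_lit 8, nat_lit 3, nat_lit 4, nat_lit 2, nat_lit 3, nat_lit 1], [nat_lit 2, nat_lit 0, nat_lit 24, nat_lit 37, nat_lit 17, nat_lit 27], (nat_lit 13960)), ((nat_lit 1817), [nat_lit 7, nat_lit 4, nat_lit 3, nat_lit 2, nat_lit 3, nat_lit 4, nat_lit 7, nat_lit 4, nat_lit 2, nat_lit 3, nat_lit 1], [nat_lit 10, nat_lit 0, nat_lit 27, nat_lit 37], (nat_lit 2585)), ((nat_lit 1824), [nat_lit 3, nat_lit 2, nat_lit 3, nat_lit 4, nat_lit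 7, nat_lit 5, nat_lit 1, nat_lit 2, nat_lit 3, nat_lit 4, nat_lit 8, nat_lit 4, nat_lit 2, nat_lit 3, nat_lit 1], [nat_lit 24, nat_lit 2, nat_lit 35, nat_lit 32, nat_lit 27], (nat_lit 14200)), ((nat_lit 656), [nat_lit 6, nat_lit 7, nat_lit 0, nat_lit 1, nat_lit 2, nat_lit 3, nat_lit 4, nat_lit 8, nat_lit 2, nat_lit 3, nat_lit 1], [nat_lit 1, nat_lit 37, nat_lit 37, nat_lit 27], (nat_lit 2607)), ((nat_lit 2162), [nat_lit 4, nat_lit 7, nat_lit 5, nat_lit 2, nat_lit 3, nat_lit 4, nat_lit 8, nat_lit 1, nat_lit 2, nat_lit 3, nat_lit 0, nat_lit 1], [nat_lit 16, nat_lit 5, nat_lit 2, nat_lit 33, nat_lit 35, nat_lit 26], (nat_lit 2999)), ((nat_lit 399), [nat_lit 8, nat_lit 4, nat_lit 7, nat_lit 3, nat_lit 2, nat_lit 3, nat_lit 4, nat_lit 8, nat_lit 3, nat_lit 2, nat_lit 3, nat_lit 0, nat_lit 1], [nat_lit 0, nat_lit 2, nat_lit 37, nat_lit 11, nat_lit 17],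 (nat_lit 5138)), ((nat_lit 1016), [nat_lit 5, nat_lit 3, nat_lit 2, nat_lit 3, nat_lit 4, nat_lit 7, nat_lit 1, nat_lit 2, nat_lit 3, nat_lit 4, nat_lit 8, nat_lit 2, nat_lit 3, nat_lit 1], [nat_lit 18, nat_lit 15, nat_lit 0, nat_lit 15, nat_lit 15], (nat_lit 10440)), ((nat_lit 1423), [nat_lit 7, nat_lit 4, nat_lit 8, nat_lit 3, nat_lit 2, nat_lit 3, nat_lit 4, nat_lit 8, nat_lit 4, nat_lit 3, nat_lit 2, nat_lit 3, nat_lit 0, nat_lit 1], [nat_lit 2, nat_lit 0, nat_lit 11, nat_lit 36], (nat_lit 7729)), ((nat_lit 1135), [nat_lit 7, nat_lit 6, nat_lit 0, nat_lit 1, nat_lit 2, nat_lit 3, nat_lit 4, nat_lit 7, nat_lit 3, nat_lit 4, nat_lit 3, nat_lit 2, nat_lit 3, nat_lit 0, nat_lit 1], [nat_lit 5, nat_lit 26, nat_lit 16, nat_lit 27], (nat_lit 11276)), ((nat_lit 2367), [nat_lit 7, nat_lit 5, nat_lit 4, nat_lit 1, nat_lit 2, nat_lit 3, nat_lit 2, nat_lit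 3, nat_lit 4, nat_lit 7, nat_lit 3, nat_lit 4, nat_lit 2, nat_lit 3, nat_lit 1], [nat_lit 15, nat_lit 2, nat_lit 34, nat_lit 17, nat_lit 33, nat_lit 26], (nat_lit 14130)), ((nat_lit 1268), [nat_lit 7, nat_lit 7, nat_lit 2, nat_lit 3, nat_lit 4, nat_lit 8, nat_lit 1, nat_lit 2, nat_lit 3, nat_lit 4, nat_lit 8, nat_lit 2, nat_lit 3, nat_lit 0, nat_lit 1], [nat_lit 5, nat_lit 14, nat_lit 24, nat_lit 33, nat_lit 15, nat_lit 27], (nat_lit 12066)), ((nat_lit 2401), [nat_lit 5, nat_lit 7, nat_lit 3, nat_lit 4, nat_lit 7, nat_lit 1, nat_lit 2, nat_lit 3, nat_lit 4, nat_lit 8, nat_lit 3, nat_lit 2, nat_lit 3, nat_lit 0, nat_lit 1], [nat_lit 15, nat_lit 0, nat_lit 34, nat_lit 17, nat_lit 11, nat_lit 26], (nat_lit 11473)), ((nat_lit 2046), [nat_lit 6, nat_lit 7, nat_lit 4, nat_lit 8, nat_lit 2, nat_lit 3, nat_lit 4, nat_lit 8, nat_lit 2, nat_lit 3, nat_lit 1],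 [nat_lit 2, nat_lit 0, nat_lit 25, nat_lit 35, nat_lit 26], (nat_lit 2641))] m5_5_12 m5_5_13) = 0 := by decide +kernel
theorem e5_5_14 : dt.run q (fun c => c.edges (SP THn.T THn.Rl (nat_lit 15)) (nat_lit 4429) THn.T.n (nat_lit 5) (nat_lit 5)
  [((nat_lit 1298), [nat_lit 8, nat_lit 3, nat_lit 4, nat_lit 7, nat_lit 2, nat_lit 3, nat_lit 4, nat_lit 8, nat_lit 2, nat_lit 3, nat_lit 1], [nat_lit 24, nat_lit 15, nat_lit 0, nat_lit 17, nat_lit 34, nat_lit 11, nat_lit 27], (nat_lit 2650)), ((nat_lit 2225), [nat_lit 2, nat_lit 3, nat_lit 4, nat_lit 8, nat_lit 1, nat_lit 2, nat_lit 3, nat_lit 4, nat_lit 7, nat_lit 3, nat_lit 2, nat_lit 3, nat_lit 0, nat_lit 1], [nat_lit 24, nat_lit 1, nat_lit 17, nat_lit 36], (nat_lit 7955)), ((nat_lit 2295), [nat_lit 7, nat_lit 5, nat_lit 4, nat_lit 7, nat_lit 2, nat_lit 3, nat_lit 4, nat_lit 8, nat_lit 2, nat_lit 3, nat_lit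 1], [nat_lit 24, nat_lit 2, nat_lit 36, nat_lit 16, nat_lit 27], (nat_lit 2655)), ((nat_lit 2357), [nat_lit 8, nat_lit 4, nat_lit 7, nat_lit 7, nat_lit 3, nat_lit 4, nat_lit 7, nat_lit 2, nat_lit 3, nat_lit 4, nat_lit 2, nat_lit 3, nat_lit 0, nat_lit 1], [nat_lit 26, nat_lit 2, nat_lit 0, nat_lit 17, nat_lit 17, nat_lit 15], (nat_lit 8197)), ((nat_lit 913), [nat_lit 2, nat_lit 3, nat_lit 4, nat_lit 2, nat_lit 3, nat_lit 1, nat_lit 2, nat_lit 3, nat_lit 4, nat_lit 7, nat_lit 4, nat_lit 3, nat_lit 2, nat_lit 3, nat_lit 1], [nat_lit 1, nat_lit 5, nat_lit 11, nat_lit 27], (nat_lit 12961)), ((nat_lit 1533), [nat_lit 5, nat_lit 7, nat_lit 3, nat_lit 4, nat_lit 8, nat_lit 2, nat_lit 3, nat_lit 4, nat_lit 8, nat_lit 2, nat_lit 3, nat_lit 0, nat_lit 1], [nat_lit 5, nat_lit 15, nat_lit 32], (nat_lit 5548)), ((nat_lit 927), [nat_lit 2, nat_lit 3, nat_lit 4,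 nat_lit 7, nat_lit 1, nat_lit 2, nat_lit 3, nat_lit 4, nat_lit 3, nat_lit 2, nat_lit 3, nat_lit 0, nat_lit 1], [nat_lit 15, nat_lit 5, nat_lit 37, nat_lit 25], (nat_lit 4962)), ((nat_lit 2184), [nat_lit 4, nat_lit 3, nat_lit 2, nat_lit 3, nat_lit 4, nat_lit 8, nat_lit 3, nat_lit 2, nat_lit 3, nat_lit 4, nat_lit 8, nat_lit 3, nat_lit 4, nat_lit 2, nat_lit 3, nat_lit 1], [nat_lit 14, nat_lit 17, nat_lit 34, nat_lit 27], (nat_lit 16617)), ((nat_lit 1168), [nat_lit 8, nat_lit 4, nat_lit 8, nat_lit 1, nat_lit 2, nat_lit 3, nat_lit 4, nat_lit 8, nat_lit 4, nat_lit 3, nat_lit 2, nat_lit 3, nat_lit 0, nat_lit 1], [nat_lit 15, nat_lit 1, nat_lit 37, nat_lit 11, nat_lit 17], (nat_lit 7722)), ((nat_lit 2309), [nat_lit 5, nat_lit 8, nat_lit 5, nat_lit 4, nat_lit 7, nat_lit 3, nat_lit 4, nat_lit 8, nat_lit 2, nat_lit 3, nat_lit 1], [nat_lit 0, nat_lit 15, nat_lit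 24, nat_lit 11, nat_lit 26], (nat_lit 2672)), ((nat_lit 591), [nat_lit 6, nat_lit 4, nat_lit 8, nat_lit 3, nat_lit 2, nat_lit 3, nat_lit 4, nat_lit 8, nat_lit 3, nat_lit 2, nat_lit 3, nat_lit 1], [nat_lit 10, nat_lit 0, nat_lit 36, nat_lit 32, nat_lit 11, nat_lit 27], (nat_lit 3866)), ((nat_lit 1593), [nat_lit 7, nat_lit 6, nat_lit 1, nat_lit 2, nat_lit 3, nat_lit 4, nat_lit 7, nat_lit 2, nat_lit 3, nat_lit 4, nat_lit 2, nat_lit 3, nat_lit 0, nat_lit 1], [nat_lit 15, nat_lit 1, nat_lit 32, nat_lit 32], (nat_lit 8163)), ((nat_lit 1542), [nat_lit 4, nat_lit 7, nat_lit 4, nat_lit 7, nat_lit 6, nat_lit 0, nat_lit 1, nat_lit 2, nat_lit 3, nat_lit 4, nat_lit 7, nat_lit 2, nat_lit 3, nat_lit 0, nat_lit 1], [nat_lit 24, nat_lit 16, nat_lit 0, nat_lit 32, nat_lit 18, nat_lit 11, nat_lit 27], (nat_lit 12202)), ((nat_lit 786), [nat_lit 5, nat_lit 7, nat_lit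 4, nat_lit 8, nat_lit 0, nat_lit 1, nat_lit 2, nat_lit 3, nat_lit 4, nat_lit 7, nat_lit 2, nat_lit 3, nat_lit 0, nat_lit 1], [nat_lit 25, nat_lit 0, nat_lit 37, nat_lit 37, nat_lit 16, nat_lit 26], (nat_lit 8536)), ((nat_lit 1698), [nat_lit 6, nat_lit 8, nat_lit 0, nat_lit 1, nat_lit 2, nat_lit 3, nat_lit 4, nat_lit 7, nat_lit 3, nat_lit 4, nat_lit 2, nat_lit 3, nat_lit 0, nat_lit 1], [nat_lit 25, nat_lit 16, nat_lit 0, nat_lit 15, nat_lit 15, nat_lit 27], (nat_lit 8254)), ((nat_lit 1449), [nat_lit 8, nat_lit 4, nat_lit 7, nat_lit 3, nat_lit 4, nat_lit 8, nat_lit 1, nat_lit 2, nat_lit 3, nat_lit 4, nat_lit 2, nat_lit 3, nat_lit 0, nat_lit 1], [nat_lit 14, nat_lit 15, nat_lit 0, nat_lit 15, nat_lit 24, nat_lit 11], (nat_lit 8086)), ((nat_lit 1387), [nat_lit 3, nat_lit 2, nat_lit 3, nat_lit 4, nat_lit 8, nat_lit 4, nat_lit 8, nat_lit 3, nat_lit 4, nat_lit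 2, nat_lit 3, nat_lit 0, nat_lit 1], [nat_lit 24, nat_lit 1, nat_lit 16, nat_lit 18, nat_lit 11, nat_lit 26], (nat_lit 5399)), ((nat_lit 2036), [nat_lit 6, nat_lit 7, nat_lit 4, nat_lit 8, nat_lit 2, nat_lit 3, nat_lit 4, nat_lit 7, nat_lit 2, nat_lit 3, nat_lit 1], [nat_lit 15, nat_lit 2, nat_lit 32, nat_lit 24, nat_lit 11], (nat_lit 2715)), ((nat_lit 1119), [nat_lit 5, nat_lit 7, nat_lit 4, nat_lit 8, nat_lit 2, nat_lit 3, nat_lit 4, nat_lit 7, nat_lit 2, nat_lit 3, nat_lit 1], [nat_lit 10, nat_lit 10, nat_lit 0, nat_lit 25, nat_lit 33, nat_lit 15, nat_lit 27], (nat_lit 2716)), ((nat_lit 1408), [nat_lit 8, nat_lit 4, nat_lit 7, nat_lit 7, nat_lit 3, nat_lit 4, nat_lit 7, nat_lit 2, nat_lit 3, nat_lit 4, nat_lit 7, nat_lit 2, nat_lit 3, nat_lit 0, nat_lit 1], [nat_lit 0, nat_lit 2, nat_lit 24, nat_lit 36, nat_lit 26], (nat_lit 12374)), ((nat_lit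 1881), [nat_lit 1, nat_lit 2, nat_lit 3, nat_lit 4, nat_lit 7, nat_lit 5, nat_lit 2, nat_lit 3, nat_lit 4, nat_lit 7, nat_lit 2, nat_lit 3, nat_lit 4, nat_lit 2, nat_lit 3, nat_lit 1], [nat_lit 25, nat_lit 0, nat_lit 37, nat_lit 33, nat_lit 11, nat_lit 27], (nat_lit 16476)), ((nat_lit 1513), [nat_lit 5, nat_lit 2, nat_lit 3, nat_lit 1, nat_lit 2, nat_lit 3, nat_lit 4, nat_lit 8, nat_lit 3, nat_lit 4, nat_lit 3, nat_lit 2, nat_lit 3, nat_lit 0, nat_lit 1], [nat_lit 16, nat_lit 5, nat_lit 2, nat_lit 32, nat_lit 27, nat_lit 17, nat_lit 27], (nat_lit 11249)), ((nat_lit 1784), [nat_lit 5, nat_lit 2, nat_lit 3, nat_lit 4, nat_lit 8, nat_lit 1, nat_lit 2, nat_lit 3, nat_lit 4, nat_lit 3, nat_lit 2, nat_lit 3, nat_lit 0, nat_lit 1], [nat_lit 26, nat_lit 2, nat_lit 16, nat_lit 32, nat_lit 15, nat_lit 27], (nat_lit 7594)), ((nat_lit 1036), [nat_lit 7, nat_lit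 7, nat_lit 0, nat_lit 1, nat_lit 2, nat_lit 3, nat_lit 4, nat_lit 7, nat_lit 1, nat_lit 2, nat_lit 3, nat_lit 4, nat_lit 2, nat_lit 3, nat_lit 0, nat_lit 1], [nat_lit 16, nat_lit 2, nat_lit 18, nat_lit 11], (nat_lit 15286)), ((nat_lit 1121), [nat_lit 8, nat_lit 5, nat_lit 4, nat_lit 7, nat_lit 1, nat_lit 2, nat_lit 3, nat_lit 4, nat_lit 8, nat_lit 3, nat_lit 2, nat_lit 3, nat_lit 0, nat_lit 1], [nat_lit 10, nat_lit 10, nat_lit 0, nat_lit 25, nat_lit 16, nat_lit 16, nat_lit 26], (nat_lit 7839)), ((nat_lit 1632), [nat_lit 4, nat_lit 8, nat_lit 8, nat_lit 4, nat_lit 7, nat_lit 3, nat_lit 4, nat_lit 7, nat_lit 2, nat_lit 3, nat_lit 1], [nat_lit 1, nat_lit 1, nat_lit 33, nat_lit 37, nat_lit 26], (nat_lit 2744)), ((nat_lit 812), [nat_lit 8, nat_lit 3, nat_lit 4, nat_lit 8, nat_lit 6, nat_lit 2, nat_lit 3, nat_lit 4, nat_lit 8, nat_lit 2, nat_lit 3, nat_lit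 4, nat_lit 2, nat_lit 3, nat_lit 1], [nat_lit 32, nat_lit 34, nat_lit 16, nat_lit 27], (nat_lit 13768)), ((nat_lit 2363), [nat_lit 7, nat_lit 4, nat_lit 7, nat_lit 0, nat_lit 1, nat_lit 2, nat_lit 3, nat_lit 4, nat_lit 3, nat_lit 2, nat_lit 3, nat_lit 1], [nat_lit 14, nat_lit 34, nat_lit 37, nat_lit 11], (nat_lit 3648)), ((nat_lit 931), [nat_lit 6, nat_lit 8, nat_lit 4, nat_lit 8, nat_lit 2, nat_lit 3, nat_lit 4, nat_lit 8, nat_lit 3, nat_lit 1, nat_lit 2, nat_lit 3, nat_lit 0, nat_lit 1], [nat_lit 5, nat_lit 2, nat_lit 33, nat_lit 37, nat_lit 26], (nat_lit 7295)), ((nat_lit 474), [nat_lit 4, nat_lit 7, nat_lit 1, nat_lit 2, nat_lit 3, nat_lit 4, nat_lit 8, nat_lit 3, nat_lit 4, nat_lit 3, nat_lit 2, nat_lit 3, nat_lit 1], [nat_lit 25, nat_lit 2, nat_lit 0, nat_lit 34, nat_lit 15, nat_lit 11, nat_lit 27], (nat_lit 5866)), ((nat_lit 1358), [nat_lit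 4, nat_lit 8, nat_lit 4, nat_lit 8, nat_lit 2, nat_lit 3, nat_lit 4, nat_lit 8, nat_lit 1, nat_lit 2, nat_lit 3, nat_lit 0, nat_lit 1], [nat_lit 5, nat_lit 37], (nat_lit 4822)), ((nat_lit 732), [nat_lit 5, nat_lit 0, nat_lit 1, nat_lit 2, nat_lit 3, nat_lit 4, nat_lit 7, nat_lit 3, nat_lit 4, nat_lit 3, nat_lit 2, nat_lit 3, nat_lit 1], [nat_lit 10, nat_lit 0, nat_lit 27, nat_lit 37, nat_lit 27], (nat_lit 5887)), ((nat_lit 1173), [nat_lit 7, nat_lit 5, nat_lit 3, nat_lit 4, nat_lit 8, nat_lit 4, nat_lit 3, nat_lit 1, nat_lit 2, nat_lit 3, nat_lit 0, nat_lit 1], [nat_lit 5, nat_lit 26, nat_lit 16, nat_lit 11, nat_lit 27], (nat_lit 2797)), ((nat_lit 1037), [nat_lit 1, nat_lit 2, nat_lit 3, nat_lit 4, nat_lit 7, nat_lit 2, nat_lit 3, nat_lit 4, nat_lit 8, nat_lit 2, nat_lit 3, nat_lit 4, nat_lit 3, nat_lit 2, nat_lit 3, nat_lit 1], [nat_lit 5, nat_lit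 26, nat_lit 16, nat_lit 11], (nat_lit 15844)), ((nat_lit 836), [nat_lit 5, nat_lit 7, nat_lit 4, nat_lit 7, nat_lit 3, nat_lit 2, nat_lit 3, nat_lit 4, nat_lit 7, nat_lit 3, nat_lit 2, nat_lit 3, nat_lit 0, nat_lit 1], [nat_lit 2, nat_lit 0, nat_lit 36, nat_lit 33, nat_lit 11, nat_lit 27], (nat_lit 7994)), ((nat_lit 574), [nat_lit 4, nat_lit 8, nat_lit 0, nat_lit 1, nat_lit 2, nat_lit 3, nat_lit 4, nat_lit 7, nat_lit 4, nat_lit 3, nat_lit 2, nat_lit 3, nat_lit 1], [nat_lit 24, nat_lit 15, nat_lit 0, nat_lit 32, nat_lit 15, nat_lit 26], (nat_lit 5974)), ((nat_lit 1240), [nat_lit 6, nat_lit 2, nat_lit 3, nat_lit 4, nat_lit 7, nat_lit 4, nat_lit 3, nat_lit 1, nat_lit 2, nat_lit 3, nat_lit 0, nat_lit 1], [nat_lit 5, nat_lit 14, nat_lit 16, nat_lit 27], (nat_lit 2804)), ((nat_lit 1217), [nat_lit 5, nat_lit 0, nat_lit 1, nat_lit 2, nat_lit 3, nat_lit 4,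 nat_lit 8, nat_lit 3, nat_lit 4, nat_lit 3, nat_lit 2, nat_lit 3, nat_lit 1], [nat_lit 24, nat_lit 1, nat_lit 34, nat_lit 25, nat_lit 26], (nat_lit 5856)), ((nat_lit 1140), [nat_lit 8, nat_lit 4, nat_lit 3, nat_lit 2, nat_lit 3, nat_lit 1, nat_lit 2, nat_lit 3, nat_lit 4, nat_lit 7, nat_lit 4, nat_lit 7, nat_lit 3, nat_lit 2, nat_lit 3, nat_lit 1], [nat_lit 5, nat_lit 2, nat_lit 37, nat_lit 24], (nat_lit 16405)), ((nat_lit 1630), [nat_lit 7, nat_lit 5, nat_lit 2, nat_lit 3, nat_lit 4, nat_lit 8, nat_lit 3, nat_lit 1, nat_lit 2, nat_lit 3, nat_lit 0, nat_lit 1], [nat_lit 17, nat_lit 2, nat_lit 0, nat_lit 24, nat_lit 37, nat_lit 17, nat_lit 26], (nat_lit 2819)), ((nat_lit 433), [nat_lit 6, nat_lit 7, nat_lit 2, nat_lit 3, nat_lit 4, nat_lit 8, nat_lit 3, nat_lit 1, nat_lit 2, nat_lit 3, nat_lit 0, nat_lit 1], [nat_lit 10, nat_lit 10, nat_lit 0, nat_lit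 18, nat_lit 15, nat_lit 11, nat_lit 26], (nat_lit 2824)), ((nat_lit 440), [nat_lit 5, nat_lit 7, nat_lit 2, nat_lit 3, nat_lit 4, nat_lit 8, nat_lit 3, nat_lit 1, nat_lit 2, nat_lit 3, nat_lit 0, nat_lit 1], [nat_lit 18, nat_lit 35, nat_lit 15], (nat_lit 2825)), ((nat_lit 1199), [nat_lit 7, nat_lit 6, nat_lit 4, nat_lit 7, nat_lit 3, nat_lit 2, nat_lit 3, nat_lit 4, nat_lit 8, nat_lit 3, nat_lit 2, nat_lit 3, nat_lit 1], [nat_lit 5, nat_lit 16, nat_lit 2, nat_lit 27, nat_lit 18, nat_lit 26], (nat_lit 6123)), ((nat_lit 1505), [nat_lit 6, nat_lit 7, nat_lit 0, nat_lit 1, nat_lit 2, nat_lit 3, nat_lit 4, nat_lit 8, nat_lit 3, nat_lit 4, nat_lit 3, nat_lit 2, nat_lit 3, nat_lit 1], [nat_lit 24, nat_lit 1, nat_lit 35, nat_lit 36, nat_lit 11], (nat_lit 8943)), ((nat_lit 425), [nat_lit 8, nat_lit 4, nat_lit 8, nat_lit 5, nat_lit 3, nat_lit 2, nat_lit 3,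 nat_lit 4, nat_lit 7, nat_lit 3, nat_lit 2, nat_lit 3, nat_lit 0, nat_lit 1], [nat_lit 26, nat_lit 24, nat_lit 0, nat_lit 25, nat_lit 15, nat_lit 27], (nat_lit 7976)), ((nat_lit 2474), [nat_lit 8, nat_lit 4, nat_lit 8, nat_lit 3, nat_lit 2, nat_lit 3, nat_lit 4, nat_lit 7, nat_lit 3, nat_lit 2, nat_lit 3, nat_lit 0, nat_lit 1], [nat_lit 2, nat_lit 0, nat_lit 34, nat_lit 11, nat_lit 17, nat_lit 26], (nat_lit 5216)), ((nat_lit 1458), [nat_lit 8, nat_lit 4, nat_lit 8, nat_lit 0, nat_lit 1, nat_lit 2, nat_lit 3, nat_lit 4, nat_lit 7, nat_lit 2, nat_lit 3, nat_lit 1], [nat_lit 25, nat_lit 1, nat_lit 35], (nat_lit 4408)), ((nat_lit 624), [nat_lit 4, nat_lit 7, nat_lit 2, nat_lit 3, nat_lit 4, nat_lit 8, nat_lit 3, nat_lit 4, nat_lit 3, nat_lit 1, nat_lit 2, nat_lit 3, nat_lit 0, nat_lit 1], [nat_lit 26, nat_lit 2, nat_lit 24, nat_lit 18, nat_lit 18, nat_lit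 27], (nat_lit 7230)), ((nat_lit 1167), [nat_lit 5, nat_lit 4, nat_lit 3, nat_lit 2, nat_lit 3, nat_lit 1, nat_lit 2, nat_lit 3, nat_lit 4, nat_lit 7, nat_lit 4, nat_lit 3, nat_lit 2, nat_lit 3, nat_lit 1], [nat_lit 24, nat_lit 2, nat_lit 0, nat_lit 25, nat_lit 35, nat_lit 26], (nat_lit 12955)), ((nat_lit 2392), [nat_lit 8, nat_lit 0, nat_lit 1, nat_lit 2, nat_lit 3, nat_lit 4, nat_lit 7, nat_lit 3, nat_lit 4, nat_lit 8, nat_lit 4, nat_lit 2, nat_lit 3, nat_lit 1], [nat_lit 24, nat_lit 2, nat_lit 18, nat_lit 25], (nat_lit 10342)), ((nat_lit 535), [nat_lit 6, nat_lit 4, nat_lit 3, nat_lit 2, nat_lit 3, nat_lit 1, nat_lit 2, nat_lit 3, nat_lit 4, nat_lit 8, nat_lit 4, nat_lit 3, nat_lit 2, nat_lit 3, nat_lit 1], [nat_lit 34, nat_lit 15, nat_lit 26], (nat_lit 12862)), ((nat_lit 2390), [nat_lit 8, nat_lit 6, nat_lit 4, nat_lit 7, nat_lit 0, nat_lit 1,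 nat_lit 2, nat_lit 3, nat_lit 4, nat_lit 2, nat_lit 3, nat_lit 1], [nat_lit 26, nat_lit 2, nat_lit 34, nat_lit 34, nat_lit 11], (nat_lit 4017)), ((nat_lit 2380), [nat_lit 3, nat_lit 2, nat_lit 3, nat_lit 0, nat_lit 1, nat_lit 2, nat_lit 3, nat_lit 4, nat_lit 8, nat_lit 4, nat_lit 8, nat_lit 3, nat_lit 2, nat_lit 3, nat_lit 1], [nat_lit 24, nat_lit 0, nat_lit 33, nat_lit 24, nat_lit 11, nat_lit 27], (nat_lit 13303)), ((nat_lit 302), [nat_lit 7, nat_lit 4, nat_lit 7, nat_lit 5, nat_lit 0, nat_lit 1, nat_lit 2, nat_lit 3, nat_lit 4, nat_lit 8, nat_lit 3, nat_lit 2, nat_lit 3, nat_lit 1], [nat_lit 37, nat_lit 26], (nat_lit 9233)), ((nat_lit 347), [nat_lit 5, nat_lit 3, nat_lit 1, nat_lit 2, nat_lit 3, nat_lit 4, nat_lit 7, nat_lit 4, nat_lit 1, nat_lit 2, nat_lit 3, nat_lit 0, nat_lit 1], [nat_lit 24, nat_lit 2, nat_lit 25, nat_lit 18, nat_lit 26], (nat_lit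 4767)), ((nat_lit 289), [nat_lit 7, nat_lit 7, nat_lit 3, nat_lit 1, nat_lit 2, nat_lit 3, nat_lit 4, nat_lit 7, nat_lit 1, nat_lit 2, nat_lit 3, nat_lit 0, nat_lit 1], [nat_lit 0, nat_lit 2, nat_lit 32, nat_lit 34, nat_lit 16, nat_lit 26], (nat_lit 4873)), ((nat_lit 292), [nat_lit 8, nat_lit 3, nat_lit 1, nat_lit 2, nat_lit 3, nat_lit 4, nat_lit 7, nat_lit 4, nat_lit 1, nat_lit 2, nat_lit 3, nat_lit 0, nat_lit 1], [nat_lit 1, nat_lit 1, nat_lit 27, nat_lit 36, nat_lit 26], (nat_lit 4768)), ((nat_lit 719), [nat_lit 4, nat_lit 7, nat_lit 3, nat_lit 2, nat_lit 3, nat_lit 4, nat_lit 7, nat_lit 3, nat_lit 2, nat_lit 3, nat_lit 0, nat_lit 1], [nat_lit 16, nat_lit 5, nat_lit 0, nat_lit 24, nat_lit 37, nat_lit 11, nat_lit 26], (nat_lit 3299)), ((nat_lit 804), [nat_lit 5, nat_lit 0, nat_lit 1, nat_lit 2, nat_lit 3, nat_lit 4, nat_lit 7, nat_lit 4, nat_lit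 3, nat_lit 2, nat_lit 3, nat_lit 1], [nat_lit 15, nat_lit 5, nat_lit 37, nat_lit 17, nat_lit 26], (nat_lit 3794)), ((nat_lit 2439), [nat_lit 7, nat_lit 7, nat_lit 1, nat_lit 2, nat_lit 3, nat_lit 4, nat_lit 7, nat_lit 3, nat_lit 4, nat_lit 2, nat_lit 3, nat_lit 1], [nat_lit 5, nat_lit 16, nat_lit 2, nat_lit 24, nat_lit 33, nat_lit 15, nat_lit 27], (nat_lit 4183)), ((nat_lit 653), [nat_lit 4, nat_lit 8, nat_lit 2, nat_lit 3, nat_lit 1, nat_lit 2, nat_lit 3, nat_lit 4, nat_lit 3, nat_lit 2, nat_lit 3, nat_lit 0, nat_lit 1], [nat_lit 17, nat_lit 2, nat_lit 0, nat_lit 15, nat_lit 32, nat_lit 15, nat_lit 26], (nat_lit 4938)), ((nat_lit 742), [nat_lit 4, nat_lit 3, nat_lit 2, nat_lit 3, nat_lit 4, nat_lit 7, nat_lit 2, nat_lit 3, nat_lit 4, nat_lit 3, nat_lit 2, nat_lit 3, nat_lit 1], [nat_lit 5, nat_lit 2, nat_lit 0, nat_lit 35, nat_lit 36, nat_lit 27],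 (nat_lit 5838)), ((nat_lit 1436), [nat_lit 8, nat_lit 2, nat_lit 3, nat_lit 1, nat_lit 2, nat_lit 3, nat_lit 4, nat_lit 3, nat_lit 2, nat_lit 3, nat_lit 0, nat_lit 1], [nat_lit 15, nat_lit 1, nat_lit 32, nat_lit 34, nat_lit 11], (nat_lit 3114)), ((nat_lit 1230), [nat_lit 4, nat_lit 7, nat_lit 3, nat_lit 0, nat_lit 1, nat_lit 2, nat_lit 3, nat_lit 4, nat_lit 3, nat_lit 2, nat_lit 3, nat_lit 0, nat_lit 1], [nat_lit 11, nat_lit 5, nat_lit 2, nat_lit 11, nat_lit 18, nat_lit 26], (nat_lit 4925)), ((nat_lit 709), [nat_lit 8, nat_lit 8, nat_lit 2, nat_lit 3, nat_lit 4, nat_lit 7, nat_lit 3, nat_lit 1, nat_lit 2, nat_lit 3, nat_lit 4, nat_lit 7, nat_lit 3, nat_lit 2, nat_lit 3, nat_lit 1], [nat_lit 5, nat_lit 16, nat_lit 2, nat_lit 11, nat_lit 18, nat_lit 26], (nat_lit 16341)), ((nat_lit 795), [nat_lit 5, nat_lit 4, nat_lit 7, nat_lit 3, nat_lit 1, nat_lit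 2, nat_lit 3, nat_lit 4, nat_lit 3, nat_lit 2, nat_lit 3, nat_lit 0, nat_lit 1], [nat_lit 11, nat_lit 5, nat_lit 2, nat_lit 37, nat_lit 17, nat_lit 11, nat_lit 26], (nat_lit 4951)), ((nat_lit 1006), [nat_lit 8, nat_lit 4, nat_lit 8, nat_lit 2, nat_lit 3, nat_lit 4, nat_lit 8, nat_lit 2, nat_lit 3, nat_lit 4, nat_lit 7, nat_lit 2, nat_lit 3, nat_lit 0, nat_lit 1], [nat_lit 26, nat_lit 24, nat_lit 0, nat_lit 35, nat_lit 17, nat_lit 16, nat_lit 27], (nat_lit 12330)), ((nat_lit 1650), [nat_lit 6, nat_lit 7, nat_lit 4, nat_lit 8, nat_lit 4, nat_lit 2, nat_lit 3, nat_lit 2, nat_lit 3, nat_lit 4, nat_lit 8, nat_lit 3, nat_lit 4, nat_lit 2, nat_lit 3, nat_lit 1], [nat_lit 17, nat_lit 2, nat_lit 0, nat_lit 34, nat_lit 16], (nat_lit 16608)), ((nat_lit 1055), [nat_lit 8, nat_lit 4, nat_lit 7, nat_lit 5, nat_lit 2, nat_lit 3, nat_lit 2, nat_lit 3, nat_lit 4,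 nat_lit 8, nat_lit 3, nat_lit 4, nat_lit 2, nat_lit 3, nat_lit 1], [nat_lit 11, nat_lit 2, nat_lit 0, nat_lit 17, nat_lit 17, nat_lit 27], (nat_lit 14032)), ((nat_lit 2432), [nat_lit 7, nat_lit 6, nat_lit 4, nat_lit 8, nat_lit 3, nat_lit 2, nat_lit 3, nat_lit 4, nat_lit 8, nat_lit 3, nat_lit 4, nat_lit 2, nat_lit 3, nat_lit 1], [nat_lit 24, nat_lit 2, nat_lit 0, nat_lit 35, nat_lit 27, nat_lit 15, nat_lit 27], (nat_lit 10130)), ((nat_lit 936), [nat_lit 8, nat_lit 5, nat_lit 4, nat_lit 7, nat_lit 3, nat_lit 4, nat_lit 7, nat_lit 2, nat_lit 3, nat_lit 4, nat_lit 7, nat_lit 4, nat_lit 2, nat_lit 3, nat_lit 1], [nat_lit 24, nat_lit 16, nat_lit 0, nat_lit 16, nat_lit 24, nat_lit 27], (nat_lit 14256)), ((nat_lit 1331), [nat_lit 6, nat_lit 8, nat_lit 4, nat_lit 8, nat_lit 2, nat_lit 3, nat_lit 4, nat_lit 3, nat_lit 2, nat_lit 3, nat_lit 0, nat_lit 1], [nat_lit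 24, nat_lit 2, nat_lit 11, nat_lit 18], (nat_lit 3149)), ((nat_lit 1795), [nat_lit 7, nat_lit 1, nat_lit 2, nat_lit 3, nat_lit 4, nat_lit 8, nat_lit 1, nat_lit 2, nat_lit 3, nat_lit 4, nat_lit 8, nat_lit 2, nat_lit 3, nat_lit 0, nat_lit 1], [nat_lit 2, nat_lit 0, nat_lit 27, nat_lit 15, nat_lit 11], (nat_lit 12057)), ((nat_lit 2476), [nat_lit 6, nat_lit 3, nat_lit 4, nat_lit 7, nat_lit 2, nat_lit 3, nat_lit 4, nat_lit 3, nat_lit 2, nat_lit 3, nat_lit 0, nat_lit 1], [nat_lit 25, nat_lit 16, nat_lit 0, nat_lit 27, nat_lit 18], (nat_lit 3151)), ((nat_lit 2389), [nat_lit 5, nat_lit 8, nat_lit 4, nat_lit 7, nat_lit 3, nat_lit 2, nat_lit 3, nat_lit 4, nat_lit 7, nat_lit 3, nat_lit 4, nat_lit 2, nat_lit 3, nat_lit 0, nat_lit 1], [nat_lit 14, nat_lit 36, nat_lit 32, nat_lit 11, nat_lit 26], (nat_lit 11954)), ((nat_lit 2508), [nat_lit 8, nat_lit 3, nat_lit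 4, nat_lit 7, nat_lit 2, nat_lit 3, nat_lit 4, nat_lit 3, nat_lit 2, nat_lit 3, nat_lit 0, nat_lit 1], [nat_lit 16, nat_lit 2, nat_lit 11, nat_lit 15, nat_lit 27], (nat_lit 3153)), ((nat_lit 1658), [nat_lit 3, nat_lit 2, nat_lit 3, nat_lit 4, nat_lit 8, nat_lit 3, nat_lit 4, nat_lit 3, nat_lit 2, nat_lit 3, nat_lit 0, nat_lit 1], [nat_lit 14, nat_lit 15, nat_lit 0, nat_lit 18, nat_lit 36, nat_lit 26], (nat_lit 3159)), ((nat_lit 1617), [nat_lit 6, nat_lit 2, nat_lit 3, nat_lit 4, nat_lit 8, nat_lit 3, nat_lit 4, nat_lit 3, nat_lit 2, nat_lit 3, nat_lit 0, nat_lit 1], [nat_lit 14, nat_lit 24, nat_lit 17, nat_lit 11], (nat_lit 3160)), ((nat_lit 1015), [nat_lit 8, nat_lit 5, nat_lit 4, nat_lit 7, nat_lit 3, nat_lit 4, nat_lit 7, nat_lit 2, nat_lit 3, nat_lit 4, nat_lit 2, nat_lit 3, nat_lit 1], [nat_lit 37, nat_lit 24, nat_lit 11, nat_lit 27], (nat_lit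 6557)), ((nat_lit 921), [nat_lit 7, nat_lit 2, nat_lit 3, nat_lit 4, nat_lit 7, nat_lit 6, nat_lit 2, nat_lit 3, nat_lit 4, nat_lit 7, nat_lit 2, nat_lit 3, nat_lit 1], [nat_lit 2, nat_lit 0, nat_lit 15, nat_lit 24, nat_lit 11, nat_lit 27], (nat_lit 7105)), ((nat_lit 2433), [nat_lit 8, nat_lit 4, nat_lit 7, nat_lit 7, nat_lit 3, nat_lit 2, nat_lit 3, nat_lit 4, nat_lit 8, nat_lit 2, nat_lit 3, nat_lit 4, nat_lit 2, nat_lit 3, nat_lit 1], [nat_lit 5, nat_lit 2, nat_lit 0, nat_lit 35, nat_lit 16, nat_lit 16], (nat_lit 13766)), ((nat_lit 1870), [nat_lit 6, nat_lit 3, nat_lit 4, nat_lit 7, nat_lit 2, nat_lit 3, nat_lit 4, nat_lit 8, nat_lit 1, nat_lit 2, nat_lit 3, nat_lit 4, nat_lit 3, nat_lit 2, nat_lit 3, nat_lit 1], [nat_lit 24, nat_lit 0, nat_lit 35, nat_lit 17, nat_lit 16], (nat_lit 15790)), ((nat_lit 2422), [nat_lit 4, nat_lit 7, nat_lit 0, nat_lit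 1, nat_lit 2, nat_lit 3, nat_lit 4, nat_lit 7, nat_lit 2, nat_lit 3, nat_lit 4, nat_lit 2, nat_lit 3, nat_lit 1], [nat_lit 15, nat_lit 1, nat_lit 16, nat_lit 11], (nat_lit 9934)), ((nat_lit 2246), [nat_lit 7, nat_lit 4, nat_lit 8, nat_lit 5, nat_lit 1, nat_lit 2, nat_lit 3, nat_lit 4, nat_lit 8, nat_lit 1, nat_lit 2, nat_lit 3, nat_lit 0, nat_lit 1], [nat_lit 14, nat_lit 15, nat_lit 0, nat_lit 33, nat_lit 18, nat_lit 11, nat_lit 27], (nat_lit 7448)), ((nat_lit 1301), [nat_lit 7, nat_lit 2, nat_lit 3, nat_lit 4, nat_lit 8, nat_lit 2, nat_lit 3, nat_lit 4, nat_lit 2, nat_lit 3, nat_lit 0, nat_lit 1], [nat_lit 18, nat_lit 15, nat_lit 0, nat_lit 37, nat_lit 15, nat_lit 11], (nat_lit 3374)), ((nat_lit 670), [nat_lit 4, nat_lit 3, nat_lit 1, nat_lit 2, nat_lit 3, nat_lit 4, nat_lit 8, nat_lit 4, nat_lit 3, nat_lit 2, nat_lit 3, nat_lit 0, nat_lit 1], [nat_lit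 26, nat_lit 2, nat_lit 36, nat_lit 18], (nat_lit 5042))] m5_5_13 m5_5_14) = 0 := by decide +kernel
theorem e5_5_15 : dt.run q (fun c => c.edges (SP THn.T THn.Rl (nat_lit 15)) (nat_lit 4429) THn.T.n (nat_lit 5) (nat_lit 5)
  [((nat_lit 2314), [nat_lit 4, nat_lit 7, nat_lit 5, nat_lit 3, nat_lit 2, nat_lit 3, nat_lit 1, nat_lit 2, nat_lit 3, nat_lit 4, nat_lit 7, nat_lit 3, nat_lit 2, nat_lit 3, nat_lit 1], [nat_lit 14, nat_lit 15, nat_lit 0, nat_lit 26], (nat_lit 13377)), ((nat_lit 462), [nat_lit 8, nat_lit 8, nat_lit 4, nat_lit 7, nat_lit 0, nat_lit 1, nat_lit 2, nat_lit 3, nat_lit 4, nat_lit 7, nat_lit 2, nat_lit 3, nat_lit 1], [nat_lit 25, nat_lit 14, nat_lit 0, nat_lit 32, nat_lit 18, nat_lit 11, nat_lit 26], (nat_lit 7048)), ((nat_lit 1566), [nat_lit 3, nat_lit 4, nat_lit 8, nat_lit 2, nat_lit 3, nat_lit 4, nat_lit 8, nat_lit 1, nat_lit 2, nat_lit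 3, nat_lit 4, nat_lit 2, nat_lit 3, nat_lit 1], [nat_lit 14, nat_lit 0, nat_lit 34, nat_lit 16, nat_lit 11, nat_lit 27], (nat_lit 9741)), ((nat_lit 2232), [nat_lit 8, nat_lit 3, nat_lit 4, nat_lit 7, nat_lit 3, nat_lit 4, nat_lit 8, nat_lit 1, nat_lit 2, nat_lit 3, nat_lit 4, nat_lit 8, nat_lit 3, nat_lit 2, nat_lit 3, nat_lit 1], [nat_lit 5, nat_lit 14, nat_lit 18, nat_lit 25, nat_lit 26], (nat_lit 16250)), ((nat_lit 955), [nat_lit 8, nat_lit 4, nat_lit 1, nat_lit 2, nat_lit 3, nat_lit 2, nat_lit 3, nat_lit 4, nat_lit 8, nat_lit 3, nat_lit 4, nat_lit 7, nat_lit 2, nat_lit 3, nat_lit 1], [nat_lit 24, nat_lit 16, nat_lit 0, nat_lit 35, nat_lit 11, nat_lit 27], (nat_lit 14401)), ((nat_lit 1552), [nat_lit 8, nat_lit 2, nat_lit 3, nat_lit 4, nat_lit 8, nat_lit 5, nat_lit 0, nat_lit 1, nat_lit 2, nat_lit 3, nat_lit 4, nat_lit 8, nat_lit 3, nat_lit 2, nat_lit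 3, nat_lit 1], [nat_lit 25, nat_lit 16, nat_lit 0, nat_lit 27, nat_lit 37], (nat_lit 16154)), ((nat_lit 1524), [nat_lit 4, nat_lit 7, nat_lit 6, nat_lit 3, nat_lit 4, nat_lit 8, nat_lit 2, nat_lit 3, nat_lit 4, nat_lit 8, nat_lit 2, nat_lit 3, nat_lit 0, nat_lit 1], [nat_lit 1, nat_lit 5, nat_lit 17, nat_lit 11, nat_lit 17, nat_lit 27], (nat_lit 8461)), ((nat_lit 421), [nat_lit 5, nat_lit 7, nat_lit 2, nat_lit 3, nat_lit 4, nat_lit 8, nat_lit 3, nat_lit 4, nat_lit 1, nat_lit 2, nat_lit 3, nat_lit 0, nat_lit 1], [nat_lit 11, nat_lit 16], (nat_lit 4710)), ((nat_lit 1064), [nat_lit 3, nat_lit 1, nat_lit 2, nat_lit 3, nat_lit 4, nat_lit 8, nat_lit 0, nat_lit 1, nat_lit 2, nat_lit 3, nat_lit 4, nat_lit 7, nat_lit 3, nat_lit 2, nat_lit 3, nat_lit 1], [nat_lit 10, nat_lit 10, nat_lit 0, nat_lit 37, nat_lit 15, nat_lit 27], (nat_lit 16305)), ((nat_lit 1176),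 [nat_lit 8, nat_lit 2, nat_lit 3, nat_lit 4, nat_lit 8, nat_lit 3, nat_lit 2, nat_lit 3, nat_lit 4, nat_lit 8, nat_lit 3, nat_lit 4, nat_lit 2, nat_lit 3, nat_lit 1], [nat_lit 15, nat_lit 1, nat_lit 37, nat_lit 34, nat_lit 25], (nat_lit 14069)), ((nat_lit 1866), [nat_lit 4, nat_lit 7, nat_lit 2, nat_lit 3, nat_lit 4, nat_lit 7, nat_lit 4, nat_lit 3, nat_lit 2, nat_lit 3, nat_lit 0, nat_lit 1], [nat_lit 15, nat_lit 2, nat_lit 24], (nat_lit 3210)), ((nat_lit 2408), [nat_lit 8, nat_lit 4, nat_lit 7, nat_lit 3, nat_lit 4, nat_lit 7, nat_lit 4, nat_lit 3, nat_lit 2, nat_lit 3, nat_lit 0, nat_lit 1], [nat_lit 14, nat_lit 15, nat_lit 0, nat_lit 32, nat_lit 24, nat_lit 26], (nat_lit 3211)), ((nat_lit 2237), [nat_lit 5, nat_lit 7, nat_lit 2, nat_lit 3, nat_lit 4, nat_lit 7, nat_lit 0, nat_lit 1, nat_lit 2, nat_lit 3, nat_lit 4, nat_lit 8, nat_lit 2, nat_lit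 3, nat_lit 1], [nat_lit 5, nat_lit 35, nat_lit 17], (nat_lit 14276)), ((nat_lit 978), [nat_lit 4, nat_lit 8, nat_lit 3, nat_lit 1, nat_lit 2, nat_lit 3, nat_lit 4, nat_lit 8, nat_lit 3, nat_lit 2, nat_lit 3, nat_lit 0, nat_lit 1], [nat_lit 5, nat_lit 14, nat_lit 18, nat_lit 36, nat_lit 11], (nat_lit 5110)), ((nat_lit 2386), [nat_lit 8, nat_lit 2, nat_lit 3, nat_lit 4, nat_lit 7, nat_lit 2, nat_lit 3, nat_lit 4, nat_lit 7, nat_lit 2, nat_lit 3, nat_lit 4, nat_lit 3, nat_lit 2, nat_lit 3, nat_lit 1], [nat_lit 25, nat_lit 16, nat_lit 0, nat_lit 16, nat_lit 16], (nat_lit 15863)), ((nat_lit 2415), [nat_lit 4, nat_lit 7, nat_lit 5, nat_lit 3, nat_lit 2, nat_lit 3, nat_lit 1, nat_lit 2, nat_lit 3, nat_lit 4, nat_lit 8, nat_lit 3, nat_lit 2, nat_lit 3, nat_lit 1], [nat_lit 1, nat_lit 14, nat_lit 36, nat_lit 36, nat_lit 17], (nat_lit 13105)), ((nat_lit 1191),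 [nat_lit 4, nat_lit 7, nat_lit 5, nat_lit 3, nat_lit 4, nat_lit 8, nat_lit 3, nat_lit 4, nat_lit 1, nat_lit 2, nat_lit 3, nat_lit 0, nat_lit 1], [nat_lit 5, nat_lit 16, nat_lit 2, nat_lit 32, nat_lit 34, nat_lit 11, nat_lit 27], (nat_lit 4711)), ((nat_lit 650), [nat_lit 7, nat_lit 4, nat_lit 7, nat_lit 0, nat_lit 1, nat_lit 2, nat_lit 3, nat_lit 4, nat_lit 7, nat_lit 3, nat_lit 2, nat_lit 3, nat_lit 1], [nat_lit 0, nat_lit 25, nat_lit 37, nat_lit 27], (nat_lit 6203)), ((nat_lit 2234), [nat_lit 7, nat_lit 2, nat_lit 3, nat_lit 4, nat_lit 8, nat_lit 2, nat_lit 3, nat_lit 1, nat_lit 2, nat_lit 3, nat_lit 4, nat_lit 3, nat_lit 2, nat_lit 3, nat_lit 0, nat_lit 1], [nat_lit 24, nat_lit 2, nat_lit 32, nat_lit 37, nat_lit 15, nat_lit 27], (nat_lit 14796)), ((nat_lit 868), [nat_lit 7, nat_lit 4, nat_lit 8, nat_lit 3, nat_lit 4, nat_lit 8, nat_lit 2, nat_lit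 3, nat_lit 4, nat_lit 8, nat_lit 2, nat_lit 3, nat_lit 1], [nat_lit 15, nat_lit 0, nat_lit 16, nat_lit 17, nat_lit 15, nat_lit 27], (nat_lit 6951)), ((nat_lit 1685), [nat_lit 7, nat_lit 5, nat_lit 0, nat_lit 1, nat_lit 2, nat_lit 3, nat_lit 4, nat_lit 8, nat_lit 3, nat_lit 1, nat_lit 2, nat_lit 3, nat_lit 0, nat_lit 1], [nat_lit 16, nat_lit 0, nat_lit 27, nat_lit 18, nat_lit 26], (nat_lit 7269)), ((nat_lit 2278), [nat_lit 3, nat_lit 4, nat_lit 8, nat_lit 2, nat_lit 3, nat_lit 4, nat_lit 8, nat_lit 3, nat_lit 2, nat_lit 3, nat_lit 0, nat_lit 1], [nat_lit 25, nat_lit 0, nat_lit 17, nat_lit 15, nat_lit 11], (nat_lit 3245)), ((nat_lit 2400), [nat_lit 4, nat_lit 8, nat_lit 5, nat_lit 2, nat_lit 3, nat_lit 1, nat_lit 2, nat_lit 3, nat_lit 4, nat_lit 8, nat_lit 3, nat_lit 4, nat_lit 2, nat_lit 3, nat_lit 1], [nat_lit 2, nat_lit 33, nat_lit 24, nat_lit 11],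 (nat_lit 13966)), ((nat_lit 2394), [nat_lit 5, nat_lit 7, nat_lit 4, nat_lit 8, nat_lit 3, nat_lit 4, nat_lit 8, nat_lit 2, nat_lit 3, nat_lit 4, nat_lit 7, nat_lit 2, nat_lit 3, nat_lit 1], [nat_lit 1, nat_lit 1, nat_lit 17, nat_lit 15, nat_lit 27], (nat_lit 10804)), ((nat_lit 536), [nat_lit 7, nat_lit 6, nat_lit 4, nat_lit 8, nat_lit 3, nat_lit 4, nat_lit 8, nat_lit 2, nat_lit 3, nat_lit 4, nat_lit 7, nat_lit 2, nat_lit 3, nat_lit 0, nat_lit 1], [nat_lit 16, nat_lit 5, nat_lit 0, nat_lit 33, nat_lit 35, nat_lit 11, nat_lit 26], (nat_lit 12341)), ((nat_lit 2402), [nat_lit 2, nat_lit 3, nat_lit 4, nat_lit 7, nat_lit 4, nat_lit 3, nat_lit 1, nat_lit 2, nat_lit 3, nat_lit 4, nat_lit 7, nat_lit 3, nat_lit 4, nat_lit 2, nat_lit 3, nat_lit 1], [nat_lit 26, nat_lit 24, nat_lit 0, nat_lit 24, nat_lit 35, nat_lit 27], (nat_lit 16633)), ((nat_lit 1471), [nat_lit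 5, nat_lit 4, nat_lit 7, nat_lit 2, nat_lit 3, nat_lit 4, nat_lit 8, nat_lit 3, nat_lit 2, nat_lit 3, nat_lit 0, nat_lit 1], [nat_lit 5, nat_lit 16, nat_lit 2, nat_lit 32, nat_lit 24, nat_lit 11, nat_lit 27], (nat_lit 3251)), ((nat_lit 842), [nat_lit 8, nat_lit 5, nat_lit 4, nat_lit 7, nat_lit 3, nat_lit 2, nat_lit 3, nat_lit 4, nat_lit 7, nat_lit 3, nat_lit 4, nat_lit 2, nat_lit 3, nat_lit 1], [nat_lit 17, nat_lit 36], (nat_lit 10253)), ((nat_lit 2244), [nat_lit 8, nat_lit 4, nat_lit 8, nat_lit 5, nat_lit 3, nat_lit 4, nat_lit 8, nat_lit 3, nat_lit 2, nat_lit 3, nat_lit 0, nat_lit 1], [nat_lit 24, nat_lit 16, nat_lit 0, nat_lit 16, nat_lit 26], (nat_lit 3254)), ((nat_lit 1479), [nat_lit 7, nat_lit 4, nat_lit 8, nat_lit 5, nat_lit 3, nat_lit 4, nat_lit 8, nat_lit 3, nat_lit 2, nat_lit 3, nat_lit 0, nat_lit 1], [nat_lit 16, nat_lit 5, nat_lit 0, nat_lit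 36, nat_lit 25, nat_lit 26], (nat_lit 3255)), ((nat_lit 2301), [nat_lit 7, nat_lit 5, nat_lit 2, nat_lit 3, nat_lit 4, nat_lit 8, nat_lit 3, nat_lit 4, nat_lit 3, nat_lit 2, nat_lit 3, nat_lit 1], [nat_lit 11, nat_lit 2, nat_lit 0, nat_lit 25, nat_lit 18, nat_lit 26], (nat_lit 3743)), ((nat_lit 1674), [nat_lit 6, nat_lit 8, nat_lit 4, nat_lit 8, nat_lit 3, nat_lit 4, nat_lit 8, nat_lit 3, nat_lit 2, nat_lit 3, nat_lit 0, nat_lit 1], [nat_lit 14, nat_lit 0, nat_lit 18, nat_lit 25, nat_lit 26], (nat_lit 3258)), ((nat_lit 2426), [nat_lit 1, nat_lit 2, nat_lit 3, nat_lit 4, nat_lit 8, nat_lit 2, nat_lit 3, nat_lit 4, nat_lit 7, nat_lit 3, nat_lit 4, nat_lit 2, nat_lit 3, nat_lit 1], [nat_lit 26, nat_lit 2, nat_lit 15, nat_lit 35, nat_lit 11, nat_lit 26], (nat_lit 10262)), ((nat_lit 1051), [nat_lit 4, nat_lit 8, nat_lit 4, nat_lit 8, nat_lit 6, nat_lit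 3, nat_lit 4, nat_lit 8, nat_lit 2, nat_lit 3, nat_lit 4, nat_lit 8, nat_lit 2, nat_lit 3, nat_lit 1], [nat_lit 26, nat_lit 2, nat_lit 0, nat_lit 34, nat_lit 32, nat_lit 16, nat_lit 27], (nat_lit 14383)), ((nat_lit 1832), [nat_lit 8, nat_lit 4, nat_lit 8, nat_lit 8, nat_lit 3, nat_lit 4, nat_lit 8, nat_lit 3, nat_lit 2, nat_lit 3, nat_lit 0, nat_lit 1], [nat_lit 17, nat_lit 24, nat_lit 0, nat_lit 37, nat_lit 18, nat_lit 27], (nat_lit 3262)), ((nat_lit 1487), [nat_lit 0, nat_lit 1, nat_lit 2, nat_lit 3, nat_lit 4, nat_lit 8, nat_lit 4, nat_lit 8, nat_lit 3, nat_lit 1, nat_lit 2, nat_lit 3, nat_lit 0, nat_lit 1], [nat_lit 0, nat_lit 33, nat_lit 27], (nat_lit 7308)), ((nat_lit 1711), [nat_lit 7, nat_lit 3, nat_lit 4, nat_lit 7, nat_lit 3, nat_lit 4, nat_lit 8, nat_lit 3, nat_lit 2, nat_lit 3, nat_lit 0, nat_lit 1], [nat_lit 15, nat_lit 1, nat_lit 35,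 nat_lit 17, nat_lit 26], (nat_lit 3265)), ((nat_lit 973), [nat_lit 8, nat_lit 5, nat_lit 4, nat_lit 7, nat_lit 3, nat_lit 4, nat_lit 8, nat_lit 3, nat_lit 2, nat_lit 3, nat_lit 0, nat_lit 1], [nat_lit 15, nat_lit 0, nat_lit 18, nat_lit 25], (nat_lit 3267)), ((nat_lit 2399), [nat_lit 5, nat_lit 8, nat_lit 4, nat_lit 7, nat_lit 3, nat_lit 4, nat_lit 8, nat_lit 3, nat_lit 2, nat_lit 3, nat_lit 0, nat_lit 1], [nat_lit 24, nat_lit 15, nat_lit 0, nat_lit 37, nat_lit 33, nat_lit 11, nat_lit 26], (nat_lit 3268)), ((nat_lit 1113), [nat_lit 6, nat_lit 7, nat_lit 4, nat_lit 7, nat_lit 2, nat_lit 3, nat_lit 2, nat_lit 3, nat_lit 4, nat_lit 7, nat_lit 3, nat_lit 4, nat_lit 3, nat_lit 2, nat_lit 3, nat_lit 1], [nat_lit 25, nat_lit 16, nat_lit 0, nat_lit 32, nat_lit 11, nat_lit 27], (nat_lit 15969)), ((nat_lit 1004), [nat_lit 7, nat_lit 4, nat_lit 3, nat_lit 2,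 nat_lit 3, nat_lit 4, nat_lit 8, nat_lit 3, nat_lit 4, nat_lit 3, nat_lit 2, nat_lit 3, nat_lit 1], [nat_lit 15, nat_lit 0, nat_lit 24, nat_lit 15, nat_lit 27], (nat_lit 5877)), ((nat_lit 1769), [nat_lit 3, nat_lit 4, nat_lit 7, nat_lit 2, nat_lit 3, nat_lit 4, nat_lit 8, nat_lit 4, nat_lit 3, nat_lit 1, nat_lit 2, nat_lit 3, nat_lit 0, nat_lit 1], [nat_lit 25, nat_lit 1, nat_lit 37, nat_lit 34, nat_lit 25, nat_lit 26], (nat_lit 7254)), ((nat_lit 2388), [nat_lit 8, nat_lit 0, nat_lit 1, nat_lit 2, nat_lit 3, nat_lit 4, nat_lit 8, nat_lit 3, nat_lit 4, nat_lit 7, nat_lit 2, nat_lit 3, nat_lit 1], [nat_lit 26, nat_lit 2, nat_lit 25, nat_lit 11, nat_lit 27], (nat_lit 7191)), ((nat_lit 1986), [nat_lit 8, nat_lit 4, nat_lit 3, nat_lit 2, nat_lit 3, nat_lit 4, nat_lit 8, nat_lit 4, nat_lit 8, nat_lit 3, nat_lit 4, nat_lit 2, nat_lit 3, nat_lit 1], [nat_lit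 24, nat_lit 1, nat_lit 33, nat_lit 18], (nat_lit 10167)), ((nat_lit 2464), [nat_lit 3, nat_lit 4, nat_lit 8, nat_lit 2, nat_lit 3, nat_lit 4, nat_lit 7, nat_lit 3, nat_lit 2, nat_lit 3, nat_lit 0, nat_lit 1], [nat_lit 26, nat_lit 2, nat_lit 0, nat_lit 16, nat_lit 17, nat_lit 15, nat_lit 27], (nat_lit 3305)), ((nat_lit 2465), [nat_lit 8, nat_lit 6, nat_lit 4, nat_lit 7, nat_lit 2, nat_lit 3, nat_lit 2, nat_lit 3, nat_lit 4, nat_lit 8, nat_lit 3, nat_lit 4, nat_lit 2, nat_lit 3, nat_lit 1], [nat_lit 25, nat_lit 2, nat_lit 0, nat_lit 37, nat_lit 32, nat_lit 11], (nat_lit 14046)), ((nat_lit 1932), [nat_lit 5, nat_lit 4, nat_lit 8, nat_lit 2, nat_lit 3, nat_lit 4, nat_lit 7, nat_lit 3, nat_lit 2, nat_lit 3, nat_lit 0, nat_lit 1], [nat_lit 25, nat_lit 14, nat_lit 0, nat_lit 37, nat_lit 15, nat_lit 26], (nat_lit 3307)), ((nat_lit 1058), [nat_lit 4, nat_lit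 7, nat_lit 4, nat_lit 7, nat_lit 3, nat_lit 4, nat_lit 7, nat_lit 2, nat_lit 3, nat_lit 4, nat_lit 8, nat_lit 3, nat_lit 2, nat_lit 3, nat_lit 1], [nat_lit 16, nat_lit 5, nat_lit 2, nat_lit 17, nat_lit 17, nat_lit 26], (nat_lit 13283)), ((nat_lit 2396), [nat_lit 3, nat_lit 4, nat_lit 8, nat_lit 2, nat_lit 3, nat_lit 0, nat_lit 1, nat_lit 2, nat_lit 3, nat_lit 4, nat_lit 3, nat_lit 2, nat_lit 3, nat_lit 1], [nat_lit 16, nat_lit 2, nat_lit 24, nat_lit 18, nat_lit 18], (nat_lit 8686)), ((nat_lit 681), [nat_lit 4, nat_lit 8, nat_lit 8, nat_lit 2, nat_lit 3, nat_lit 4, nat_lit 7, nat_lit 3, nat_lit 2, nat_lit 3, nat_lit 0, nat_lit 1], [nat_lit 24, nat_lit 2, nat_lit 0, nat_lit 37, nat_lit 15, nat_lit 27], (nat_lit 3310)), ((nat_lit 537), [nat_lit 1, nat_lit 2, nat_lit 3, nat_lit 4, nat_lit 8, nat_lit 3, nat_lit 0, nat_lit 1, nat_lit 2, nat_lit 3, nat_lit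 4, nat_lit 7, nat_lit 3, nat_lit 2, nat_lit 3, nat_lit 0, nat_lit 1], [nat_lit 24, nat_lit 0, nat_lit 35, nat_lit 15], (nat_lit 16942)), ((nat_lit 2143), [nat_lit 6, nat_lit 4, nat_lit 3, nat_lit 1, nat_lit 2, nat_lit 3, nat_lit 4, nat_lit 8, nat_lit 3, nat_lit 4, nat_lit 3, nat_lit 2, nat_lit 3, nat_lit 1], [nat_lit 11, nat_lit 2, nat_lit 0, nat_lit 25, nat_lit 36, nat_lit 11, nat_lit 27], (nat_lit 8948)), ((nat_lit 1540), [nat_lit 3, nat_lit 4, nat_lit 8, nat_lit 0, nat_lit 1, nat_lit 2, nat_lit 3, nat_lit 4, nat_lit 7, nat_lit 3, nat_lit 1, nat_lit 2, nat_lit 3, nat_lit 0, nat_lit 1], [nat_lit 16, nat_lit 5, nat_lit 0, nat_lit 37, nat_lit 27], (nat_lit 10970)), ((nat_lit 2072), [nat_lit 6, nat_lit 7, nat_lit 4, nat_lit 7, nat_lit 3, nat_lit 4, nat_lit 8, nat_lit 2, nat_lit 3, nat_lit 4, nat_lit 8, nat_lit 3, nat_lit 2, nat_lit 3, nat_lit 1], [nat_lit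 18, nat_lit 15, nat_lit 0, nat_lit 35, nat_lit 26], (nat_lit 13270)), ((nat_lit 1136), [nat_lit 4, nat_lit 8, nat_lit 5, nat_lit 2, nat_lit 3, nat_lit 4, nat_lit 8, nat_lit 2, nat_lit 3, nat_lit 4, nat_lit 2, nat_lit 3, nat_lit 0, nat_lit 1], [nat_lit 24, nat_lit 16, nat_lit 0, nat_lit 35, nat_lit 27, nat_lit 15, nat_lit 26], (nat_lit 8128)), ((nat_lit 1517), [nat_lit 4, nat_lit 8, nat_lit 8, nat_lit 2, nat_lit 3, nat_lit 4, nat_lit 8, nat_lit 1, nat_lit 2, nat_lit 3, nat_lit 4, nat_lit 7, nat_lit 2, nat_lit 3, nat_lit 0, nat_lit 1], [nat_lit 26, nat_lit 2, nat_lit 33, nat_lit 16, nat_lit 26], (nat_lit 15592)), ((nat_lit 2430), [nat_lit 3, nat_lit 4, nat_lit 7, nat_lit 5, nat_lit 2, nat_lit 3, nat_lit 4, nat_lit 7, nat_lit 2, nat_lit 3, nat_lit 4, nat_lit 2, nat_lit 3, nat_lit 0, nat_lit 1], [nat_lit 24, nat_lit 0, nat_lit 37, nat_lit 11, nat_lit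 17], (nat_lit 11850)), ((nat_lit 596), [nat_lit 8, nat_lit 3, nat_lit 4, nat_lit 8, nat_lit 2, nat_lit 3, nat_lit 4, nat_lit 7, nat_lit 2, nat_lit 3, nat_lit 0, nat_lit 1], [nat_lit 16, nat_lit 5, nat_lit 2, nat_lit 33, nat_lit 33, nat_lit 27], (nat_lit 3588)), ((nat_lit 602), [nat_lit 6, nat_lit 7, nat_lit 4, nat_lit 7, nat_lit 2, nat_lit 3, nat_lit 4, nat_lit 7, nat_lit 3, nat_lit 2, nat_lit 3, nat_lit 1], [nat_lit 0, nat_lit 32, nat_lit 32, nat_lit 26], (nat_lit 3989)), ((nat_lit 2395), [nat_lit 8, nat_lit 6, nat_lit 1, nat_lit 2, nat_lit 3, nat_lit 4, nat_lit 8, nat_lit 2, nat_lit 3, nat_lit 4, nat_lit 7, nat_lit 3, nat_lit 2, nat_lit 3, nat_lit 1], [nat_lit 15, nat_lit 1, nat_lit 15, nat_lit 27], (nat_lit 13511)), ((nat_lit 1639), [nat_lit 7, nat_lit 7, nat_lit 4, nat_lit 8, nat_lit 3, nat_lit 4, nat_lit 7, nat_lit 3, nat_lit 2, nat_lit 3, nat_lit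 0, nat_lit 1], [nat_lit 25, nat_lit 16, nat_lit 0, nat_lit 35, nat_lit 36, nat_lit 11], (nat_lit 3324)), ((nat_lit 2406), [nat_lit 8, nat_lit 4, nat_lit 8, nat_lit 8, nat_lit 3, nat_lit 4, nat_lit 7, nat_lit 3, nat_lit 2, nat_lit 3, nat_lit 0, nat_lit 1], [nat_lit 25, nat_lit 16, nat_lit 0, nat_lit 34, nat_lit 37, nat_lit 11], (nat_lit 3325)), ((nat_lit 1411), [nat_lit 8, nat_lit 5, nat_lit 4, nat_lit 7, nat_lit 3, nat_lit 4, nat_lit 7, nat_lit 3, nat_lit 2, nat_lit 3, nat_lit 0, nat_lit 1], [nat_lit 5, nat_lit 2, nat_lit 0, nat_lit 36, nat_lit 32, nat_lit 11, nat_lit 27], (nat_lit 3326)), ((nat_lit 1643), [nat_lit 2, nat_lit 3, nat_lit 4, nat_lit 7, nat_lit 2, nat_lit 3, nat_lit 4, nat_lit 7, nat_lit 2, nat_lit 3, nat_lit 4, nat_lit 7, nat_lit 3, nat_lit 2, nat_lit 3, nat_lit 1], [nat_lit 25, nat_lit 0, nat_lit 36, nat_lit 24, nat_lit 15, nat_lit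 26], (nat_lit 16398)), ((nat_lit 995), [nat_lit 7, nat_lit 6, nat_lit 4, nat_lit 3, nat_lit 1, nat_lit 2, nat_lit 3, nat_lit 4, nat_lit 7, nat_lit 4, nat_lit 3, nat_lit 2, nat_lit 3, nat_lit 1], [nat_lit 25, nat_lit 2, nat_lit 0, nat_lit 36, nat_lit 32, nat_lit 11, nat_lit 26], (nat_lit 9156)), ((nat_lit 476), [nat_lit 7, nat_lit 7, nat_lit 4, nat_lit 3, nat_lit 0, nat_lit 1, nat_lit 2, nat_lit 3, nat_lit 4, nat_lit 7, nat_lit 4, nat_lit 3, nat_lit 2, nat_lit 3, nat_lit 1], [nat_lit 14], (nat_lit 12941)), ((nat_lit 1652), [nat_lit 8, nat_lit 3, nat_lit 4, nat_lit 7, nat_lit 3, nat_lit 0, nat_lit 1, nat_lit 2, nat_lit 3, nat_lit 4, nat_lit 3, nat_lit 2, nat_lit 3, nat_lit 1], [nat_lit 26, nat_lit 2, nat_lit 11, nat_lit 37, nat_lit 26], (nat_lit 8712)), ((nat_lit 2479), [nat_lit 5, nat_lit 8, nat_lit 2, nat_lit 3, nat_lit 4, nat_lit 7, nat_lit 0, nat_lit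 1, nat_lit 2, nat_lit 3, nat_lit 4, nat_lit 2, nat_lit 3, nat_lit 1], [nat_lit 24, nat_lit 2, nat_lit 0, nat_lit 33, nat_lit 24, nat_lit 26], (nat_lit 9712)), ((nat_lit 545), [nat_lit 8, nat_lit 3, nat_lit 4, nat_lit 7, nat_lit 2, nat_lit 3, nat_lit 4, nat_lit 8, nat_lit 3, nat_lit 2, nat_lit 3, nat_lit 1], [nat_lit 25, nat_lit 2, nat_lit 0, nat_lit 16, nat_lit 18, nat_lit 15, nat_lit 26], (nat_lit 3895)), ((nat_lit 1463), [nat_lit 5, nat_lit 8, nat_lit 3, nat_lit 4, nat_lit 7, nat_lit 3, nat_lit 0, nat_lit 1, nat_lit 2, nat_lit 3, nat_lit 4, nat_lit 3, nat_lit 2, nat_lit 3, nat_lit 1], [nat_lit 24, nat_lit 2, nat_lit 17, nat_lit 33, nat_lit 26], (nat_lit 12429)), ((nat_lit 1446), [nat_lit 4, nat_lit 3, nat_lit 1, nat_lit 2, nat_lit 3, nat_lit 4, nat_lit 8, nat_lit 1, nat_lit 2, nat_lit 3, nat_lit 4, nat_lit 8, nat_lit 3, nat_lit 2, nat_lit 3, nat_lit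 1], [nat_lit 14, nat_lit 37, nat_lit 34, nat_lit 27], (nat_lit 16230)), ((nat_lit 2491), [nat_lit 8, nat_lit 8, nat_lit 3, nat_lit 4, nat_lit 8, nat_lit 2, nat_lit 3, nat_lit 4, nat_lit 7, nat_lit 2, nat_lit 3, nat_lit 1], [nat_lit 14, nat_lit 33, nat_lit 16, nat_lit 11, nat_lit 27], (nat_lit 4476)), ((nat_lit 847), [nat_lit 7, nat_lit 4, nat_lit 2, nat_lit 3, nat_lit 1, nat_lit 2, nat_lit 3, nat_lit 4, nat_lit 7, nat_lit 4, nat_lit 7, nat_lit 3, nat_lit 4, nat_lit 2, nat_lit 3, nat_lit 1], [nat_lit 1, nat_lit 14, nat_lit 15, nat_lit 32, nat_lit 27], (nat_lit 16646)), ((nat_lit 1219), [nat_lit 8, nat_lit 1, nat_lit 2, nat_lit 3, nat_lit 4, nat_lit 7, nat_lit 0, nat_lit 1, nat_lit 2, nat_lit 3, nat_lit 4, nat_lit 2, nat_lit 3, nat_lit 0, nat_lit 1], [nat_lit 1, nat_lit 14, nat_lit 24, nat_lit 36], (nat_lit 11695)), ((nat_lit 1833), [nat_lit 4, nat_lit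 8, nat_lit 4, nat_lit 8, nat_lit 3, nat_lit 4, nat_lit 8, nat_lit 2, nat_lit 3, nat_lit 1, nat_lit 2, nat_lit 3, nat_lit 4, nat_lit 3, nat_lit 2, nat_lit 3, nat_lit 1], [nat_lit 15, nat_lit 0, nat_lit 36, nat_lit 24, nat_lit 15], (nat_lit 17077)), ((nat_lit 2520), [nat_lit 8, nat_lit 4, nat_lit 7, nat_lit 1, nat_lit 2, nat_lit 3, nat_lit 4, nat_lit 7, nat_lit 1, nat_lit 2, nat_lit 3, nat_lit 4, nat_lit 7, nat_lit 2, nat_lit 3, nat_lit 1], [nat_lit 11, nat_lit 5, nat_lit 2, nat_lit 11, nat_lit 17], (nat_lit 16796)), ((nat_lit 2243), [nat_lit 4, nat_lit 8, nat_lit 6, nat_lit 2, nat_lit 3, nat_lit 1, nat_lit 2, nat_lit 3, nat_lit 4, nat_lit 7, nat_lit 3, nat_lit 4, nat_lit 2, nat_lit 3, nat_lit 0, nat_lit 1], [nat_lit 15, nat_lit 2, nat_lit 25, nat_lit 15, nat_lit 26], (nat_lit 15360)), ((nat_lit 1707), [nat_lit 7, nat_lit 1, nat_lit 2, nat_lit 3, nat_lit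 4, nat_lit 7, nat_lit 0, nat_lit 1, nat_lit 2, nat_lit 3, nat_lit 4, nat_lit 2, nat_lit 3, nat_lit 0, nat_lit 1], [nat_lit 24, nat_lit 15, nat_lit 0, nat_lit 24, nat_lit 37, nat_lit 11], (nat_lit 11696)), ((nat_lit 1405), [nat_lit 6, nat_lit 4, nat_lit 8, nat_lit 1, nat_lit 2, nat_lit 3, nat_lit 4, nat_lit 8, nat_lit 2, nat_lit 3, nat_lit 4, nat_lit 2, nat_lit 3, nat_lit 1], [nat_lit 16, nat_lit 0, nat_lit 34, nat_lit 32, nat_lit 16, nat_lit 27], (nat_lit 9855)), ((nat_lit 1396), [nat_lit 4, nat_lit 8, nat_lit 3, nat_lit 4, nat_lit 7, nat_lit 2, nat_lit 3, nat_lit 4, nat_lit 7, nat_lit 3, nat_lit 2, nat_lit 3, nat_lit 0, nat_lit 1], [nat_lit 15, nat_lit 1, nat_lit 27, nat_lit 24, nat_lit 11, nat_lit 26], (nat_lit 8017)), ((nat_lit 1160), [nat_lit 8, nat_lit 3, nat_lit 2, nat_lit 3, nat_lit 4, nat_lit 8, nat_lit 3, nat_lit 4, nat_lit 2, nat_lit 3,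 nat_lit 0, nat_lit 1], [nat_lit 15, nat_lit 2, nat_lit 24, nat_lit 36, nat_lit 11, nat_lit 26], (nat_lit 3408)), ((nat_lit 1023), [nat_lit 7, nat_lit 3, nat_lit 2, nat_lit 3, nat_lit 4, nat_lit 8, nat_lit 3, nat_lit 4, nat_lit 3, nat_lit 2, nat_lit 3, nat_lit 1], [nat_lit 17, nat_lit 24, nat_lit 0, nat_lit 26, nat_lit 34, nat_lit 26], (nat_lit 3742)), ((nat_lit 2368), [nat_lit 8, nat_lit 5, nat_lit 2, nat_lit 3, nat_lit 4, nat_lit 8, nat_lit 3, nat_lit 4, nat_lit 2, nat_lit 3, nat_lit 0, nat_lit 1], [nat_lit 26, nat_lit 2, nat_lit 26, nat_lit 36, nat_lit 26], (nat_lit 3411))] m5_5_14 m5_5_15) = 0 := by decide +kernel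
theorem e5_5_16 : dt.run q (fun c => c.edges (SP THn.T THn.Rl (nat_lit 15)) (nat_lit 4429) THn.T.n (nat_lit 5) (nat_lit 5)
  [((nat_lit 1258), [nat_lit 4, nat_lit 7, nat_lit 5, nat_lit 0, nat_lit 1, nat_lit 2, nat_lit 3, nat_lit 4, nat_lit 8, nat_lit 3, nat_lit 4, nat_lit 1, nat_lit 2, nat_lit 3, nat_lit 0, nat_lit 1], [nat_lit 25, nat_lit 0, nat_lit 33, nat_lit 18, nat_lit 11, nat_lit 27], (nat_lit 14734)), ((nat_lit 1337), [nat_lit 3, nat_lit 1, nat_lit 2, nat_lit 3, nat_lit 4, nat_lit 7, nat_lit 3, nat_lit 4, nat_lit 8, nat_lit 3, nat_lit 2, nat_lit 3, nat_lit 0, nat_lit 1], [nat_lit 1, nat_lit 34, nat_lit 25, nat_lit 11], (nat_lit 7894)), ((nat_lit 1935), [nat_lit 6, nat_lit 8, nat_lit 2, nat_lit 3, nat_lit 4, nat_lit 8, nat_lit 3, nat_lit 4, nat_lit 2, nat_lit 3, nat_lit 0, nat_lit 1], [nat_lit 26, nat_lit 24, nat_lit 0, nat_lit 37, nat_lit 34,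 nat_lit 27], (nat_lit 3414)), ((nat_lit 480), [nat_lit 6, nat_lit 1, nat_lit 2, nat_lit 3, nat_lit 4, nat_lit 7, nat_lit 3, nat_lit 2, nat_lit 3, nat_lit 4, nat_lit 8, nat_lit 3, nat_lit 2, nat_lit 3, nat_lit 1], [nat_lit 14, nat_lit 24, nat_lit 37, nat_lit 17, nat_lit 27], (nat_lit 13222)), ((nat_lit 1825), [nat_lit 7, nat_lit 4, nat_lit 3, nat_lit 1, nat_lit 2, nat_lit 3, nat_lit 4, nat_lit 8, nat_lit 2, nat_lit 3, nat_lit 4, nat_lit 3, nat_lit 2, nat_lit 3, nat_lit 1], [nat_lit 16, nat_lit 0, nat_lit 15, nat_lit 35], (nat_lit 12611)), ((nat_lit 2427), [nat_lit 3, nat_lit 4, nat_lit 7, nat_lit 3, nat_lit 4, nat_lit 8, nat_lit 3, nat_lit 4, nat_lit 2, nat_lit 3, nat_lit 0, nat_lit 1], [nat_lit 18, nat_lit 15, nat_lit 0, nat_lit 15, nat_lit 35], (nat_lit 3420)), ((nat_lit 606), [nat_lit 7, nat_lit 4, nat_lit 7, nat_lit 3, nat_lit 4, nat_lit 7, nat_lit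 0, nat_lit 1, nat_lit 2, nat_lit 3, nat_lit 4, nat_lit 3, nat_lit 2, nat_lit 3, nat_lit 0, nat_lit 1], [nat_lit 1, nat_lit 14, nat_lit 36, nat_lit 11], (nat_lit 14795)), ((nat_lit 2487), [nat_lit 3, nat_lit 4, nat_lit 8, nat_lit 3, nat_lit 2, nat_lit 3, nat_lit 4, nat_lit 8, nat_lit 3, nat_lit 4, nat_lit 2, nat_lit 3, nat_lit 1], [nat_lit 5, nat_lit 14, nat_lit 34, nat_lit 24, nat_lit 17, nat_lit 26], (nat_lit 6631)), ((nat_lit 1080), [nat_lit 2, nat_lit 3, nat_lit 4, nat_lit 8, nat_lit 0, nat_lit 1, nat_lit 2, nat_lit 3, nat_lit 4, nat_lit 7, nat_lit 3, nat_lit 4, nat_lit 2, nat_lit 3, nat_lit 1], [nat_lit 26, nat_lit 16, nat_lit 11, nat_lit 26], (nat_lit 14105)), ((nat_lit 1244), [nat_lit 3, nat_lit 4, nat_lit 8, nat_lit 3, nat_lit 2, nat_lit 3, nat_lit 4, nat_lit 7, nat_lit 3, nat_lit 4, nat_lit 2, nat_lit 3, nat_lit 1], [nat_lit 5, nat_lit 33,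 nat_lit 36, nat_lit 27], (nat_lit 6710)), ((nat_lit 1865), [nat_lit 4, nat_lit 7, nat_lit 6, nat_lit 2, nat_lit 3, nat_lit 4, nat_lit 7, nat_lit 2, nat_lit 3, nat_lit 4, nat_lit 8, nat_lit 3, nat_lit 2, nat_lit 3, nat_lit 1], [nat_lit 10, nat_lit 10, nat_lit 0, nat_lit 15, nat_lit 24, nat_lit 11, nat_lit 27], (nat_lit 13277)), ((nat_lit 1465), [nat_lit 8, nat_lit 2, nat_lit 3, nat_lit 4, nat_lit 7, nat_lit 3, nat_lit 4, nat_lit 8, nat_lit 4, nat_lit 2, nat_lit 3, nat_lit 0, nat_lit 1], [nat_lit 16, nat_lit 5, nat_lit 0, nat_lit 16, nat_lit 11], (nat_lit 5457)), ((nat_lit 663), [nat_lit 6, nat_lit 8, nat_lit 2, nat_lit 3, nat_lit 4, nat_lit 7, nat_lit 3, nat_lit 4, nat_lit 2, nat_lit 3, nat_lit 0, nat_lit 1], [nat_lit 26, nat_lit 24, nat_lit 0, nat_lit 33, nat_lit 37, nat_lit 11, nat_lit 27], (nat_lit 3436)), ((nat_lit 820), [nat_lit 8, nat_lit 8,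 nat_lit 4, nat_lit 7, nat_lit 1, nat_lit 2, nat_lit 3, nat_lit 4, nat_lit 7, nat_lit 1, nat_lit 2, nat_lit 3, nat_lit 4, nat_lit 2, nat_lit 3, nat_lit 1], [nat_lit 2, nat_lit 36, nat_lit 15, nat_lit 26], (nat_lit 16453)), ((nat_lit 1363), [nat_lit 3, nat_lit 4, nat_lit 7, nat_lit 2, nat_lit 3, nat_lit 4, nat_lit 7, nat_lit 1, nat_lit 2, nat_lit 3, nat_lit 4, nat_lit 2, nat_lit 3, nat_lit 0, nat_lit 1], [nat_lit 26, nat_lit 2, nat_lit 0, nat_lit 11, nat_lit 27], (nat_lit 11770)), ((nat_lit 1905), [nat_lit 3, nat_lit 4, nat_lit 8, nat_lit 8, nat_lit 3, nat_lit 1, nat_lit 2, nat_lit 3, nat_lit 4, nat_lit 7, nat_lit 3, nat_lit 2, nat_lit 3, nat_lit 1], [nat_lit 18, nat_lit 15, nat_lit 0, nat_lit 34, nat_lit 17, nat_lit 33, nat_lit 26], (nat_lit 9536)), ((nat_lit 1033), [nat_lit 5, nat_lit 3, nat_lit 4, nat_lit 7, nat_lit 0, nat_lit 1, nat_lit 2, nat_lit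 3, nat_lit 4, nat_lit 8, nat_lit 3, nat_lit 2, nat_lit 3, nat_lit 0, nat_lit 1], [nat_lit 24, nat_lit 2, nat_lit 0, nat_lit 35, nat_lit 35, nat_lit 27], (nat_lit 11406)), ((nat_lit 1182), [nat_lit 7, nat_lit 2, nat_lit 3, nat_lit 4, nat_lit 7, nat_lit 2, nat_lit 3, nat_lit 4, nat_lit 8, nat_lit 2, nat_lit 3, nat_lit 1], [nat_lit 11, nat_lit 5, nat_lit 2, nat_lit 34, nat_lit 32, nat_lit 27], (nat_lit 4375)), ((nat_lit 961), [nat_lit 1, nat_lit 2, nat_lit 3, nat_lit 4, nat_lit 7, nat_lit 5, nat_lit 2, nat_lit 3, nat_lit 4, nat_lit 7, nat_lit 3, nat_lit 2, nat_lit 3, nat_lit 0, nat_lit 1], [nat_lit 25, nat_lit 16, nat_lit 0, nat_lit 15, nat_lit 15, nat_lit 15, nat_lit 26], (nat_lit 11638)), ((nat_lit 2383), [nat_lit 5, nat_lit 7, nat_lit 4, nat_lit 7, nat_lit 0, nat_lit 1, nat_lit 2, nat_lit 3, nat_lit 4, nat_lit 7, nat_lit 1, nat_lit 2, nat_lit 3, nat_lit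 0, nat_lit 1], [nat_lit 11, nat_lit 2, nat_lit 0, nat_lit 37, nat_lit 27], (nat_lit 11089)), ((nat_lit 1757), [nat_lit 6, nat_lit 7, nat_lit 4, nat_lit 8, nat_lit 3, nat_lit 4, nat_lit 8, nat_lit 4, nat_lit 2, nat_lit 3, nat_lit 0, nat_lit 1], [nat_lit 24, nat_lit 15, nat_lit 0, nat_lit 33, nat_lit 35, nat_lit 27], (nat_lit 3463)), ((nat_lit 1663), [nat_lit 8, nat_lit 3, nat_lit 4, nat_lit 8, nat_lit 6, nat_lit 0, nat_lit 1, nat_lit 2, nat_lit 3, nat_lit 4, nat_lit 8, nat_lit 2, nat_lit 3, nat_lit 0, nat_lit 1], [nat_lit 2, nat_lit 0, nat_lit 16, nat_lit 18, nat_lit 15], (nat_lit 12014)), ((nat_lit 1951), [nat_lit 7, nat_lit 4, nat_lit 7, nat_lit 5, nat_lit 2, nat_lit 3, nat_lit 1, nat_lit 2, nat_lit 3, nat_lit 4, nat_lit 8, nat_lit 3, nat_lit 4, nat_lit 2, nat_lit 3, nat_lit 1], [nat_lit 0, nat_lit 2, nat_lit 25, nat_lit 37, nat_lit 11], (nat_lit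 16590)), ((nat_lit 951), [nat_lit 8, nat_lit 4, nat_lit 8, nat_lit 6, nat_lit 2, nat_lit 3, nat_lit 4, nat_lit 8, nat_lit 2, nat_lit 3, nat_lit 0, nat_lit 1], [nat_lit 15, nat_lit 5, nat_lit 37, nat_lit 34, nat_lit 27], (nat_lit 3505)), ((nat_lit 2259), [nat_lit 5, nat_lit 2, nat_lit 3, nat_lit 1, nat_lit 2, nat_lit 3, nat_lit 4, nat_lit 7, nat_lit 2, nat_lit 3, nat_lit 4, nat_lit 3, nat_lit 2, nat_lit 3, nat_lit 1], [nat_lit 16, nat_lit 2, nat_lit 17, nat_lit 16], (nat_lit 12654)), ((nat_lit 1107), [nat_lit 7, nat_lit 4, nat_lit 8, nat_lit 5, nat_lit 2, nat_lit 3, nat_lit 4, nat_lit 8, nat_lit 2, nat_lit 3, nat_lit 0, nat_lit 1], [nat_lit 25, nat_lit 14, nat_lit 0, nat_lit 34, nat_lit 34, nat_lit 15, nat_lit 26], (nat_lit 3509)), ((nat_lit 1239), [nat_lit 8, nat_lit 4, nat_lit 7, nat_lit 5, nat_lit 2, nat_lit 3, nat_lit 4, nat_lit 8, nat_lit 2, nat_lit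 3, nat_lit 0, nat_lit 1], [nat_lit 16, nat_lit 5, nat_lit 0, nat_lit 24, nat_lit 36, nat_lit 11], (nat_lit 3511)), ((nat_lit 914), [nat_lit 7, nat_lit 1, nat_lit 2, nat_lit 3, nat_lit 4, nat_lit 8, nat_lit 3, nat_lit 2, nat_lit 3, nat_lit 4, nat_lit 3, nat_lit 2, nat_lit 3, nat_lit 0, nat_lit 1], [nat_lit 24, nat_lit 15, nat_lit 0, nat_lit 17, nat_lit 17, nat_lit 27], (nat_lit 11209)), ((nat_lit 703), [nat_lit 7, nat_lit 4, nat_lit 7, nat_lit 2, nat_lit 3, nat_lit 4, nat_lit 7, nat_lit 0, nat_lit 1, nat_lit 2, nat_lit 3, nat_lit 4, nat_lit 7, nat_lit 2, nat_lit 3, nat_lit 1], [nat_lit 16, nat_lit 0, nat_lit 34, nat_lit 16, nat_lit 11, nat_lit 27], (nat_lit 16777)), ((nat_lit 640), [nat_lit 5, nat_lit 7, nat_lit 2, nat_lit 3, nat_lit 4, nat_lit 7, nat_lit 1, nat_lit 2, nat_lit 3, nat_lit 4, nat_lit 8, nat_lit 3, nat_lit 2, nat_lit 3, nat_lit 0, nat_lit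 1], [nat_lit 24, nat_lit 2, nat_lit 25, nat_lit 18], (nat_lit 15053)), ((nat_lit 818), [nat_lit 8, nat_lit 8, nat_lit 4, nat_lit 8, nat_lit 2, nat_lit 3, nat_lit 4, nat_lit 8, nat_lit 2, nat_lit 3, nat_lit 0, nat_lit 1], [nat_lit 10, nat_lit 10, nat_lit 0, nat_lit 32, nat_lit 11], (nat_lit 3522)), ((nat_lit 2106), [nat_lit 6, nat_lit 7, nat_lit 4, nat_lit 8, nat_lit 0, nat_lit 1, nat_lit 2, nat_lit 3, nat_lit 4, nat_lit 7, nat_lit 3, nat_lit 1, nat_lit 2, nat_lit 3, nat_lit 0, nat_lit 1], [nat_lit 17, nat_lit 2, nat_lit 0, nat_lit 17, nat_lit 34, nat_lit 15, nat_lit 27], (nat_lit 14728)), ((nat_lit 2199), [nat_lit 8, nat_lit 4, nat_lit 8, nat_lit 3, nat_lit 4, nat_lit 8, nat_lit 1, nat_lit 2, nat_lit 3, nat_lit 4, nat_lit 8, nat_lit 3, nat_lit 2, nat_lit 3, nat_lit 1], [nat_lit 14, nat_lit 15, nat_lit 0, nat_lit 27, nat_lit 18, nat_lit 11, nat_lit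 26], (nat_lit 13202)), ((nat_lit 1855), [nat_lit 6, nat_lit 8, nat_lit 4, nat_lit 7, nat_lit 1, nat_lit 2, nat_lit 3, nat_lit 4, nat_lit 7, nat_lit 1, nat_lit 2, nat_lit 3, nat_lit 4, nat_lit 8, nat_lit 2, nat_lit 3, nat_lit 1], [nat_lit 5, nat_lit 18, nat_lit 16, nat_lit 27], (nat_lit 17190)), ((nat_lit 1519), [nat_lit 5, nat_lit 8, nat_lit 5, nat_lit 4, nat_lit 7, nat_lit 3, nat_lit 2, nat_lit 3, nat_lit 4, nat_lit 7, nat_lit 3, nat_lit 4, nat_lit 2, nat_lit 3, nat_lit 1], [nat_lit 0, nat_lit 24, nat_lit 15], (nat_lit 14171)), ((nat_lit 1728), [nat_lit 3, nat_lit 4, nat_lit 8, nat_lit 1, nat_lit 2, nat_lit 3, nat_lit 4, nat_lit 7, nat_lit 3, nat_lit 2, nat_lit 3, nat_lit 0, nat_lit 1], [nat_lit 25, nat_lit 14, nat_lit 0, nat_lit 37, nat_lit 37, nat_lit 16], (nat_lit 5202)), ((nat_lit 697), [nat_lit 7, nat_lit 4, nat_lit 8, nat_lit 3, nat_lit 4,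 nat_lit 7, nat_lit 0, nat_lit 1, nat_lit 2, nat_lit 3, nat_lit 4, nat_lit 2, nat_lit 3, nat_lit 0, nat_lit 1], [nat_lit 24, nat_lit 0, nat_lit 16, nat_lit 37, nat_lit 26], (nat_lit 11705)), ((nat_lit 2485), [nat_lit 4, nat_lit 8, nat_lit 3, nat_lit 4, nat_lit 8, nat_lit 2, nat_lit 3, nat_lit 4, nat_lit 7, nat_lit 3, nat_lit 4, nat_lit 2, nat_lit 3, nat_lit 1], [nat_lit 15, nat_lit 2, nat_lit 35, nat_lit 36, nat_lit 11, nat_lit 26], (nat_lit 10264)), ((nat_lit 739), [nat_lit 8, nat_lit 4, nat_lit 8, nat_lit 3, nat_lit 4, nat_lit 8, nat_lit 1, nat_lit 2, nat_lit 3, nat_lit 4, nat_lit 7, nat_lit 3, nat_lit 2, nat_lit 3, nat_lit 1], [nat_lit 10, nat_lit 10, nat_lit 0, nat_lit 33, nat_lit 37, nat_lit 27], (nat_lit 13473)), ((nat_lit 1648), [nat_lit 5, nat_lit 7, nat_lit 2, nat_lit 3, nat_lit 4, nat_lit 8, nat_lit 2, nat_lit 3, nat_lit 4, nat_lit 8, nat_lit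 2, nat_lit 3, nat_lit 1], [nat_lit 5, nat_lit 33, nat_lit 24, nat_lit 11, nat_lit 26], (nat_lit 6944)), ((nat_lit 1808), [nat_lit 7, nat_lit 4, nat_lit 7, nat_lit 2, nat_lit 3, nat_lit 4, nat_lit 7, nat_lit 2, nat_lit 3, nat_lit 4, nat_lit 7, nat_lit 3, nat_lit 2, nat_lit 3, nat_lit 0, nat_lit 1], [nat_lit 14, nat_lit 37, nat_lit 18, nat_lit 15, nat_lit 27], (nat_lit 15195)), ((nat_lit 794), [nat_lit 8, nat_lit 0, nat_lit 1, nat_lit 2, nat_lit 3, nat_lit 4, nat_lit 8, nat_lit 3, nat_lit 4, nat_lit 7, nat_lit 1, nat_lit 2, nat_lit 3, nat_lit 0, nat_lit 1], [nat_lit 14, nat_lit 0, nat_lit 18, nat_lit 11, nat_lit 27], (nat_lit 11099)), ((nat_lit 2414), [nat_lit 5, nat_lit 7, nat_lit 4, nat_lit 7, nat_lit 6, nat_lit 0, nat_lit 1, nat_lit 2, nat_lit 3, nat_lit 4, nat_lit 7, nat_lit 1, nat_lit 2, nat_lit 3, nat_lit 0, nat_lit 1], [nat_lit 15, nat_lit 2,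 nat_lit 37, nat_lit 18, nat_lit 15], (nat_lit 14755)), ((nat_lit 1237), [nat_lit 8, nat_lit 4, nat_lit 7, nat_lit 6, nat_lit 2, nat_lit 3, nat_lit 4, nat_lit 7, nat_lit 2, nat_lit 3, nat_lit 0, nat_lit 1], [nat_lit 17, nat_lit 2, nat_lit 0, nat_lit 26, nat_lit 17, nat_lit 15], (nat_lit 3580)), ((nat_lit 1360), [nat_lit 8, nat_lit 4, nat_lit 7, nat_lit 2, nat_lit 3, nat_lit 4, nat_lit 8, nat_lit 8, nat_lit 2, nat_lit 3, nat_lit 4, nat_lit 8, nat_lit 3, nat_lit 2, nat_lit 3, nat_lit 1], [nat_lit 1, nat_lit 1, nat_lit 18, nat_lit 36], (nat_lit 16274)), ((nat_lit 1157), [nat_lit 5, nat_lit 7, nat_lit 4, nat_lit 8, nat_lit 0, nat_lit 1, nat_lit 2, nat_lit 3, nat_lit 4, nat_lit 7, nat_lit 1, nat_lit 2, nat_lit 3, nat_lit 0, nat_lit 1], [nat_lit 16, nat_lit 0, nat_lit 32, nat_lit 34, nat_lit 16], (nat_lit 11079)), ((nat_lit 1625), [nat_lit 8, nat_lit 4,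 nat_lit 7, nat_lit 2, nat_lit 3, nat_lit 4, nat_lit 8, nat_lit 8, nat_lit 2, nat_lit 3, nat_lit 4, nat_lit 7, nat_lit 3, nat_lit 2, nat_lit 3, nat_lit 1], [nat_lit 24, nat_lit 2, nat_lit 0, nat_lit 24, nat_lit 36, nat_lit 26], (nat_lit 16395)), ((nat_lit 1093), [nat_lit 8, nat_lit 4, nat_lit 8, nat_lit 8, nat_lit 3, nat_lit 2, nat_lit 3, nat_lit 4, nat_lit 7, nat_lit 3, nat_lit 4, nat_lit 2, nat_lit 3, nat_lit 0, nat_lit 1], [nat_lit 2, nat_lit 24, nat_lit 18, nat_lit 18, nat_lit 27], (nat_lit 11950)), ((nat_lit 1368), [nat_lit 3, nat_lit 1, nat_lit 2, nat_lit 3, nat_lit 4, nat_lit 8, nat_lit 2, nat_lit 3, nat_lit 4, nat_lit 7, nat_lit 3, nat_lit 2, nat_lit 3, nat_lit 1], [nat_lit 14, nat_lit 15, nat_lit 0, nat_lit 37, nat_lit 24, nat_lit 15, nat_lit 26], (nat_lit 9626)), ((nat_lit 1915), [nat_lit 4, nat_lit 7, nat_lit 6, nat_lit 3, nat_lit 4, nat_lit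 8, nat_lit 1, nat_lit 2, nat_lit 3, nat_lit 4, nat_lit 7, nat_lit 2, nat_lit 3, nat_lit 1], [nat_lit 16, nat_lit 0, nat_lit 37, nat_lit 34], (nat_lit 10702)), ((nat_lit 1433), [nat_lit 4, nat_lit 8, nat_lit 2, nat_lit 3, nat_lit 4, nat_lit 7, nat_lit 1, nat_lit 2, nat_lit 3, nat_lit 4, nat_lit 8, nat_lit 2, nat_lit 3, nat_lit 1], [nat_lit 14, nat_lit 0, nat_lit 27, nat_lit 24, nat_lit 15, nat_lit 27], (nat_lit 10447)), ((nat_lit 1752), [nat_lit 3, nat_lit 4, nat_lit 7, nat_lit 3, nat_lit 4, nat_lit 8, nat_lit 2, nat_lit 3, nat_lit 4, nat_lit 8, nat_lit 3, nat_lit 2, nat_lit 3, nat_lit 1], [nat_lit 0, nat_lit 2, nat_lit 15, nat_lit 24], (nat_lit 9398)), ((nat_lit 885), [nat_lit 7, nat_lit 4, nat_lit 8, nat_lit 2, nat_lit 3, nat_lit 4, nat_lit 7, nat_lit 3, nat_lit 2, nat_lit 3, nat_lit 4, nat_lit 7, nat_lit 3, nat_lit 2, nat_lit 3, nat_lit 1], [nat_lit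 1, nat_lit 1, nat_lit 25, nat_lit 18, nat_lit 26], (nat_lit 16370)), ((nat_lit 2161), [nat_lit 7, nat_lit 4, nat_lit 8, nat_lit 8, nat_lit 3, nat_lit 2, nat_lit 3, nat_lit 4, nat_lit 7, nat_lit 2, nat_lit 3, nat_lit 4, nat_lit 8, nat_lit 2, nat_lit 3, nat_lit 1], [nat_lit 24, nat_lit 0, nat_lit 35, nat_lit 27, nat_lit 15, nat_lit 27], (nat_lit 16750)), ((nat_lit 2133), [nat_lit 3, nat_lit 4, nat_lit 8, nat_lit 3, nat_lit 1, nat_lit 2, nat_lit 3, nat_lit 4, nat_lit 7, nat_lit 2, nat_lit 3, nat_lit 4, nat_lit 2, nat_lit 3, nat_lit 1], [nat_lit 0, nat_lit 2, nat_lit 36, nat_lit 25, nat_lit 11, nat_lit 27], (nat_lit 13840)), ((nat_lit 2428), [nat_lit 4, nat_lit 7, nat_lit 7, nat_lit 3, nat_lit 4, nat_lit 7, nat_lit 0, nat_lit 1, nat_lit 2, nat_lit 3, nat_lit 4, nat_lit 2, nat_lit 3, nat_lit 1], [nat_lit 24, nat_lit 15, nat_lit 0, nat_lit 33, nat_lit 18,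 nat_lit 11, nat_lit 27], (nat_lit 9728)), ((nat_lit 1873), [nat_lit 2, nat_lit 3, nat_lit 4, nat_lit 7, nat_lit 7, nat_lit 0, nat_lit 1, nat_lit 2, nat_lit 3, nat_lit 4, nat_lit 7, nat_lit 3, nat_lit 2, nat_lit 3, nat_lit 0, nat_lit 1], [nat_lit 15, nat_lit 1, nat_lit 16, nat_lit 26], (nat_lit 15109)), ((nat_lit 1262), [nat_lit 2, nat_lit 3, nat_lit 4, nat_lit 7, nat_lit 6, nat_lit 0, nat_lit 1, nat_lit 2, nat_lit 3, nat_lit 4, nat_lit 7, nat_lit 3, nat_lit 2, nat_lit 3, nat_lit 0, nat_lit 1], [nat_lit 5, nat_lit 16, nat_lit 2, nat_lit 27, nat_lit 16, nat_lit 26], (nat_lit 15100)), ((nat_lit 2342), [nat_lit 6, nat_lit 4, nat_lit 7, nat_lit 4, nat_lit 7, nat_lit 3, nat_lit 4, nat_lit 7, nat_lit 2, nat_lit 3, nat_lit 0, nat_lit 1], [nat_lit 25, nat_lit 14, nat_lit 0, nat_lit 26, nat_lit 17, nat_lit 15], (nat_lit 3623)), ((nat_lit 1994), [nat_lit 4,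 nat_lit 8, nat_lit 8, nat_lit 4, nat_lit 7, nat_lit 3, nat_lit 4, nat_lit 7, nat_lit 2, nat_lit 3, nat_lit 0, nat_lit 1], [nat_lit 24, nat_lit 15, nat_lit 0, nat_lit 27, nat_lit 36], (nat_lit 3624)), ((nat_lit 2201), [nat_lit 8, nat_lit 2, nat_lit 3, nat_lit 4, nat_lit 8, nat_lit 1, nat_lit 2, nat_lit 3, nat_lit 4, nat_lit 8, nat_lit 4, nat_lit 2, nat_lit 3, nat_lit 1], [nat_lit 15, nat_lit 0, nat_lit 36], (nat_lit 10306)), ((nat_lit 994), [nat_lit 2, nat_lit 3, nat_lit 0, nat_lit 1, nat_lit 2, nat_lit 3, nat_lit 4, nat_lit 7, nat_lit 4, nat_lit 7, nat_lit 4, nat_lit 3, nat_lit 2, nat_lit 3, nat_lit 1], [nat_lit 5, nat_lit 0, nat_lit 25, nat_lit 37, nat_lit 27], (nat_lit 12825)), ((nat_lit 736), [nat_lit 6, nat_lit 8, nat_lit 3, nat_lit 0, nat_lit 1, nat_lit 2, nat_lit 3, nat_lit 4, nat_lit 3, nat_lit 2, nat_lit 3, nat_lit 1], [nat_lit 0, nat_lit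 17, nat_lit 36, nat_lit 15], (nat_lit 3634)), ((nat_lit 2353), [nat_lit 5, nat_lit 8, nat_lit 3, nat_lit 0, nat_lit 1, nat_lit 2, nat_lit 3, nat_lit 4, nat_lit 3, nat_lit 2, nat_lit 3, nat_lit 1], [nat_lit 16, nat_lit 0, nat_lit 37, nat_lit 34, nat_lit 27], (nat_lit 3635)), ((nat_lit 731), [nat_lit 5, nat_lit 4, nat_lit 7, nat_lit 2, nat_lit 3, nat_lit 1, nat_lit 2, nat_lit 3, nat_lit 4, nat_lit 3, nat_lit 2, nat_lit 3, nat_lit 1], [nat_lit 18, nat_lit 15, nat_lit 0, nat_lit 17, nat_lit 36, nat_lit 15, nat_lit 27], (nat_lit 5731)), ((nat_lit 2526), [nat_lit 8, nat_lit 5, nat_lit 4, nat_lit 7, nat_lit 2, nat_lit 3, nat_lit 1, nat_lit 2, nat_lit 3, nat_lit 4, nat_lit 3, nat_lit 2, nat_lit 3, nat_lit 1], [nat_lit 1, nat_lit 14, nat_lit 35, nat_lit 33, nat_lit 11, nat_lit 27], (nat_lit 8771)), ((nat_lit 761), [nat_lit 6, nat_lit 8, nat_lit 4, nat_lit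 8, nat_lit 3, nat_lit 0, nat_lit 1, nat_lit 2, nat_lit 3, nat_lit 4, nat_lit 3, nat_lit 2, nat_lit 3, nat_lit 1], [nat_lit 25, nat_lit 16, nat_lit 0, nat_lit 37], (nat_lit 8705)), ((nat_lit 2441), [nat_lit 5, nat_lit 8, nat_lit 3, nat_lit 4, nat_lit 7, nat_lit 3, nat_lit 2, nat_lit 3, nat_lit 1, nat_lit 2, nat_lit 3, nat_lit 4, nat_lit 3, nat_lit 2, nat_lit 3, nat_lit 1], [nat_lit 10, nat_lit 10, nat_lit 0, nat_lit 33, nat_lit 34], (nat_lit 15726)), ((nat_lit 1351), [nat_lit 5, nat_lit 8, nat_lit 2, nat_lit 3, nat_lit 1, nat_lit 2, nat_lit 3, nat_lit 4, nat_lit 3, nat_lit 2, nat_lit 3, nat_lit 1], [nat_lit 26, nat_lit 24, nat_lit 0, nat_lit 25, nat_lit 37, nat_lit 26], (nat_lit 3653)), ((nat_lit 1044), [nat_lit 7, nat_lit 6, nat_lit 3, nat_lit 4, nat_lit 7, nat_lit 3, nat_lit 2, nat_lit 3, nat_lit 4, nat_lit 3, nat_lit 2, nat_lit 3, nat_lit 0, nat_lit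 1], [nat_lit 26, nat_lit 2, nat_lit 0, nat_lit 34, nat_lit 17], (nat_lit 7623)), ((nat_lit 887), [nat_lit 8, nat_lit 5, nat_lit 3, nat_lit 1, nat_lit 2, nat_lit 3, nat_lit 4, nat_lit 8, nat_lit 4, nat_lit 3, nat_lit 2, nat_lit 3, nat_lit 1], [nat_lit 25, nat_lit 14, nat_lit 0, nat_lit 34, nat_lit 34, nat_lit 11], (nat_lit 5936)), ((nat_lit 802), [nat_lit 5, nat_lit 2, nat_lit 3, nat_lit 4, nat_lit 7, nat_lit 1, nat_lit 2, nat_lit 3, nat_lit 4, nat_lit 3, nat_lit 2, nat_lit 3, nat_lit 1], [nat_lit 16, nat_lit 5, nat_lit 2, nat_lit 18, nat_lit 11, nat_lit 15, nat_lit 27], (nat_lit 5774)), ((nat_lit 960), [nat_lit 5, nat_lit 8, nat_lit 2, nat_lit 3, nat_lit 4, nat_lit 7, nat_lit 0, nat_lit 1, nat_lit 2, nat_lit 3, nat_lit 4, nat_lit 8, nat_lit 2, nat_lit 3, nat_lit 1], [nat_lit 26, nat_lit 2, nat_lit 0, nat_lit 18, nat_lit 15, nat_lit 27], (nat_lit 14272)),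 ((nat_lit 496), [nat_lit 4, nat_lit 7, nat_lit 4, nat_lit 7, nat_lit 3, nat_lit 0, nat_lit 1, nat_lit 2, nat_lit 3, nat_lit 4, nat_lit 3, nat_lit 2, nat_lit 3, nat_lit 0, nat_lit 1], [nat_lit 2, nat_lit 0, nat_lit 25, nat_lit 36, nat_lit 11, nat_lit 27], (nat_lit 11125)), ((nat_lit 441), [nat_lit 7, nat_lit 3, nat_lit 4, nat_lit 8, nat_lit 1, nat_lit 2, nat_lit 3, nat_lit 4, nat_lit 3, nat_lit 2, nat_lit 3, nat_lit 1], [nat_lit 11, nat_lit 16], (nat_lit 3671)), ((nat_lit 1404), [nat_lit 4, nat_lit 8, nat_lit 4, nat_lit 8, nat_lit 3, nat_lit 2, nat_lit 3, nat_lit 4, nat_lit 7, nat_lit 3, nat_lit 4, nat_lit 3, nat_lit 2, nat_lit 3, nat_lit 1], [nat_lit 24, nat_lit 15, nat_lit 0, nat_lit 37, nat_lit 33, nat_lit 11, nat_lit 27], (nat_lit 12811)), ((nat_lit 660), [nat_lit 8, nat_lit 6, nat_lit 4, nat_lit 7, nat_lit 3, nat_lit 0, nat_lit 1, nat_lit 2, nat_lit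 3, nat_lit 4, nat_lit 3, nat_lit 2, nat_lit 3, nat_lit 0, nat_lit 1], [nat_lit 25, nat_lit 14, nat_lit 0, nat_lit 27, nat_lit 36], (nat_lit 11123)), ((nat_lit 1531), [nat_lit 7, nat_lit 3, nat_lit 4, nat_lit 7, nat_lit 5, nat_lit 0, nat_lit 1, nat_lit 2, nat_lit 3, nat_lit 4, nat_lit 8, nat_lit 4, nat_lit 2, nat_lit 3, nat_lit 1], [nat_lit 15, nat_lit 0, nat_lit 16, nat_lit 16, nat_lit 11], (nat_lit 14191)), ((nat_lit 1473), [nat_lit 8, nat_lit 3, nat_lit 4, nat_lit 7, nat_lit 1, nat_lit 2, nat_lit 3, nat_lit 4, nat_lit 3, nat_lit 2, nat_lit 3, nat_lit 1], [nat_lit 5, nat_lit 0, nat_lit 17, nat_lit 15, nat_lit 11, nat_lit 27], (nat_lit 3678)), ((nat_lit 2519), [nat_lit 8, nat_lit 4, nat_lit 8, nat_lit 2, nat_lit 3, nat_lit 4, nat_lit 8, nat_lit 2, nat_lit 3, nat_lit 4, nat_lit 7, nat_lit 2, nat_lit 3, nat_lit 1], [nat_lit 11, nat_lit 5, nat_lit 2,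 nat_lit 24, nat_lit 37, nat_lit 11, nat_lit 27], (nat_lit 10782)), ((nat_lit 478), [nat_lit 6, nat_lit 8, nat_lit 4, nat_lit 8, nat_lit 3, nat_lit 4, nat_lit 8, nat_lit 2, nat_lit 3, nat_lit 4, nat_lit 7, nat_lit 2, nat_lit 3, nat_lit 0, nat_lit 1], [nat_lit 24, nat_lit 2, nat_lit 0, nat_lit 26, nat_lit 34, nat_lit 32, nat_lit 27], (nat_lit 12345)), ((nat_lit 875), [nat_lit 5, nat_lit 4, nat_lit 3, nat_lit 2, nat_lit 3, nat_lit 1, nat_lit 2, nat_lit 3, nat_lit 4, nat_lit 8, nat_lit 4, nat_lit 3, nat_lit 2, nat_lit 3, nat_lit 0, nat_lit 1], [nat_lit 5, nat_lit 2, nat_lit 33, nat_lit 18, nat_lit 11], (nat_lit 14923))] m5_5_15 m5_5_16) = 0 := by decide +kernel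
theorem e5_5_17 : dt.run q (fun c => c.edges (SP THn.T THn.Rl (nat_lit 15)) (nat_lit 4429) THn.T.n (nat_lit 5) (nat_lit 5)
  [((nat_lit 745), [nat_lit 7, nat_lit 7, nat_lit 4, nat_lit 7, nat_lit 3, nat_lit 1, nat_lit 2, nat_lit 3, nat_lit 4, nat_lit 7, nat_lit 3, nat_lit 2, nat_lit 3, nat_lit 0, nat_lit 1], [nat_lit 26, nat_lit 2, nat_lit 0, nat_lit 35, nat_lit 11], (nat_lit 11595)), ((nat_lit 932), [nat_lit 7, nat_lit 2, nat_lit 3, nat_lit 1, nat_lit 2, nat_lit 3, nat_lit 4, nat_lit 7, nat_lit 4, nat_lit 3, nat_lit 2, nat_lit 3, nat_lit 0, nat_lit 1], [nat_lit 24, nat_lit 2, nat_lit 33, nat_lit 25], (nat_lit 7751)), ((nat_lit 1488), [nat_lit 6, nat_lit 3, nat_lit 4, nat_lit 7, nat_lit 3, nat_lit 2, nat_lit 3, nat_lit 4, nat_lit 3, nat_lit 2, nat_lit 3, nat_lit 1], [nat_lit 14, nat_lit 35, nat_lit 32, nat_lit 27], (nat_lit 3697)), ((nat_lit 878),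 [nat_lit 6, nat_lit 8, nat_lit 4, nat_lit 7, nat_lit 3, nat_lit 4, nat_lit 7, nat_lit 6, nat_lit 1, nat_lit 2, nat_lit 3, nat_lit 4, nat_lit 7, nat_lit 2, nat_lit 3, nat_lit 1], [nat_lit 24, nat_lit 2, nat_lit 0, nat_lit 11, nat_lit 37, nat_lit 26], (nat_lit 16785)), ((nat_lit 1719), [nat_lit 8, nat_lit 4, nat_lit 7, nat_lit 3, nat_lit 1, nat_lit 2, nat_lit 3, nat_lit 4, nat_lit 7, nat_lit 3, nat_lit 4, nat_lit 2, nat_lit 3, nat_lit 0, nat_lit 1], [nat_lit 16, nat_lit 0, nat_lit 36, nat_lit 11], (nat_lit 11932)), ((nat_lit 1347), [nat_lit 5, nat_lit 8, nat_lit 4, nat_lit 8, nat_lit 3, nat_lit 4, nat_lit 8, nat_lit 1, nat_lit 2, nat_lit 3, nat_lit 4, nat_lit 8, nat_lit 2, nat_lit 3, nat_lit 0, nat_lit 1], [nat_lit 11, nat_lit 5, nat_lit 2, nat_lit 37, nat_lit 17, nat_lit 11, nat_lit 27], (nat_lit 15467)), ((nat_lit 1444), [nat_lit 6, nat_lit 4, nat_lit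 8, nat_lit 3, nat_lit 4, nat_lit 8, nat_lit 1, nat_lit 2, nat_lit 3, nat_lit 4, nat_lit 7, nat_lit 3, nat_lit 2, nat_lit 3, nat_lit 1], [nat_lit 14, nat_lit 34, nat_lit 24], (nat_lit 13472)), ((nat_lit 2335), [nat_lit 4, nat_lit 7, nat_lit 3, nat_lit 4, nat_lit 7, nat_lit 5, nat_lit 1, nat_lit 2, nat_lit 3, nat_lit 4, nat_lit 8, nat_lit 2, nat_lit 3, nat_lit 1], [nat_lit 15, nat_lit 0, nat_lit 33, nat_lit 36], (nat_lit 10428)), ((nat_lit 1634), [nat_lit 7, nat_lit 6, nat_lit 4, nat_lit 8, nat_lit 3, nat_lit 2, nat_lit 3, nat_lit 4, nat_lit 8, nat_lit 3, nat_lit 4, nat_lit 2, nat_lit 3, nat_lit 0, nat_lit 1], [nat_lit 11, nat_lit 2, nat_lit 0, nat_lit 25, nat_lit 36, nat_lit 26], (nat_lit 11881)), ((nat_lit 2006), [nat_lit 7, nat_lit 5, nat_lit 2, nat_lit 3, nat_lit 4, nat_lit 7, nat_lit 1, nat_lit 2, nat_lit 3, nat_lit 4, nat_lit 3, nat_lit 2, nat_lit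 3, nat_lit 0, nat_lit 1], [nat_lit 25, nat_lit 0, nat_lit 24, nat_lit 15, nat_lit 26], (nat_lit 11202)), ((nat_lit 970), [nat_lit 4, nat_lit 7, nat_lit 3, nat_lit 4, nat_lit 8, nat_lit 8, nat_lit 0, nat_lit 1, nat_lit 2, nat_lit 3, nat_lit 4, nat_lit 7, nat_lit 2, nat_lit 3, nat_lit 0, nat_lit 1], [nat_lit 26, nat_lit 2, nat_lit 0, nat_lit 37, nat_lit 37, nat_lit 16, nat_lit 26], (nat_lit 15562)), ((nat_lit 1666), [nat_lit 4, nat_lit 8, nat_lit 8, nat_lit 2, nat_lit 3, nat_lit 0, nat_lit 1, nat_lit 2, nat_lit 3, nat_lit 4, nat_lit 7, nat_lit 3, nat_lit 4, nat_lit 2, nat_lit 3, nat_lit 0, nat_lit 1], [nat_lit 5, nat_lit 0, nat_lit 26, nat_lit 15, nat_lit 15, nat_lit 27], (nat_lit 17008)), ((nat_lit 1314), [nat_lit 7, nat_lit 4, nat_lit 7, nat_lit 3, nat_lit 1, nat_lit 2, nat_lit 3, nat_lit 4, nat_lit 7, nat_lit 3, nat_lit 2, nat_lit 3, nat_lit 0, nat_lit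 1], [nat_lit 24, nat_lit 16, nat_lit 0, nat_lit 26, nat_lit 34, nat_lit 26], (nat_lit 7948)), ((nat_lit 1311), [nat_lit 7, nat_lit 3, nat_lit 4, nat_lit 7, nat_lit 7, nat_lit 2, nat_lit 3, nat_lit 4, nat_lit 7, nat_lit 3, nat_lit 2, nat_lit 3, nat_lit 0, nat_lit 1], [nat_lit 25, nat_lit 2, nat_lit 0, nat_lit 32, nat_lit 18, nat_lit 26], (nat_lit 8023)), ((nat_lit 1928), [nat_lit 7, nat_lit 7, nat_lit 3, nat_lit 0, nat_lit 1, nat_lit 2, nat_lit 3, nat_lit 4, nat_lit 8, nat_lit 3, nat_lit 4, nat_lit 2, nat_lit 3, nat_lit 0, nat_lit 1], [nat_lit 25, nat_lit 1, nat_lit 36, nat_lit 18, nat_lit 15, nat_lit 27], (nat_lit 11865)), ((nat_lit 1948), [nat_lit 7, nat_lit 7, nat_lit 4, nat_lit 8, nat_lit 2, nat_lit 3, nat_lit 4, nat_lit 8, nat_lit 2, nat_lit 3, nat_lit 4, nat_lit 8, nat_lit 2, nat_lit 3, nat_lit 0, nat_lit 1], [nat_lit 17, nat_lit 17, nat_lit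 15, nat_lit 27], (nat_lit 15523)), ((nat_lit 974), [nat_lit 5, nat_lit 7, nat_lit 3, nat_lit 4, nat_lit 8, nat_lit 3, nat_lit 1, nat_lit 2, nat_lit 3, nat_lit 4, nat_lit 7, nat_lit 4, nat_lit 3, nat_lit 2, nat_lit 3, nat_lit 1], [nat_lit 1, nat_lit 5, nat_lit 18, nat_lit 16, nat_lit 11, nat_lit 27], (nat_lit 16092)), ((nat_lit 774), [nat_lit 4, nat_lit 3, nat_lit 1, nat_lit 2, nat_lit 3, nat_lit 4, nat_lit 8, nat_lit 2, nat_lit 3, nat_lit 4, nat_lit 3, nat_lit 2, nat_lit 3, nat_lit 1], [nat_lit 11, nat_lit 5, nat_lit 2, nat_lit 33, nat_lit 35, nat_lit 26], (nat_lit 8870)), ((nat_lit 1109), [nat_lit 7, nat_lit 4, nat_lit 7, nat_lit 5, nat_lit 2, nat_lit 3, nat_lit 4, nat_lit 7, nat_lit 2, nat_lit 3, nat_lit 4, nat_lit 2, nat_lit 3, nat_lit 1], [nat_lit 14, nat_lit 37, nat_lit 11, nat_lit 15, nat_lit 27], (nat_lit 9983)), ((nat_lit 2494), [nat_lit 6,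 nat_lit 8, nat_lit 4, nat_lit 8, nat_lit 3, nat_lit 4, nat_lit 8, nat_lit 5, nat_lit 2, nat_lit 3, nat_lit 4, nat_lit 8, nat_lit 2, nat_lit 3, nat_lit 0, nat_lit 1], [nat_lit 5, nat_lit 16, nat_lit 2, nat_lit 18, nat_lit 15, nat_lit 11, nat_lit 26], (nat_lit 15496)), ((nat_lit 1170), [nat_lit 6, nat_lit 3, nat_lit 2, nat_lit 3, nat_lit 4, nat_lit 8, nat_lit 3, nat_lit 4, nat_lit 3, nat_lit 2, nat_lit 3, nat_lit 1], [nat_lit 16, nat_lit 5, nat_lit 0, nat_lit 27, nat_lit 37, nat_lit 27], (nat_lit 3739)), ((nat_lit 839), [nat_lit 4, nat_lit 7, nat_lit 5, nat_lit 1, nat_lit 2, nat_lit 3, nat_lit 4, nat_lit 8, nat_lit 2, nat_lit 3, nat_lit 4, nat_lit 3, nat_lit 2, nat_lit 3, nat_lit 1], [nat_lit 24, nat_lit 16, nat_lit 0, nat_lit 37, nat_lit 17, nat_lit 11, nat_lit 26], (nat_lit 12616)), ((nat_lit 411), [nat_lit 8, nat_lit 4, nat_lit 7, nat_lit 7, nat_lit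 3, nat_lit 2, nat_lit 3, nat_lit 4, nat_lit 8, nat_lit 3, nat_lit 4, nat_lit 2, nat_lit 3, nat_lit 0, nat_lit 1], [nat_lit 5, nat_lit 24, nat_lit 37, nat_lit 17, nat_lit 27], (nat_lit 11888)), ((nat_lit 1312), [nat_lit 4, nat_lit 7, nat_lit 2, nat_lit 3, nat_lit 0, nat_lit 1, nat_lit 2, nat_lit 3, nat_lit 4, nat_lit 3, nat_lit 2, nat_lit 3, nat_lit 0, nat_lit 1], [nat_lit 16, nat_lit 5, nat_lit 0, nat_lit 17, nat_lit 17, nat_lit 11, nat_lit 27], (nat_lit 7536)), ((nat_lit 1202), [nat_lit 8, nat_lit 4, nat_lit 8, nat_lit 5, nat_lit 2, nat_lit 3, nat_lit 4, nat_lit 8, nat_lit 2, nat_lit 3, nat_lit 4, nat_lit 7, nat_lit 2, nat_lit 3, nat_lit 0, nat_lit 1], [nat_lit 25, nat_lit 14, nat_lit 0, nat_lit 35, nat_lit 11, nat_lit 26], (nat_lit 15634)), ((nat_lit 398), [nat_lit 4, nat_lit 8, nat_lit 6, nat_lit 1, nat_lit 2, nat_lit 3, nat_lit 4, nat_lit 8, nat_lit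 2, nat_lit 3, nat_lit 4, nat_lit 2, nat_lit 3, nat_lit 1], [nat_lit 15, nat_lit 5, nat_lit 37, nat_lit 16, nat_lit 26], (nat_lit 9852)), ((nat_lit 1000), [nat_lit 2, nat_lit 3, nat_lit 4, nat_lit 8, nat_lit 1, nat_lit 2, nat_lit 3, nat_lit 4, nat_lit 7, nat_lit 3, nat_lit 4, nat_lit 2, nat_lit 3, nat_lit 1], [nat_lit 37, nat_lit 11, nat_lit 17], (nat_lit 10202)), ((nat_lit 1820), [nat_lit 2, nat_lit 3, nat_lit 4, nat_lit 7, nat_lit 2, nat_lit 3, nat_lit 0, nat_lit 1, nat_lit 2, nat_lit 3, nat_lit 4, nat_lit 3, nat_lit 2, nat_lit 3, nat_lit 0, nat_lit 1], [nat_lit 26, nat_lit 2, nat_lit 37, nat_lit 32, nat_lit 11], (nat_lit 14763)), ((nat_lit 649), [nat_lit 7, nat_lit 4, nat_lit 8, nat_lit 5, nat_lit 0, nat_lit 1, nat_lit 2, nat_lit 3, nat_lit 4, nat_lit 8, nat_lit 2, nat_lit 3, nat_lit 0, nat_lit 1], [nat_lit 24, nat_lit 1, nat_lit 34, nat_lit 16],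 (nat_lit 8352)), ((nat_lit 1456), [nat_lit 8, nat_lit 4, nat_lit 8, nat_lit 6, nat_lit 3, nat_lit 4, nat_lit 8, nat_lit 0, nat_lit 1, nat_lit 2, nat_lit 3, nat_lit 4, nat_lit 2, nat_lit 3, nat_lit 1], [nat_lit 24, nat_lit 2, nat_lit 36], (nat_lit 13595)), ((nat_lit 752), [nat_lit 3, nat_lit 0, nat_lit 1, nat_lit 2, nat_lit 3, nat_lit 4, nat_lit 7, nat_lit 4, nat_lit 3, nat_lit 2, nat_lit 3, nat_lit 1], [nat_lit 16, nat_lit 0, nat_lit 37, nat_lit 34, nat_lit 24, nat_lit 27], (nat_lit 3792)), ((nat_lit 1354), [nat_lit 8, nat_lit 4, nat_lit 7, nat_lit 2, nat_lit 3, nat_lit 4, nat_lit 7, nat_lit 3, nat_lit 1, nat_lit 2, nat_lit 3, nat_lit 0, nat_lit 1], [nat_lit 15, nat_lit 2, nat_lit 15, nat_lit 18, nat_lit 16, nat_lit 26], (nat_lit 4649)), ((nat_lit 1740), [nat_lit 5, nat_lit 3, nat_lit 2, nat_lit 3, nat_lit 0, nat_lit 1, nat_lit 2, nat_lit 3, nat_lit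 4, nat_lit 7, nat_lit 4, nat_lit 3, nat_lit 2, nat_lit 3, nat_lit 1], [nat_lit 25, nat_lit 2, nat_lit 0, nat_lit 24, nat_lit 17, nat_lit 11, nat_lit 27], (nat_lit 12923)), ((nat_lit 2247), [nat_lit 4, nat_lit 7, nat_lit 2, nat_lit 3, nat_lit 4, nat_lit 8, nat_lit 4, nat_lit 3, nat_lit 1, nat_lit 2, nat_lit 3, nat_lit 0, nat_lit 1], [nat_lit 5, nat_lit 27, nat_lit 17, nat_lit 26], (nat_lit 4565)), ((nat_lit 1108), [nat_lit 6, nat_lit 3, nat_lit 1, nat_lit 2, nat_lit 3, nat_lit 4, nat_lit 8, nat_lit 4, nat_lit 3, nat_lit 2, nat_lit 3, nat_lit 1], [nat_lit 14, nat_lit 0, nat_lit 32, nat_lit 34, nat_lit 11, nat_lit 26], (nat_lit 3770)), ((nat_lit 1887), [nat_lit 5, nat_lit 4, nat_lit 3, nat_lit 0, nat_lit 1, nat_lit 2, nat_lit 3, nat_lit 4, nat_lit 7, nat_lit 4, nat_lit 3, nat_lit 2, nat_lit 3, nat_lit 1], [nat_lit 15, nat_lit 1, nat_lit 25, nat_lit 11,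 nat_lit 26], (nat_lit 9130)), ((nat_lit 394), [nat_lit 7, nat_lit 3, nat_lit 4, nat_lit 8, nat_lit 8, nat_lit 0, nat_lit 1, nat_lit 2, nat_lit 3, nat_lit 4, nat_lit 7, nat_lit 2, nat_lit 3, nat_lit 1], [nat_lit 34, nat_lit 25, nat_lit 11, nat_lit 27], (nat_lit 10657)), ((nat_lit 748), [nat_lit 7, nat_lit 3, nat_lit 1, nat_lit 2, nat_lit 3, nat_lit 4, nat_lit 8, nat_lit 4, nat_lit 3, nat_lit 2, nat_lit 3, nat_lit 1], [nat_lit 10, nat_lit 10, nat_lit 0, nat_lit 36, nat_lit 17], (nat_lit 3773)), ((nat_lit 1226), [nat_lit 7, nat_lit 6, nat_lit 2, nat_lit 3, nat_lit 4, nat_lit 7, nat_lit 3, nat_lit 4, nat_lit 1, nat_lit 2, nat_lit 3, nat_lit 0, nat_lit 1], [nat_lit 10, nat_lit 0, nat_lit 33, nat_lit 33, nat_lit 11, nat_lit 26], (nat_lit 4720)), ((nat_lit 2291), [nat_lit 3, nat_lit 4, nat_lit 7, nat_lit 2, nat_lit 3, nat_lit 4, nat_lit 8, nat_lit 4, nat_lit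 3, nat_lit 2, nat_lit 3, nat_lit 1], [nat_lit 24, nat_lit 1, nat_lit 26, nat_lit 24, nat_lit 11, nat_lit 26], (nat_lit 3788)), ((nat_lit 2289), [nat_lit 8, nat_lit 8, nat_lit 3, nat_lit 2, nat_lit 3, nat_lit 1, nat_lit 2, nat_lit 3, nat_lit 4, nat_lit 7, nat_lit 3, nat_lit 2, nat_lit 3, nat_lit 1], [nat_lit 36, nat_lit 33, nat_lit 26], (nat_lit 9501)), ((nat_lit 2028), [nat_lit 7, nat_lit 4, nat_lit 7, nat_lit 6, nat_lit 0, nat_lit 1, nat_lit 2, nat_lit 3, nat_lit 4, nat_lit 7, nat_lit 2, nat_lit 3, nat_lit 1], [nat_lit 14, nat_lit 25, nat_lit 15, nat_lit 11, nat_lit 27], (nat_lit 7021)), ((nat_lit 720), [nat_lit 6, nat_lit 2, nat_lit 3, nat_lit 1, nat_lit 2, nat_lit 3, nat_lit 4, nat_lit 8, nat_lit 4, nat_lit 3, nat_lit 2, nat_lit 3, nat_lit 1], [nat_lit 24, nat_lit 1, nat_lit 34], (nat_lit 5928)), ((nat_lit 1718), [nat_lit 5, nat_lit 4, nat_lit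 3, nat_lit 0, nat_lit 1, nat_lit 2, nat_lit 3, nat_lit 4, nat_lit 8, nat_lit 4, nat_lit 3, nat_lit 2, nat_lit 3, nat_lit 1], [nat_lit 18, nat_lit 15, nat_lit 0, nat_lit 37, nat_lit 24, nat_lit 15], (nat_lit 9051)), ((nat_lit 728), [nat_lit 2, nat_lit 3, nat_lit 1, nat_lit 2, nat_lit 3, nat_lit 4, nat_lit 7, nat_lit 4, nat_lit 7, nat_lit 3, nat_lit 2, nat_lit 3, nat_lit 1], [nat_lit 16, nat_lit 5, nat_lit 0, nat_lit 36, nat_lit 25], (nat_lit 6340)), ((nat_lit 2221), [nat_lit 4, nat_lit 3, nat_lit 2, nat_lit 3, nat_lit 0, nat_lit 1, nat_lit 2, nat_lit 3, nat_lit 4, nat_lit 8, nat_lit 4, nat_lit 8, nat_lit 3, nat_lit 2, nat_lit 3, nat_lit 1], [nat_lit 1, nat_lit 1, nat_lit 15, nat_lit 27], (nat_lit 16282)), ((nat_lit 1646), [nat_lit 3, nat_lit 4, nat_lit 7, nat_lit 2, nat_lit 3, nat_lit 4, nat_lit 7, nat_lit 4, nat_lit 3, nat_lit 2, nat_lit 3, nat_lit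 1], [nat_lit 17, nat_lit 24, nat_lit 0, nat_lit 34, nat_lit 32, nat_lit 11, nat_lit 26], (nat_lit 3816)), ((nat_lit 1806), [nat_lit 4, nat_lit 8, nat_lit 5, nat_lit 2, nat_lit 3, nat_lit 4, nat_lit 8, nat_lit 3, nat_lit 1, nat_lit 2, nat_lit 3, nat_lit 0, nat_lit 1], [nat_lit 15, nat_lit 5, nat_lit 16, nat_lit 18, nat_lit 15], (nat_lit 4595)), ((nat_lit 797), [nat_lit 6, nat_lit 7, nat_lit 3, nat_lit 0, nat_lit 1, nat_lit 2, nat_lit 3, nat_lit 4, nat_lit 7, nat_lit 3, nat_lit 4, nat_lit 2, nat_lit 3, nat_lit 1], [nat_lit 1, nat_lit 1, nat_lit 24, nat_lit 11, nat_lit 27], (nat_lit 10174)), ((nat_lit 556), [nat_lit 6, nat_lit 4, nat_lit 7, nat_lit 3, nat_lit 0, nat_lit 1, nat_lit 2, nat_lit 3, nat_lit 4, nat_lit 8, nat_lit 3, nat_lit 2, nat_lit 3, nat_lit 1], [nat_lit 25, nat_lit 1, nat_lit 11, nat_lit 15], (nat_lit 9224)), ((nat_lit 1076), [nat_lit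 8, nat_lit 8, nat_lit 2, nat_lit 3, nat_lit 4, nat_lit 7, nat_lit 0, nat_lit 1, nat_lit 2, nat_lit 3, nat_lit 4, nat_lit 8, nat_lit 2, nat_lit 3, nat_lit 1], [nat_lit 24, nat_lit 36, nat_lit 26], (nat_lit 14273)), ((nat_lit 671), [nat_lit 6, nat_lit 8, nat_lit 3, nat_lit 1, nat_lit 2, nat_lit 3, nat_lit 4, nat_lit 8, nat_lit 3, nat_lit 2, nat_lit 3, nat_lit 1], [nat_lit 11, nat_lit 5, nat_lit 2, nat_lit 26, nat_lit 36, nat_lit 27], (nat_lit 3844)), ((nat_lit 2413), [nat_lit 5, nat_lit 4, nat_lit 8, nat_lit 3, nat_lit 1, nat_lit 2, nat_lit 3, nat_lit 4, nat_lit 8, nat_lit 3, nat_lit 2, nat_lit 3, nat_lit 1], [nat_lit 18, nat_lit 15, nat_lit 0, nat_lit 27, nat_lit 24], (nat_lit 6061)), ((nat_lit 1026), [nat_lit 6, nat_lit 7, nat_lit 3, nat_lit 1, nat_lit 2, nat_lit 3, nat_lit 4, nat_lit 8, nat_lit 3, nat_lit 2, nat_lit 3, nat_lit 1], [nat_lit 1, nat_lit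 37, nat_lit 34, nat_lit 24, nat_lit 26], (nat_lit 3847)), ((nat_lit 447), [nat_lit 3, nat_lit 4, nat_lit 8, nat_lit 1, nat_lit 2, nat_lit 3, nat_lit 4, nat_lit 8, nat_lit 3, nat_lit 2, nat_lit 3, nat_lit 1], [nat_lit 37, nat_lit 26], (nat_lit 3852)), ((nat_lit 1079), [nat_lit 6, nat_lit 4, nat_lit 8, nat_lit 1, nat_lit 2, nat_lit 3, nat_lit 4, nat_lit 7, nat_lit 2, nat_lit 3, nat_lit 4, nat_lit 2, nat_lit 3, nat_lit 1], [nat_lit 16, nat_lit 2, nat_lit 32, nat_lit 32, nat_lit 27], (nat_lit 9956)), ((nat_lit 2153), [nat_lit 2, nat_lit 3, nat_lit 4, nat_lit 8, nat_lit 3, nat_lit 4, nat_lit 7, nat_lit 3, nat_lit 1, nat_lit 2, nat_lit 3, nat_lit 0, nat_lit 1], [nat_lit 15, nat_lit 0, nat_lit 25, nat_lit 35], (nat_lit 4654)), ((nat_lit 1257), [nat_lit 8, nat_lit 3, nat_lit 2, nat_lit 3, nat_lit 1, nat_lit 2, nat_lit 3, nat_lit 4, nat_lit 8, nat_lit 4, nat_lit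 3, nat_lit 2, nat_lit 3, nat_lit 0, nat_lit 1], [nat_lit 1, nat_lit 24, nat_lit 0, nat_lit 37, nat_lit 34, nat_lit 25, nat_lit 26], (nat_lit 11318)), ((nat_lit 2293), [nat_lit 3, nat_lit 4, nat_lit 8, nat_lit 6, nat_lit 2, nat_lit 3, nat_lit 4, nat_lit 8, nat_lit 3, nat_lit 2, nat_lit 3, nat_lit 1], [nat_lit 15, nat_lit 0, nat_lit 32, nat_lit 18], (nat_lit 3875)), ((nat_lit 1777), [nat_lit 3, nat_lit 4, nat_lit 8, nat_lit 5, nat_lit 2, nat_lit 3, nat_lit 4, nat_lit 8, nat_lit 3, nat_lit 2, nat_lit 3, nat_lit 1], [nat_lit 24, nat_lit 16, nat_lit 0, nat_lit 27, nat_lit 24], (nat_lit 3876)), ((nat_lit 806), [nat_lit 8, nat_lit 6, nat_lit 4, nat_lit 7, nat_lit 3, nat_lit 2, nat_lit 3, nat_lit 4, nat_lit 7, nat_lit 3, nat_lit 4, nat_lit 2, nat_lit 3, nat_lit 1], [nat_lit 14, nat_lit 0, nat_lit 25, nat_lit 36, nat_lit 11, nat_lit 26], (nat_lit 10252)),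 ((nat_lit 907), [nat_lit 3, nat_lit 4, nat_lit 7, nat_lit 3, nat_lit 4, nat_lit 8, nat_lit 1, nat_lit 2, nat_lit 3, nat_lit 4, nat_lit 3, nat_lit 2, nat_lit 3, nat_lit 1], [nat_lit 16, nat_lit 0, nat_lit 24, nat_lit 37, nat_lit 15, nat_lit 26], (nat_lit 8825)), ((nat_lit 1772), [nat_lit 7, nat_lit 5, nat_lit 4, nat_lit 7, nat_lit 3, nat_lit 4, nat_lit 7, nat_lit 2, nat_lit 3, nat_lit 4, nat_lit 7, nat_lit 3, nat_lit 2, nat_lit 3, nat_lit 1], [nat_lit 26, nat_lit 2, nat_lit 34, nat_lit 34, nat_lit 26], (nat_lit 13567)), ((nat_lit 1819), [nat_lit 8, nat_lit 4, nat_lit 7, nat_lit 2, nat_lit 3, nat_lit 4, nat_lit 8, nat_lit 1, nat_lit 2, nat_lit 3, nat_lit 4, nat_lit 7, nat_lit 3, nat_lit 2, nat_lit 3, nat_lit 1], [nat_lit 16, nat_lit 2, nat_lit 33, nat_lit 25, nat_lit 27], (nat_lit 16358)), ((nat_lit 2329), [nat_lit 7, nat_lit 1, nat_lit 2, nat_lit 3,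 nat_lit 4, nat_lit 7, nat_lit 5, nat_lit 0, nat_lit 1, nat_lit 2, nat_lit 3, nat_lit 4, nat_lit 8, nat_lit 2, nat_lit 3, nat_lit 1], [nat_lit 5, nat_lit 14, nat_lit 34, nat_lit 34, nat_lit 11], (nat_lit 16678)), ((nat_lit 727), [nat_lit 7, nat_lit 3, nat_lit 1, nat_lit 2, nat_lit 3, nat_lit 4, nat_lit 8, nat_lit 3, nat_lit 4, nat_lit 7, nat_lit 3, nat_lit 2, nat_lit 3, nat_lit 0, nat_lit 1], [nat_lit 11, nat_lit 2, nat_lit 0, nat_lit 18, nat_lit 15, nat_lit 27], (nat_lit 11669)), ((nat_lit 2391), [nat_lit 3, nat_lit 4, nat_lit 8, nat_lit 8, nat_lit 2, nat_lit 3, nat_lit 4, nat_lit 8, nat_lit 3, nat_lit 2, nat_lit 3, nat_lit 1], [nat_lit 0, nat_lit 37, nat_lit 37, nat_lit 16], (nat_lit 3890)), ((nat_lit 906), [nat_lit 7, nat_lit 1, nat_lit 2, nat_lit 3, nat_lit 4, nat_lit 8, nat_lit 2, nat_lit 3, nat_lit 4, nat_lit 2, nat_lit 3, nat_lit 0, nat_lit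 1], [nat_lit 24, nat_lit 16, nat_lit 0, nat_lit 32, nat_lit 26], (nat_lit 5315)), ((nat_lit 1644), [nat_lit 5, nat_lit 8, nat_lit 4, nat_lit 7, nat_lit 2, nat_lit 3, nat_lit 4, nat_lit 8, nat_lit 3, nat_lit 2, nat_lit 3, nat_lit 1], [nat_lit 17, nat_lit 2, nat_lit 0, nat_lit 11, nat_lit 17], (nat_lit 3899)), ((nat_lit 2344), [nat_lit 8, nat_lit 4, nat_lit 7, nat_lit 3, nat_lit 4, nat_lit 7, nat_lit 6, nat_lit 2, nat_lit 3, nat_lit 4, nat_lit 7, nat_lit 3, nat_lit 2, nat_lit 3, nat_lit 1], [nat_lit 2, nat_lit 0, nat_lit 36, nat_lit 26], (nat_lit 13506)), ((nat_lit 1397), [nat_lit 3, nat_lit 2, nat_lit 3, nat_lit 4, nat_lit 7, nat_lit 3, nat_lit 4, nat_lit 8, nat_lit 3, nat_lit 2, nat_lit 3, nat_lit 1], [nat_lit 1, nat_lit 5, nat_lit 32, nat_lit 24, nat_lit 26], (nat_lit 3905)), ((nat_lit 544), [nat_lit 6, nat_lit 4, nat_lit 7, nat_lit 3, nat_lit 2,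 nat_lit 3, nat_lit 4, nat_lit 7, nat_lit 3, nat_lit 2, nat_lit 3, nat_lit 1], [nat_lit 1, nat_lit 1, nat_lit 33, nat_lit 11, nat_lit 16, nat_lit 26], (nat_lit 3960)), ((nat_lit 1038), [nat_lit 3, nat_lit 1, nat_lit 2, nat_lit 3, nat_lit 4, nat_lit 8, nat_lit 4, nat_lit 8, nat_lit 3, nat_lit 2, nat_lit 3, nat_lit 1], [nat_lit 25, nat_lit 2, nat_lit 0, nat_lit 34, nat_lit 17, nat_lit 26], (nat_lit 3909)), ((nat_lit 1618), [nat_lit 8, nat_lit 6, nat_lit 3, nat_lit 4, nat_lit 7, nat_lit 0, nat_lit 1, nat_lit 2, nat_lit 3, nat_lit 4, nat_lit 8, nat_lit 2, nat_lit 3, nat_lit 1], [nat_lit 14, nat_lit 25, nat_lit 37, nat_lit 17, nat_lit 27], (nat_lit 10407)), ((nat_lit 1735), [nat_lit 5, nat_lit 8, nat_lit 3, nat_lit 0, nat_lit 1, nat_lit 2, nat_lit 3, nat_lit 4, nat_lit 8, nat_lit 3, nat_lit 2, nat_lit 3, nat_lit 1], [nat_lit 15, nat_lit 1, nat_lit 37, nat_lit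 37, nat_lit 16, nat_lit 27], (nat_lit 6026)), ((nat_lit 2283), [nat_lit 6, nat_lit 7, nat_lit 3, nat_lit 2, nat_lit 3, nat_lit 0, nat_lit 1, nat_lit 2, nat_lit 3, nat_lit 4, nat_lit 8, nat_lit 4, nat_lit 3, nat_lit 2, nat_lit 3, nat_lit 1], [nat_lit 18, nat_lit 15, nat_lit 0, nat_lit 24, nat_lit 18], (nat_lit 15981)), ((nat_lit 888), [nat_lit 2, nat_lit 3, nat_lit 4, nat_lit 8, nat_lit 4, nat_lit 8, nat_lit 3, nat_lit 4, nat_lit 3, nat_lit 1, nat_lit 2, nat_lit 3, nat_lit 0, nat_lit 1], [nat_lit 26, nat_lit 2, nat_lit 26, nat_lit 16, nat_lit 26], (nat_lit 7232)), ((nat_lit 465), [nat_lit 4, nat_lit 8, nat_lit 3, nat_lit 0, nat_lit 1, nat_lit 2, nat_lit 3, nat_lit 4, nat_lit 7, nat_lit 3, nat_lit 2, nat_lit 3, nat_lit 1], [nat_lit 5, nat_lit 2, nat_lit 0, nat_lit 36, nat_lit 32], (nat_lit 6185)), ((nat_lit 2349), [nat_lit 7, nat_lit 5, nat_lit 2, nat_lit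 3, nat_lit 1, nat_lit 2, nat_lit 3, nat_lit 4, nat_lit 8, nat_lit 3, nat_lit 2, nat_lit 3, nat_lit 1], [nat_lit 17, nat_lit 24, nat_lit 0, nat_lit 32, nat_lit 18, nat_lit 15], (nat_lit 6049)), ((nat_lit 457), [nat_lit 5, nat_lit 4, nat_lit 7, nat_lit 3, nat_lit 1, nat_lit 2, nat_lit 3, nat_lit 4, nat_lit 7, nat_lit 3, nat_lit 2, nat_lit 3, nat_lit 1], [nat_lit 25, nat_lit 14, nat_lit 0, nat_lit 26, nat_lit 24, nat_lit 11, nat_lit 26], (nat_lit 6227)), ((nat_lit 422), [nat_lit 2, nat_lit 3, nat_lit 1, nat_lit 2, nat_lit 3, nat_lit 4, nat_lit 8, nat_lit 4, nat_lit 8, nat_lit 4, nat_lit 3, nat_lit 2, nat_lit 3, nat_lit 1], [nat_lit 24, nat_lit 0, nat_lit 16, nat_lit 24], (nat_lit 9120)), ((nat_lit 1641), [nat_lit 3, nat_lit 4, nat_lit 7, nat_lit 1, nat_lit 2, nat_lit 3, nat_lit 4, nat_lit 7, nat_lit 3, nat_lit 2, nat_lit 3, nat_lit 1], [nat_lit 5, nat_lit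 14, nat_lit 32, nat_lit 37, nat_lit 15], (nat_lit 3947)), ((nat_lit 1056), [nat_lit 3, nat_lit 4, nat_lit 8, nat_lit 3, nat_lit 2, nat_lit 3, nat_lit 4, nat_lit 7, nat_lit 3, nat_lit 2, nat_lit 3, nat_lit 1], [nat_lit 24, nat_lit 2, nat_lit 0, nat_lit 34, nat_lit 32, nat_lit 16, nat_lit 26], (nat_lit 3954)), ((nat_lit 2382), [nat_lit 8, nat_lit 8, nat_lit 1, nat_lit 2, nat_lit 3, nat_lit 0, nat_lit 1, nat_lit 2, nat_lit 3, nat_lit 4, nat_lit 7, nat_lit 3, nat_lit 2, nat_lit 3, nat_lit 1], [nat_lit 25, nat_lit 36, nat_lit 26], (nat_lit 13311))] m5_5_16 m5_5_17) = 0 := by decide +kernel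
theorem e5_5_18 : dt.run q (fun c => c.edges (SP THn.T THn.Rl (nat_lit 15)) (nat_lit 4429) THn.T.n (nat_lit 5) (nat_lit 5)
  [((nat_lit 807), [nat_lit 8, nat_lit 8, nat_lit 3, nat_lit 0, nat_lit 1, nat_lit 2, nat_lit 3, nat_lit 4, nat_lit 7, nat_lit 2, nat_lit 3, nat_lit 4, nat_lit 2, nat_lit 3, nat_lit 1], [nat_lit 14, nat_lit 15, nat_lit 0, nat_lit 17, nat_lit 36, nat_lit 15, nat_lit 27], (nat_lit 13813)), ((nat_lit 933), [nat_lit 7, nat_lit 4, nat_lit 0, nat_lit 1, nat_lit 2, nat_lit 3, nat_lit 2, nat_lit 3, nat_lit 4, nat_lit 8, nat_lit 3, nat_lit 4, nat_lit 2, nat_lit 3, nat_lit 1], [nat_lit 5, nat_lit 0, nat_lit 35, nat_lit 35, nat_lit 11], (nat_lit 13998)), ((nat_lit 2215), [nat_lit 3, nat_lit 4, nat_lit 7, nat_lit 5, nat_lit 2, nat_lit 3, nat_lit 4, nat_lit 7, nat_lit 3, nat_lit 2, nat_lit 3, nat_lit 1], [nat_lit 15, nat_lit 5, nat_lit 24,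 nat_lit 18, nat_lit 27], (nat_lit 3968)), ((nat_lit 2255), [nat_lit 7, nat_lit 4, nat_lit 8, nat_lit 6, nat_lit 2, nat_lit 3, nat_lit 4, nat_lit 8, nat_lit 2, nat_lit 3, nat_lit 4, nat_lit 7, nat_lit 2, nat_lit 3, nat_lit 1], [nat_lit 5, nat_lit 0, nat_lit 25, nat_lit 35, nat_lit 11, nat_lit 27], (nat_lit 14605)), ((nat_lit 1550), [nat_lit 5, nat_lit 8, nat_lit 4, nat_lit 7, nat_lit 3, nat_lit 4, nat_lit 7, nat_lit 2, nat_lit 3, nat_lit 4, nat_lit 7, nat_lit 2, nat_lit 3, nat_lit 0, nat_lit 1], [nat_lit 1, nat_lit 14, nat_lit 33, nat_lit 37, nat_lit 11], (nat_lit 12370)), ((nat_lit 675), [nat_lit 5, nat_lit 3, nat_lit 4, nat_lit 8, nat_lit 2, nat_lit 3, nat_lit 4, nat_lit 7, nat_lit 3, nat_lit 2, nat_lit 3, nat_lit 1], [nat_lit 1, nat_lit 14, nat_lit 37, nat_lit 34, nat_lit 24], (nat_lit 3972)), ((nat_lit 1067), [nat_lit 6, nat_lit 8, nat_lit 0, nat_lit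 1, nat_lit 2, nat_lit 3, nat_lit 4, nat_lit 8, nat_lit 1, nat_lit 2, nat_lit 3, nat_lit 4, nat_lit 2, nat_lit 3, nat_lit 1], [nat_lit 1, nat_lit 24, nat_lit 0, nat_lit 35], (nat_lit 13659)), ((nat_lit 1161), [nat_lit 7, nat_lit 3, nat_lit 4, nat_lit 7, nat_lit 2, nat_lit 3, nat_lit 4, nat_lit 8, nat_lit 4, nat_lit 2, nat_lit 3, nat_lit 0, nat_lit 1], [nat_lit 24, nat_lit 16, nat_lit 0, nat_lit 16, nat_lit 18, nat_lit 11, nat_lit 27], (nat_lit 5453)), ((nat_lit 2467), [nat_lit 8, nat_lit 8, nat_lit 3, nat_lit 4, nat_lit 7, nat_lit 2, nat_lit 3, nat_lit 4, nat_lit 8, nat_lit 3, nat_lit 2, nat_lit 3, nat_lit 0, nat_lit 1], [nat_lit 16, nat_lit 5, nat_lit 2, nat_lit 32, nat_lit 26], (nat_lit 7890)), ((nat_lit 1715), [nat_lit 3, nat_lit 4, nat_lit 8, nat_lit 8, nat_lit 2, nat_lit 3, nat_lit 4, nat_lit 7, nat_lit 3, nat_lit 2, nat_lit 3, nat_lit 1], [nat_lit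 1, nat_lit 14, nat_lit 36, nat_lit 33, nat_lit 11, nat_lit 26], (nat_lit 3980)), ((nat_lit 1996), [nat_lit 8, nat_lit 8, nat_lit 2, nat_lit 3, nat_lit 4, nat_lit 8, nat_lit 3, nat_lit 1, nat_lit 2, nat_lit 3, nat_lit 4, nat_lit 7, nat_lit 3, nat_lit 2, nat_lit 3, nat_lit 0, nat_lit 1], [nat_lit 14, nat_lit 15, nat_lit 0, nat_lit 37, nat_lit 17, nat_lit 11, nat_lit 27], (nat_lit 16958)), ((nat_lit 1572), [nat_lit 6, nat_lit 8, nat_lit 3, nat_lit 4, nat_lit 8, nat_lit 1, nat_lit 2, nat_lit 3, nat_lit 4, nat_lit 8, nat_lit 2, nat_lit 3, nat_lit 0, nat_lit 1], [nat_lit 5, nat_lit 14, nat_lit 34, nat_lit 15, nat_lit 26], (nat_lit 8404)), ((nat_lit 1754), [nat_lit 7, nat_lit 5, nat_lit 3, nat_lit 4, nat_lit 7, nat_lit 1, nat_lit 2, nat_lit 3, nat_lit 4, nat_lit 8, nat_lit 2, nat_lit 3, nat_lit 0, nat_lit 1], [nat_lit 17, nat_lit 24, nat_lit 0, nat_lit 37,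 nat_lit 37, nat_lit 11], (nat_lit 8417)), ((nat_lit 2574), [nat_lit 1, nat_lit 2, nat_lit 3, nat_lit 4, nat_lit 8, nat_lit 3, nat_lit 4, nat_lit 7, nat_lit 2, nat_lit 3, nat_lit 4, nat_lit 7, nat_lit 3, nat_lit 2, nat_lit 3, nat_lit 1], [nat_lit 11, nat_lit 5, nat_lit 2, nat_lit 32, nat_lit 36, nat_lit 16], (nat_lit 16400)), ((nat_lit 890), [nat_lit 3, nat_lit 4, nat_lit 7, nat_lit 1, nat_lit 2, nat_lit 3, nat_lit 4, nat_lit 7, nat_lit 3, nat_lit 4, nat_lit 3, nat_lit 2, nat_lit 3, nat_lit 1], [nat_lit 35, nat_lit 35, nat_lit 11], (nat_lit 9008)), ((nat_lit 2034), [nat_lit 4, nat_lit 7, nat_lit 4, nat_lit 7, nat_lit 5, nat_lit 3, nat_lit 4, nat_lit 8, nat_lit 1, nat_lit 2, nat_lit 3, nat_lit 0, nat_lit 1], [nat_lit 24, nat_lit 16, nat_lit 0, nat_lit 11, nat_lit 15], (nat_lit 4845)), ((nat_lit 1324), [nat_lit 7, nat_lit 6, nat_lit 2, nat_lit 3, nat_lit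 4, nat_lit 7, nat_lit 2, nat_lit 3, nat_lit 4, nat_lit 8, nat_lit 2, nat_lit 3, nat_lit 0, nat_lit 1], [nat_lit 25, nat_lit 16, nat_lit 0, nat_lit 33, nat_lit 36, nat_lit 27], (nat_lit 8486)), ((nat_lit 930), [nat_lit 3, nat_lit 4, nat_lit 7, nat_lit 6, nat_lit 2, nat_lit 3, nat_lit 4, nat_lit 7, nat_lit 3, nat_lit 1, nat_lit 2, nat_lit 3, nat_lit 0, nat_lit 1], [nat_lit 18, nat_lit 15, nat_lit 0, nat_lit 27, nat_lit 36], (nat_lit 7329)), ((nat_lit 972), [nat_lit 4, nat_lit 8, nat_lit 5, nat_lit 1, nat_lit 2, nat_lit 3, nat_lit 4, nat_lit 8, nat_lit 2, nat_lit 3, nat_lit 4, nat_lit 7, nat_lit 2, nat_lit 3, nat_lit 0, nat_lit 1], [nat_lit 1, nat_lit 35, nat_lit 36, nat_lit 11, nat_lit 26], (nat_lit 15624)), ((nat_lit 1747), [nat_lit 5, nat_lit 8, nat_lit 3, nat_lit 0, nat_lit 1, nat_lit 2, nat_lit 3, nat_lit 4, nat_lit 7, nat_lit 3, nat_lit 2, nat_lit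 3, nat_lit 1], [nat_lit 24, nat_lit 16, nat_lit 0, nat_lit 27, nat_lit 24, nat_lit 11, nat_lit 27], (nat_lit 6186)), ((nat_lit 1953), [nat_lit 6, nat_lit 7, nat_lit 1, nat_lit 2, nat_lit 3, nat_lit 4, nat_lit 8, nat_lit 5, nat_lit 1, nat_lit 2, nat_lit 3, nat_lit 4, nat_lit 8, nat_lit 2, nat_lit 3, nat_lit 0, nat_lit 1], [nat_lit 1, nat_lit 1, nat_lit 25, nat_lit 37, nat_lit 11], (nat_lit 17028)), ((nat_lit 718), [nat_lit 6, nat_lit 4, nat_lit 2, nat_lit 3, nat_lit 1, nat_lit 2, nat_lit 3, nat_lit 4, nat_lit 8, nat_lit 4, nat_lit 3, nat_lit 2, nat_lit 3, nat_lit 0, nat_lit 1], [nat_lit 5, nat_lit 0, nat_lit 27, nat_lit 17, nat_lit 26], (nat_lit 11321)), ((nat_lit 1255), [nat_lit 6, nat_lit 7, nat_lit 3, nat_lit 4, nat_lit 8, nat_lit 1, nat_lit 2, nat_lit 3, nat_lit 4, nat_lit 2, nat_lit 3, nat_lit 1], [nat_lit 15, nat_lit 1, nat_lit 26, nat_lit 15,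 nat_lit 26], (nat_lit 4035)), ((nat_lit 1888), [nat_lit 2, nat_lit 3, nat_lit 1, nat_lit 2, nat_lit 3, nat_lit 4, nat_lit 7, nat_lit 4, nat_lit 7, nat_lit 3, nat_lit 2, nat_lit 3, nat_lit 0, nat_lit 1], [nat_lit 10, nat_lit 0, nat_lit 35, nat_lit 32, nat_lit 26], (nat_lit 8030)), ((nat_lit 1432), [nat_lit 3, nat_lit 4, nat_lit 8, nat_lit 4, nat_lit 8, nat_lit 1, nat_lit 2, nat_lit 3, nat_lit 4, nat_lit 2, nat_lit 3, nat_lit 1], [nat_lit 5, nat_lit 2, nat_lit 24, nat_lit 37, nat_lit 15, nat_lit 27], (nat_lit 4037)), ((nat_lit 1689), [nat_lit 6, nat_lit 3, nat_lit 0, nat_lit 1, nat_lit 2, nat_lit 3, nat_lit 4, nat_lit 7, nat_lit 4, nat_lit 3, nat_lit 2, nat_lit 3, nat_lit 0, nat_lit 1], [nat_lit 1, nat_lit 37, nat_lit 11, nat_lit 17, nat_lit 27], (nat_lit 7738)), ((nat_lit 1129), [nat_lit 2, nat_lit 3, nat_lit 4, nat_lit 7, nat_lit 2, nat_lit 3, nat_lit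 4, nat_lit 7, nat_lit 4, nat_lit 3, nat_lit 2, nat_lit 3, nat_lit 1], [nat_lit 15, nat_lit 5, nat_lit 25, nat_lit 16, nat_lit 16], (nat_lit 6010)), ((nat_lit 1491), [nat_lit 8, nat_lit 1, nat_lit 2, nat_lit 3, nat_lit 4, nat_lit 8, nat_lit 2, nat_lit 3, nat_lit 4, nat_lit 2, nat_lit 3, nat_lit 1], [nat_lit 24, nat_lit 0, nat_lit 24, nat_lit 11], (nat_lit 4058)), ((nat_lit 712), [nat_lit 8, nat_lit 3, nat_lit 4, nat_lit 7, nat_lit 5, nat_lit 0, nat_lit 1, nat_lit 2, nat_lit 3, nat_lit 4, nat_lit 7, nat_lit 2, nat_lit 3, nat_lit 1], [nat_lit 10, nat_lit 10, nat_lit 0, nat_lit 37, nat_lit 15, nat_lit 11, nat_lit 26], (nat_lit 10643)), ((nat_lit 2521), [nat_lit 6, nat_lit 8, nat_lit 3, nat_lit 4, nat_lit 7, nat_lit 2, nat_lit 3, nat_lit 4, nat_lit 8, nat_lit 2, nat_lit 3, nat_lit 1], [nat_lit 15, nat_lit 2, nat_lit 15, nat_lit 15], (nat_lit 4381)), ((nat_lit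 2008), [nat_lit 7, nat_lit 2, nat_lit 3, nat_lit 4, nat_lit 8, nat_lit 3, nat_lit 0, nat_lit 1, nat_lit 2, nat_lit 3, nat_lit 4, nat_lit 7, nat_lit 4, nat_lit 3, nat_lit 2, nat_lit 3, nat_lit 1], [nat_lit 24, nat_lit 0, nat_lit 32, nat_lit 24], (nat_lit 17131)), ((nat_lit 598), [nat_lit 8, nat_lit 3, nat_lit 4, nat_lit 7, nat_lit 2, nat_lit 3, nat_lit 4, nat_lit 8, nat_lit 3, nat_lit 2, nat_lit 3, nat_lit 0, nat_lit 1], [nat_lit 24, nat_lit 0, nat_lit 35, nat_lit 32, nat_lit 11], (nat_lit 5159)), ((nat_lit 1783), [nat_lit 6, nat_lit 4, nat_lit 8, nat_lit 2, nat_lit 3, nat_lit 4, nat_lit 7, nat_lit 2, nat_lit 3, nat_lit 4, nat_lit 7, nat_lit 3, nat_lit 2, nat_lit 3, nat_lit 1], [nat_lit 10, nat_lit 0, nat_lit 17, nat_lit 17, nat_lit 15, nat_lit 27], (nat_lit 13556)), ((nat_lit 2387), [nat_lit 2, nat_lit 3, nat_lit 4, nat_lit 8, nat_lit 5, nat_lit 2,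 nat_lit 3, nat_lit 4, nat_lit 8, nat_lit 2, nat_lit 3, nat_lit 4, nat_lit 2, nat_lit 3, nat_lit 0, nat_lit 1], [nat_lit 0, nat_lit 37, nat_lit 34, nat_lit 11, nat_lit 27], (nat_lit 15312)), ((nat_lit 426), [nat_lit 6, nat_lit 4, nat_lit 8, nat_lit 3, nat_lit 4, nat_lit 8, nat_lit 2, nat_lit 3, nat_lit 4, nat_lit 2, nat_lit 3, nat_lit 1], [nat_lit 24, nat_lit 15, nat_lit 0, nat_lit 24, nat_lit 15, nat_lit 27], (nat_lit 4077)), ((nat_lit 1341), [nat_lit 5, nat_lit 4, nat_lit 8, nat_lit 2, nat_lit 3, nat_lit 1, nat_lit 2, nat_lit 3, nat_lit 4, nat_lit 8, nat_lit 3, nat_lit 2, nat_lit 3, nat_lit 0, nat_lit 1], [nat_lit 11, nat_lit 2, nat_lit 0, nat_lit 17, nat_lit 15], (nat_lit 11419)), ((nat_lit 1330), [nat_lit 4, nat_lit 8, nat_lit 3, nat_lit 4, nat_lit 8, nat_lit 2, nat_lit 3, nat_lit 4, nat_lit 7, nat_lit 3, nat_lit 2, nat_lit 3, nat_lit 0, nat_lit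 1], [nat_lit 25, nat_lit 1, nat_lit 11, nat_lit 37, nat_lit 27], (nat_lit 8008)), ((nat_lit 792), [nat_lit 3, nat_lit 0, nat_lit 1, nat_lit 2, nat_lit 3, nat_lit 4, nat_lit 7, nat_lit 3, nat_lit 4, nat_lit 8, nat_lit 3, nat_lit 2, nat_lit 3, nat_lit 1], [nat_lit 5, nat_lit 14, nat_lit 15, nat_lit 18, nat_lit 16], (nat_lit 9427)), ((nat_lit 2448), [nat_lit 3, nat_lit 4, nat_lit 7, nat_lit 4, nat_lit 7, nat_lit 2, nat_lit 3, nat_lit 4, nat_lit 7, nat_lit 3, nat_lit 2, nat_lit 3, nat_lit 1], [nat_lit 24, nat_lit 1, nat_lit 15, nat_lit 18, nat_lit 11], (nat_lit 6330)), ((nat_lit 2014), [nat_lit 4, nat_lit 8, nat_lit 6, nat_lit 2, nat_lit 3, nat_lit 4, nat_lit 8, nat_lit 2, nat_lit 3, nat_lit 4, nat_lit 7, nat_lit 3, nat_lit 2, nat_lit 3, nat_lit 1], [nat_lit 25, nat_lit 1, nat_lit 32], (nat_lit 13519)), ((nat_lit 708), [nat_lit 5, nat_lit 4, nat_lit 8,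 nat_lit 2, nat_lit 3, nat_lit 4, nat_lit 8, nat_lit 2, nat_lit 3, nat_lit 4, nat_lit 7, nat_lit 2, nat_lit 3, nat_lit 1], [nat_lit 11, nat_lit 5, nat_lit 2, nat_lit 15, nat_lit 17, nat_lit 11], (nat_lit 10781)), ((nat_lit 1911), [nat_lit 7, nat_lit 7, nat_lit 1, nat_lit 2, nat_lit 3, nat_lit 4, nat_lit 7, nat_lit 1, nat_lit 2, nat_lit 3, nat_lit 4, nat_lit 8, nat_lit 2, nat_lit 3, nat_lit 1], [nat_lit 16, nat_lit 5, nat_lit 2, nat_lit 32, nat_lit 35, nat_lit 27], (nat_lit 14309)), ((nat_lit 2355), [nat_lit 8, nat_lit 6, nat_lit 1, nat_lit 2, nat_lit 3, nat_lit 2, nat_lit 3, nat_lit 4, nat_lit 7, nat_lit 3, nat_lit 4, nat_lit 2, nat_lit 3, nat_lit 1], [nat_lit 1, nat_lit 14, nat_lit 32, nat_lit 32, nat_lit 27], (nat_lit 10208)), ((nat_lit 1667), [nat_lit 3, nat_lit 4, nat_lit 7, nat_lit 4, nat_lit 7, nat_lit 0, nat_lit 1, nat_lit 2, nat_lit 3, nat_lit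 4, nat_lit 2, nat_lit 3, nat_lit 0, nat_lit 1], [nat_lit 26, nat_lit 2, nat_lit 18, nat_lit 11, nat_lit 15, nat_lit 27], (nat_lit 8061)), ((nat_lit 1623), [nat_lit 6, nat_lit 8, nat_lit 2, nat_lit 3, nat_lit 4, nat_lit 8, nat_lit 1, nat_lit 2, nat_lit 3, nat_lit 4, nat_lit 2, nat_lit 3, nat_lit 0, nat_lit 1], [nat_lit 2, nat_lit 0, nat_lit 27, nat_lit 18, nat_lit 26], (nat_lit 8071)), ((nat_lit 2398), [nat_lit 7, nat_lit 6, nat_lit 1, nat_lit 2, nat_lit 3, nat_lit 4, nat_lit 7, nat_lit 0, nat_lit 1, nat_lit 2, nat_lit 3, nat_lit 4, nat_lit 2, nat_lit 3, nat_lit 1], [nat_lit 5, nat_lit 2, nat_lit 36, nat_lit 17, nat_lit 26], (nat_lit 13614)), ((nat_lit 1897), [nat_lit 7, nat_lit 6, nat_lit 2, nat_lit 3, nat_lit 4, nat_lit 7, nat_lit 3, nat_lit 0, nat_lit 1, nat_lit 2, nat_lit 3, nat_lit 4, nat_lit 3, nat_lit 2, nat_lit 3, nat_lit 1], [nat_lit 0, nat_lit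 33, nat_lit 16, nat_lit 11], (nat_lit 15677)), ((nat_lit 2016), [nat_lit 1, nat_lit 2, nat_lit 3, nat_lit 4, nat_lit 7, nat_lit 4, nat_lit 7, nat_lit 0, nat_lit 1, nat_lit 2, nat_lit 3, nat_lit 4, nat_lit 2, nat_lit 3, nat_lit 1], [nat_lit 17, nat_lit 2, nat_lit 0, nat_lit 24, nat_lit 17, nat_lit 11, nat_lit 27], (nat_lit 13655)), ((nat_lit 1521), [nat_lit 6, nat_lit 4, nat_lit 8, nat_lit 3, nat_lit 4, nat_lit 7, nat_lit 2, nat_lit 3, nat_lit 4, nat_lit 2, nat_lit 3, nat_lit 1], [nat_lit 1, nat_lit 1, nat_lit 32, nat_lit 36, nat_lit 16, nat_lit 26], (nat_lit 4110)), ((nat_lit 2131), [nat_lit 3, nat_lit 4, nat_lit 8, nat_lit 2, nat_lit 3, nat_lit 4, nat_lit 8, nat_lit 2, nat_lit 3, nat_lit 4, nat_lit 8, nat_lit 3, nat_lit 2, nat_lit 3, nat_lit 0, nat_lit 1], [nat_lit 0, nat_lit 2, nat_lit 24, nat_lit 33, nat_lit 15, nat_lit 27], (nat_lit 15061)), ((nat_lit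 1128), [nat_lit 7, nat_lit 4, nat_lit 8, nat_lit 3, nat_lit 4, nat_lit 7, nat_lit 2, nat_lit 3, nat_lit 4, nat_lit 2, nat_lit 3, nat_lit 1], [nat_lit 14, nat_lit 15, nat_lit 0, nat_lit 15, nat_lit 18], (nat_lit 4113)), ((nat_lit 2535), [nat_lit 4, nat_lit 8, nat_lit 8, nat_lit 3, nat_lit 4, nat_lit 7, nat_lit 2, nat_lit 3, nat_lit 4, nat_lit 2, nat_lit 3, nat_lit 1], [nat_lit 5, nat_lit 16, nat_lit 2, nat_lit 37, nat_lit 11, nat_lit 15], (nat_lit 4114)), ((nat_lit 2191), [nat_lit 7, nat_lit 7, nat_lit 4, nat_lit 7, nat_lit 3, nat_lit 2, nat_lit 3, nat_lit 4, nat_lit 8, nat_lit 2, nat_lit 3, nat_lit 4, nat_lit 2, nat_lit 3, nat_lit 1], [nat_lit 25, nat_lit 16, nat_lit 0, nat_lit 33, nat_lit 16, nat_lit 27], (nat_lit 13764)), ((nat_lit 1892), [nat_lit 6, nat_lit 3, nat_lit 4, nat_lit 7, nat_lit 2, nat_lit 3, nat_lit 4, nat_lit 7, nat_lit 2, nat_lit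 3, nat_lit 4, nat_lit 8, nat_lit 2, nat_lit 3, nat_lit 0, nat_lit 1], [nat_lit 17, nat_lit 24, nat_lit 0, nat_lit 37, nat_lit 24, nat_lit 15, nat_lit 27], (nat_lit 15535)), ((nat_lit 1863), [nat_lit 2, nat_lit 3, nat_lit 4, nat_lit 7, nat_lit 4, nat_lit 7, nat_lit 2, nat_lit 3, nat_lit 4, nat_lit 2, nat_lit 3, nat_lit 1], [nat_lit 17, nat_lit 24, nat_lit 0, nat_lit 25, nat_lit 16, nat_lit 16, nat_lit 26], (nat_lit 4119)), ((nat_lit 484), [nat_lit 8, nat_lit 5, nat_lit 4, nat_lit 3, nat_lit 0, nat_lit 1, nat_lit 2, nat_lit 3, nat_lit 4, nat_lit 7, nat_lit 4, nat_lit 3, nat_lit 2, nat_lit 3, nat_lit 1], [nat_lit 26, nat_lit 2, nat_lit 0, nat_lit 25, nat_lit 26], (nat_lit 12936)), ((nat_lit 2458), [nat_lit 8, nat_lit 4, nat_lit 3, nat_lit 2, nat_lit 3, nat_lit 1, nat_lit 2, nat_lit 3, nat_lit 4, nat_lit 8, nat_lit 4, nat_lit 3, nat_lit 2, nat_lit 3,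 nat_lit 0, nat_lit 1], [nat_lit 17, nat_lit 2, nat_lit 0, nat_lit 18, nat_lit 11, nat_lit 15], (nat_lit 14924)), ((nat_lit 676), [nat_lit 7, nat_lit 4, nat_lit 7, nat_lit 3, nat_lit 4, nat_lit 7, nat_lit 3, nat_lit 2, nat_lit 3, nat_lit 4, nat_lit 7, nat_lit 3, nat_lit 2, nat_lit 3, nat_lit 1], [nat_lit 5, nat_lit 14, nat_lit 25, nat_lit 15], (nat_lit 13500)), ((nat_lit 2060), [nat_lit 7, nat_lit 6, nat_lit 3, nat_lit 2, nat_lit 3, nat_lit 4, nat_lit 8, nat_lit 3, nat_lit 4, nat_lit 2, nat_lit 3, nat_lit 1], [nat_lit 15, nat_lit 0, nat_lit 36, nat_lit 16, nat_lit 26], (nat_lit 4148)), ((nat_lit 969), [nat_lit 4, nat_lit 3, nat_lit 2, nat_lit 3, nat_lit 4, nat_lit 8, nat_lit 4, nat_lit 8, nat_lit 1, nat_lit 2, nat_lit 3, nat_lit 4, nat_lit 2, nat_lit 3, nat_lit 0, nat_lit 1], [nat_lit 11, nat_lit 2, nat_lit 0, nat_lit 37, nat_lit 37, nat_lit 16, nat_lit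 26], (nat_lit 15282)), ((nat_lit 1371), [nat_lit 8, nat_lit 1, nat_lit 2, nat_lit 3, nat_lit 4, nat_lit 8, nat_lit 6, nat_lit 2, nat_lit 3, nat_lit 4, nat_lit 8, nat_lit 2, nat_lit 3, nat_lit 4, nat_lit 2, nat_lit 3, nat_lit 1], [nat_lit 26, nat_lit 24, nat_lit 0, nat_lit 15, nat_lit 17, nat_lit 26], (nat_lit 17176)), ((nat_lit 1526), [nat_lit 6, nat_lit 4, nat_lit 8, nat_lit 3, nat_lit 4, nat_lit 8, nat_lit 2, nat_lit 3, nat_lit 4, nat_lit 8, nat_lit 3, nat_lit 2, nat_lit 3, nat_lit 1], [nat_lit 11, nat_lit 2, nat_lit 0, nat_lit 27, nat_lit 17], (nat_lit 9394)), ((nat_lit 1320), [nat_lit 5, nat_lit 8, nat_lit 4, nat_lit 7, nat_lit 7, nat_lit 3, nat_lit 1, nat_lit 2, nat_lit 3, nat_lit 4, nat_lit 7, nat_lit 3, nat_lit 2, nat_lit 3, nat_lit 1], [nat_lit 1, nat_lit 5, nat_lit 36, nat_lit 25, nat_lit 26], (nat_lit 13449)), ((nat_lit 977), [nat_lit 3,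 nat_lit 4, nat_lit 8, nat_lit 2, nat_lit 3, nat_lit 4, nat_lit 8, nat_lit 3, nat_lit 4, nat_lit 2, nat_lit 3, nat_lit 1], [nat_lit 11, nat_lit 2, nat_lit 0, nat_lit 36, nat_lit 16, nat_lit 11, nat_lit 26], (nat_lit 4158)), ((nat_lit 2066), [nat_lit 5, nat_lit 8, nat_lit 4, nat_lit 8, nat_lit 3, nat_lit 1, nat_lit 2, nat_lit 3, nat_lit 4, nat_lit 7, nat_lit 4, nat_lit 3, nat_lit 2, nat_lit 3, nat_lit 1], [nat_lit 25, nat_lit 1, nat_lit 36, nat_lit 32, nat_lit 26], (nat_lit 12991)), ((nat_lit 1896), [nat_lit 7, nat_lit 7, nat_lit 4, nat_lit 7, nat_lit 2, nat_lit 3, nat_lit 4, nat_lit 7, nat_lit 2, nat_lit 3, nat_lit 4, nat_lit 8, nat_lit 2, nat_lit 3, nat_lit 1], [nat_lit 24, nat_lit 2, nat_lit 0, nat_lit 24, nat_lit 15, nat_lit 27], (nat_lit 14455)), ((nat_lit 1400), [nat_lit 8, nat_lit 3, nat_lit 1, nat_lit 2, nat_lit 3, nat_lit 4, nat_lit 7, nat_lit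 3, nat_lit 4, nat_lit 2, nat_lit 3, nat_lit 1], [nat_lit 24, nat_lit 2, nat_lit 37, nat_lit 27], (nat_lit 4173)), ((nat_lit 2513), [nat_lit 3, nat_lit 4, nat_lit 8, nat_lit 0, nat_lit 1, nat_lit 2, nat_lit 3, nat_lit 4, nat_lit 7, nat_lit 3, nat_lit 2, nat_lit 3, nat_lit 1], [nat_lit 24, nat_lit 2, nat_lit 0, nat_lit 25, nat_lit 35], (nat_lit 6194)), ((nat_lit 746), [nat_lit 5, nat_lit 3, nat_lit 4, nat_lit 7, nat_lit 2, nat_lit 3, nat_lit 4, nat_lit 8, nat_lit 1, nat_lit 2, nat_lit 3, nat_lit 4, nat_lit 2, nat_lit 3, nat_lit 0, nat_lit 1], [nat_lit 16, nat_lit 5, nat_lit 0, nat_lit 17, nat_lit 15, nat_lit 11, nat_lit 27], (nat_lit 15267)), ((nat_lit 776), [nat_lit 5, nat_lit 4, nat_lit 7, nat_lit 2, nat_lit 3, nat_lit 4, nat_lit 7, nat_lit 1, nat_lit 2, nat_lit 3, nat_lit 4, nat_lit 2, nat_lit 3, nat_lit 1], [nat_lit 0, nat_lit 17, nat_lit 34, nat_lit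 15], (nat_lit 9793)), ((nat_lit 1145), [nat_lit 5, nat_lit 7, nat_lit 3, nat_lit 4, nat_lit 7, nat_lit 2, nat_lit 3, nat_lit 4, nat_lit 7, nat_lit 2, nat_lit 3, nat_lit 4, nat_lit 3, nat_lit 2, nat_lit 3, nat_lit 1], [nat_lit 24, nat_lit 2, nat_lit 0, nat_lit 25, nat_lit 18, nat_lit 16], (nat_lit 15866)), ((nat_lit 2323), [nat_lit 2, nat_lit 3, nat_lit 4, nat_lit 8, nat_lit 3, nat_lit 2, nat_lit 3, nat_lit 4, nat_lit 7, nat_lit 2, nat_lit 3, nat_lit 4, nat_lit 2, nat_lit 3, nat_lit 1], [nat_lit 11, nat_lit 2, nat_lit 0, nat_lit 33, nat_lit 18, nat_lit 11], (nat_lit 13872)), ((nat_lit 1938), [nat_lit 4, nat_lit 8, nat_lit 3, nat_lit 4, nat_lit 7, nat_lit 2, nat_lit 3, nat_lit 4, nat_lit 8, nat_lit 3, nat_lit 2, nat_lit 3, nat_lit 1], [nat_lit 14, nat_lit 0, nat_lit 36, nat_lit 16, nat_lit 11, nat_lit 27], (nat_lit 6159)), ((nat_lit 1852), [nat_lit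 6, nat_lit 8, nat_lit 0, nat_lit 1, nat_lit 2, nat_lit 3, nat_lit 2, nat_lit 3, nat_lit 4, nat_lit 8, nat_lit 3, nat_lit 4, nat_lit 2, nat_lit 3, nat_lit 1], [nat_lit 15, nat_lit 0, nat_lit 16, nat_lit 16, nat_lit 11], (nat_lit 14001)), ((nat_lit 1326), [nat_lit 3, nat_lit 4, nat_lit 8, nat_lit 2, nat_lit 3, nat_lit 4, nat_lit 7, nat_lit 3, nat_lit 4, nat_lit 2, nat_lit 3, nat_lit 1], [nat_lit 14, nat_lit 0, nat_lit 37, nat_lit 11, nat_lit 15], (nat_lit 4202)), ((nat_lit 2296), [nat_lit 6, nat_lit 4, nat_lit 7, nat_lit 3, nat_lit 2, nat_lit 3, nat_lit 4, nat_lit 8, nat_lit 3, nat_lit 4, nat_lit 7, nat_lit 2, nat_lit 3, nat_lit 1], [nat_lit 26, nat_lit 2, nat_lit 33, nat_lit 16], (nat_lit 10583)), ((nat_lit 1261), [nat_lit 7, nat_lit 1, nat_lit 2, nat_lit 3, nat_lit 4, nat_lit 7, nat_lit 0, nat_lit 1, nat_lit 2, nat_lit 3, nat_lit 4, nat_lit 7, nat_lit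 2, nat_lit 3, nat_lit 1], [nat_lit 24, nat_lit 1, nat_lit 15, nat_lit 18, nat_lit 11, nat_lit 27], (nat_lit 14496)), ((nat_lit 1180), [nat_lit 7, nat_lit 3, nat_lit 4, nat_lit 8, nat_lit 2, nat_lit 3, nat_lit 4, nat_lit 8, nat_lit 4, nat_lit 2, nat_lit 3, nat_lit 1], [nat_lit 5, nat_lit 14, nat_lit 34, nat_lit 24, nat_lit 26], (nat_lit 4238)), ((nat_lit 1071), [nat_lit 7, nat_lit 4, nat_lit 7, nat_lit 0, nat_lit 1, nat_lit 2, nat_lit 3, nat_lit 4, nat_lit 7, nat_lit 4, nat_lit 3, nat_lit 2, nat_lit 3, nat_lit 0, nat_lit 1], [nat_lit 18, nat_lit 15, nat_lit 0, nat_lit 36, nat_lit 16], (nat_lit 11349)), ((nat_lit 1383), [nat_lit 4, nat_lit 8, nat_lit 1, nat_lit 2, nat_lit 3, nat_lit 4, nat_lit 8, nat_lit 6, nat_lit 2, nat_lit 3, nat_lit 4, nat_lit 8, nat_lit 2, nat_lit 3, nat_lit 1], [nat_lit 24, nat_lit 2, nat_lit 33, nat_lit 18, nat_lit 11, nat_lit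 26], (nat_lit 14344)), ((nat_lit 733), [nat_lit 7, nat_lit 4, nat_lit 7, nat_lit 0, nat_lit 1, nat_lit 2, nat_lit 3, nat_lit 4, nat_lit 7, nat_lit 4, nat_lit 2, nat_lit 3, nat_lit 0, nat_lit 1], [nat_lit 16, nat_lit 5, nat_lit 2, nat_lit 24, nat_lit 16, nat_lit 26], (nat_lit 8334)), ((nat_lit 808), [nat_lit 8, nat_lit 4, nat_lit 7, nat_lit 7, nat_lit 3, nat_lit 4, nat_lit 8, nat_lit 1, nat_lit 2, nat_lit 3, nat_lit 4, nat_lit 8, nat_lit 2, nat_lit 3, nat_lit 0, nat_lit 1], [nat_lit 1, nat_lit 24, nat_lit 0, nat_lit 17, nat_lit 16, nat_lit 26], (nat_lit 15470))] m5_5_17 m5_5_18) = 0 := by decide +kernel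
theorem e5_5_19 : dt.run q (fun c => c.edges (SP THn.T THn.Rl (nat_lit 15)) (nat_lit 4429) THn.T.n (nat_lit 5) (nat_lit 5)
  [((nat_lit 1430), [nat_lit 8, nat_lit 4, nat_lit 8, nat_lit 8, nat_lit 3, nat_lit 4, nat_lit 8, nat_lit 1, nat_lit 2, nat_lit 3, nat_lit 4, nat_lit 2, nat_lit 3, nat_lit 0, nat_lit 1], [nat_lit 24, nat_lit 2, nat_lit 0, nat_lit 25, nat_lit 35, nat_lit 11, nat_lit 26], (nat_lit 11743)), ((nat_lit 2310), [nat_lit 7, nat_lit 5, nat_lit 3, nat_lit 4, nat_lit 7, nat_lit 1, nat_lit 2, nat_lit 3, nat_lit 4, nat_lit 7, nat_lit 2, nat_lit 3, nat_lit 0, nat_lit 1], [nat_lit 2, nat_lit 27, nat_lit 16], (nat_lit 8589)), ((nat_lit 861), [nat_lit 5, nat_lit 4, nat_lit 7, nat_lit 3, nat_lit 4, nat_lit 7, nat_lit 2, nat_lit 3, nat_lit 4, nat_lit 8, nat_lit 3, nat_lit 2, nat_lit 3, nat_lit 0, nat_lit 1], [nat_lit 25, nat_lit 14, nat_lit 0, nat_lit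 34, nat_lit 24, nat_lit 17, nat_lit 27], (nat_lit 11506)), ((nat_lit 2484), [nat_lit 7, nat_lit 4, nat_lit 7, nat_lit 2, nat_lit 3, nat_lit 4, nat_lit 7, nat_lit 2, nat_lit 3, nat_lit 4, nat_lit 8, nat_lit 2, nat_lit 3, nat_lit 0, nat_lit 1], [nat_lit 2, nat_lit 0, nat_lit 37, nat_lit 24, nat_lit 15, nat_lit 26], (nat_lit 12176)), ((nat_lit 1227), [nat_lit 7, nat_lit 7, nat_lit 4, nat_lit 8, nat_lit 4, nat_lit 3, nat_lit 2, nat_lit 3, nat_lit 4, nat_lit 8, nat_lit 3, nat_lit 4, nat_lit 2, nat_lit 3, nat_lit 1], [nat_lit 14, nat_lit 0, nat_lit 17, nat_lit 25, nat_lit 15], (nat_lit 14062)), ((nat_lit 1482), [nat_lit 8, nat_lit 5, nat_lit 4, nat_lit 8, nat_lit 2, nat_lit 3, nat_lit 4, nat_lit 7, nat_lit 1, nat_lit 2, nat_lit 3, nat_lit 4, nat_lit 2, nat_lit 3, nat_lit 1], [nat_lit 15, nat_lit 2, nat_lit 32, nat_lit 34], (nat_lit 13702)), ((nat_lit 1072),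 [nat_lit 2, nat_lit 3, nat_lit 4, nat_lit 8, nat_lit 5, nat_lit 0, nat_lit 1, nat_lit 2, nat_lit 3, nat_lit 4, nat_lit 8, nat_lit 3, nat_lit 2, nat_lit 3, nat_lit 1], [nat_lit 24, nat_lit 18, nat_lit 16, nat_lit 27], (nat_lit 13077)), ((nat_lit 2419), [nat_lit 6, nat_lit 4, nat_lit 2, nat_lit 3, nat_lit 0, nat_lit 1, nat_lit 2, nat_lit 3, nat_lit 4, nat_lit 8, nat_lit 3, nat_lit 4, nat_lit 3, nat_lit 2, nat_lit 3, nat_lit 0, nat_lit 1], [nat_lit 25, nat_lit 1, nat_lit 24, nat_lit 37, nat_lit 27], (nat_lit 16876)), ((nat_lit 2407), [nat_lit 6, nat_lit 3, nat_lit 1, nat_lit 2, nat_lit 3, nat_lit 4, nat_lit 7, nat_lit 3, nat_lit 4, nat_lit 3, nat_lit 2, nat_lit 3, nat_lit 1], [nat_lit 5, nat_lit 2, nat_lit 0, nat_lit 34, nat_lit 15, nat_lit 11, nat_lit 26], (nat_lit 5892)), ((nat_lit 1103), [nat_lit 6, nat_lit 2, nat_lit 3, nat_lit 4, nat_lit 8, nat_lit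 3, nat_lit 0, nat_lit 1, nat_lit 2, nat_lit 3, nat_lit 4, nat_lit 3, nat_lit 2, nat_lit 3, nat_lit 0, nat_lit 1], [nat_lit 24, nat_lit 16, nat_lit 0, nat_lit 16, nat_lit 17, nat_lit 15, nat_lit 27], (nat_lit 14772)), ((nat_lit 1124), [nat_lit 4, nat_lit 7, nat_lit 4, nat_lit 7, nat_lit 6, nat_lit 3, nat_lit 4, nat_lit 7, nat_lit 1, nat_lit 2, nat_lit 3, nat_lit 0, nat_lit 1], [nat_lit 5, nat_lit 2, nat_lit 0, nat_lit 34, nat_lit 34, nat_lit 15, nat_lit 27], (nat_lit 4910)), ((nat_lit 1362), [nat_lit 7, nat_lit 4, nat_lit 7, nat_lit 3, nat_lit 2, nat_lit 3, nat_lit 4, nat_lit 7, nat_lit 2, nat_lit 3, nat_lit 4, nat_lit 3, nat_lit 2, nat_lit 3, nat_lit 1], [nat_lit 14, nat_lit 0, nat_lit 27, nat_lit 24, nat_lit 15, nat_lit 27], (nat_lit 12665)), ((nat_lit 1631), [nat_lit 7, nat_lit 5, nat_lit 4, nat_lit 7, nat_lit 0, nat_lit 1, nat_lit 2, nat_lit 3,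 nat_lit 4, nat_lit 8, nat_lit 2, nat_lit 3, nat_lit 1], [nat_lit 15, nat_lit 5, nat_lit 36, nat_lit 16, nat_lit 11, nat_lit 27], (nat_lit 6863)), ((nat_lit 984), [nat_lit 7, nat_lit 3, nat_lit 2, nat_lit 3, nat_lit 4, nat_lit 8, nat_lit 3, nat_lit 4, nat_lit 7, nat_lit 3, nat_lit 2, nat_lit 3, nat_lit 1], [nat_lit 24, nat_lit 1, nat_lit 24, nat_lit 35, nat_lit 26], (nat_lit 6338)), ((nat_lit 1327), [nat_lit 8, nat_lit 5, nat_lit 4, nat_lit 7, nat_lit 0, nat_lit 1, nat_lit 2, nat_lit 3, nat_lit 4, nat_lit 8, nat_lit 3, nat_lit 2, nat_lit 3, nat_lit 0, nat_lit 1], [nat_lit 18, nat_lit 15, nat_lit 0, nat_lit 33, nat_lit 16], (nat_lit 11410)), ((nat_lit 1502), [nat_lit 8, nat_lit 4, nat_lit 8, nat_lit 8, nat_lit 0, nat_lit 1, nat_lit 2, nat_lit 3, nat_lit 4, nat_lit 7, nat_lit 2, nat_lit 3, nat_lit 0, nat_lit 1], [nat_lit 1, nat_lit 24, nat_lit 0, nat_lit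 36, nat_lit 18], (nat_lit 8539)), ((nat_lit 2346), [nat_lit 8, nat_lit 3, nat_lit 4, nat_lit 7, nat_lit 5, nat_lit 2, nat_lit 3, nat_lit 4, nat_lit 7, nat_lit 2, nat_lit 3, nat_lit 1], [nat_lit 11, nat_lit 5, nat_lit 2, nat_lit 24, nat_lit 33, nat_lit 15, nat_lit 27], (nat_lit 4461)), ((nat_lit 1803), [nat_lit 7, nat_lit 4, nat_lit 3, nat_lit 1, nat_lit 2, nat_lit 3, nat_lit 4, nat_lit 7, nat_lit 3, nat_lit 4, nat_lit 8, nat_lit 2, nat_lit 3, nat_lit 1], [nat_lit 14, nat_lit 15, nat_lit 0, nat_lit 16, nat_lit 16, nat_lit 11, nat_lit 27], (nat_lit 10621)), ((nat_lit 1134), [nat_lit 3, nat_lit 4, nat_lit 8, nat_lit 6, nat_lit 1, nat_lit 2, nat_lit 3, nat_lit 4, nat_lit 8, nat_lit 3, nat_lit 2, nat_lit 3, nat_lit 1], [nat_lit 10, nat_lit 0, nat_lit 36, nat_lit 33, nat_lit 24], (nat_lit 6069)), ((nat_lit 857), [nat_lit 3, nat_lit 4, nat_lit 8, nat_lit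 5, nat_lit 3, nat_lit 1, nat_lit 2, nat_lit 3, nat_lit 4, nat_lit 8, nat_lit 3, nat_lit 2, nat_lit 3, nat_lit 0, nat_lit 1], [nat_lit 15, nat_lit 2, nat_lit 32, nat_lit 24, nat_lit 11], (nat_lit 11430)), ((nat_lit 1990), [nat_lit 8, nat_lit 5, nat_lit 2, nat_lit 3, nat_lit 4, nat_lit 7, nat_lit 3, nat_lit 0, nat_lit 1, nat_lit 2, nat_lit 3, nat_lit 4, nat_lit 7, nat_lit 3, nat_lit 2, nat_lit 3, nat_lit 1], [nat_lit 14, nat_lit 15, nat_lit 0, nat_lit 18, nat_lit 11, nat_lit 26], (nat_lit 17156)), ((nat_lit 622), [nat_lit 8, nat_lit 2, nat_lit 3, nat_lit 4, nat_lit 7, nat_lit 2, nat_lit 3, nat_lit 4, nat_lit 7, nat_lit 2, nat_lit 3, nat_lit 1], [nat_lit 11, nat_lit 5, nat_lit 2, nat_lit 36, nat_lit 16, nat_lit 11, nat_lit 27], (nat_lit 4486)), ((nat_lit 571), [nat_lit 7, nat_lit 5, nat_lit 3, nat_lit 4, nat_lit 7, nat_lit 2, nat_lit 3, nat_lit 4, nat_lit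 7, nat_lit 2, nat_lit 3, nat_lit 1], [nat_lit 5, nat_lit 14, nat_lit 37, nat_lit 27], (nat_lit 4488)), ((nat_lit 894), [nat_lit 6, nat_lit 8, nat_lit 3, nat_lit 4, nat_lit 7, nat_lit 2, nat_lit 3, nat_lit 4, nat_lit 7, nat_lit 2, nat_lit 3, nat_lit 1], [nat_lit 0, nat_lit 2, nat_lit 34, nat_lit 34, nat_lit 11, nat_lit 27], (nat_lit 4490)), ((nat_lit 1209), [nat_lit 5, nat_lit 8, nat_lit 4, nat_lit 3, nat_lit 0, nat_lit 1, nat_lit 2, nat_lit 3, nat_lit 4, nat_lit 8, nat_lit 3, nat_lit 4, nat_lit 3, nat_lit 2, nat_lit 3, nat_lit 1], [nat_lit 5, nat_lit 27, nat_lit 15, nat_lit 11], (nat_lit 15880)), ((nat_lit 692), [nat_lit 2, nat_lit 3, nat_lit 4, nat_lit 8, nat_lit 6, nat_lit 0, nat_lit 1, nat_lit 2, nat_lit 3, nat_lit 4, nat_lit 8, nat_lit 3, nat_lit 2, nat_lit 3, nat_lit 1], [nat_lit 5, nat_lit 0, nat_lit 35, nat_lit 35, nat_lit 11, nat_lit 27],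 (nat_lit 13076)), ((nat_lit 1277), [nat_lit 5, nat_lit 2, nat_lit 3, nat_lit 1, nat_lit 2, nat_lit 3, nat_lit 4, nat_lit 7, nat_lit 3, nat_lit 4, nat_lit 3, nat_lit 2, nat_lit 3, nat_lit 0, nat_lit 1], [nat_lit 25, nat_lit 2, nat_lit 0, nat_lit 34, nat_lit 17, nat_lit 33, nat_lit 26], (nat_lit 11279)), ((nat_lit 1389), [nat_lit 4, nat_lit 8, nat_lit 6, nat_lit 3, nat_lit 1, nat_lit 2, nat_lit 3, nat_lit 4, nat_lit 7, nat_lit 3, nat_lit 4, nat_lit 3, nat_lit 2, nat_lit 3, nat_lit 0, nat_lit 1], [nat_lit 16, nat_lit 5, nat_lit 0, nat_lit 36, nat_lit 24, nat_lit 15], (nat_lit 14908)), ((nat_lit 1746), [nat_lit 6, nat_lit 8, nat_lit 4, nat_lit 7, nat_lit 7, nat_lit 3, nat_lit 1, nat_lit 2, nat_lit 3, nat_lit 4, nat_lit 8, nat_lit 3, nat_lit 2, nat_lit 3, nat_lit 1], [nat_lit 26, nat_lit 2, nat_lit 24, nat_lit 37, nat_lit 17, nat_lit 27], (nat_lit 13157)),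 ((nat_lit 417), [nat_lit 5, nat_lit 3, nat_lit 2, nat_lit 3, nat_lit 4, nat_lit 8, nat_lit 0, nat_lit 1, nat_lit 2, nat_lit 3, nat_lit 4, nat_lit 3, nat_lit 2, nat_lit 3, nat_lit 1], [nat_lit 10, nat_lit 10, nat_lit 0, nat_lit 18, nat_lit 16, nat_lit 26], (nat_lit 12443)), ((nat_lit 416), [nat_lit 2, nat_lit 3, nat_lit 4, nat_lit 8, nat_lit 4, nat_lit 8, nat_lit 4, nat_lit 3, nat_lit 1, nat_lit 2, nat_lit 3, nat_lit 0, nat_lit 1], [nat_lit 1, nat_lit 1, nat_lit 11, nat_lit 15, nat_lit 27], (nat_lit 4569)), ((nat_lit 1249), [nat_lit 4, nat_lit 3, nat_lit 2, nat_lit 3, nat_lit 1, nat_lit 2, nat_lit 3, nat_lit 4, nat_lit 7, nat_lit 4, nat_lit 7, nat_lit 3, nat_lit 2, nat_lit 3, nat_lit 1], [nat_lit 1, nat_lit 5, nat_lit 17, nat_lit 36, nat_lit 15], (nat_lit 13581)), ((nat_lit 929), [nat_lit 6, nat_lit 1, nat_lit 2, nat_lit 3, nat_lit 0, nat_lit 1, nat_lit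 2, nat_lit 3, nat_lit 4, nat_lit 8, nat_lit 2, nat_lit 3, nat_lit 4, nat_lit 3, nat_lit 2, nat_lit 3, nat_lit 1], [nat_lit 25, nat_lit 2, nat_lit 0, nat_lit 26, nat_lit 34, nat_lit 11], (nat_lit 17091)), ((nat_lit 2423), [nat_lit 4, nat_lit 8, nat_lit 3, nat_lit 1, nat_lit 2, nat_lit 3, nat_lit 4, nat_lit 7, nat_lit 2, nat_lit 3, nat_lit 4, nat_lit 8, nat_lit 2, nat_lit 3, nat_lit 1], [nat_lit 17, nat_lit 2, nat_lit 0, nat_lit 16, nat_lit 32, nat_lit 15], (nat_lit 14402)), ((nat_lit 1668), [nat_lit 5, nat_lit 4, nat_lit 3, nat_lit 2, nat_lit 3, nat_lit 4, nat_lit 7, nat_lit 2, nat_lit 3, nat_lit 4, nat_lit 3, nat_lit 2, nat_lit 3, nat_lit 1], [nat_lit 17, nat_lit 24, nat_lit 0, nat_lit 16, nat_lit 18, nat_lit 11], (nat_lit 8912)), ((nat_lit 1921), [nat_lit 6, nat_lit 8, nat_lit 2, nat_lit 3, nat_lit 1, nat_lit 2, nat_lit 3, nat_lit 4, nat_lit 3, nat_lit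 2, nat_lit 3, nat_lit 0, nat_lit 1], [nat_lit 24, nat_lit 2, nat_lit 0, nat_lit 25, nat_lit 18, nat_lit 16, nat_lit 27], (nat_lit 4939)), ((nat_lit 1380), [nat_lit 5, nat_lit 7, nat_lit 2, nat_lit 3, nat_lit 1, nat_lit 2, nat_lit 3, nat_lit 4, nat_lit 3, nat_lit 2, nat_lit 3, nat_lit 0, nat_lit 1], [nat_lit 1, nat_lit 16, nat_lit 24, nat_lit 27], (nat_lit 4943)), ((nat_lit 1332), [nat_lit 4, nat_lit 7, nat_lit 4, nat_lit 7, nat_lit 3, nat_lit 1, nat_lit 2, nat_lit 3, nat_lit 4, nat_lit 3, nat_lit 2, nat_lit 3, nat_lit 0, nat_lit 1], [nat_lit 16, nat_lit 5, nat_lit 0, nat_lit 24, nat_lit 37], (nat_lit 7590)), ((nat_lit 486), [nat_lit 6, nat_lit 1, nat_lit 2, nat_lit 3, nat_lit 4, nat_lit 7, nat_lit 3, nat_lit 2, nat_lit 3, nat_lit 4, nat_lit 3, nat_lit 2, nat_lit 3, nat_lit 1], [nat_lit 14, nat_lit 17, nat_lit 25, nat_lit 15, nat_lit 26], (nat_lit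 8850)), ((nat_lit 966), [nat_lit 4, nat_lit 7, nat_lit 5, nat_lit 3, nat_lit 4, nat_lit 7, nat_lit 2, nat_lit 3, nat_lit 4, nat_lit 8, nat_lit 2, nat_lit 3, nat_lit 0, nat_lit 1], [nat_lit 1, nat_lit 5, nat_lit 24, nat_lit 36, nat_lit 16, nat_lit 27], (nat_lit 8499)), ((nat_lit 1165), [nat_lit 0, nat_lit 1, nat_lit 2, nat_lit 3, nat_lit 4, nat_lit 7, nat_lit 0, nat_lit 1, nat_lit 2, nat_lit 3, nat_lit 4, nat_lit 3, nat_lit 2, nat_lit 3, nat_lit 0, nat_lit 1], [nat_lit 15, nat_lit 2, nat_lit 36, nat_lit 16, nat_lit 27], (nat_lit 14789)), ((nat_lit 1328), [nat_lit 7, nat_lit 3, nat_lit 4, nat_lit 8, nat_lit 1, nat_lit 2, nat_lit 3, nat_lit 0, nat_lit 1, nat_lit 2, nat_lit 3, nat_lit 4, nat_lit 3, nat_lit 2, nat_lit 3, nat_lit 1], [nat_lit 5, nat_lit 2, nat_lit 0, nat_lit 17, nat_lit 37, nat_lit 11, nat_lit 26], (nat_lit 15656)), ((nat_lit 1821), [nat_lit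 5, nat_lit 8, nat_lit 3, nat_lit 4, nat_lit 7, nat_lit 0, nat_lit 1, nat_lit 2, nat_lit 3, nat_lit 4, nat_lit 7, nat_lit 2, nat_lit 3, nat_lit 0, nat_lit 1], [nat_lit 16, nat_lit 5, nat_lit 2, nat_lit 34, nat_lit 32, nat_lit 27], (nat_lit 12231)), ((nat_lit 886), [nat_lit 4, nat_lit 8, nat_lit 3, nat_lit 1, nat_lit 2, nat_lit 3, nat_lit 4, nat_lit 7, nat_lit 2, nat_lit 3, nat_lit 4, nat_lit 7, nat_lit 2, nat_lit 3, nat_lit 1], [nat_lit 17, nat_lit 24, nat_lit 0, nat_lit 24, nat_lit 37, nat_lit 15], (nat_lit 14628)), ((nat_lit 971), [nat_lit 6, nat_lit 1, nat_lit 2, nat_lit 3, nat_lit 4, nat_lit 8, nat_lit 0, nat_lit 1, nat_lit 2, nat_lit 3, nat_lit 4, nat_lit 3, nat_lit 2, nat_lit 3, nat_lit 0, nat_lit 1], [nat_lit 25, nat_lit 2, nat_lit 0, nat_lit 24, nat_lit 15, nat_lit 26], (nat_lit 14785)), ((nat_lit 1053), [nat_lit 3, nat_lit 4, nat_lit 7, nat_lit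 4, nat_lit 7, nat_lit 3, nat_lit 2, nat_lit 3, nat_lit 4, nat_lit 3, nat_lit 2, nat_lit 3, nat_lit 0, nat_lit 1], [nat_lit 15, nat_lit 0, nat_lit 33, nat_lit 37, nat_lit 27], (nat_lit 7626)), ((nat_lit 1903), [nat_lit 6, nat_lit 7, nat_lit 4, nat_lit 8, nat_lit 4, nat_lit 3, nat_lit 2, nat_lit 3, nat_lit 4, nat_lit 8, nat_lit 3, nat_lit 4, nat_lit 2, nat_lit 3, nat_lit 1], [nat_lit 16, nat_lit 0, nat_lit 33, nat_lit 18, nat_lit 11, nat_lit 27], (nat_lit 14061)), ((nat_lit 1780), [nat_lit 8, nat_lit 4, nat_lit 7, nat_lit 5, nat_lit 3, nat_lit 2, nat_lit 3, nat_lit 4, nat_lit 8, nat_lit 3, nat_lit 4, nat_lit 2, nat_lit 3, nat_lit 1], [nat_lit 1, nat_lit 5, nat_lit 36, nat_lit 32, nat_lit 11, nat_lit 26], (nat_lit 10124)), ((nat_lit 1890), [nat_lit 2, nat_lit 3, nat_lit 4, nat_lit 7, nat_lit 6, nat_lit 2, nat_lit 3, nat_lit 4, nat_lit 7, nat_lit 2, nat_lit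 3, nat_lit 4, nat_lit 2, nat_lit 3, nat_lit 1], [nat_lit 25, nat_lit 14, nat_lit 0, nat_lit 15, nat_lit 18, nat_lit 16, nat_lit 27], (nat_lit 13889)), ((nat_lit 1536), [nat_lit 8, nat_lit 1, nat_lit 2, nat_lit 3, nat_lit 4, nat_lit 7, nat_lit 5, nat_lit 0, nat_lit 1, nat_lit 2, nat_lit 3, nat_lit 4, nat_lit 8, nat_lit 2, nat_lit 3, nat_lit 1], [nat_lit 1, nat_lit 34, nat_lit 11, nat_lit 17, nat_lit 26], (nat_lit 16677)), ((nat_lit 1045), [nat_lit 8, nat_lit 1, nat_lit 2, nat_lit 3, nat_lit 4, nat_lit 8, nat_lit 0, nat_lit 1, nat_lit 2, nat_lit 3, nat_lit 4, nat_lit 3, nat_lit 2, nat_lit 3, nat_lit 0, nat_lit 1], [nat_lit 16, nat_lit 2, nat_lit 35, nat_lit 32, nat_lit 11], (nat_lit 14787)), ((nat_lit 432), [nat_lit 5, nat_lit 8, nat_lit 4, nat_lit 3, nat_lit 0, nat_lit 1, nat_lit 2, nat_lit 3, nat_lit 4, nat_lit 8, nat_lit 4, nat_lit 3, nat_lit 2,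 nat_lit 3, nat_lit 1], [nat_lit 1, nat_lit 14, nat_lit 18, nat_lit 36, nat_lit 11], (nat_lit 12850)), ((nat_lit 1657), [nat_lit 4, nat_lit 8, nat_lit 3, nat_lit 4, nat_lit 7, nat_lit 1, nat_lit 2, nat_lit 3, nat_lit 4, nat_lit 8, nat_lit 4, nat_lit 2, nat_lit 3, nat_lit 1], [nat_lit 14, nat_lit 27, nat_lit 37, nat_lit 26], (nat_lit 10315)), ((nat_lit 1282), [nat_lit 4, nat_lit 7, nat_lit 3, nat_lit 4, nat_lit 7, nat_lit 2, nat_lit 3, nat_lit 4, nat_lit 3, nat_lit 2, nat_lit 3, nat_lit 0, nat_lit 1], [nat_lit 1, nat_lit 24, nat_lit 0, nat_lit 25, nat_lit 18, nat_lit 18, nat_lit 27], (nat_lit 5004)), ((nat_lit 1039), [nat_lit 5, nat_lit 7, nat_lit 4, nat_lit 7, nat_lit 3, nat_lit 4, nat_lit 7, nat_lit 2, nat_lit 3, nat_lit 4, nat_lit 7, nat_lit 2, nat_lit 3, nat_lit 1], [nat_lit 1, nat_lit 1, nat_lit 16, nat_lit 25, nat_lit 26], (nat_lit 10863)), ((nat_lit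 2514), [nat_lit 6, nat_lit 3, nat_lit 2, nat_lit 3, nat_lit 4, nat_lit 8, nat_lit 1, nat_lit 2, nat_lit 3, nat_lit 4, nat_lit 3, nat_lit 2, nat_lit 3, nat_lit 0, nat_lit 1], [nat_lit 5, nat_lit 16, nat_lit 2, nat_lit 24, nat_lit 15, nat_lit 27], (nat_lit 11184)), ((nat_lit 1211), [nat_lit 8, nat_lit 1, nat_lit 2, nat_lit 3, nat_lit 4, nat_lit 7, nat_lit 3, nat_lit 0, nat_lit 1, nat_lit 2, nat_lit 3, nat_lit 4, nat_lit 3, nat_lit 2, nat_lit 3, nat_lit 1], [nat_lit 1, nat_lit 5, nat_lit 34, nat_lit 24], (nat_lit 15673)), ((nat_lit 945), [nat_lit 7, nat_lit 5, nat_lit 2, nat_lit 3, nat_lit 4, nat_lit 8, nat_lit 3, nat_lit 4, nat_lit 3, nat_lit 2, nat_lit 3, nat_lit 0, nat_lit 1], [nat_lit 24, nat_lit 2, nat_lit 32, nat_lit 36, nat_lit 16], (nat_lit 5017)), ((nat_lit 2064), [nat_lit 8, nat_lit 6, nat_lit 2, nat_lit 3, nat_lit 1, nat_lit 2, nat_lit 3,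 nat_lit 4, nat_lit 7, nat_lit 3, nat_lit 4, nat_lit 2, nat_lit 3, nat_lit 0, nat_lit 1], [nat_lit 14, nat_lit 0, nat_lit 15], (nat_lit 11913)), ((nat_lit 710), [nat_lit 5, nat_lit 8, nat_lit 4, nat_lit 7, nat_lit 6, nat_lit 0, nat_lit 1, nat_lit 2, nat_lit 3, nat_lit 4, nat_lit 7, nat_lit 1, nat_lit 2, nat_lit 3, nat_lit 0, nat_lit 1], [nat_lit 25, nat_lit 14, nat_lit 0, nat_lit 35, nat_lit 17, nat_lit 16, nat_lit 26], (nat_lit 14752)), ((nat_lit 1741), [nat_lit 3, nat_lit 1, nat_lit 2, nat_lit 3, nat_lit 4, nat_lit 7, nat_lit 3, nat_lit 4, nat_lit 3, nat_lit 2, nat_lit 3, nat_lit 0, nat_lit 1], [nat_lit 15, nat_lit 0, nat_lit 32, nat_lit 27, nat_lit 17], (nat_lit 5022)), ((nat_lit 390), [nat_lit 7, nat_lit 6, nat_lit 3, nat_lit 4, nat_lit 7, nat_lit 0, nat_lit 1, nat_lit 2, nat_lit 3, nat_lit 4, nat_lit 3, nat_lit 2, nat_lit 3, nat_lit 0, nat_lit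 1], [nat_lit 1, nat_lit 5, nat_lit 17, nat_lit 16, nat_lit 27], (nat_lit 11141)), ((nat_lit 851), [nat_lit 4, nat_lit 8, nat_lit 1, nat_lit 2, nat_lit 3, nat_lit 4, nat_lit 7, nat_lit 1, nat_lit 2, nat_lit 3, nat_lit 4, nat_lit 3, nat_lit 2, nat_lit 3, nat_lit 0, nat_lit 1], [nat_lit 17, nat_lit 24, nat_lit 0, nat_lit 25, nat_lit 37, nat_lit 11], (nat_lit 14840)), ((nat_lit 826), [nat_lit 6, nat_lit 3, nat_lit 1, nat_lit 2, nat_lit 3, nat_lit 4, nat_lit 8, nat_lit 4, nat_lit 3, nat_lit 2, nat_lit 3, nat_lit 0, nat_lit 1], [nat_lit 24, nat_lit 0, nat_lit 18, nat_lit 35, nat_lit 15, nat_lit 27], (nat_lit 5043)), ((nat_lit 2553), [nat_lit 5, nat_lit 4, nat_lit 3, nat_lit 1, nat_lit 2, nat_lit 3, nat_lit 4, nat_lit 8, nat_lit 4, nat_lit 3, nat_lit 2, nat_lit 3, nat_lit 0, nat_lit 1], [nat_lit 0, nat_lit 24, nat_lit 17, nat_lit 11, nat_lit 26], (nat_lit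 7716)), ((nat_lit 854), [nat_lit 5, nat_lit 7, nat_lit 4, nat_lit 3, nat_lit 2, nat_lit 3, nat_lit 4, nat_lit 7, nat_lit 3, nat_lit 4, nat_lit 3, nat_lit 2, nat_lit 3, nat_lit 1], [nat_lit 5, nat_lit 0, nat_lit 15, nat_lit 18, nat_lit 11, nat_lit 27], (nat_lit 9029)), ((nat_lit 2460), [nat_lit 3, nat_lit 4, nat_lit 7, nat_lit 2, nat_lit 3, nat_lit 4, nat_lit 8, nat_lit 4, nat_lit 3, nat_lit 2, nat_lit 3, nat_lit 0, nat_lit 1], [nat_lit 14, nat_lit 15, nat_lit 0, nat_lit 36], (nat_lit 5059)), ((nat_lit 2478), [nat_lit 4, nat_lit 7, nat_lit 4, nat_lit 3, nat_lit 2, nat_lit 3, nat_lit 4, nat_lit 7, nat_lit 3, nat_lit 4, nat_lit 3, nat_lit 2, nat_lit 3, nat_lit 1], [nat_lit 26, nat_lit 24, nat_lit 0, nat_lit 26, nat_lit 34, nat_lit 11, nat_lit 26], (nat_lit 9027)), ((nat_lit 1185), [nat_lit 3, nat_lit 4, nat_lit 7, nat_lit 4, nat_lit 7, nat_lit 1, nat_lit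 2, nat_lit 3, nat_lit 4, nat_lit 3, nat_lit 2, nat_lit 3, nat_lit 1], [nat_lit 14, nat_lit 0, nat_lit 36, nat_lit 24, nat_lit 26], (nat_lit 5781)), ((nat_lit 687), [nat_lit 6, nat_lit 7, nat_lit 3, nat_lit 4, nat_lit 8, nat_lit 3, nat_lit 0, nat_lit 1, nat_lit 2, nat_lit 3, nat_lit 4, nat_lit 3, nat_lit 2, nat_lit 3, nat_lit 0, nat_lit 1], [nat_lit 25, nat_lit 1, nat_lit 11, nat_lit 37], (nat_lit 14778)), ((nat_lit 1084), [nat_lit 8, nat_lit 3, nat_lit 1, nat_lit 2, nat_lit 3, nat_lit 4, nat_lit 7, nat_lit 4, nat_lit 3, nat_lit 2, nat_lit 3, nat_lit 0, nat_lit 1], [nat_lit 17, nat_lit 2, nat_lit 0, nat_lit 35, nat_lit 17, nat_lit 27], (nat_lit 5072)), ((nat_lit 2266), [nat_lit 3, nat_lit 4, nat_lit 7, nat_lit 2, nat_lit 3, nat_lit 4, nat_lit 7, nat_lit 4, nat_lit 3, nat_lit 2, nat_lit 3, nat_lit 0, nat_lit 1], [nat_lit 14, nat_lit 15, nat_lit 0, nat_lit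 17, nat_lit 17, nat_lit 11, nat_lit 27], (nat_lit 5085)), ((nat_lit 608), [nat_lit 4, nat_lit 8, nat_lit 3, nat_lit 0, nat_lit 1, nat_lit 2, nat_lit 3, nat_lit 4, nat_lit 8, nat_lit 3, nat_lit 2, nat_lit 3, nat_lit 0, nat_lit 1], [nat_lit 5, nat_lit 0, nat_lit 17, nat_lit 27], (nat_lit 7778)), ((nat_lit 740), [nat_lit 3, nat_lit 4, nat_lit 8, nat_lit 4, nat_lit 8, nat_lit 0, nat_lit 1, nat_lit 2, nat_lit 3, nat_lit 4, nat_lit 2, nat_lit 3, nat_lit 1], [nat_lit 32, nat_lit 11], (nat_lit 6355)), ((nat_lit 459), [nat_lit 7, nat_lit 5, nat_lit 2, nat_lit 3, nat_lit 4, nat_lit 8, nat_lit 0, nat_lit 1, nat_lit 2, nat_lit 3, nat_lit 4, nat_lit 7, nat_lit 3, nat_lit 2, nat_lit 3, nat_lit 1], [nat_lit 10, nat_lit 10, nat_lit 0, nat_lit 24, nat_lit 17, nat_lit 11], (nat_lit 16312)), ((nat_lit 1576), [nat_lit 7, nat_lit 4, nat_lit 8, nat_lit 5, nat_lit 3, nat_lit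 1, nat_lit 2, nat_lit 3, nat_lit 4, nat_lit 7, nat_lit 3, nat_lit 4, nat_lit 3, nat_lit 2, nat_lit 3, nat_lit 1], [nat_lit 2, nat_lit 0, nat_lit 15, nat_lit 18, nat_lit 16, nat_lit 27], (nat_lit 15948)), ((nat_lit 1551), [nat_lit 6, nat_lit 8, nat_lit 3, nat_lit 1, nat_lit 2, nat_lit 3, nat_lit 4, nat_lit 8, nat_lit 3, nat_lit 2, nat_lit 3, nat_lit 0, nat_lit 1], [nat_lit 16, nat_lit 2, nat_lit 34, nat_lit 32, nat_lit 16, nat_lit 26], (nat_lit 5111)), ((nat_lit 452), [nat_lit 3, nat_lit 4, nat_lit 8, nat_lit 3, nat_lit 2, nat_lit 3, nat_lit 4, nat_lit 7, nat_lit 3, nat_lit 2, nat_lit 3, nat_lit 0, nat_lit 1], [nat_lit 5, nat_lit 2, nat_lit 0, nat_lit 37, nat_lit 34, nat_lit 11, nat_lit 26], (nat_lit 5214)), ((nat_lit 2566), [nat_lit 7, nat_lit 3, nat_lit 4, nat_lit 8, nat_lit 3, nat_lit 2, nat_lit 3, nat_lit 4, nat_lit 7, nat_lit 4, nat_lit 3, nat_lit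 2, nat_lit 3, nat_lit 1], [nat_lit 1, nat_lit 14, nat_lit 35, nat_lit 27, nat_lit 15], (nat_lit 9182)), ((nat_lit 766), [nat_lit 4, nat_lit 8, nat_lit 5, nat_lit 3, nat_lit 1, nat_lit 2, nat_lit 3, nat_lit 4, nat_lit 7, nat_lit 4, nat_lit 3, nat_lit 2, nat_lit 3, nat_lit 0, nat_lit 1], [nat_lit 15, nat_lit 2, nat_lit 33, nat_lit 27], (nat_lit 11363))] m5_5_18 m5_5_19) = 0 := by decide +kernel
theorem e5_5_20 : dt.run q (fun c => c.edges (SP THn.T THn.Rl (nat_lit 15)) (nat_lit 4429) THn.T.n (nat_lit 5) (nat_lit 5)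
  [((nat_lit 2557), [nat_lit 6, nat_lit 4, nat_lit 7, nat_lit 3, nat_lit 1, nat_lit 2, nat_lit 3, nat_lit 4, nat_lit 7, nat_lit 3, nat_lit 2, nat_lit 3, nat_lit 0, nat_lit 1], [nat_lit 0, nat_lit 2, nat_lit 37, nat_lit 11, nat_lit 27], (nat_lit 7945)), ((nat_lit 2505), [nat_lit 3, nat_lit 4, nat_lit 8, nat_lit 6, nat_lit 2, nat_lit 3, nat_lit 4, nat_lit 8, nat_lit 3, nat_lit 2, nat_lit 3, nat_lit 0, nat_lit 1], [nat_lit 15, nat_lit 1, nat_lit 25, nat_lit 11, nat_lit 26], (nat_lit 5141)), ((nat_lit 434), [nat_lit 3, nat_lit 4, nat_lit 8, nat_lit 5, nat_lit 2, nat_lit 3, nat_lit 4, nat_lit 8, nat_lit 3, nat_lit 2, nat_lit 3, nat_lit 0, nat_lit 1], [nat_lit 1, nat_lit 25, nat_lit 18, nat_lit 27], (nat_lit 5142)), ((nat_lit 1779), [nat_lit 3, nat_lit 4, nat_lit 8, nat_lit 5, nat_lit 2, nat_lit 3, nat_lit 2, nat_lit 3, nat_lit 4, nat_lit 7, nat_lit 3,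 nat_lit 4, nat_lit 2, nat_lit 3, nat_lit 1], [nat_lit 16, nat_lit 5, nat_lit 2, nat_lit 26, nat_lit 24, nat_lit 27], (nat_lit 14139)), ((nat_lit 1284), [nat_lit 8, nat_lit 1, nat_lit 2, nat_lit 3, nat_lit 4, nat_lit 8, nat_lit 1, nat_lit 2, nat_lit 3, nat_lit 4, nat_lit 3, nat_lit 2, nat_lit 3, nat_lit 0, nat_lit 1], [nat_lit 1, nat_lit 1, nat_lit 11, nat_lit 37, nat_lit 27], (nat_lit 11181)), ((nat_lit 2483), [nat_lit 4, nat_lit 7, nat_lit 2, nat_lit 3, nat_lit 4, nat_lit 7, nat_lit 5, nat_lit 2, nat_lit 3, nat_lit 4, nat_lit 8, nat_lit 2, nat_lit 3, nat_lit 0, nat_lit 1], [nat_lit 10, nat_lit 10, nat_lit 0, nat_lit 11], (nat_lit 12108)), ((nat_lit 1410), [nat_lit 1, nat_lit 2, nat_lit 3, nat_lit 4, nat_lit 7, nat_lit 3, nat_lit 2, nat_lit 3, nat_lit 4, nat_lit 7, nat_lit 4, nat_lit 3, nat_lit 2, nat_lit 3, nat_lit 1], [nat_lit 26, nat_lit 2, nat_lit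 36, nat_lit 16, nat_lit 11], (nat_lit 13009)), ((nat_lit 2424), [nat_lit 3, nat_lit 4, nat_lit 8, nat_lit 8, nat_lit 1, nat_lit 2, nat_lit 3, nat_lit 4, nat_lit 8, nat_lit 3, nat_lit 2, nat_lit 3, nat_lit 0, nat_lit 1], [nat_lit 1, nat_lit 24, nat_lit 0, nat_lit 24, nat_lit 24, nat_lit 26], (nat_lit 7831)), ((nat_lit 1101), [nat_lit 7, nat_lit 4, nat_lit 7, nat_lit 3, nat_lit 4, nat_lit 7, nat_lit 0, nat_lit 1, nat_lit 2, nat_lit 3, nat_lit 4, nat_lit 8, nat_lit 3, nat_lit 2, nat_lit 3, nat_lit 1], [nat_lit 11, nat_lit 2, nat_lit 0, nat_lit 34, nat_lit 24, nat_lit 17, nat_lit 26], (nat_lit 16173)), ((nat_lit 2446), [nat_lit 3, nat_lit 4, nat_lit 8, nat_lit 8, nat_lit 2, nat_lit 3, nat_lit 4, nat_lit 8, nat_lit 3, nat_lit 2, nat_lit 3, nat_lit 0, nat_lit 1], [nat_lit 1, nat_lit 24, nat_lit 0, nat_lit 16, nat_lit 16, nat_lit 11, nat_lit 26], (nat_lit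 5154)), ((nat_lit 1348), [nat_lit 8, nat_lit 0, nat_lit 1, nat_lit 2, nat_lit 3, nat_lit 4, nat_lit 8, nat_lit 1, nat_lit 2, nat_lit 3, nat_lit 4, nat_lit 7, nat_lit 2, nat_lit 3, nat_lit 0, nat_lit 1], [nat_lit 24, nat_lit 1, nat_lit 24, nat_lit 17, nat_lit 26], (nat_lit 15572)), ((nat_lit 2209), [nat_lit 7, nat_lit 7, nat_lit 1, nat_lit 2, nat_lit 3, nat_lit 4, nat_lit 8, nat_lit 2, nat_lit 3, nat_lit 4, nat_lit 8, nat_lit 2, nat_lit 3, nat_lit 0, nat_lit 1], [nat_lit 1, nat_lit 32, nat_lit 37, nat_lit 15, nat_lit 27], (nat_lit 12125)), ((nat_lit 1017), [nat_lit 8, nat_lit 4, nat_lit 7, nat_lit 3, nat_lit 4, nat_lit 7, nat_lit 6, nat_lit 2, nat_lit 3, nat_lit 4, nat_lit 7, nat_lit 3, nat_lit 2, nat_lit 3, nat_lit 0, nat_lit 1], [nat_lit 0, nat_lit 36, nat_lit 33, nat_lit 11], (nat_lit 15175)), ((nat_lit 2409), [nat_lit 8, nat_lit 4, nat_lit 7, nat_lit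 2, nat_lit 3, nat_lit 4, nat_lit 7, nat_lit 2, nat_lit 3, nat_lit 4, nat_lit 2, nat_lit 3, nat_lit 1], [nat_lit 14, nat_lit 15, nat_lit 0, nat_lit 16, nat_lit 32, nat_lit 15, nat_lit 27], (nat_lit 6538)), ((nat_lit 1062), [nat_lit 3, nat_lit 1, nat_lit 2, nat_lit 3, nat_lit 4, nat_lit 8, nat_lit 4, nat_lit 8, nat_lit 3, nat_lit 2, nat_lit 3, nat_lit 0, nat_lit 1], [nat_lit 5, nat_lit 2, nat_lit 0, nat_lit 16, nat_lit 17, nat_lit 15, nat_lit 26], (nat_lit 5171)), ((nat_lit 375), [nat_lit 4, nat_lit 8, nat_lit 2, nat_lit 3, nat_lit 1, nat_lit 2, nat_lit 3, nat_lit 4, nat_lit 7, nat_lit 3, nat_lit 2, nat_lit 3, nat_lit 0, nat_lit 1], [nat_lit 16, nat_lit 0, nat_lit 25, nat_lit 37, nat_lit 15, nat_lit 26], (nat_lit 7930)), ((nat_lit 1721), [nat_lit 4, nat_lit 8, nat_lit 8, nat_lit 4, nat_lit 1, nat_lit 2, nat_lit 3, nat_lit 2, nat_lit 3, nat_lit 4, nat_lit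 8, nat_lit 3, nat_lit 4, nat_lit 2, nat_lit 3, nat_lit 1], [nat_lit 26, nat_lit 24, nat_lit 0, nat_lit 25, nat_lit 36], (nat_lit 16600)), ((nat_lit 756), [nat_lit 8, nat_lit 2, nat_lit 3, nat_lit 1, nat_lit 2, nat_lit 3, nat_lit 4, nat_lit 7, nat_lit 3, nat_lit 2, nat_lit 3, nat_lit 0, nat_lit 1], [nat_lit 16, nat_lit 5, nat_lit 2, nat_lit 37, nat_lit 34, nat_lit 11, nat_lit 27], (nat_lit 5189)), ((nat_lit 714), [nat_lit 7, nat_lit 6, nat_lit 3, nat_lit 4, nat_lit 2, nat_lit 3, nat_lit 1, nat_lit 2, nat_lit 3, nat_lit 4, nat_lit 7, nat_lit 4, nat_lit 3, nat_lit 2, nat_lit 3, nat_lit 1], [nat_lit 25, nat_lit 0, nat_lit 36, nat_lit 11, nat_lit 27], (nat_lit 16068)), ((nat_lit 1114), [nat_lit 4, nat_lit 8, nat_lit 6, nat_lit 3, nat_lit 1, nat_lit 2, nat_lit 3, nat_lit 4, nat_lit 7, nat_lit 3, nat_lit 2, nat_lit 3, nat_lit 0, nat_lit 1], [nat_lit 15,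 nat_lit 2, nat_lit 18, nat_lit 35, nat_lit 15, nat_lit 26], (nat_lit 7937)), ((nat_lit 1391), [nat_lit 5, nat_lit 8, nat_lit 3, nat_lit 1, nat_lit 2, nat_lit 3, nat_lit 4, nat_lit 7, nat_lit 3, nat_lit 2, nat_lit 3, nat_lit 0, nat_lit 1], [nat_lit 1, nat_lit 14, nat_lit 36, nat_lit 25, nat_lit 11], (nat_lit 5194)), ((nat_lit 2207), [nat_lit 3, nat_lit 4, nat_lit 8, nat_lit 6, nat_lit 3, nat_lit 2, nat_lit 3, nat_lit 4, nat_lit 7, nat_lit 3, nat_lit 2, nat_lit 3, nat_lit 0, nat_lit 1], [nat_lit 16, nat_lit 2, nat_lit 33, nat_lit 37, nat_lit 27], (nat_lit 7974)), ((nat_lit 2339), [nat_lit 7, nat_lit 7, nat_lit 3, nat_lit 1, nat_lit 2, nat_lit 3, nat_lit 4, nat_lit 7, nat_lit 3, nat_lit 2, nat_lit 3, nat_lit 0, nat_lit 1], [nat_lit 17, nat_lit 2, nat_lit 0, nat_lit 36, nat_lit 33, nat_lit 24, nat_lit 27], (nat_lit 5199)), ((nat_lit 674), [nat_lit 8,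 nat_lit 8, nat_lit 2, nat_lit 3, nat_lit 0, nat_lit 1, nat_lit 2, nat_lit 3, nat_lit 4, nat_lit 7, nat_lit 2, nat_lit 3, nat_lit 4, nat_lit 2, nat_lit 3, nat_lit 1], [nat_lit 11, nat_lit 2, nat_lit 0, nat_lit 26, nat_lit 16, nat_lit 26], (nat_lit 16507)), ((nat_lit 1886), [nat_lit 8, nat_lit 4, nat_lit 7, nat_lit 6, nat_lit 2, nat_lit 3, nat_lit 4, nat_lit 7, nat_lit 3, nat_lit 2, nat_lit 3, nat_lit 0, nat_lit 1], [nat_lit 1, nat_lit 14, nat_lit 17, nat_lit 37, nat_lit 11], (nat_lit 5226)), ((nat_lit 953), [nat_lit 6, nat_lit 8, nat_lit 4, nat_lit 8, nat_lit 2, nat_lit 3, nat_lit 4, nat_lit 8, nat_lit 4, nat_lit 2, nat_lit 3, nat_lit 0, nat_lit 1], [nat_lit 14, nat_lit 15, nat_lit 0, nat_lit 34, nat_lit 11, nat_lit 17, nat_lit 27], (nat_lit 5447)), ((nat_lit 1292), [nat_lit 8, nat_lit 4, nat_lit 8, nat_lit 2, nat_lit 3, nat_lit 2, nat_lit 3, nat_lit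 4, nat_lit 7, nat_lit 3, nat_lit 4, nat_lit 8, nat_lit 2, nat_lit 3, nat_lit 1], [nat_lit 5, nat_lit 2, nat_lit 32, nat_lit 35], (nat_lit 14471)), ((nat_lit 1710), [nat_lit 6, nat_lit 3, nat_lit 4, nat_lit 8, nat_lit 2, nat_lit 3, nat_lit 4, nat_lit 7, nat_lit 3, nat_lit 2, nat_lit 3, nat_lit 0, nat_lit 1], [nat_lit 11, nat_lit 2, nat_lit 0, nat_lit 34, nat_lit 17, nat_lit 11, nat_lit 27], (nat_lit 5231)), ((nat_lit 926), [nat_lit 4, nat_lit 7, nat_lit 5, nat_lit 3, nat_lit 2, nat_lit 3, nat_lit 4, nat_lit 8, nat_lit 2, nat_lit 3, nat_lit 4, nat_lit 2, nat_lit 3, nat_lit 1], [nat_lit 5, nat_lit 14, nat_lit 37, nat_lit 17], (nat_lit 9862)), ((nat_lit 2062), [nat_lit 6, nat_lit 4, nat_lit 7, nat_lit 3, nat_lit 4, nat_lit 8, nat_lit 2, nat_lit 3, nat_lit 4, nat_lit 8, nat_lit 4, nat_lit 2, nat_lit 3, nat_lit 1], [nat_lit 25, nat_lit 1, nat_lit 32, nat_lit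 15, nat_lit 26], (nat_lit 10331)), ((nat_lit 1003), [nat_lit 7, nat_lit 6, nat_lit 3, nat_lit 4, nat_lit 8, nat_lit 0, nat_lit 1, nat_lit 2, nat_lit 3, nat_lit 4, nat_lit 8, nat_lit 2, nat_lit 3, nat_lit 0, nat_lit 1], [nat_lit 25, nat_lit 16, nat_lit 0, nat_lit 15, nat_lit 11, nat_lit 26], (nat_lit 12027)), ((nat_lit 1792), [nat_lit 3, nat_lit 4, nat_lit 8, nat_lit 8, nat_lit 2, nat_lit 3, nat_lit 4, nat_lit 7, nat_lit 3, nat_lit 2, nat_lit 3, nat_lit 0, nat_lit 1], [nat_lit 11, nat_lit 5, nat_lit 2, nat_lit 26, nat_lit 24, nat_lit 11, nat_lit 27], (nat_lit 5239)), ((nat_lit 920), [nat_lit 8, nat_lit 1, nat_lit 2, nat_lit 3, nat_lit 1, nat_lit 2, nat_lit 3, nat_lit 4, nat_lit 7, nat_lit 3, nat_lit 4, nat_lit 3, nat_lit 2, nat_lit 3, nat_lit 1], [nat_lit 15, nat_lit 5, nat_lit 18, nat_lit 36, nat_lit 26], (nat_lit 12744)), ((nat_lit 2245), [nat_lit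 5, nat_lit 8, nat_lit 4, nat_lit 7, nat_lit 0, nat_lit 1, nat_lit 2, nat_lit 3, nat_lit 4, nat_lit 8, nat_lit 1, nat_lit 2, nat_lit 3, nat_lit 0, nat_lit 1], [nat_lit 26, nat_lit 24, nat_lit 0, nat_lit 37, nat_lit 34, nat_lit 26], (nat_lit 11055)), ((nat_lit 1672), [nat_lit 6, nat_lit 8, nat_lit 2, nat_lit 3, nat_lit 4, nat_lit 8, nat_lit 2, nat_lit 3, nat_lit 4, nat_lit 7, nat_lit 3, nat_lit 2, nat_lit 3, nat_lit 1], [nat_lit 18, nat_lit 15, nat_lit 0, nat_lit 34, nat_lit 34, nat_lit 15], (nat_lit 9637)), ((nat_lit 2321), [nat_lit 6, nat_lit 7, nat_lit 4, nat_lit 8, nat_lit 3, nat_lit 4, nat_lit 7, nat_lit 2, nat_lit 3, nat_lit 4, nat_lit 2, nat_lit 3, nat_lit 1], [nat_lit 5, nat_lit 0, nat_lit 18, nat_lit 11, nat_lit 15], (nat_lit 6552)), ((nat_lit 2466), [nat_lit 3, nat_lit 1, nat_lit 2, nat_lit 3, nat_lit 4, nat_lit 7, nat_lit 4, nat_lit 7, nat_lit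 3, nat_lit 2, nat_lit 3, nat_lit 0, nat_lit 1], [nat_lit 11, nat_lit 5, nat_lit 2, nat_lit 26, nat_lit 16, nat_lit 27], (nat_lit 5253)), ((nat_lit 711), [nat_lit 4, nat_lit 8, nat_lit 1, nat_lit 2, nat_lit 3, nat_lit 4, nat_lit 7, nat_lit 1, nat_lit 2, nat_lit 3, nat_lit 4, nat_lit 2, nat_lit 3, nat_lit 1], [nat_lit 14, nat_lit 34, nat_lit 32, nat_lit 16, nat_lit 27], (nat_lit 9770)), ((nat_lit 1564), [nat_lit 2, nat_lit 3, nat_lit 4, nat_lit 7, nat_lit 0, nat_lit 1, nat_lit 2, nat_lit 3, nat_lit 4, nat_lit 8, nat_lit 3, nat_lit 2, nat_lit 3, nat_lit 1], [nat_lit 1, nat_lit 1, nat_lit 26, nat_lit 34, nat_lit 26], (nat_lit 9245)), ((nat_lit 688), [nat_lit 3, nat_lit 4, nat_lit 7, nat_lit 7, nat_lit 2, nat_lit 3, nat_lit 4, nat_lit 7, nat_lit 2, nat_lit 3, nat_lit 4, nat_lit 8, nat_lit 2, nat_lit 3, nat_lit 1], [nat_lit 16, nat_lit 0, nat_lit 33, nat_lit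 35, nat_lit 27], (nat_lit 14456)), ((nat_lit 1082), [nat_lit 7, nat_lit 7, nat_lit 2, nat_lit 3, nat_lit 4, nat_lit 7, nat_lit 1, nat_lit 2, nat_lit 3, nat_lit 4, nat_lit 8, nat_lit 2, nat_lit 3, nat_lit 1], [nat_lit 10, nat_lit 10, nat_lit 0, nat_lit 32, nat_lit 11], (nat_lit 10454)), ((nat_lit 1804), [nat_lit 8, nat_lit 2, nat_lit 3, nat_lit 4, nat_lit 7, nat_lit 0, nat_lit 1, nat_lit 2, nat_lit 3, nat_lit 4, nat_lit 2, nat_lit 3, nat_lit 0, nat_lit 1], [nat_lit 15, nat_lit 2, nat_lit 15, nat_lit 35, nat_lit 11, nat_lit 26], (nat_lit 8050)), ((nat_lit 1831), [nat_lit 7, nat_lit 7, nat_lit 4, nat_lit 2, nat_lit 3, nat_lit 1, nat_lit 2, nat_lit 3, nat_lit 4, nat_lit 7, nat_lit 4, nat_lit 3, nat_lit 2, nat_lit 3, nat_lit 1], [nat_lit 5, nat_lit 2, nat_lit 0, nat_lit 33, nat_lit 18, nat_lit 26], (nat_lit 12973)), ((nat_lit 1787), [nat_lit 5, nat_lit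 8, nat_lit 3, nat_lit 4, nat_lit 7, nat_lit 1, nat_lit 2, nat_lit 3, nat_lit 4, nat_lit 2, nat_lit 3, nat_lit 0, nat_lit 1], [nat_lit 24, nat_lit 2, nat_lit 0, nat_lit 11, nat_lit 26], (nat_lit 5305)), ((nat_lit 1653), [nat_lit 7, nat_lit 4, nat_lit 7, nat_lit 3, nat_lit 4, nat_lit 7, nat_lit 2, nat_lit 3, nat_lit 4, nat_lit 8, nat_lit 2, nat_lit 3, nat_lit 0, nat_lit 1], [nat_lit 16, nat_lit 0, nat_lit 25, nat_lit 18, nat_lit 16], (nat_lit 8508)), ((nat_lit 2435), [nat_lit 5, nat_lit 7, nat_lit 4, nat_lit 7, nat_lit 3, nat_lit 4, nat_lit 8, nat_lit 2, nat_lit 3, nat_lit 4, nat_lit 7, nat_lit 2, nat_lit 3, nat_lit 0, nat_lit 1], [nat_lit 5, nat_lit 14, nat_lit 34, nat_lit 24, nat_lit 15, nat_lit 27], (nat_lit 12351)), ((nat_lit 2480), [nat_lit 3, nat_lit 4, nat_lit 8, nat_lit 1, nat_lit 2, nat_lit 3, nat_lit 4, nat_lit 7, nat_lit 3, nat_lit 1, nat_lit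 2, nat_lit 3, nat_lit 4, nat_lit 3, nat_lit 2, nat_lit 3, nat_lit 1], [nat_lit 5, nat_lit 2, nat_lit 0, nat_lit 11, nat_lit 16], (nat_lit 17084)), ((nat_lit 654), [nat_lit 8, nat_lit 8, nat_lit 1, nat_lit 2, nat_lit 3, nat_lit 4, nat_lit 7, nat_lit 1, nat_lit 2, nat_lit 3, nat_lit 4, nat_lit 8, nat_lit 2, nat_lit 3, nat_lit 1], [nat_lit 26, nat_lit 24, nat_lit 0, nat_lit 27, nat_lit 36, nat_lit 26], (nat_lit 14305)), ((nat_lit 2042), [nat_lit 4, nat_lit 7, nat_lit 7, nat_lit 3, nat_lit 4, nat_lit 8, nat_lit 1, nat_lit 2, nat_lit 3, nat_lit 4, nat_lit 8, nat_lit 2, nat_lit 3, nat_lit 0, nat_lit 1], [nat_lit 17, nat_lit 2, nat_lit 0, nat_lit 18, nat_lit 16, nat_lit 26], (nat_lit 12074)), ((nat_lit 1300), [nat_lit 8, nat_lit 4, nat_lit 7, nat_lit 3, nat_lit 4, nat_lit 8, nat_lit 2, nat_lit 3, nat_lit 4, nat_lit 7, nat_lit 3, nat_lit 2, nat_lit 3, nat_lit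 0, nat_lit 1], [nat_lit 5, nat_lit 2, nat_lit 0, nat_lit 34, nat_lit 16, nat_lit 26], (nat_lit 11649)), ((nat_lit 863), [nat_lit 7, nat_lit 1, nat_lit 2, nat_lit 3, nat_lit 2, nat_lit 3, nat_lit 4, nat_lit 8, nat_lit 3, nat_lit 4, nat_lit 7, nat_lit 2, nat_lit 3, nat_lit 1], [nat_lit 14, nat_lit 15, nat_lit 0, nat_lit 15, nat_lit 18, nat_lit 27], (nat_lit 10888)), ((nat_lit 954), [nat_lit 4, nat_lit 7, nat_lit 3, nat_lit 4, nat_lit 7, nat_lit 2, nat_lit 3, nat_lit 4, nat_lit 8, nat_lit 4, nat_lit 2, nat_lit 3, nat_lit 1], [nat_lit 14, nat_lit 26, nat_lit 24, nat_lit 11, nat_lit 26], (nat_lit 6783)), ((nat_lit 2571), [nat_lit 8, nat_lit 4, nat_lit 8, nat_lit 3, nat_lit 1, nat_lit 2, nat_lit 3, nat_lit 4, nat_lit 7, nat_lit 2, nat_lit 3, nat_lit 4, nat_lit 2, nat_lit 3, nat_lit 1], [nat_lit 1, nat_lit 27, nat_lit 16, nat_lit 26], (nat_lit 13842)), ((nat_lit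 396), [nat_lit 8, nat_lit 5, nat_lit 3, nat_lit 4, nat_lit 7, nat_lit 0, nat_lit 1, nat_lit 2, nat_lit 3, nat_lit 4, nat_lit 8, nat_lit 2, nat_lit 3, nat_lit 1], [nat_lit 10, nat_lit 10, nat_lit 0, nat_lit 17, nat_lit 11, nat_lit 27], (nat_lit 10408)), ((nat_lit 1705), [nat_lit 8, nat_lit 4, nat_lit 7, nat_lit 3, nat_lit 1, nat_lit 2, nat_lit 3, nat_lit 4, nat_lit 8, nat_lit 2, nat_lit 3, nat_lit 4, nat_lit 3, nat_lit 2, nat_lit 3, nat_lit 1], [nat_lit 24, nat_lit 16, nat_lit 0, nat_lit 17, nat_lit 34, nat_lit 11, nat_lit 26], (nat_lit 15825)), ((nat_lit 686), [nat_lit 6, nat_lit 8, nat_lit 0, nat_lit 1, nat_lit 2, nat_lit 3, nat_lit 4, nat_lit 8, nat_lit 2, nat_lit 3, nat_lit 4, nat_lit 8, nat_lit 3, nat_lit 2, nat_lit 3, nat_lit 1], [nat_lit 34, nat_lit 32, nat_lit 16], (nat_lit 16260)), ((nat_lit 1265), [nat_lit 8, nat_lit 1, nat_lit 2, nat_lit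 3, nat_lit 4, nat_lit 8, nat_lit 0, nat_lit 1, nat_lit 2, nat_lit 3, nat_lit 4, nat_lit 7, nat_lit 2, nat_lit 3, nat_lit 0, nat_lit 1], [nat_lit 14, nat_lit 27, nat_lit 18, nat_lit 11, nat_lit 27], (nat_lit 15546)), ((nat_lit 2549), [nat_lit 2, nat_lit 3, nat_lit 4, nat_lit 7, nat_lit 7, nat_lit 2, nat_lit 3, nat_lit 4, nat_lit 7, nat_lit 2, nat_lit 3, nat_lit 4, nat_lit 2, nat_lit 3, nat_lit 1], [nat_lit 26, nat_lit 2, nat_lit 32], (nat_lit 13911)), ((nat_lit 420), [nat_lit 8, nat_lit 4, nat_lit 2, nat_lit 3, nat_lit 1, nat_lit 2, nat_lit 3, nat_lit 4, nat_lit 8, nat_lit 4, nat_lit 3, nat_lit 2, nat_lit 3, nat_lit 1], [nat_lit 24, nat_lit 16, nat_lit 0, nat_lit 37, nat_lit 34, nat_lit 25, nat_lit 27], (nat_lit 9069)), ((nat_lit 1483), [nat_lit 8, nat_lit 3, nat_lit 4, nat_lit 7, nat_lit 7, nat_lit 2, nat_lit 3, nat_lit 4, nat_lit 7, nat_lit 2, nat_lit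 3, nat_lit 4, nat_lit 2, nat_lit 3, nat_lit 1], [nat_lit 17, nat_lit 2, nat_lit 0, nat_lit 34, nat_lit 34, nat_lit 15, nat_lit 26], (nat_lit 13912)), ((nat_lit 919), [nat_lit 7, nat_lit 1, nat_lit 2, nat_lit 3, nat_lit 4, nat_lit 7, nat_lit 5, nat_lit 2, nat_lit 3, nat_lit 4, nat_lit 7, nat_lit 2, nat_lit 3, nat_lit 1], [nat_lit 10, nat_lit 0, nat_lit 32, nat_lit 34, nat_lit 11], (nat_lit 10755)), ((nat_lit 2475), [nat_lit 6, nat_lit 8, nat_lit 2, nat_lit 3, nat_lit 1, nat_lit 2, nat_lit 3, nat_lit 4, nat_lit 8, nat_lit 2, nat_lit 3, nat_lit 4, nat_lit 3, nat_lit 2, nat_lit 3, nat_lit 1], [nat_lit 1, nat_lit 26, nat_lit 24, nat_lit 11, nat_lit 26], (nat_lit 15819)), ((nat_lit 2258), [nat_lit 8, nat_lit 1, nat_lit 2, nat_lit 3, nat_lit 4, nat_lit 8, nat_lit 2, nat_lit 3, nat_lit 4, nat_lit 7, nat_lit 2, nat_lit 3, nat_lit 1], [nat_lit 5, nat_lit 37,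 nat_lit 18, nat_lit 15, nat_lit 26], (nat_lit 7121)), ((nat_lit 985), [nat_lit 7, nat_lit 6, nat_lit 3, nat_lit 2, nat_lit 3, nat_lit 4, nat_lit 8, nat_lit 2, nat_lit 3, nat_lit 4, nat_lit 2, nat_lit 3, nat_lit 1], [nat_lit 16, nat_lit 5, nat_lit 0, nat_lit 37, nat_lit 32, nat_lit 11, nat_lit 27], (nat_lit 6442)), ((nat_lit 1198), [nat_lit 1, nat_lit 2, nat_lit 3, nat_lit 4, nat_lit 8, nat_lit 4, nat_lit 8, nat_lit 1, nat_lit 2, nat_lit 3, nat_lit 4, nat_lit 2, nat_lit 3, nat_lit 1], [nat_lit 5, nat_lit 2, nat_lit 37, nat_lit 15, nat_lit 26], (nat_lit 9761)), ((nat_lit 1693), [nat_lit 7, nat_lit 3, nat_lit 2, nat_lit 3, nat_lit 4, nat_lit 7, nat_lit 2, nat_lit 3, nat_lit 4, nat_lit 8, nat_lit 3, nat_lit 2, nat_lit 3, nat_lit 1], [nat_lit 1, nat_lit 18, nat_lit 11, nat_lit 27], (nat_lit 9408)), ((nat_lit 594), [nat_lit 8, nat_lit 5, nat_lit 3, nat_lit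 2, nat_lit 3, nat_lit 4, nat_lit 8, nat_lit 3, nat_lit 4, nat_lit 2, nat_lit 3, nat_lit 0, nat_lit 1], [nat_lit 5, nat_lit 24, nat_lit 17, nat_lit 11], (nat_lit 5385)), ((nat_lit 2522), [nat_lit 3, nat_lit 4, nat_lit 7, nat_lit 3, nat_lit 2, nat_lit 3, nat_lit 4, nat_lit 8, nat_lit 3, nat_lit 4, nat_lit 2, nat_lit 3, nat_lit 0, nat_lit 1], [nat_lit 11, nat_lit 2, nat_lit 0, nat_lit 35, nat_lit 17, nat_lit 16, nat_lit 26], (nat_lit 8232)), ((nat_lit 2018), [nat_lit 4, nat_lit 7, nat_lit 2, nat_lit 3, nat_lit 4, nat_lit 7, nat_lit 6, nat_lit 1, nat_lit 2, nat_lit 3, nat_lit 4, nat_lit 7, nat_lit 3, nat_lit 2, nat_lit 3, nat_lit 0, nat_lit 1], [nat_lit 17, nat_lit 24, nat_lit 0, nat_lit 34, nat_lit 34, nat_lit 11, nat_lit 26], (nat_lit 16962)), ((nat_lit 1111), [nat_lit 3, nat_lit 4, nat_lit 8, nat_lit 2, nat_lit 3, nat_lit 2, nat_lit 3, nat_lit 4, nat_lit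 7, nat_lit 3, nat_lit 4, nat_lit 3, nat_lit 2, nat_lit 3, nat_lit 1], [nat_lit 1, nat_lit 14, nat_lit 36, nat_lit 17, nat_lit 26], (nat_lit 12793)), ((nat_lit 856), [nat_lit 6, nat_lit 3, nat_lit 4, nat_lit 7, nat_lit 2, nat_lit 3, nat_lit 0, nat_lit 1, nat_lit 2, nat_lit 3, nat_lit 4, nat_lit 3, nat_lit 2, nat_lit 3, nat_lit 0, nat_lit 1], [nat_lit 5, nat_lit 14, nat_lit 33, nat_lit 34, nat_lit 26], (nat_lit 14764)), ((nat_lit 1306), [nat_lit 4, nat_lit 8, nat_lit 2, nat_lit 3, nat_lit 4, nat_lit 8, nat_lit 1, nat_lit 2, nat_lit 3, nat_lit 4, nat_lit 2, nat_lit 3, nat_lit 0, nat_lit 1], [nat_lit 25, nat_lit 2, nat_lit 0, nat_lit 16, nat_lit 37, nat_lit 27], (nat_lit 8070)), ((nat_lit 1814), [nat_lit 0, nat_lit 1, nat_lit 2, nat_lit 3, nat_lit 4, nat_lit 8, nat_lit 4, nat_lit 8, nat_lit 3, nat_lit 4, nat_lit 1, nat_lit 2, nat_lit 3, nat_lit 0, nat_lit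 1], [nat_lit 25, nat_lit 0, nat_lit 26, nat_lit 34, nat_lit 32, nat_lit 27], (nat_lit 11004)), ((nat_lit 1529), [nat_lit 3, nat_lit 4, nat_lit 7, nat_lit 2, nat_lit 3, nat_lit 4, nat_lit 7, nat_lit 1, nat_lit 2, nat_lit 3, nat_lit 4, nat_lit 7, nat_lit 3, nat_lit 2, nat_lit 3, nat_lit 0, nat_lit 1], [nat_lit 16, nat_lit 2, nat_lit 15, nat_lit 17, nat_lit 11, nat_lit 27], (nat_lit 16972)), ((nat_lit 1201), [nat_lit 5, nat_lit 2, nat_lit 3, nat_lit 4, nat_lit 8, nat_lit 1, nat_lit 2, nat_lit 3, nat_lit 4, nat_lit 7, nat_lit 3, nat_lit 2, nat_lit 3, nat_lit 1], [nat_lit 11, nat_lit 2, nat_lit 0, nat_lit 33, nat_lit 36, nat_lit 11], (nat_lit 9564)), ((nat_lit 582), [nat_lit 3, nat_lit 4, nat_lit 8, nat_lit 3, nat_lit 2, nat_lit 3, nat_lit 4, nat_lit 7, nat_lit 2, nat_lit 3, nat_lit 4, nat_lit 2, nat_lit 3, nat_lit 1], [nat_lit 16, nat_lit 5, nat_lit 0,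 nat_lit 25, nat_lit 15, nat_lit 27], (nat_lit 9969)), ((nat_lit 1144), [nat_lit 8, nat_lit 4, nat_lit 7, nat_lit 1, nat_lit 2, nat_lit 3, nat_lit 4, nat_lit 7, nat_lit 5, nat_lit 1, nat_lit 2, nat_lit 3, nat_lit 4, nat_lit 8, nat_lit 2, nat_lit 3, nat_lit 1], [nat_lit 25, nat_lit 14, nat_lit 0, nat_lit 36, nat_lit 32, nat_lit 11], (nat_lit 17189)), ((nat_lit 1194), [nat_lit 7, nat_lit 0, nat_lit 1, nat_lit 2, nat_lit 3, nat_lit 4, nat_lit 7, nat_lit 0, nat_lit 1, nat_lit 2, nat_lit 3, nat_lit 4, nat_lit 3, nat_lit 2, nat_lit 3, nat_lit 0, nat_lit 1], [nat_lit 5, nat_lit 2, nat_lit 0, nat_lit 27, nat_lit 18, nat_lit 11, nat_lit 27], (nat_lit 16849)), ((nat_lit 1626), [nat_lit 7, nat_lit 3, nat_lit 4, nat_lit 8, nat_lit 3, nat_lit 2, nat_lit 3, nat_lit 4, nat_lit 7, nat_lit 3, nat_lit 4, nat_lit 3, nat_lit 2, nat_lit 3, nat_lit 1], [nat_lit 14, nat_lit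 0, nat_lit 17, nat_lit 24, nat_lit 27], (nat_lit 12810)), ((nat_lit 2420), [nat_lit 8, nat_lit 2, nat_lit 3, nat_lit 4, nat_lit 8, nat_lit 6, nat_lit 1, nat_lit 2, nat_lit 3, nat_lit 4, nat_lit 8, nat_lit 2, nat_lit 3, nat_lit 0, nat_lit 1], [nat_lit 14, nat_lit 24, nat_lit 18, nat_lit 16], (nat_lit 12040))] m5_5_19 m5_5_20) = 0 := by decide +kernel
theorem e5_5_21 : dt.run q (fun c => c.edges (SP THn.T THn.Rl (nat_lit 15)) (nat_lit 4429) THn.T.n (nat_lit 5) (nat_lit 5)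
  [((nat_lit 2319), [nat_lit 1, nat_lit 2, nat_lit 3, nat_lit 2, nat_lit 3, nat_lit 4, nat_lit 8, nat_lit 3, nat_lit 4, nat_lit 3, nat_lit 2, nat_lit 3, nat_lit 1], [nat_lit 5, nat_lit 14, nat_lit 15, nat_lit 15, nat_lit 15, nat_lit 26], (nat_lit 5868)), ((nat_lit 1470), [nat_lit 4, nat_lit 8, nat_lit 4, nat_lit 8, nat_lit 3, nat_lit 0, nat_lit 1, nat_lit 2, nat_lit 3, nat_lit 4, nat_lit 8, nat_lit 3, nat_lit 2, nat_lit 3, nat_lit 1], [nat_lit 17, nat_lit 2, nat_lit 0, nat_lit 24, nat_lit 37], (nat_lit 13056)), ((nat_lit 938), [nat_lit 8, nat_lit 3, nat_lit 4, nat_lit 7, nat_lit 5, nat_lit 2, nat_lit 3, nat_lit 4, nat_lit 8, nat_lit 2, nat_lit 3, nat_lit 0, nat_lit 1], [nat_lit 16, nat_lit 2, nat_lit 33, nat_lit 36, nat_lit 11], (nat_lit 5533)), ((nat_lit 1607), [nat_lit 3, nat_lit 4, nat_lit 2, nat_lit 3, nat_lit 0, nat_lit 1, nat_lit 2, nat_lit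 3, nat_lit 4, nat_lit 7, nat_lit 4, nat_lit 3, nat_lit 2, nat_lit 3, nat_lit 0, nat_lit 1], [nat_lit 17, nat_lit 24, nat_lit 0, nat_lit 34, nat_lit 24, nat_lit 27], (nat_lit 14939)), ((nat_lit 2233), [nat_lit 6, nat_lit 7, nat_lit 4, nat_lit 8, nat_lit 3, nat_lit 4, nat_lit 7, nat_lit 2, nat_lit 3, nat_lit 4, nat_lit 7, nat_lit 2, nat_lit 3, nat_lit 1], [nat_lit 5, nat_lit 14, nat_lit 24, nat_lit 15, nat_lit 26], (nat_lit 10850)), ((nat_lit 2463), [nat_lit 8, nat_lit 8, nat_lit 3, nat_lit 4, nat_lit 8, nat_lit 2, nat_lit 3, nat_lit 4, nat_lit 8, nat_lit 2, nat_lit 3, nat_lit 0, nat_lit 1], [nat_lit 5, nat_lit 33, nat_lit 35, nat_lit 26], (nat_lit 5545)), ((nat_lit 1349), [nat_lit 6, nat_lit 7, nat_lit 1, nat_lit 2, nat_lit 3, nat_lit 4, nat_lit 8, nat_lit 2, nat_lit 3, nat_lit 4, nat_lit 8, nat_lit 3, nat_lit 2, nat_lit 3, nat_lit 1], [nat_lit 25,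 nat_lit 0, nat_lit 36, nat_lit 16, nat_lit 11, nat_lit 26], (nat_lit 13248)), ((nat_lit 1127), [nat_lit 4, nat_lit 7, nat_lit 3, nat_lit 4, nat_lit 8, nat_lit 2, nat_lit 3, nat_lit 1, nat_lit 2, nat_lit 3, nat_lit 4, nat_lit 3, nat_lit 2, nat_lit 3, nat_lit 0, nat_lit 1], [nat_lit 16, nat_lit 5, nat_lit 0, nat_lit 34, nat_lit 32, nat_lit 16, nat_lit 27], (nat_lit 14799)), ((nat_lit 2173), [nat_lit 3, nat_lit 1, nat_lit 2, nat_lit 3, nat_lit 4, nat_lit 8, nat_lit 1, nat_lit 2, nat_lit 3, nat_lit 4, nat_lit 3, nat_lit 2, nat_lit 3, nat_lit 1], [nat_lit 25, nat_lit 2, nat_lit 0, nat_lit 37], (nat_lit 8808)), ((nat_lit 852), [nat_lit 8, nat_lit 5, nat_lit 2, nat_lit 3, nat_lit 0, nat_lit 1, nat_lit 2, nat_lit 3, nat_lit 4, nat_lit 7, nat_lit 3, nat_lit 4, nat_lit 3, nat_lit 2, nat_lit 3, nat_lit 1], [nat_lit 5, nat_lit 2, nat_lit 24, nat_lit 24, nat_lit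 27], (nat_lit 15907)), ((nat_lit 2347), [nat_lit 1, nat_lit 2, nat_lit 3, nat_lit 4, nat_lit 8, nat_lit 2, nat_lit 3, nat_lit 4, nat_lit 8, nat_lit 4, nat_lit 3, nat_lit 2, nat_lit 3, nat_lit 1], [nat_lit 25, nat_lit 1, nat_lit 35, nat_lit 27, nat_lit 15, nat_lit 26], (nat_lit 9110)), ((nat_lit 1759), [nat_lit 4, nat_lit 8, nat_lit 8, nat_lit 4, nat_lit 7, nat_lit 3, nat_lit 4, nat_lit 7, nat_lit 2, nat_lit 3, nat_lit 4, nat_lit 2, nat_lit 3, nat_lit 1], [nat_lit 15, nat_lit 2, nat_lit 25, nat_lit 11, nat_lit 26], (nat_lit 10015)), ((nat_lit 1490), [nat_lit 6, nat_lit 7, nat_lit 4, nat_lit 8, nat_lit 3, nat_lit 4, nat_lit 8, nat_lit 1, nat_lit 2, nat_lit 3, nat_lit 4, nat_lit 2, nat_lit 3, nat_lit 0, nat_lit 1], [nat_lit 17, nat_lit 24, nat_lit 0, nat_lit 25, nat_lit 18, nat_lit 18, nat_lit 27], (nat_lit 11741)), ((nat_lit 2341), [nat_lit 8, nat_lit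 5, nat_lit 4, nat_lit 8, nat_lit 3, nat_lit 4, nat_lit 7, nat_lit 1, nat_lit 2, nat_lit 3, nat_lit 4, nat_lit 2, nat_lit 3, nat_lit 1], [nat_lit 15, nat_lit 0, nat_lit 37, nat_lit 17], (nat_lit 9805)), ((nat_lit 542), [nat_lit 6, nat_lit 1, nat_lit 2, nat_lit 3, nat_lit 2, nat_lit 3, nat_lit 4, nat_lit 8, nat_lit 3, nat_lit 4, nat_lit 3, nat_lit 2, nat_lit 3, nat_lit 1], [nat_lit 16, nat_lit 5, nat_lit 2, nat_lit 37, nat_lit 18, nat_lit 15], (nat_lit 8956)), ((nat_lit 1008), [nat_lit 6, nat_lit 2, nat_lit 3, nat_lit 1, nat_lit 2, nat_lit 3, nat_lit 4, nat_lit 7, nat_lit 3, nat_lit 4, nat_lit 3, nat_lit 2, nat_lit 3, nat_lit 1], [nat_lit 10, nat_lit 10, nat_lit 0, nat_lit 33, nat_lit 11, nat_lit 16], (nat_lit 8996)), ((nat_lit 1876), [nat_lit 2, nat_lit 3, nat_lit 4, nat_lit 7, nat_lit 5, nat_lit 1, nat_lit 2, nat_lit 3, nat_lit 4, nat_lit 8, nat_lit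 3, nat_lit 2, nat_lit 3, nat_lit 1], [nat_lit 5, nat_lit 17, nat_lit 17], (nat_lit 9317)), ((nat_lit 824), [nat_lit 8, nat_lit 3, nat_lit 4, nat_lit 7, nat_lit 1, nat_lit 2, nat_lit 3, nat_lit 4, nat_lit 7, nat_lit 2, nat_lit 3, nat_lit 0, nat_lit 1], [nat_lit 1, nat_lit 35, nat_lit 17, nat_lit 27], (nat_lit 5618)), ((nat_lit 1763), [nat_lit 3, nat_lit 4, nat_lit 7, nat_lit 3, nat_lit 4, nat_lit 8, nat_lit 2, nat_lit 3, nat_lit 4, nat_lit 3, nat_lit 2, nat_lit 3, nat_lit 1], [nat_lit 26, nat_lit 24, nat_lit 0, nat_lit 36, nat_lit 24, nat_lit 15, nat_lit 27], (nat_lit 5828)), ((nat_lit 1489), [nat_lit 7, nat_lit 5, nat_lit 4, nat_lit 8, nat_lit 3, nat_lit 4, nat_lit 8, nat_lit 0, nat_lit 1, nat_lit 2, nat_lit 3, nat_lit 4, nat_lit 7, nat_lit 2, nat_lit 3, nat_lit 1], [nat_lit 25, nat_lit 0, nat_lit 15, nat_lit 18, nat_lit 26], (nat_lit 16771)), ((nat_lit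 2306), [nat_lit 8, nat_lit 3, nat_lit 4, nat_lit 7, nat_lit 5, nat_lit 2, nat_lit 3, nat_lit 4, nat_lit 7, nat_lit 2, nat_lit 3, nat_lit 0, nat_lit 1], [nat_lit 0, nat_lit 2, nat_lit 25, nat_lit 11], (nat_lit 5639)), ((nat_lit 2512), [nat_lit 6, nat_lit 7, nat_lit 4, nat_lit 8, nat_lit 5, nat_lit 3, nat_lit 2, nat_lit 3, nat_lit 4, nat_lit 8, nat_lit 3, nat_lit 4, nat_lit 2, nat_lit 3, nat_lit 1], [nat_lit 26, nat_lit 2, nat_lit 0, nat_lit 35, nat_lit 32, nat_lit 11], (nat_lit 14065)), ((nat_lit 446), [nat_lit 7, nat_lit 7, nat_lit 2, nat_lit 3, nat_lit 4, nat_lit 7, nat_lit 2, nat_lit 3, nat_lit 4, nat_lit 7, nat_lit 2, nat_lit 3, nat_lit 1], [nat_lit 25, nat_lit 2, nat_lit 0, nat_lit 25, nat_lit 11, nat_lit 26], (nat_lit 7168)), ((nat_lit 2165), [nat_lit 5, nat_lit 7, nat_lit 2, nat_lit 3, nat_lit 2, nat_lit 3, nat_lit 4, nat_lit 7, nat_lit 3, nat_lit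 4, nat_lit 2, nat_lit 3, nat_lit 1], [nat_lit 24, nat_lit 2, nat_lit 0, nat_lit 15, nat_lit 32, nat_lit 15, nat_lit 26], (nat_lit 6700)), ((nat_lit 1172), [nat_lit 8, nat_lit 5, nat_lit 3, nat_lit 4, nat_lit 7, nat_lit 3, nat_lit 1, nat_lit 2, nat_lit 3, nat_lit 4, nat_lit 7, nat_lit 3, nat_lit 2, nat_lit 3, nat_lit 1], [nat_lit 24, nat_lit 16, nat_lit 0, nat_lit 32, nat_lit 37, nat_lit 15, nat_lit 27], (nat_lit 13432)), ((nat_lit 829), [nat_lit 3, nat_lit 2, nat_lit 3, nat_lit 4, nat_lit 7, nat_lit 4, nat_lit 7, nat_lit 3, nat_lit 4, nat_lit 3, nat_lit 2, nat_lit 3, nat_lit 1], [nat_lit 24, nat_lit 2, nat_lit 37, nat_lit 34, nat_lit 11, nat_lit 27], (nat_lit 5915)), ((nat_lit 935), [nat_lit 7, nat_lit 5, nat_lit 3, nat_lit 4, nat_lit 7, nat_lit 2, nat_lit 3, nat_lit 4, nat_lit 7, nat_lit 2, nat_lit 3, nat_lit 0, nat_lit 1], [nat_lit 1, nat_lit 24,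 nat_lit 0, nat_lit 17, nat_lit 26], (nat_lit 5664)), ((nat_lit 911), [nat_lit 8, nat_lit 4, nat_lit 7, nat_lit 7, nat_lit 3, nat_lit 4, nat_lit 7, nat_lit 1, nat_lit 2, nat_lit 3, nat_lit 4, nat_lit 7, nat_lit 2, nat_lit 3, nat_lit 1], [nat_lit 5, nat_lit 2, nat_lit 0, nat_lit 25, nat_lit 37, nat_lit 17], (nat_lit 14578)), ((nat_lit 2518), [nat_lit 5, nat_lit 8, nat_lit 3, nat_lit 4, nat_lit 7, nat_lit 2, nat_lit 3, nat_lit 4, nat_lit 7, nat_lit 2, nat_lit 3, nat_lit 0, nat_lit 1], [nat_lit 14, nat_lit 33, nat_lit 37, nat_lit 26], (nat_lit 5667)), ((nat_lit 2452), [nat_lit 3, nat_lit 4, nat_lit 7, nat_lit 7, nat_lit 2, nat_lit 3, nat_lit 4, nat_lit 7, nat_lit 2, nat_lit 3, nat_lit 4, nat_lit 7, nat_lit 2, nat_lit 3, nat_lit 1], [nat_lit 14, nat_lit 27, nat_lit 18, nat_lit 11, nat_lit 26], (nat_lit 14660)), ((nat_lit 1745), [nat_lit 3, nat_lit 4, nat_lit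 8, nat_lit 5, nat_lit 2, nat_lit 3, nat_lit 2, nat_lit 3, nat_lit 4, nat_lit 8, nat_lit 3, nat_lit 4, nat_lit 3, nat_lit 2, nat_lit 3, nat_lit 1], [nat_lit 16, nat_lit 5, nat_lit 2, nat_lit 34, nat_lit 32, nat_lit 16, nat_lit 26], (nat_lit 15885)), ((nat_lit 800), [nat_lit 8, nat_lit 3, nat_lit 4, nat_lit 7, nat_lit 7, nat_lit 2, nat_lit 3, nat_lit 4, nat_lit 7, nat_lit 2, nat_lit 3, nat_lit 0, nat_lit 1], [nat_lit 15, nat_lit 5, nat_lit 24, nat_lit 33, nat_lit 15, nat_lit 26], (nat_lit 5676)), ((nat_lit 877), [nat_lit 7, nat_lit 3, nat_lit 4, nat_lit 7, nat_lit 7, nat_lit 2, nat_lit 3, nat_lit 4, nat_lit 7, nat_lit 2, nat_lit 3, nat_lit 0, nat_lit 1], [nat_lit 15, nat_lit 5, nat_lit 36, nat_lit 16, nat_lit 11, nat_lit 27], (nat_lit 5677)), ((nat_lit 1050), [nat_lit 6, nat_lit 8, nat_lit 2, nat_lit 3, nat_lit 4, nat_lit 8, nat_lit 1, nat_lit 2, nat_lit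 3, nat_lit 4, nat_lit 8, nat_lit 4, nat_lit 2, nat_lit 3, nat_lit 1], [nat_lit 34, nat_lit 26], (nat_lit 14205)), ((nat_lit 1042), [nat_lit 7, nat_lit 6, nat_lit 2, nat_lit 3, nat_lit 0, nat_lit 1, nat_lit 2, nat_lit 3, nat_lit 4, nat_lit 8, nat_lit 3, nat_lit 2, nat_lit 3, nat_lit 1], [nat_lit 37, nat_lit 18, nat_lit 15, nat_lit 26], (nat_lit 9206)), ((nat_lit 1065), [nat_lit 6, nat_lit 4, nat_lit 7, nat_lit 2, nat_lit 3, nat_lit 0, nat_lit 1, nat_lit 2, nat_lit 3, nat_lit 4, nat_lit 3, nat_lit 2, nat_lit 3, nat_lit 1], [nat_lit 5, nat_lit 17, nat_lit 15, nat_lit 11, nat_lit 27], (nat_lit 8692)), ((nat_lit 2421), [nat_lit 3, nat_lit 4, nat_lit 8, nat_lit 4, nat_lit 8, nat_lit 3, nat_lit 2, nat_lit 3, nat_lit 4, nat_lit 3, nat_lit 2, nat_lit 3, nat_lit 0, nat_lit 1], [nat_lit 17, nat_lit 2, nat_lit 0, nat_lit 16, nat_lit 11, nat_lit 26], (nat_lit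 7620)), ((nat_lit 490), [nat_lit 8, nat_lit 4, nat_lit 8, nat_lit 3, nat_lit 0, nat_lit 1, nat_lit 2, nat_lit 3, nat_lit 4, nat_lit 3, nat_lit 2, nat_lit 3, nat_lit 1], [nat_lit 0, nat_lit 2, nat_lit 26, nat_lit 24, nat_lit 11], (nat_lit 5695)), ((nat_lit 1724), [nat_lit 5, nat_lit 8, nat_lit 2, nat_lit 3, nat_lit 4, nat_lit 7, nat_lit 1, nat_lit 2, nat_lit 3, nat_lit 4, nat_lit 8, nat_lit 2, nat_lit 3, nat_lit 1], [nat_lit 16, nat_lit 5, nat_lit 2, nat_lit 33, nat_lit 35, nat_lit 26], (nat_lit 10449)), ((nat_lit 635), [nat_lit 8, nat_lit 5, nat_lit 4, nat_lit 8, nat_lit 2, nat_lit 3, nat_lit 1, nat_lit 2, nat_lit 3, nat_lit 4, nat_lit 3, nat_lit 2, nat_lit 3, nat_lit 0, nat_lit 1], [nat_lit 5, nat_lit 0, nat_lit 17, nat_lit 11, nat_lit 17, nat_lit 27], (nat_lit 11151)), ((nat_lit 750), [nat_lit 5, nat_lit 3, nat_lit 4, nat_lit 8, nat_lit 0, nat_lit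 1, nat_lit 2, nat_lit 3, nat_lit 4, nat_lit 3, nat_lit 2, nat_lit 3, nat_lit 1], [nat_lit 35, nat_lit 17, nat_lit 27], (nat_lit 5704)), ((nat_lit 1014), [nat_lit 8, nat_lit 3, nat_lit 4, nat_lit 7, nat_lit 1, nat_lit 2, nat_lit 3, nat_lit 4, nat_lit 7, nat_lit 4, nat_lit 3, nat_lit 2, nat_lit 3, nat_lit 1], [nat_lit 33, nat_lit 11, nat_lit 27], (nat_lit 9172)), ((nat_lit 576), [nat_lit 8, nat_lit 3, nat_lit 4, nat_lit 7, nat_lit 2, nat_lit 3, nat_lit 0, nat_lit 1, nat_lit 2, nat_lit 3, nat_lit 4, nat_lit 3, nat_lit 2, nat_lit 3, nat_lit 1], [nat_lit 10, nat_lit 10, nat_lit 0, nat_lit 15, nat_lit 15, nat_lit 15, nat_lit 27], (nat_lit 12402)), ((nat_lit 1696), [nat_lit 7, nat_lit 4, nat_lit 3, nat_lit 2, nat_lit 3, nat_lit 4, nat_lit 7, nat_lit 4, nat_lit 7, nat_lit 3, nat_lit 4, nat_lit 2, nat_lit 3, nat_lit 1], [nat_lit 5, nat_lit 2, nat_lit 0, nat_lit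 36, nat_lit 18, nat_lit 26], (nat_lit 10274)), ((nat_lit 616), [nat_lit 3, nat_lit 2, nat_lit 3, nat_lit 1, nat_lit 2, nat_lit 3, nat_lit 4, nat_lit 7, nat_lit 1, nat_lit 2, nat_lit 3, nat_lit 4, nat_lit 3, nat_lit 2, nat_lit 3, nat_lit 1], [nat_lit 0, nat_lit 2, nat_lit 36, nat_lit 24, nat_lit 15], (nat_lit 15796)), ((nat_lit 1068), [nat_lit 4, nat_lit 7, nat_lit 4, nat_lit 7, nat_lit 2, nat_lit 3, nat_lit 0, nat_lit 1, nat_lit 2, nat_lit 3, nat_lit 4, nat_lit 3, nat_lit 2, nat_lit 3, nat_lit 0, nat_lit 1], [nat_lit 17, nat_lit 24, nat_lit 0, nat_lit 33, nat_lit 24, nat_lit 11, nat_lit 26], (nat_lit 14769)), ((nat_lit 770), [nat_lit 5, nat_lit 3, nat_lit 0, nat_lit 1, nat_lit 2, nat_lit 3, nat_lit 4, nat_lit 7, nat_lit 4, nat_lit 3, nat_lit 2, nat_lit 3, nat_lit 0, nat_lit 1], [nat_lit 1, nat_lit 1, nat_lit 15, nat_lit 15], (nat_lit 7739)), ((nat_lit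 386), [nat_lit 3, nat_lit 1, nat_lit 2, nat_lit 3, nat_lit 4, nat_lit 8, nat_lit 4, nat_lit 8, nat_lit 4, nat_lit 3, nat_lit 2, nat_lit 3, nat_lit 1], [nat_lit 10, nat_lit 10, nat_lit 0, nat_lit 37], (nat_lit 5964)), ((nat_lit 408), [nat_lit 6, nat_lit 8, nat_lit 4, nat_lit 8, nat_lit 3, nat_lit 0, nat_lit 1, nat_lit 2, nat_lit 3, nat_lit 4, nat_lit 7, nat_lit 3, nat_lit 2, nat_lit 3, nat_lit 1], [nat_lit 2, nat_lit 0, nat_lit 25, nat_lit 11], (nat_lit 13332)), ((nat_lit 884), [nat_lit 5, nat_lit 7, nat_lit 3, nat_lit 2, nat_lit 3, nat_lit 4, nat_lit 7, nat_lit 2, nat_lit 3, nat_lit 4, nat_lit 8, nat_lit 2, nat_lit 3, nat_lit 1], [nat_lit 0, nat_lit 2, nat_lit 25, nat_lit 18, nat_lit 16], (nat_lit 10564)), ((nat_lit 1043), [nat_lit 2, nat_lit 3, nat_lit 0, nat_lit 1, nat_lit 2, nat_lit 3, nat_lit 4, nat_lit 8, nat_lit 4, nat_lit 3, nat_lit 2, nat_lit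 3, nat_lit 0, nat_lit 1], [nat_lit 16, nat_lit 5, nat_lit 2, nat_lit 24, nat_lit 18, nat_lit 16], (nat_lit 7699)), ((nat_lit 1012), [nat_lit 8, nat_lit 3, nat_lit 4, nat_lit 7, nat_lit 1, nat_lit 2, nat_lit 3, nat_lit 4, nat_lit 7, nat_lit 3, nat_lit 2, nat_lit 3, nat_lit 1], [nat_lit 25, nat_lit 14, nat_lit 0, nat_lit 24, nat_lit 37, nat_lit 17, nat_lit 26], (nat_lit 6250)), ((nat_lit 2489), [nat_lit 7, nat_lit 3, nat_lit 0, nat_lit 1, nat_lit 2, nat_lit 3, nat_lit 4, nat_lit 8, nat_lit 4, nat_lit 3, nat_lit 2, nat_lit 3, nat_lit 1], [nat_lit 15, nat_lit 2, nat_lit 25, nat_lit 16, nat_lit 16], (nat_lit 5921)), ((nat_lit 1895), [nat_lit 8, nat_lit 5, nat_lit 2, nat_lit 3, nat_lit 1, nat_lit 2, nat_lit 3, nat_lit 4, nat_lit 7, nat_lit 3, nat_lit 2, nat_lit 3, nat_lit 0, nat_lit 1], [nat_lit 14, nat_lit 15, nat_lit 0, nat_lit 24, nat_lit 17, nat_lit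 26], (nat_lit 7929)), ((nat_lit 717), [nat_lit 5, nat_lit 4, nat_lit 7, nat_lit 1, nat_lit 2, nat_lit 3, nat_lit 4, nat_lit 8, nat_lit 2, nat_lit 3, nat_lit 4, nat_lit 8, nat_lit 2, nat_lit 3, nat_lit 0, nat_lit 1], [nat_lit 1, nat_lit 24, nat_lit 0, nat_lit 24, nat_lit 37, nat_lit 26], (nat_lit 15512)), ((nat_lit 2490), [nat_lit 6, nat_lit 7, nat_lit 3, nat_lit 4, nat_lit 7, nat_lit 0, nat_lit 1, nat_lit 2, nat_lit 3, nat_lit 4, nat_lit 8, nat_lit 4, nat_lit 2, nat_lit 3, nat_lit 0, nat_lit 1], [nat_lit 5, nat_lit 14, nat_lit 36, nat_lit 25, nat_lit 11, nat_lit 27], (nat_lit 15399)), ((nat_lit 2249), [nat_lit 8, nat_lit 2, nat_lit 3, nat_lit 4, nat_lit 7, nat_lit 0, nat_lit 1, nat_lit 2, nat_lit 3, nat_lit 4, nat_lit 7, nat_lit 2, nat_lit 3, nat_lit 0, nat_lit 1], [nat_lit 5, nat_lit 0, nat_lit 18, nat_lit 36, nat_lit 11, nat_lit 27], (nat_lit 12227)),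 ((nat_lit 1390), [nat_lit 7, nat_lit 7, nat_lit 4, nat_lit 8, nat_lit 3, nat_lit 4, nat_lit 7, nat_lit 2, nat_lit 3, nat_lit 4, nat_lit 7, nat_lit 2, nat_lit 3, nat_lit 1], [nat_lit 24, nat_lit 2, nat_lit 0, nat_lit 32, nat_lit 24, nat_lit 26], (nat_lit 10852)), ((nat_lit 620), [nat_lit 7, nat_lit 5, nat_lit 2, nat_lit 3, nat_lit 4, nat_lit 8, nat_lit 3, nat_lit 2, nat_lit 3, nat_lit 4, nat_lit 3, nat_lit 2, nat_lit 3, nat_lit 0, nat_lit 1], [nat_lit 16, nat_lit 0, nat_lit 26, nat_lit 15, nat_lit 15, nat_lit 27], (nat_lit 11210)), ((nat_lit 2197), [nat_lit 5, nat_lit 2, nat_lit 3, nat_lit 4, nat_lit 7, nat_lit 3, nat_lit 2, nat_lit 3, nat_lit 4, nat_lit 3, nat_lit 2, nat_lit 3, nat_lit 1], [nat_lit 5, nat_lit 2, nat_lit 33, nat_lit 37, nat_lit 11, nat_lit 27], (nat_lit 5797)), ((nat_lit 1615), [nat_lit 0, nat_lit 1, nat_lit 2, nat_lit 3, nat_lit 4,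 nat_lit 8, nat_lit 2, nat_lit 3, nat_lit 4, nat_lit 3, nat_lit 2, nat_lit 3, nat_lit 1], [nat_lit 26, nat_lit 24, nat_lit 0, nat_lit 35, nat_lit 16, nat_lit 16, nat_lit 26], (nat_lit 5810)), ((nat_lit 1417), [nat_lit 6, nat_lit 3, nat_lit 4, nat_lit 7, nat_lit 3, nat_lit 1, nat_lit 2, nat_lit 3, nat_lit 4, nat_lit 3, nat_lit 2, nat_lit 3, nat_lit 0, nat_lit 1], [nat_lit 11, nat_lit 5, nat_lit 2, nat_lit 18, nat_lit 27], (nat_lit 7584)), ((nat_lit 1283), [nat_lit 4, nat_lit 8, nat_lit 5, nat_lit 3, nat_lit 2, nat_lit 3, nat_lit 4, nat_lit 7, nat_lit 3, nat_lit 4, nat_lit 3, nat_lit 2, nat_lit 3, nat_lit 0, nat_lit 1], [nat_lit 16, nat_lit 5, nat_lit 0, nat_lit 15, nat_lit 35, nat_lit 11], (nat_lit 11291)), ((nat_lit 989), [nat_lit 7, nat_lit 5, nat_lit 2, nat_lit 3, nat_lit 4, nat_lit 7, nat_lit 1, nat_lit 2, nat_lit 3, nat_lit 4, nat_lit 2, nat_lit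 3, nat_lit 0, nat_lit 1], [nat_lit 1, nat_lit 24, nat_lit 0, nat_lit 17, nat_lit 16, nat_lit 26], (nat_lit 8095)), ((nat_lit 1500), [nat_lit 5, nat_lit 8, nat_lit 1, nat_lit 2, nat_lit 3, nat_lit 4, nat_lit 8, nat_lit 2, nat_lit 3, nat_lit 4, nat_lit 8, nat_lit 2, nat_lit 3, nat_lit 0, nat_lit 1], [nat_lit 24, nat_lit 15, nat_lit 0, nat_lit 32, nat_lit 27], (nat_lit 12120)), ((nat_lit 1861), [nat_lit 6, nat_lit 7, nat_lit 4, nat_lit 7, nat_lit 2, nat_lit 3, nat_lit 4, nat_lit 7, nat_lit 2, nat_lit 3, nat_lit 4, nat_lit 7, nat_lit 2, nat_lit 3, nat_lit 1], [nat_lit 2, nat_lit 32, nat_lit 18, nat_lit 26], (nat_lit 14658)), ((nat_lit 2167), [nat_lit 8, nat_lit 2, nat_lit 3, nat_lit 4, nat_lit 7, nat_lit 2, nat_lit 3, nat_lit 4, nat_lit 8, nat_lit 3, nat_lit 4, nat_lit 2, nat_lit 3, nat_lit 0, nat_lit 1], [nat_lit 1, nat_lit 14, nat_lit 34, nat_lit 24,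 nat_lit 17, nat_lit 27], (nat_lit 11890)), ((nat_lit 1425), [nat_lit 4, nat_lit 7, nat_lit 4, nat_lit 7, nat_lit 3, nat_lit 4, nat_lit 7, nat_lit 1, nat_lit 2, nat_lit 3, nat_lit 4, nat_lit 8, nat_lit 2, nat_lit 3, nat_lit 1], [nat_lit 10, nat_lit 0, nat_lit 37, nat_lit 34, nat_lit 25, nat_lit 26], (nat_lit 14341)), ((nat_lit 1595), [nat_lit 3, nat_lit 4, nat_lit 7, nat_lit 4, nat_lit 7, nat_lit 2, nat_lit 3, nat_lit 1, nat_lit 2, nat_lit 3, nat_lit 4, nat_lit 3, nat_lit 2, nat_lit 3, nat_lit 0, nat_lit 1], [nat_lit 26, nat_lit 2, nat_lit 15, nat_lit 17], (nat_lit 14810)), ((nat_lit 2183), [nat_lit 6, nat_lit 7, nat_lit 1, nat_lit 2, nat_lit 3, nat_lit 4, nat_lit 8, nat_lit 0, nat_lit 1, nat_lit 2, nat_lit 3, nat_lit 4, nat_lit 3, nat_lit 2, nat_lit 3, nat_lit 1], [nat_lit 1, nat_lit 5, nat_lit 15, nat_lit 15], (nat_lit 15698)), ((nat_lit 1269), [nat_lit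 2, nat_lit 3, nat_lit 4, nat_lit 8, nat_lit 8, nat_lit 1, nat_lit 2, nat_lit 3, nat_lit 4, nat_lit 7, nat_lit 3, nat_lit 2, nat_lit 3, nat_lit 1], [nat_lit 24, nat_lit 2, nat_lit 0, nat_lit 37, nat_lit 32], (nat_lit 9574)), ((nat_lit 1259), [nat_lit 5, nat_lit 1, nat_lit 2, nat_lit 3, nat_lit 4, nat_lit 7, nat_lit 2, nat_lit 3, nat_lit 4, nat_lit 3, nat_lit 2, nat_lit 3, nat_lit 1], [nat_lit 15, nat_lit 2, nat_lit 34, nat_lit 24, nat_lit 17], (nat_lit 5835)), ((nat_lit 1934), [nat_lit 7, nat_lit 7, nat_lit 4, nat_lit 2, nat_lit 3, nat_lit 0, nat_lit 1, nat_lit 2, nat_lit 3, nat_lit 4, nat_lit 8, nat_lit 3, nat_lit 4, nat_lit 2, nat_lit 3, nat_lit 1], [nat_lit 16, nat_lit 2, nat_lit 25, nat_lit 18, nat_lit 16, nat_lit 26], (nat_lit 16561)), ((nat_lit 1558), [nat_lit 6, nat_lit 3, nat_lit 2, nat_lit 3, nat_lit 4, nat_lit 7, nat_lit 2, nat_lit 3, nat_lit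 4, nat_lit 3, nat_lit 2, nat_lit 3, nat_lit 1], [nat_lit 11, nat_lit 2, nat_lit 0, nat_lit 32, nat_lit 18, nat_lit 15, nat_lit 27], (nat_lit 5839)), ((nat_lit 1171), [nat_lit 5, nat_lit 7, nat_lit 0, nat_lit 1, nat_lit 2, nat_lit 3, nat_lit 4, nat_lit 7, nat_lit 2, nat_lit 3, nat_lit 4, nat_lit 8, nat_lit 2, nat_lit 3, nat_lit 1], [nat_lit 5, nat_lit 2, nat_lit 0, nat_lit 33, nat_lit 18], (nat_lit 14395)), ((nat_lit 1871), [nat_lit 4, nat_lit 8, nat_lit 2, nat_lit 3, nat_lit 4, nat_lit 7, nat_lit 2, nat_lit 3, nat_lit 4, nat_lit 3, nat_lit 2, nat_lit 3, nat_lit 1], [nat_lit 2, nat_lit 17, nat_lit 33, nat_lit 27], (nat_lit 5845)), ((nat_lit 2469), [nat_lit 2, nat_lit 3, nat_lit 1, nat_lit 2, nat_lit 3, nat_lit 4, nat_lit 8, nat_lit 1, nat_lit 2, nat_lit 3, nat_lit 4, nat_lit 3, nat_lit 2, nat_lit 3, nat_lit 0, nat_lit 1], [nat_lit 17, nat_lit 24, nat_lit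 0, nat_lit 15, nat_lit 35, nat_lit 11, nat_lit 26], (nat_lit 14823)), ((nat_lit 2155), [nat_lit 6, nat_lit 7, nat_lit 3, nat_lit 4, nat_lit 8, nat_lit 1, nat_lit 2, nat_lit 3, nat_lit 4, nat_lit 8, nat_lit 4, nat_lit 2, nat_lit 3, nat_lit 0, nat_lit 1], [nat_lit 17, nat_lit 24, nat_lit 0], (nat_lit 11977)), ((nat_lit 1481), [nat_lit 2, nat_lit 3, nat_lit 4, nat_lit 7, nat_lit 2, nat_lit 3, nat_lit 4, nat_lit 7, nat_lit 2, nat_lit 3, nat_lit 4, nat_lit 7, nat_lit 2, nat_lit 3, nat_lit 1], [nat_lit 24, nat_lit 16, nat_lit 0, nat_lit 32, nat_lit 34], (nat_lit 14647)), ((nat_lit 1816), [nat_lit 8, nat_lit 3, nat_lit 1, nat_lit 2, nat_lit 3, nat_lit 4, nat_lit 7, nat_lit 3, nat_lit 4, nat_lit 8, nat_lit 3, nat_lit 2, nat_lit 3, nat_lit 1], [nat_lit 5, nat_lit 2, nat_lit 0, nat_lit 33, nat_lit 37, nat_lit 27], (nat_lit 9432)), ((nat_lit 737), [nat_lit 8,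 nat_lit 4, nat_lit 7, nat_lit 3, nat_lit 1, nat_lit 2, nat_lit 3, nat_lit 4, nat_lit 7, nat_lit 4, nat_lit 3, nat_lit 2, nat_lit 3, nat_lit 0, nat_lit 1], [nat_lit 16, nat_lit 0, nat_lit 18, nat_lit 36, nat_lit 11, nat_lit 26], (nat_lit 11365))] m5_5_20 m5_5_21) = 0 := by decide +kernel
theorem e5_5_22 : dt.run q (fun c => c.edges (SP THn.T THn.Rl (nat_lit 15)) (nat_lit 4429) THn.T.n (nat_lit 5) (nat_lit 5)
  [((nat_lit 1375), [nat_lit 7, nat_lit 3, nat_lit 1, nat_lit 2, nat_lit 3, nat_lit 4, nat_lit 8, nat_lit 3, nat_lit 4, nat_lit 3, nat_lit 2, nat_lit 3, nat_lit 1], [nat_lit 37, nat_lit 11], (nat_lit 5864)), ((nat_lit 1723), [nat_lit 8, nat_lit 8, nat_lit 1, nat_lit 2, nat_lit 3, nat_lit 4, nat_lit 7, nat_lit 2, nat_lit 3, nat_lit 4, nat_lit 7, nat_lit 3, nat_lit 2, nat_lit 3, nat_lit 0, nat_lit 1], [nat_lit 0, nat_lit 2, nat_lit 37, nat_lit 37,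 nat_lit 16, nat_lit 27], (nat_lit 15188)), ((nat_lit 1336), [nat_lit 7, nat_lit 5, nat_lit 3, nat_lit 4, nat_lit 8, nat_lit 0, nat_lit 1, nat_lit 2, nat_lit 3, nat_lit 4, nat_lit 3, nat_lit 2, nat_lit 3, nat_lit 0, nat_lit 1], [nat_lit 16, nat_lit 5, nat_lit 0, nat_lit 24, nat_lit 33, nat_lit 15, nat_lit 27], (nat_lit 11132)), ((nat_lit 1406), [nat_lit 6, nat_lit 8, nat_lit 2, nat_lit 3, nat_lit 0, nat_lit 1, nat_lit 2, nat_lit 3, nat_lit 4, nat_lit 3, nat_lit 2, nat_lit 3, nat_lit 0, nat_lit 1], [nat_lit 5, nat_lit 2, nat_lit 17, nat_lit 15, nat_lit 27], (nat_lit 7534)), ((nat_lit 992), [nat_lit 5, nat_lit 8, nat_lit 2, nat_lit 3, nat_lit 0, nat_lit 1, nat_lit 2, nat_lit 3, nat_lit 4, nat_lit 3, nat_lit 2, nat_lit 3, nat_lit 0, nat_lit 1], [nat_lit 17, nat_lit 2, nat_lit 0, nat_lit 24, nat_lit 17], (nat_lit 7535)), ((nat_lit 2450), [nat_lit 8, nat_lit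 5, nat_lit 3, nat_lit 2, nat_lit 3, nat_lit 4, nat_lit 8, nat_lit 3, nat_lit 4, nat_lit 3, nat_lit 2, nat_lit 3, nat_lit 1], [nat_lit 5, nat_lit 34, nat_lit 32, nat_lit 16], (nat_lit 5878)), ((nat_lit 2403), [nat_lit 3, nat_lit 4, nat_lit 8, nat_lit 6, nat_lit 3, nat_lit 1, nat_lit 2, nat_lit 3, nat_lit 4, nat_lit 7, nat_lit 3, nat_lit 2, nat_lit 3, nat_lit 0, nat_lit 1], [nat_lit 5, nat_lit 0, nat_lit 24, nat_lit 26], (nat_lit 11576)), ((nat_lit 730), [nat_lit 7, nat_lit 7, nat_lit 4, nat_lit 7, nat_lit 3, nat_lit 0, nat_lit 1, nat_lit 2, nat_lit 3, nat_lit 4, nat_lit 8, nat_lit 3, nat_lit 2, nat_lit 3, nat_lit 0, nat_lit 1], [nat_lit 2, nat_lit 0, nat_lit 26, nat_lit 36], (nat_lit 14988)), ((nat_lit 815), [nat_lit 4, nat_lit 7, nat_lit 5, nat_lit 3, nat_lit 4, nat_lit 7, nat_lit 2, nat_lit 3, nat_lit 4, nat_lit 7, nat_lit 2, nat_lit 3, nat_lit 0,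 nat_lit 1], [nat_lit 25, nat_lit 2, nat_lit 0, nat_lit 37, nat_lit 37, nat_lit 11, nat_lit 26], (nat_lit 8656)), ((nat_lit 1190), [nat_lit 5, nat_lit 2, nat_lit 3, nat_lit 4, nat_lit 7, nat_lit 2, nat_lit 3, nat_lit 4, nat_lit 7, nat_lit 2, nat_lit 3, nat_lit 4, nat_lit 8, nat_lit 2, nat_lit 3, nat_lit 1], [nat_lit 24, nat_lit 16, nat_lit 0, nat_lit 35, nat_lit 15], (nat_lit 16757)), ((nat_lit 610), [nat_lit 6, nat_lit 4, nat_lit 7, nat_lit 2, nat_lit 3, nat_lit 0, nat_lit 1, nat_lit 2, nat_lit 3, nat_lit 4, nat_lit 3, nat_lit 2, nat_lit 3, nat_lit 0, nat_lit 1], [nat_lit 14, nat_lit 0, nat_lit 11, nat_lit 27], (nat_lit 11106)), ((nat_lit 1156), [nat_lit 5, nat_lit 4, nat_lit 7, nat_lit 2, nat_lit 3, nat_lit 0, nat_lit 1, nat_lit 2, nat_lit 3, nat_lit 4, nat_lit 3, nat_lit 2, nat_lit 3, nat_lit 0, nat_lit 1], [nat_lit 16, nat_lit 5, nat_lit 0, nat_lit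 35, nat_lit 35, nat_lit 11], (nat_lit 11107)), ((nat_lit 1377), [nat_lit 3, nat_lit 4, nat_lit 8, nat_lit 2, nat_lit 3, nat_lit 4, nat_lit 7, nat_lit 3, nat_lit 1, nat_lit 2, nat_lit 3, nat_lit 4, nat_lit 7, nat_lit 3, nat_lit 2, nat_lit 3, nat_lit 1], [nat_lit 5, nat_lit 2, nat_lit 15, nat_lit 24, nat_lit 11, nat_lit 26], (nat_lit 17159)), ((nat_lit 2080), [nat_lit 0, nat_lit 1, nat_lit 2, nat_lit 3, nat_lit 4, nat_lit 8, nat_lit 1, nat_lit 2, nat_lit 3, nat_lit 4, nat_lit 3, nat_lit 2, nat_lit 3, nat_lit 1], [nat_lit 1, nat_lit 18, nat_lit 25], (nat_lit 8807)), ((nat_lit 1081), [nat_lit 7, nat_lit 7, nat_lit 4, nat_lit 2, nat_lit 3, nat_lit 1, nat_lit 2, nat_lit 3, nat_lit 4, nat_lit 8, nat_lit 3, nat_lit 4, nat_lit 2, nat_lit 3, nat_lit 1], [nat_lit 16, nat_lit 5, nat_lit 2, nat_lit 35, nat_lit 15, nat_lit 26], (nat_lit 13964)), ((nat_lit 1066),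 [nat_lit 2, nat_lit 3, nat_lit 0, nat_lit 1, nat_lit 2, nat_lit 3, nat_lit 4, nat_lit 8, nat_lit 4, nat_lit 3, nat_lit 2, nat_lit 3, nat_lit 1], [nat_lit 24, nat_lit 1, nat_lit 33, nat_lit 37, nat_lit 27], (nat_lit 5916)), ((nat_lit 698), [nat_lit 6, nat_lit 3, nat_lit 0, nat_lit 1, nat_lit 2, nat_lit 3, nat_lit 4, nat_lit 7, nat_lit 4, nat_lit 3, nat_lit 2, nat_lit 3, nat_lit 1], [nat_lit 15, nat_lit 0, nat_lit 33, nat_lit 37, nat_lit 27], (nat_lit 5968)), ((nat_lit 1493), [nat_lit 5, nat_lit 4, nat_lit 2, nat_lit 3, nat_lit 1, nat_lit 2, nat_lit 3, nat_lit 4, nat_lit 8, nat_lit 4, nat_lit 3, nat_lit 2, nat_lit 3, nat_lit 1], [nat_lit 25, nat_lit 0, nat_lit 26, nat_lit 24, nat_lit 11], (nat_lit 9068)), ((nat_lit 2050), [nat_lit 8, nat_lit 5, nat_lit 3, nat_lit 1, nat_lit 2, nat_lit 3, nat_lit 4, nat_lit 7, nat_lit 3, nat_lit 4, nat_lit 3, nat_lit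 2, nat_lit 3, nat_lit 0, nat_lit 1], [nat_lit 25, nat_lit 15], (nat_lit 11284)), ((nat_lit 980), [nat_lit 4, nat_lit 8, nat_lit 2, nat_lit 3, nat_lit 0, nat_lit 1, nat_lit 2, nat_lit 3, nat_lit 4, nat_lit 8, nat_lit 3, nat_lit 2, nat_lit 3, nat_lit 0, nat_lit 1], [nat_lit 1, nat_lit 14, nat_lit 15, nat_lit 24, nat_lit 27], (nat_lit 11372)), ((nat_lit 787), [nat_lit 5, nat_lit 7, nat_lit 4, nat_lit 3, nat_lit 0, nat_lit 1, nat_lit 2, nat_lit 3, nat_lit 4, nat_lit 7, nat_lit 3, nat_lit 4, nat_lit 2, nat_lit 3, nat_lit 1], [nat_lit 11, nat_lit 2, nat_lit 0, nat_lit 34, nat_lit 25], (nat_lit 14098)), ((nat_lit 2509), [nat_lit 7, nat_lit 4, nat_lit 8, nat_lit 5, nat_lit 2, nat_lit 3, nat_lit 2, nat_lit 3, nat_lit 4, nat_lit 7, nat_lit 3, nat_lit 4, nat_lit 2, nat_lit 3, nat_lit 1], [nat_lit 11, nat_lit 5, nat_lit 2, nat_lit 16, nat_lit 11, nat_lit 27],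 (nat_lit 14141)), ((nat_lit 724), [nat_lit 4, nat_lit 2, nat_lit 3, nat_lit 1, nat_lit 2, nat_lit 3, nat_lit 4, nat_lit 7, nat_lit 4, nat_lit 7, nat_lit 3, nat_lit 2, nat_lit 3, nat_lit 1], [nat_lit 15, nat_lit 0, nat_lit 34, nat_lit 17, nat_lit 33, nat_lit 27], (nat_lit 9684)), ((nat_lit 492), [nat_lit 8, nat_lit 8, nat_lit 4, nat_lit 7, nat_lit 3, nat_lit 0, nat_lit 1, nat_lit 2, nat_lit 3, nat_lit 4, nat_lit 7, nat_lit 4, nat_lit 3, nat_lit 2, nat_lit 3, nat_lit 1], [nat_lit 5, nat_lit 2, nat_lit 0, nat_lit 25, nat_lit 33, nat_lit 15, nat_lit 26], (nat_lit 16050)), ((nat_lit 2496), [nat_lit 6, nat_lit 8, nat_lit 4, nat_lit 7, nat_lit 3, nat_lit 4, nat_lit 7, nat_lit 1, nat_lit 2, nat_lit 3, nat_lit 4, nat_lit 7, nat_lit 2, nat_lit 3, nat_lit 1], [nat_lit 25, nat_lit 14, nat_lit 0, nat_lit 25, nat_lit 37, nat_lit 11, nat_lit 27], (nat_lit 14572)),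 ((nat_lit 1944), [nat_lit 8, nat_lit 6, nat_lit 2, nat_lit 3, nat_lit 4, nat_lit 8, nat_lit 1, nat_lit 2, nat_lit 3, nat_lit 4, nat_lit 7, nat_lit 3, nat_lit 2, nat_lit 3, nat_lit 1], [nat_lit 1, nat_lit 14, nat_lit 15, nat_lit 32, nat_lit 15, nat_lit 27], (nat_lit 13462)), ((nat_lit 1231), [nat_lit 7, nat_lit 6, nat_lit 3, nat_lit 4, nat_lit 7, nat_lit 3, nat_lit 2, nat_lit 3, nat_lit 4, nat_lit 7, nat_lit 3, nat_lit 2, nat_lit 3, nat_lit 1], [nat_lit 26, nat_lit 2, nat_lit 26, nat_lit 16, nat_lit 11, nat_lit 26], (nat_lit 9601)), ((nat_lit 1105), [nat_lit 8, nat_lit 5, nat_lit 3, nat_lit 0, nat_lit 1, nat_lit 2, nat_lit 3, nat_lit 4, nat_lit 8, nat_lit 3, nat_lit 2, nat_lit 3, nat_lit 1], [nat_lit 1, nat_lit 24, nat_lit 0, nat_lit 25, nat_lit 36, nat_lit 11, nat_lit 26], (nat_lit 6022)), ((nat_lit 1879), [nat_lit 3, nat_lit 4, nat_lit 8, nat_lit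 0, nat_lit 1, nat_lit 2, nat_lit 3, nat_lit 4, nat_lit 8, nat_lit 3, nat_lit 2, nat_lit 3, nat_lit 1], [nat_lit 1, nat_lit 24, nat_lit 0, nat_lit 33, nat_lit 26], (nat_lit 6033)), ((nat_lit 1340), [nat_lit 7, nat_lit 6, nat_lit 4, nat_lit 2, nat_lit 3, nat_lit 1, nat_lit 2, nat_lit 3, nat_lit 4, nat_lit 7, nat_lit 4, nat_lit 3, nat_lit 2, nat_lit 3, nat_lit 1], [nat_lit 25, nat_lit 2, nat_lit 0, nat_lit 32, nat_lit 34, nat_lit 11], (nat_lit 12967)), ((nat_lit 1597), [nat_lit 7, nat_lit 5, nat_lit 4, nat_lit 8, nat_lit 3, nat_lit 0, nat_lit 1, nat_lit 2, nat_lit 3, nat_lit 4, nat_lit 8, nat_lit 3, nat_lit 2, nat_lit 3, nat_lit 1], [nat_lit 25, nat_lit 0, nat_lit 34, nat_lit 32, nat_lit 16], (nat_lit 13055)), ((nat_lit 497), [nat_lit 4, nat_lit 7, nat_lit 4, nat_lit 7, nat_lit 3, nat_lit 0, nat_lit 1, nat_lit 2, nat_lit 3, nat_lit 4, nat_lit 8, nat_lit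 3, nat_lit 2, nat_lit 3, nat_lit 0, nat_lit 1], [nat_lit 1, nat_lit 5, nat_lit 25, nat_lit 37], (nat_lit 14987)), ((nat_lit 1032), [nat_lit 5, nat_lit 8, nat_lit 2, nat_lit 3, nat_lit 0, nat_lit 1, nat_lit 2, nat_lit 3, nat_lit 4, nat_lit 7, nat_lit 3, nat_lit 2, nat_lit 3, nat_lit 0, nat_lit 1], [nat_lit 17, nat_lit 24, nat_lit 0, nat_lit 34, nat_lit 34, nat_lit 15, nat_lit 27], (nat_lit 11522)), ((nat_lit 1809), [nat_lit 3, nat_lit 4, nat_lit 7, nat_lit 5, nat_lit 3, nat_lit 2, nat_lit 3, nat_lit 4, nat_lit 8, nat_lit 3, nat_lit 2, nat_lit 3, nat_lit 1], [nat_lit 1, nat_lit 25, nat_lit 36, nat_lit 27], (nat_lit 6104)), ((nat_lit 1864), [nat_lit 8, nat_lit 4, nat_lit 8, nat_lit 5, nat_lit 3, nat_lit 4, nat_lit 7, nat_lit 1, nat_lit 2, nat_lit 3, nat_lit 4, nat_lit 8, nat_lit 2, nat_lit 3, nat_lit 1], [nat_lit 15, nat_lit 1, nat_lit 33, nat_lit 24],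 (nat_lit 14331)), ((nat_lit 1046), [nat_lit 2, nat_lit 3, nat_lit 4, nat_lit 7, nat_lit 4, nat_lit 7, nat_lit 1, nat_lit 2, nat_lit 3, nat_lit 4, nat_lit 7, nat_lit 3, nat_lit 2, nat_lit 3, nat_lit 1], [nat_lit 15, nat_lit 5, nat_lit 15, nat_lit 32, nat_lit 11, nat_lit 27], (nat_lit 13487)), ((nat_lit 2262), [nat_lit 6, nat_lit 7, nat_lit 2, nat_lit 3, nat_lit 1, nat_lit 2, nat_lit 3, nat_lit 4, nat_lit 7, nat_lit 3, nat_lit 2, nat_lit 3, nat_lit 0, nat_lit 1], [nat_lit 25, nat_lit 16, nat_lit 0, nat_lit 16, nat_lit 18, nat_lit 11, nat_lit 27], (nat_lit 7934)), ((nat_lit 1272), [nat_lit 5, nat_lit 7, nat_lit 2, nat_lit 3, nat_lit 0, nat_lit 1, nat_lit 2, nat_lit 3, nat_lit 4, nat_lit 7, nat_lit 3, nat_lit 2, nat_lit 3, nat_lit 0, nat_lit 1], [nat_lit 16, nat_lit 5, nat_lit 2, nat_lit 24, nat_lit 26], (nat_lit 11525)), ((nat_lit 2343), [nat_lit 6,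 nat_lit 4, nat_lit 2, nat_lit 3, nat_lit 0, nat_lit 1, nat_lit 2, nat_lit 3, nat_lit 4, nat_lit 8, nat_lit 4, nat_lit 3, nat_lit 2, nat_lit 3, nat_lit 0, nat_lit 1], [nat_lit 24, nat_lit 0, nat_lit 35, nat_lit 32, nat_lit 26], (nat_lit 14913)), ((nat_lit 1676), [nat_lit 8, nat_lit 5, nat_lit 4, nat_lit 7, nat_lit 3, nat_lit 4, nat_lit 7, nat_lit 1, nat_lit 2, nat_lit 3, nat_lit 4, nat_lit 2, nat_lit 3, nat_lit 0, nat_lit 1], [nat_lit 1, nat_lit 24, nat_lit 0, nat_lit 25, nat_lit 15, nat_lit 27], (nat_lit 11782)), ((nat_lit 682), [nat_lit 1, nat_lit 2, nat_lit 3, nat_lit 4, nat_lit 8, nat_lit 2, nat_lit 3, nat_lit 4, nat_lit 8, nat_lit 3, nat_lit 2, nat_lit 3, nat_lit 1], [nat_lit 11, nat_lit 17, nat_lit 26], (nat_lit 6138)), ((nat_lit 1599), [nat_lit 8, nat_lit 4, nat_lit 3, nat_lit 1, nat_lit 2, nat_lit 3, nat_lit 4, nat_lit 7, nat_lit 4, nat_lit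 7, nat_lit 3, nat_lit 4, nat_lit 3, nat_lit 2, nat_lit 3, nat_lit 1], [nat_lit 5, nat_lit 0, nat_lit 33, nat_lit 33, nat_lit 11], (nat_lit 15883)), ((nat_lit 2482), [nat_lit 8, nat_lit 4, nat_lit 8, nat_lit 5, nat_lit 3, nat_lit 1, nat_lit 2, nat_lit 3, nat_lit 4, nat_lit 7, nat_lit 3, nat_lit 4, nat_lit 3, nat_lit 2, nat_lit 3, nat_lit 1], [nat_lit 0, nat_lit 34, nat_lit 15, nat_lit 11], (nat_lit 15947)), ((nat_lit 362), [nat_lit 8, nat_lit 6, nat_lit 4, nat_lit 3, nat_lit 1, nat_lit 2, nat_lit 3, nat_lit 4, nat_lit 7, nat_lit 3, nat_lit 4, nat_lit 3, nat_lit 2, nat_lit 3, nat_lit 1], [nat_lit 25, nat_lit 16, nat_lit 16], (nat_lit 12760)), ((nat_lit 1018), [nat_lit 6, nat_lit 7, nat_lit 3, nat_lit 4, nat_lit 8, nat_lit 2, nat_lit 3, nat_lit 4, nat_lit 8, nat_lit 3, nat_lit 2, nat_lit 3, nat_lit 1], [nat_lit 26, nat_lit 2, nat_lit 25, nat_lit 37,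 nat_lit 15], (nat_lit 6147)), ((nat_lit 1210), [nat_lit 6, nat_lit 7, nat_lit 4, nat_lit 7, nat_lit 2, nat_lit 3, nat_lit 4, nat_lit 8, nat_lit 2, nat_lit 3, nat_lit 4, nat_lit 2, nat_lit 3, nat_lit 0, nat_lit 1], [nat_lit 25, nat_lit 2, nat_lit 0, nat_lit 16, nat_lit 24], (nat_lit 11833)), ((nat_lit 1175), [nat_lit 4, nat_lit 7, nat_lit 3, nat_lit 4, nat_lit 7, nat_lit 1, nat_lit 2, nat_lit 3, nat_lit 4, nat_lit 8, nat_lit 2, nat_lit 3, nat_lit 1], [nat_lit 1, nat_lit 33, nat_lit 18, nat_lit 11, nat_lit 27], (nat_lit 6906)), ((nat_lit 1592), [nat_lit 8, nat_lit 1, nat_lit 2, nat_lit 3, nat_lit 4, nat_lit 8, nat_lit 1, nat_lit 2, nat_lit 3, nat_lit 4, nat_lit 7, nat_lit 2, nat_lit 3, nat_lit 0, nat_lit 1], [nat_lit 15, nat_lit 1, nat_lit 32, nat_lit 18, nat_lit 11, nat_lit 26], (nat_lit 12251)), ((nat_lit 2502), [nat_lit 5, nat_lit 7, nat_lit 4, nat_lit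 3, nat_lit 1, nat_lit 2, nat_lit 3, nat_lit 4, nat_lit 7, nat_lit 3, nat_lit 4, nat_lit 3, nat_lit 2, nat_lit 3, nat_lit 1], [nat_lit 1, nat_lit 5, nat_lit 33, nat_lit 35], (nat_lit 12766)), ((nat_lit 1916), [nat_lit 8, nat_lit 8, nat_lit 3, nat_lit 4, nat_lit 8, nat_lit 2, nat_lit 3, nat_lit 4, nat_lit 7, nat_lit 3, nat_lit 2, nat_lit 3, nat_lit 1], [nat_lit 10, nat_lit 0, nat_lit 33, nat_lit 24, nat_lit 26], (nat_lit 6315)), ((nat_lit 2477), [nat_lit 7, nat_lit 2, nat_lit 3, nat_lit 0, nat_lit 1, nat_lit 2, nat_lit 3, nat_lit 4, nat_lit 8, nat_lit 3, nat_lit 2, nat_lit 3, nat_lit 0, nat_lit 1], [nat_lit 26, nat_lit 2, nat_lit 0, nat_lit 34, nat_lit 24, nat_lit 15, nat_lit 27], (nat_lit 7774)), ((nat_lit 629), [nat_lit 7, nat_lit 3, nat_lit 2, nat_lit 3, nat_lit 4, nat_lit 7, nat_lit 3, nat_lit 4, nat_lit 8, nat_lit 3, nat_lit 2, nat_lit 3, nat_lit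 1], [nat_lit 0, nat_lit 2, nat_lit 25, nat_lit 18, nat_lit 16, nat_lit 27], (nat_lit 6173)), ((nat_lit 998), [nat_lit 5, nat_lit 8, nat_lit 2, nat_lit 3, nat_lit 0, nat_lit 1, nat_lit 2, nat_lit 3, nat_lit 4, nat_lit 8, nat_lit 3, nat_lit 2, nat_lit 3, nat_lit 1], [nat_lit 36, nat_lit 17, nat_lit 26], (nat_lit 9211)), ((nat_lit 882), [nat_lit 5, nat_lit 3, nat_lit 4, nat_lit 7, nat_lit 2, nat_lit 3, nat_lit 4, nat_lit 8, nat_lit 2, nat_lit 3, nat_lit 4, nat_lit 2, nat_lit 3, nat_lit 0, nat_lit 1], [nat_lit 26, nat_lit 2, nat_lit 0, nat_lit 15, nat_lit 32, nat_lit 15, nat_lit 27], (nat_lit 11826)), ((nat_lit 303), [nat_lit 3, nat_lit 4, nat_lit 8, nat_lit 8, nat_lit 2, nat_lit 3, nat_lit 4, nat_lit 7, nat_lit 2, nat_lit 3, nat_lit 4, nat_lit 2, nat_lit 3, nat_lit 1], [nat_lit 11, nat_lit 2, nat_lit 0, nat_lit 24, nat_lit 37, nat_lit 11], (nat_lit 9992)),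 ((nat_lit 668), [nat_lit 7, nat_lit 5, nat_lit 4, nat_lit 8, nat_lit 3, nat_lit 0, nat_lit 1, nat_lit 2, nat_lit 3, nat_lit 4, nat_lit 7, nat_lit 3, nat_lit 2, nat_lit 3, nat_lit 1], [nat_lit 0, nat_lit 32, nat_lit 34, nat_lit 16], (nat_lit 13331)), ((nat_lit 1163), [nat_lit 8, nat_lit 5, nat_lit 3, nat_lit 1, nat_lit 2, nat_lit 3, nat_lit 4, nat_lit 8, nat_lit 3, nat_lit 4, nat_lit 2, nat_lit 3, nat_lit 0, nat_lit 1], [nat_lit 18, nat_lit 15, nat_lit 0, nat_lit 37, nat_lit 24], (nat_lit 8217)), ((nat_lit 2351), [nat_lit 6, nat_lit 2, nat_lit 3, nat_lit 0, nat_lit 1, nat_lit 2, nat_lit 3, nat_lit 4, nat_lit 7, nat_lit 4, nat_lit 3, nat_lit 2, nat_lit 3, nat_lit 0, nat_lit 1], [nat_lit 14, nat_lit 15, nat_lit 0, nat_lit 16, nat_lit 18], (nat_lit 11338)), ((nat_lit 2471), [nat_lit 5, nat_lit 4, nat_lit 8, nat_lit 3, nat_lit 0, nat_lit 1, nat_lit 2,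 nat_lit 3, nat_lit 4, nat_lit 8, nat_lit 3, nat_lit 2, nat_lit 3, nat_lit 0, nat_lit 1], [nat_lit 36, nat_lit 18, nat_lit 15, nat_lit 27], (nat_lit 11381)), ((nat_lit 956), [nat_lit 5, nat_lit 3, nat_lit 4, nat_lit 8, nat_lit 3, nat_lit 2, nat_lit 3, nat_lit 4, nat_lit 7, nat_lit 3, nat_lit 2, nat_lit 3, nat_lit 1], [nat_lit 15, nat_lit 2, nat_lit 17, nat_lit 17, nat_lit 11, nat_lit 27], (nat_lit 6266)), ((nat_lit 1090), [nat_lit 3, nat_lit 4, nat_lit 7, nat_lit 2, nat_lit 3, nat_lit 4, nat_lit 8, nat_lit 2, nat_lit 3, nat_lit 4, nat_lit 3, nat_lit 2, nat_lit 3, nat_lit 0, nat_lit 1], [nat_lit 24, nat_lit 16, nat_lit 0, nat_lit 34, nat_lit 25, nat_lit 26], (nat_lit 11221)), ((nat_lit 819), [nat_lit 6, nat_lit 7, nat_lit 3, nat_lit 2, nat_lit 3, nat_lit 1, nat_lit 2, nat_lit 3, nat_lit 4, nat_lit 8, nat_lit 4, nat_lit 3, nat_lit 2, nat_lit 3, nat_lit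 0, nat_lit 1], [nat_lit 24, nat_lit 2, nat_lit 0, nat_lit 37, nat_lit 11, nat_lit 15], (nat_lit 14927)), ((nat_lit 659), [nat_lit 7, nat_lit 2, nat_lit 3, nat_lit 4, nat_lit 7, nat_lit 7, nat_lit 3, nat_lit 2, nat_lit 3, nat_lit 4, nat_lit 7, nat_lit 3, nat_lit 2, nat_lit 3, nat_lit 1], [nat_lit 25, nat_lit 16, nat_lit 0, nat_lit 16, nat_lit 24], (nat_lit 13099)), ((nat_lit 1060), [nat_lit 4, nat_lit 2, nat_lit 3, nat_lit 0, nat_lit 1, nat_lit 2, nat_lit 3, nat_lit 4, nat_lit 8, nat_lit 4, nat_lit 8, nat_lit 3, nat_lit 2, nat_lit 3, nat_lit 0, nat_lit 1], [nat_lit 25, nat_lit 2, nat_lit 0, nat_lit 32, nat_lit 11, nat_lit 27], (nat_lit 15070)), ((nat_lit 937), [nat_lit 3, nat_lit 4, nat_lit 7, nat_lit 6, nat_lit 4, nat_lit 3, nat_lit 2, nat_lit 3, nat_lit 4, nat_lit 8, nat_lit 4, nat_lit 3, nat_lit 2, nat_lit 3, nat_lit 1], [nat_lit 14, nat_lit 24,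 nat_lit 37, nat_lit 26], (nat_lit 12907)), ((nat_lit 923), [nat_lit 8, nat_lit 2, nat_lit 3, nat_lit 0, nat_lit 1, nat_lit 2, nat_lit 3, nat_lit 4, nat_lit 8, nat_lit 4, nat_lit 3, nat_lit 2, nat_lit 3, nat_lit 0, nat_lit 1], [nat_lit 0, nat_lit 15, nat_lit 27, nat_lit 16, nat_lit 27], (nat_lit 11303)), ((nat_lit 1252), [nat_lit 4, nat_lit 8, nat_lit 2, nat_lit 3, nat_lit 4, nat_lit 7, nat_lit 3, nat_lit 2, nat_lit 3, nat_lit 4, nat_lit 7, nat_lit 3, nat_lit 2, nat_lit 3, nat_lit 1], [nat_lit 10, nat_lit 0, nat_lit 35, nat_lit 17, nat_lit 16], (nat_lit 13491)), ((nat_lit 1690), [nat_lit 4, nat_lit 8, nat_lit 6, nat_lit 3, nat_lit 2, nat_lit 3, nat_lit 4, nat_lit 7, nat_lit 3, nat_lit 4, nat_lit 2, nat_lit 3, nat_lit 0, nat_lit 1], [nat_lit 24, nat_lit 1, nat_lit 36, nat_lit 11], (nat_lit 8277)), ((nat_lit 1822), [nat_lit 7, nat_lit 1, nat_lit 2, nat_lit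 3, nat_lit 4, nat_lit 7, nat_lit 2, nat_lit 3, nat_lit 4, nat_lit 8, nat_lit 4, nat_lit 2, nat_lit 3, nat_lit 0, nat_lit 1], [nat_lit 25, nat_lit 1, nat_lit 35, nat_lit 32, nat_lit 27], (nat_lit 11990)), ((nat_lit 1602), [nat_lit 8, nat_lit 4, nat_lit 7, nat_lit 3, nat_lit 1, nat_lit 2, nat_lit 3, nat_lit 4, nat_lit 7, nat_lit 3, nat_lit 4, nat_lit 8, nat_lit 2, nat_lit 3, nat_lit 0, nat_lit 1], [nat_lit 16, nat_lit 5, nat_lit 0, nat_lit 33, nat_lit 35, nat_lit 11, nat_lit 26], (nat_lit 15541)), ((nat_lit 1530), [nat_lit 3, nat_lit 1, nat_lit 2, nat_lit 3, nat_lit 4, nat_lit 8, nat_lit 4, nat_lit 8, nat_lit 2, nat_lit 3, nat_lit 4, nat_lit 2, nat_lit 3, nat_lit 1], [nat_lit 5, nat_lit 16, nat_lit 2, nat_lit 36, nat_lit 24], (nat_lit 9921)), ((nat_lit 965), [nat_lit 8, nat_lit 3, nat_lit 4, nat_lit 7, nat_lit 3, nat_lit 1, nat_lit 2, nat_lit 3, nat_lit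 4, nat_lit 7, nat_lit 3, nat_lit 4, nat_lit 2, nat_lit 3, nat_lit 1], [nat_lit 15, nat_lit 5, nat_lit 37, nat_lit 37, nat_lit 16, nat_lit 27], (nat_lit 14123)), ((nat_lit 753), [nat_lit 8, nat_lit 5, nat_lit 3, nat_lit 4, nat_lit 8, nat_lit 2, nat_lit 3, nat_lit 4, nat_lit 7, nat_lit 3, nat_lit 2, nat_lit 3, nat_lit 1], [nat_lit 25, nat_lit 1, nat_lit 33, nat_lit 24, nat_lit 11, nat_lit 27], (nat_lit 6311)), ((nat_lit 1263), [nat_lit 5, nat_lit 7, nat_lit 1, nat_lit 2, nat_lit 3, nat_lit 4, nat_lit 7, nat_lit 2, nat_lit 3, nat_lit 4, nat_lit 2, nat_lit 3, nat_lit 1], [nat_lit 36, nat_lit 15, nat_lit 26], (nat_lit 6515)), ((nat_lit 2498), [nat_lit 4, nat_lit 7, nat_lit 5, nat_lit 3, nat_lit 4, nat_lit 8, nat_lit 0, nat_lit 1, nat_lit 2, nat_lit 3, nat_lit 4, nat_lit 2, nat_lit 3, nat_lit 0, nat_lit 1], [nat_lit 14, nat_lit 0, nat_lit 24, nat_lit 33,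 nat_lit 15], (nat_lit 11686)), ((nat_lit 2195), [nat_lit 4, nat_lit 7, nat_lit 3, nat_lit 4, nat_lit 7, nat_lit 6, nat_lit 1, nat_lit 2, nat_lit 3, nat_lit 4, nat_lit 7, nat_lit 2, nat_lit 3, nat_lit 1], [nat_lit 25, nat_lit 1, nat_lit 32, nat_lit 32, nat_lit 26], (nat_lit 10682)), ((nat_lit 1218), [nat_lit 4, nat_lit 7, nat_lit 6, nat_lit 0, nat_lit 1, nat_lit 2, nat_lit 3, nat_lit 4, nat_lit 7, nat_lit 2, nat_lit 3, nat_lit 4, nat_lit 2, nat_lit 3, nat_lit 1], [nat_lit 5, nat_lit 2, nat_lit 36, nat_lit 25, nat_lit 26], (nat_lit 13815)), ((nat_lit 874), [nat_lit 3, nat_lit 4, nat_lit 8, nat_lit 3, nat_lit 1, nat_lit 2, nat_lit 3, nat_lit 4, nat_lit 7, nat_lit 3, nat_lit 2, nat_lit 3, nat_lit 0, nat_lit 1], [nat_lit 10, nat_lit 0, nat_lit 36, nat_lit 26], (nat_lit 7939)), ((nat_lit 1682), [nat_lit 8, nat_lit 8, nat_lit 4, nat_lit 1, nat_lit 2, nat_lit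 3, nat_lit 2, nat_lit 3, nat_lit 4, nat_lit 8, nat_lit 3, nat_lit 4, nat_lit 2, nat_lit 3, nat_lit 1], [nat_lit 15, nat_lit 1, nat_lit 34, nat_lit 24, nat_lit 15, nat_lit 26], (nat_lit 14008)), ((nat_lit 1802), [nat_lit 5, nat_lit 2, nat_lit 3, nat_lit 4, nat_lit 7, nat_lit 2, nat_lit 3, nat_lit 4, nat_lit 7, nat_lit 3, nat_lit 2, nat_lit 3, nat_lit 1], [nat_lit 16, nat_lit 24, nat_lit 27], (nat_lit 6321))] m5_5_21 m5_5_22) = 0 := by decide +kernel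

end H16.THc
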