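import Cfsg.Agent.H16.D.THc.D

/-! Generated by tools/h16 (computation kit). -/

set_option maxRecDepth 100000
set_option maxHeartbeats 0

namespace H16.THc

open H26 (jn)
open DC
theorem e5_5_23 : dt.run q (fun c => c.edges (SP THn.T THn.Rl (nat_lit 15)) (nat_lit 4429) THn.T.n (nat_lit 5) (nat_lit 5)
  [((nat_lit 1706), [nat_lit 7, nat_lit 5, nat_lit 3, nat_lit 4, nat_lit 7, nat_lit 2, nat_lit 3, nat_lit 4, nat_lit 7, nat_lit 3, nat_lit 2, nat_lit 3, nat_lit 1], [nat_lit 24, nat_lit 16, nat_lit 0, nat_lit 27, nat_lit 18, nat_lit 11, nat_lit 26], (nat_lit 6324)), ((nat_lit 2517), [nat_lit 7, nat_lit 1, nat_lit 2, nat_lit 3, nat_lit 2, nat_lit 3, nat_lit 4, nat_lit 8, nat_lit 3, nat_lit 4, nat_lit 2, nat_lit 3, nat_lit 1], [nat_lit 10, nat_lit 10, nat_lit 0, nat_lit 18, nat_lit 36, nat_lit 11, nat_lit 27], (nat_lit 6611)), ((nat_lit 1030), [nat_lit 2,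 nat_lit 3, nat_lit 1, nat_lit 2, nat_lit 3, nat_lit 4, nat_lit 8, nat_lit 4, nat_lit 8, nat_lit 2, nat_lit 3, nat_lit 4, nat_lit 3, nat_lit 2, nat_lit 3, nat_lit 1], [nat_lit 1, nat_lit 1, nat_lit 37, nat_lit 33, nat_lit 11], (nat_lit 15850)), ((nat_lit 1701), [nat_lit 2, nat_lit 3, nat_lit 2, nat_lit 3, nat_lit 1, nat_lit 2, nat_lit 3, nat_lit 4, nat_lit 8, nat_lit 2, nat_lit 3, nat_lit 4, nat_lit 3, nat_lit 2, nat_lit 3, nat_lit 1], [nat_lit 5, nat_lit 16, nat_lit 2, nat_lit 16, nat_lit 16, nat_lit 11, nat_lit 27], (nat_lit 15809)), ((nat_lit 2492), [nat_lit 3, nat_lit 4, nat_lit 8, nat_lit 6, nat_lit 2, nat_lit 3, nat_lit 4, nat_lit 7, nat_lit 2, nat_lit 3, nat_lit 4, nat_lit 8, nat_lit 2, nat_lit 3, nat_lit 1], [nat_lit 17, nat_lit 24, nat_lit 0, nat_lit 34, nat_lit 34, nat_lit 11, nat_lit 26], (nat_lit 14427)), ((nat_lit 867), [nat_lit 1, nat_lit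 2, nat_lit 3, nat_lit 4, nat_lit 7, nat_lit 2, nat_lit 3, nat_lit 4, nat_lit 7, nat_lit 3, nat_lit 4, nat_lit 2, nat_lit 3, nat_lit 0, nat_lit 1], [nat_lit 24, nat_lit 1, nat_lit 15, nat_lit 15], (nat_lit 11960)), ((nat_lit 460), [nat_lit 6, nat_lit 7, nat_lit 4, nat_lit 7, nat_lit 3, nat_lit 2, nat_lit 3, nat_lit 4, nat_lit 7, nat_lit 3, nat_lit 4, nat_lit 3, nat_lit 2, nat_lit 3, nat_lit 1], [nat_lit 24, nat_lit 2, nat_lit 0, nat_lit 33, nat_lit 18, nat_lit 11], (nat_lit 12817)), ((nat_lit 1162), [nat_lit 5, nat_lit 2, nat_lit 3, nat_lit 1, nat_lit 2, nat_lit 3, nat_lit 4, nat_lit 8, nat_lit 4, nat_lit 3, nat_lit 2, nat_lit 3, nat_lit 0, nat_lit 1], [nat_lit 5, nat_lit 2, nat_lit 0, nat_lit 36, nat_lit 32, nat_lit 11], (nat_lit 7712)), ((nat_lit 1791), [nat_lit 6, nat_lit 4, nat_lit 7, nat_lit 3, nat_lit 0, nat_lit 1, nat_lit 2, nat_lit 3, nat_lit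 4, nat_lit 8, nat_lit 3, nat_lit 2, nat_lit 3, nat_lit 0, nat_lit 1], [nat_lit 1, nat_lit 18, nat_lit 11, nat_lit 26], (nat_lit 11385)), ((nat_lit 764), [nat_lit 4, nat_lit 8, nat_lit 5, nat_lit 2, nat_lit 3, nat_lit 1, nat_lit 2, nat_lit 3, nat_lit 4, nat_lit 8, nat_lit 3, nat_lit 2, nat_lit 3, nat_lit 0, nat_lit 1], [nat_lit 26, nat_lit 24, nat_lit 0, nat_lit 33, nat_lit 37, nat_lit 27], (nat_lit 11415)), ((nat_lit 722), [nat_lit 3, nat_lit 0, nat_lit 1, nat_lit 2, nat_lit 3, nat_lit 4, nat_lit 7, nat_lit 4, nat_lit 7, nat_lit 3, nat_lit 2, nat_lit 3, nat_lit 0, nat_lit 1], [nat_lit 0, nat_lit 2, nat_lit 18, nat_lit 16, nat_lit 11, nat_lit 27], (nat_lit 8029)), ((nat_lit 630), [nat_lit 6, nat_lit 4, nat_lit 3, nat_lit 0, nat_lit 1, nat_lit 2, nat_lit 3, nat_lit 4, nat_lit 7, nat_lit 4, nat_lit 3, nat_lit 2, nat_lit 3, nat_lit 0, nat_lit 1], [nat_lit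 25, nat_lit 14, nat_lit 0, nat_lit 35, nat_lit 33, nat_lit 11], (nat_lit 11341)), ((nat_lit 414), [nat_lit 3, nat_lit 4, nat_lit 7, nat_lit 2, nat_lit 3, nat_lit 4, nat_lit 8, nat_lit 2, nat_lit 3, nat_lit 4, nat_lit 3, nat_lit 2, nat_lit 3, nat_lit 1], [nat_lit 24, nat_lit 1, nat_lit 16, nat_lit 11], (nat_lit 8891)), ((nat_lit 981), [nat_lit 4, nat_lit 8, nat_lit 5, nat_lit 3, nat_lit 4, nat_lit 8, nat_lit 1, nat_lit 2, nat_lit 3, nat_lit 4, nat_lit 2, nat_lit 3, nat_lit 1], [nat_lit 24, nat_lit 16, nat_lit 0, nat_lit 34, nat_lit 16, nat_lit 11], (nat_lit 6383)), ((nat_lit 1420), [nat_lit 4, nat_lit 7, nat_lit 5, nat_lit 3, nat_lit 4, nat_lit 8, nat_lit 1, nat_lit 2, nat_lit 3, nat_lit 4, nat_lit 2, nat_lit 3, nat_lit 1], [nat_lit 1, nat_lit 1, nat_lit 33, nat_lit 11, nat_lit 26], (nat_lit 6384)), ((nat_lit 1669), [nat_lit 7, nat_lit 4, nat_lit 2,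 nat_lit 3, nat_lit 1, nat_lit 2, nat_lit 3, nat_lit 4, nat_lit 7, nat_lit 3, nat_lit 4, nat_lit 2, nat_lit 3, nat_lit 1], [nat_lit 24, nat_lit 1, nat_lit 36, nat_lit 11, nat_lit 27], (nat_lit 10186)), ((nat_lit 344), [nat_lit 7, nat_lit 4, nat_lit 8, nat_lit 3, nat_lit 4, nat_lit 8, nat_lit 1, nat_lit 2, nat_lit 3, nat_lit 4, nat_lit 2, nat_lit 3, nat_lit 1], [nat_lit 1, nat_lit 26, nat_lit 15, nat_lit 26], (nat_lit 6387)), ((nat_lit 1445), [nat_lit 4, nat_lit 7, nat_lit 3, nat_lit 4, nat_lit 7, nat_lit 0, nat_lit 1, nat_lit 2, nat_lit 3, nat_lit 4, nat_lit 2, nat_lit 3, nat_lit 0, nat_lit 1], [nat_lit 24, nat_lit 2, nat_lit 37, nat_lit 17, nat_lit 27], (nat_lit 8058)), ((nat_lit 1419), [nat_lit 1, nat_lit 2, nat_lit 3, nat_lit 4, nat_lit 7, nat_lit 4, nat_lit 7, nat_lit 2, nat_lit 3, nat_lit 4, nat_lit 2, nat_lit 3, nat_lit 0, nat_lit 1], [nat_lit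 0, nat_lit 11, nat_lit 27], (nat_lit 8198)), ((nat_lit 1579), [nat_lit 4, nat_lit 8, nat_lit 2, nat_lit 3, nat_lit 1, nat_lit 2, nat_lit 3, nat_lit 4, nat_lit 8, nat_lit 3, nat_lit 4, nat_lit 2, nat_lit 3, nat_lit 1], [nat_lit 1, nat_lit 24, nat_lit 0, nat_lit 36, nat_lit 15, nat_lit 27], (nat_lit 10053)), ((nat_lit 1118), [nat_lit 2, nat_lit 3, nat_lit 4, nat_lit 8, nat_lit 4, nat_lit 3, nat_lit 2, nat_lit 3, nat_lit 4, nat_lit 8, nat_lit 3, nat_lit 4, nat_lit 2, nat_lit 3, nat_lit 1], [nat_lit 17, nat_lit 24, nat_lit 0, nat_lit 11, nat_lit 17], (nat_lit 14057)), ((nat_lit 1543), [nat_lit 6, nat_lit 4, nat_lit 8, nat_lit 3, nat_lit 2, nat_lit 3, nat_lit 4, nat_lit 8, nat_lit 3, nat_lit 4, nat_lit 2, nat_lit 3, nat_lit 0, nat_lit 1], [nat_lit 14, nat_lit 0, nat_lit 33, nat_lit 34], (nat_lit 8229)), ((nat_lit 1856), [nat_lit 6, nat_lit 8, nat_lit 3,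 nat_lit 2, nat_lit 3, nat_lit 4, nat_lit 8, nat_lit 2, nat_lit 3, nat_lit 4, nat_lit 2, nat_lit 3, nat_lit 1], [nat_lit 5, nat_lit 24, nat_lit 18, nat_lit 27], (nat_lit 6446)), ((nat_lit 2555), [nat_lit 5, nat_lit 8, nat_lit 3, nat_lit 2, nat_lit 3, nat_lit 4, nat_lit 8, nat_lit 2, nat_lit 3, nat_lit 4, nat_lit 2, nat_lit 3, nat_lit 1], [nat_lit 15, nat_lit 0, nat_lit 11, nat_lit 15, nat_lit 27], (nat_lit 6447)), ((nat_lit 393), [nat_lit 8, nat_lit 8, nat_lit 3, nat_lit 4, nat_lit 8, nat_lit 0, nat_lit 1, nat_lit 2, nat_lit 3, nat_lit 4, nat_lit 8, nat_lit 3, nat_lit 2, nat_lit 3, nat_lit 1], [nat_lit 24, nat_lit 16, nat_lit 26], (nat_lit 13088)), ((nat_lit 547), [nat_lit 4, nat_lit 8, nat_lit 8, nat_lit 1, nat_lit 2, nat_lit 3, nat_lit 4, nat_lit 7, nat_lit 2, nat_lit 3, nat_lit 4, nat_lit 8, nat_lit 2, nat_lit 3, nat_lit 1], [nat_lit 25, nat_lit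 0, nat_lit 33, nat_lit 35, nat_lit 11, nat_lit 27], (nat_lit 14413)), ((nat_lit 1102), [nat_lit 6, nat_lit 3, nat_lit 4, nat_lit 8, nat_lit 2, nat_lit 3, nat_lit 4, nat_lit 8, nat_lit 1, nat_lit 2, nat_lit 3, nat_lit 4, nat_lit 2, nat_lit 3, nat_lit 0, nat_lit 1], [nat_lit 10, nat_lit 10, nat_lit 0, nat_lit 15, nat_lit 15, nat_lit 11, nat_lit 27], (nat_lit 15257)), ((nat_lit 853), [nat_lit 3, nat_lit 4, nat_lit 8, nat_lit 5, nat_lit 3, nat_lit 0, nat_lit 1, nat_lit 2, nat_lit 3, nat_lit 4, nat_lit 7, nat_lit 3, nat_lit 2, nat_lit 3, nat_lit 0, nat_lit 1], [nat_lit 26, nat_lit 2, nat_lit 0, nat_lit 33, nat_lit 18, nat_lit 11, nat_lit 27], (nat_lit 15081)), ((nat_lit 1094), [nat_lit 3, nat_lit 4, nat_lit 7, nat_lit 2, nat_lit 3, nat_lit 4, nat_lit 8, nat_lit 2, nat_lit 3, nat_lit 4, nat_lit 2, nat_lit 3, nat_lit 1], [nat_lit 24, nat_lit 0, nat_lit 37,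 nat_lit 16], (nat_lit 6459)), ((nat_lit 1729), [nat_lit 4, nat_lit 8, nat_lit 2, nat_lit 3, nat_lit 4, nat_lit 8, nat_lit 2, nat_lit 3, nat_lit 4, nat_lit 7, nat_lit 3, nat_lit 2, nat_lit 3, nat_lit 1], [nat_lit 11, nat_lit 2, nat_lit 0, nat_lit 37, nat_lit 11, nat_lit 17, nat_lit 26], (nat_lit 9636)), ((nat_lit 2497), [nat_lit 6, nat_lit 3, nat_lit 2, nat_lit 3, nat_lit 4, nat_lit 7, nat_lit 3, nat_lit 0, nat_lit 1, nat_lit 2, nat_lit 3, nat_lit 4, nat_lit 3, nat_lit 2, nat_lit 3, nat_lit 1], [nat_lit 15, nat_lit 0, nat_lit 15, nat_lit 11, nat_lit 27], (nat_lit 15674)), ((nat_lit 917), [nat_lit 8, nat_lit 8, nat_lit 3, nat_lit 1, nat_lit 2, nat_lit 3, nat_lit 4, nat_lit 7, nat_lit 2, nat_lit 3, nat_lit 4, nat_lit 2, nat_lit 3, nat_lit 1], [nat_lit 17, nat_lit 24, nat_lit 0, nat_lit 27, nat_lit 24], (nat_lit 9949)), ((nat_lit 762), [nat_lit 7, nat_lit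 4, nat_lit 7, nat_lit 5, nat_lit 3, nat_lit 4, nat_lit 8, nat_lit 2, nat_lit 3, nat_lit 4, nat_lit 2, nat_lit 3, nat_lit 1], [nat_lit 2, nat_lit 0, nat_lit 36, nat_lit 16, nat_lit 11], (nat_lit 6469)), ((nat_lit 1503), [nat_lit 1, nat_lit 2, nat_lit 3, nat_lit 4, nat_lit 8, nat_lit 2, nat_lit 3, nat_lit 4, nat_lit 7, nat_lit 4, nat_lit 3, nat_lit 2, nat_lit 3, nat_lit 1], [nat_lit 11, nat_lit 5, nat_lit 2, nat_lit 15, nat_lit 17, nat_lit 11], (nat_lit 9192)), ((nat_lit 1457), [nat_lit 8, nat_lit 8, nat_lit 4, nat_lit 8, nat_lit 3, nat_lit 4, nat_lit 8, nat_lit 2, nat_lit 3, nat_lit 4, nat_lit 2, nat_lit 3, nat_lit 1], [nat_lit 5, nat_lit 2, nat_lit 33, nat_lit 36, nat_lit 26], (nat_lit 6475)), ((nat_lit 1789), [nat_lit 6, nat_lit 4, nat_lit 8, nat_lit 3, nat_lit 4, nat_lit 8, nat_lit 2, nat_lit 3, nat_lit 4, nat_lit 7, nat_lit 3, nat_lit 2, nat_lit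 3, nat_lit 0, nat_lit 1], [nat_lit 1, nat_lit 15, nat_lit 18, nat_lit 26], (nat_lit 11645)), ((nat_lit 1174), [nat_lit 5, nat_lit 7, nat_lit 4, nat_lit 8, nat_lit 3, nat_lit 4, nat_lit 7, nat_lit 0, nat_lit 1, nat_lit 2, nat_lit 3, nat_lit 4, nat_lit 2, nat_lit 3, nat_lit 1], [nat_lit 24, nat_lit 1, nat_lit 36, nat_lit 33], (nat_lit 13644)), ((nat_lit 1267), [nat_lit 1, nat_lit 2, nat_lit 3, nat_lit 4, nat_lit 8, nat_lit 4, nat_lit 8, nat_lit 2, nat_lit 3, nat_lit 4, nat_lit 2, nat_lit 3, nat_lit 1], [nat_lit 2, nat_lit 26, nat_lit 34, nat_lit 27], (nat_lit 6495)), ((nat_lit 1624), [nat_lit 4, nat_lit 3, nat_lit 2, nat_lit 3, nat_lit 4, nat_lit 7, nat_lit 4, nat_lit 7, nat_lit 2, nat_lit 3, nat_lit 4, nat_lit 2, nat_lit 3, nat_lit 1], [nat_lit 14, nat_lit 0, nat_lit 33, nat_lit 16, nat_lit 11, nat_lit 26], (nat_lit 10018)), ((nat_lit 2546), [nat_lit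 4, nat_lit 7, nat_lit 3, nat_lit 1, nat_lit 2, nat_lit 3, nat_lit 4, nat_lit 7, nat_lit 3, nat_lit 4, nat_lit 2, nat_lit 3, nat_lit 1], [nat_lit 5, nat_lit 2, nat_lit 25, nat_lit 15, nat_lit 26], (nat_lit 6676)), ((nat_lit 1786), [nat_lit 8, nat_lit 8, nat_lit 3, nat_lit 4, nat_lit 8, nat_lit 5, nat_lit 2, nat_lit 3, nat_lit 4, nat_lit 8, nat_lit 2, nat_lit 3, nat_lit 1], [nat_lit 14, nat_lit 15, nat_lit 0, nat_lit 34, nat_lit 16, nat_lit 11, nat_lit 27], (nat_lit 6922)), ((nat_lit 2157), [nat_lit 7, nat_lit 2, nat_lit 3, nat_lit 4, nat_lit 8, nat_lit 8, nat_lit 2, nat_lit 3, nat_lit 4, nat_lit 7, nat_lit 2, nat_lit 3, nat_lit 1], [nat_lit 24, nat_lit 0, nat_lit 33, nat_lit 33, nat_lit 11, nat_lit 27], (nat_lit 7150)), ((nat_lit 2538), [nat_lit 7, nat_lit 4, nat_lit 3, nat_lit 2, nat_lit 3, nat_lit 4, nat_lit 7, nat_lit 2, nat_lit 3, nat_lit 4, nat_lit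 2, nat_lit 3, nat_lit 1], [nat_lit 16, nat_lit 0, nat_lit 11, nat_lit 37, nat_lit 26], (nat_lit 6518)), ((nat_lit 1684), [nat_lit 2, nat_lit 3, nat_lit 4, nat_lit 8, nat_lit 2, nat_lit 3, nat_lit 2, nat_lit 3, nat_lit 4, nat_lit 7, nat_lit 3, nat_lit 4, nat_lit 2, nat_lit 3, nat_lit 1], [nat_lit 10, nat_lit 10, nat_lit 0, nat_lit 32, nat_lit 15, nat_lit 26], (nat_lit 14142)), ((nat_lit 1427), [nat_lit 8, nat_lit 4, nat_lit 7, nat_lit 1, nat_lit 2, nat_lit 3, nat_lit 4, nat_lit 8, nat_lit 2, nat_lit 3, nat_lit 4, nat_lit 2, nat_lit 3, nat_lit 0, nat_lit 1], [nat_lit 24, nat_lit 0, nat_lit 27, nat_lit 36, nat_lit 11, nat_lit 27], (nat_lit 11807)), ((nat_lit 876), [nat_lit 6, nat_lit 8, nat_lit 1, nat_lit 2, nat_lit 3, nat_lit 1, nat_lit 2, nat_lit 3, nat_lit 4, nat_lit 8, nat_lit 3, nat_lit 4, nat_lit 2, nat_lit 3, nat_lit 1], [nat_lit 15, nat_lit 5,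 nat_lit 24, nat_lit 26], (nat_lit 13950)), ((nat_lit 866), [nat_lit 2, nat_lit 3, nat_lit 4, nat_lit 8, nat_lit 1, nat_lit 2, nat_lit 3, nat_lit 4, nat_lit 8, nat_lit 2, nat_lit 3, nat_lit 4, nat_lit 2, nat_lit 3, nat_lit 1], [nat_lit 14, nat_lit 24, nat_lit 24, nat_lit 26], (nat_lit 13746)), ((nat_lit 1158), [nat_lit 7, nat_lit 4, nat_lit 8, nat_lit 2, nat_lit 3, nat_lit 4, nat_lit 7, nat_lit 2, nat_lit 3, nat_lit 4, nat_lit 2, nat_lit 3, nat_lit 1], [nat_lit 0, nat_lit 15, nat_lit 17], (nat_lit 6534)), ((nat_lit 983), [nat_lit 8, nat_lit 4, nat_lit 7, nat_lit 6, nat_lit 2, nat_lit 3, nat_lit 4, nat_lit 7, nat_lit 2, nat_lit 3, nat_lit 4, nat_lit 2, nat_lit 3, nat_lit 1], [nat_lit 5, nat_lit 0, nat_lit 11, nat_lit 37], (nat_lit 9979)), ((nat_lit 2501), [nat_lit 4, nat_lit 7, nat_lit 3, nat_lit 4, nat_lit 7, nat_lit 7, nat_lit 2, nat_lit 3, nat_lit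 4, nat_lit 7, nat_lit 2, nat_lit 3, nat_lit 0, nat_lit 1], [nat_lit 10, nat_lit 0, nat_lit 15, nat_lit 27, nat_lit 16, nat_lit 26], (nat_lit 8673)), ((nat_lit 1753), [nat_lit 7, nat_lit 7, nat_lit 4, nat_lit 8, nat_lit 3, nat_lit 4, nat_lit 7, nat_lit 2, nat_lit 3, nat_lit 4, nat_lit 2, nat_lit 3, nat_lit 1], [nat_lit 5, nat_lit 0, nat_lit 18, nat_lit 11], (nat_lit 6554)), ((nat_lit 1700), [nat_lit 7, nat_lit 1, nat_lit 2, nat_lit 3, nat_lit 2, nat_lit 3, nat_lit 4, nat_lit 7, nat_lit 3, nat_lit 4, nat_lit 2, nat_lit 3, nat_lit 1], [nat_lit 5, nat_lit 16, nat_lit 2, nat_lit 24, nat_lit 33, nat_lit 15, nat_lit 26], (nat_lit 6689)), ((nat_lit 768), [nat_lit 7, nat_lit 5, nat_lit 4, nat_lit 8, nat_lit 2, nat_lit 3, nat_lit 1, nat_lit 2, nat_lit 3, nat_lit 4, nat_lit 8, nat_lit 3, nat_lit 2, nat_lit 3, nat_lit 1], [nat_lit 1, nat_lit 5, nat_lit 24, nat_lit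 37, nat_lit 15], (nat_lit 13130)), ((nat_lit 1988), [nat_lit 6, nat_lit 7, nat_lit 2, nat_lit 3, nat_lit 2, nat_lit 3, nat_lit 4, nat_lit 7, nat_lit 3, nat_lit 4, nat_lit 2, nat_lit 3, nat_lit 1], [nat_lit 15, nat_lit 0, nat_lit 25, nat_lit 36, nat_lit 11, nat_lit 26], (nat_lit 6699)), ((nat_lit 669), [nat_lit 7, nat_lit 4, nat_lit 8, nat_lit 2, nat_lit 3, nat_lit 1, nat_lit 2, nat_lit 3, nat_lit 4, nat_lit 8, nat_lit 2, nat_lit 3, nat_lit 4, nat_lit 3, nat_lit 2, nat_lit 3, nat_lit 1], [nat_lit 5, nat_lit 2, nat_lit 0, nat_lit 25, nat_lit 16, nat_lit 27], (nat_lit 17097)), ((nat_lit 963), [nat_lit 6, nat_lit 3, nat_lit 4, nat_lit 7, nat_lit 3, nat_lit 2, nat_lit 3, nat_lit 4, nat_lit 8, nat_lit 2, nat_lit 3, nat_lit 4, nat_lit 2, nat_lit 3, nat_lit 1], [nat_lit 24, nat_lit 2, nat_lit 34, nat_lit 15, nat_lit 11], (nat_lit 13757)), ((nat_lit 2493),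 [nat_lit 8, nat_lit 1, nat_lit 2, nat_lit 3, nat_lit 4, nat_lit 8, nat_lit 5, nat_lit 2, nat_lit 3, nat_lit 4, nat_lit 8, nat_lit 2, nat_lit 3, nat_lit 1], [nat_lit 25, nat_lit 16, nat_lit 0, nat_lit 17, nat_lit 36], (nat_lit 10477)), ((nat_lit 2429), [nat_lit 5, nat_lit 7, nat_lit 4, nat_lit 7, nat_lit 2, nat_lit 3, nat_lit 4, nat_lit 7, nat_lit 2, nat_lit 3, nat_lit 4, nat_lit 2, nat_lit 3, nat_lit 1], [nat_lit 2, nat_lit 0, nat_lit 35, nat_lit 36, nat_lit 27], (nat_lit 10005)), ((nat_lit 1893), [nat_lit 8, nat_lit 2, nat_lit 3, nat_lit 4, nat_lit 7, nat_lit 5, nat_lit 2, nat_lit 3, nat_lit 4, nat_lit 7, nat_lit 2, nat_lit 3, nat_lit 1], [nat_lit 0, nat_lit 32, nat_lit 32, nat_lit 27], (nat_lit 7113)), ((nat_lit 1250), [nat_lit 3, nat_lit 4, nat_lit 7, nat_lit 2, nat_lit 3, nat_lit 1, nat_lit 2, nat_lit 3, nat_lit 4, nat_lit 7, nat_lit 3, nat_lit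 4, nat_lit 2, nat_lit 3, nat_lit 0, nat_lit 1], [nat_lit 16, nat_lit 5, nat_lit 0, nat_lit 25, nat_lit 18, nat_lit 18, nat_lit 26], (nat_lit 15367)), ((nat_lit 1323), [nat_lit 4, nat_lit 7, nat_lit 1, nat_lit 2, nat_lit 3, nat_lit 4, nat_lit 8, nat_lit 1, nat_lit 2, nat_lit 3, nat_lit 4, nat_lit 8, nat_lit 3, nat_lit 2, nat_lit 3, nat_lit 1], [nat_lit 18, nat_lit 15, nat_lit 0, nat_lit 15, nat_lit 32, nat_lit 15], (nat_lit 16233)), ((nat_lit 1085), [nat_lit 4, nat_lit 8, nat_lit 5, nat_lit 3, nat_lit 2, nat_lit 3, nat_lit 4, nat_lit 8, nat_lit 3, nat_lit 4, nat_lit 2, nat_lit 3, nat_lit 1], [nat_lit 17, nat_lit 24, nat_lit 0, nat_lit 37, nat_lit 15, nat_lit 11], (nat_lit 6629)), ((nat_lit 1798), [nat_lit 5, nat_lit 4, nat_lit 7, nat_lit 2, nat_lit 3, nat_lit 1, nat_lit 2, nat_lit 3, nat_lit 4, nat_lit 7, nat_lit 3, nat_lit 4, nat_lit 2, nat_lit 3,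 nat_lit 0, nat_lit 1], [nat_lit 0, nat_lit 2, nat_lit 16, nat_lit 24, nat_lit 27], (nat_lit 15368)), ((nat_lit 1829), [nat_lit 3, nat_lit 4, nat_lit 8, nat_lit 0, nat_lit 1, nat_lit 2, nat_lit 3, nat_lit 4, nat_lit 8, nat_lit 3, nat_lit 4, nat_lit 2, nat_lit 3, nat_lit 0, nat_lit 1], [nat_lit 15, nat_lit 2, nat_lit 32, nat_lit 15], (nat_lit 11867)), ((nat_lit 1823), [nat_lit 4, nat_lit 7, nat_lit 3, nat_lit 2, nat_lit 3, nat_lit 4, nat_lit 7, nat_lit 2, nat_lit 3, nat_lit 4, nat_lit 8, nat_lit 2, nat_lit 3, nat_lit 1], [nat_lit 1, nat_lit 1], (nat_lit 10562)), ((nat_lit 1184), [nat_lit 4, nat_lit 7, nat_lit 4, nat_lit 2, nat_lit 3, nat_lit 0, nat_lit 1, nat_lit 2, nat_lit 3, nat_lit 4, nat_lit 8, nat_lit 3, nat_lit 4, nat_lit 2, nat_lit 3, nat_lit 1], [nat_lit 14, nat_lit 36, nat_lit 32], (nat_lit 16560)), ((nat_lit 1125), [nat_lit 7, nat_lit 5, nat_lit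 3, nat_lit 0, nat_lit 1, nat_lit 2, nat_lit 3, nat_lit 4, nat_lit 8, nat_lit 3, nat_lit 2, nat_lit 3, nat_lit 0, nat_lit 1], [nat_lit 17, nat_lit 2, nat_lit 0, nat_lit 26, nat_lit 34], (nat_lit 7777)), ((nat_lit 1106), [nat_lit 8, nat_lit 4, nat_lit 2, nat_lit 3, nat_lit 2, nat_lit 3, nat_lit 4, nat_lit 7, nat_lit 3, nat_lit 4, nat_lit 2, nat_lit 3, nat_lit 1], [nat_lit 26, nat_lit 24, nat_lit 0, nat_lit 16, nat_lit 37], (nat_lit 6691)), ((nat_lit 612), [nat_lit 7, nat_lit 4, nat_lit 2, nat_lit 3, nat_lit 2, nat_lit 3, nat_lit 4, nat_lit 7, nat_lit 3, nat_lit 4, nat_lit 2, nat_lit 3, nat_lit 1], [nat_lit 16, nat_lit 0, nat_lit 17, nat_lit 17], (nat_lit 6692)), ((nat_lit 580), [nat_lit 4, nat_lit 7, nat_lit 2, nat_lit 3, nat_lit 2, nat_lit 3, nat_lit 4, nat_lit 7, nat_lit 3, nat_lit 4, nat_lit 2, nat_lit 3, nat_lit 1], [nat_lit 5, nat_lit 16, nat_lit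 2, nat_lit 33, nat_lit 36], (nat_lit 6698)), ((nat_lit 2523), [nat_lit 4, nat_lit 7, nat_lit 4, nat_lit 3, nat_lit 2, nat_lit 3, nat_lit 4, nat_lit 7, nat_lit 3, nat_lit 4, nat_lit 2, nat_lit 3, nat_lit 1], [nat_lit 17, nat_lit 24, nat_lit 0, nat_lit 36, nat_lit 32, nat_lit 11, nat_lit 26], (nat_lit 6704)), ((nat_lit 1686), [nat_lit 8, nat_lit 4, nat_lit 7, nat_lit 1, nat_lit 2, nat_lit 3, nat_lit 4, nat_lit 7, nat_lit 5, nat_lit 2, nat_lit 3, nat_lit 4, nat_lit 7, nat_lit 2, nat_lit 3, nat_lit 1], [nat_lit 5, nat_lit 2, nat_lit 0, nat_lit 24, nat_lit 36, nat_lit 26], (nat_lit 16808)), ((nat_lit 1838), [nat_lit 4, nat_lit 7, nat_lit 2, nat_lit 3, nat_lit 4, nat_lit 8, nat_lit 0, nat_lit 1, nat_lit 2, nat_lit 3, nat_lit 4, nat_lit 7, nat_lit 3, nat_lit 2, nat_lit 3, nat_lit 1], [nat_lit 17, nat_lit 2, nat_lit 0, nat_lit 37, nat_lit 16, nat_lit 27],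 (nat_lit 16210)), ((nat_lit 2473), [nat_lit 6, nat_lit 8, nat_lit 3, nat_lit 4, nat_lit 7, nat_lit 6, nat_lit 2, nat_lit 3, nat_lit 4, nat_lit 7, nat_lit 2, nat_lit 3, nat_lit 1], [nat_lit 0, nat_lit 2, nat_lit 36, nat_lit 17, nat_lit 27], (nat_lit 7107)), ((nat_lit 2532), [nat_lit 5, nat_lit 2, nat_lit 3, nat_lit 4, nat_lit 8, nat_lit 3, nat_lit 2, nat_lit 3, nat_lit 4, nat_lit 7, nat_lit 2, nat_lit 3, nat_lit 4, nat_lit 2, nat_lit 3, nat_lit 1], [nat_lit 15, nat_lit 0, nat_lit 25, nat_lit 37, nat_lit 15, nat_lit 26], (nat_lit 16534)), ((nat_lit 1731), [nat_lit 6, nat_lit 3, nat_lit 4, nat_lit 7, nat_lit 2, nat_lit 3, nat_lit 4, nat_lit 8, nat_lit 2, nat_lit 3, nat_lit 4, nat_lit 2, nat_lit 3, nat_lit 0, nat_lit 1], [nat_lit 24, nat_lit 1, nat_lit 36, nat_lit 25, nat_lit 11], (nat_lit 11825)), ((nat_lit 855), [nat_lit 5, nat_lit 8, nat_lit 5, nat_lit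 4, nat_lit 7, nat_lit 3, nat_lit 1, nat_lit 2, nat_lit 3, nat_lit 4, nat_lit 7, nat_lit 3, nat_lit 2, nat_lit 3, nat_lit 1], [nat_lit 25, nat_lit 1, nat_lit 35, nat_lit 32, nat_lit 11, nat_lit 27], (nat_lit 13443)), ((nat_lit 976), [nat_lit 1, nat_lit 2, nat_lit 3, nat_lit 0, nat_lit 1, nat_lit 2, nat_lit 3, nat_lit 4, nat_lit 7, nat_lit 4, nat_lit 7, nat_lit 3, nat_lit 4, nat_lit 2, nat_lit 3, nat_lit 1], [nat_lit 24, nat_lit 15, nat_lit 0, nat_lit 32, nat_lit 32, nat_lit 11, nat_lit 26], (nat_lit 16644)), ((nat_lit 1600), [nat_lit 8, nat_lit 2, nat_lit 3, nat_lit 4, nat_lit 7, nat_lit 1, nat_lit 2, nat_lit 3, nat_lit 4, nat_lit 7, nat_lit 2, nat_lit 3, nat_lit 0, nat_lit 1], [nat_lit 1, nat_lit 1, nat_lit 34, nat_lit 34, nat_lit 11, nat_lit 27], (nat_lit 8587)), ((nat_lit 435), [nat_lit 5, nat_lit 2, nat_lit 3, nat_lit 0, nat_lit 1, nat_lit 2, nat_lit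 3, nat_lit 4, nat_lit 7, nat_lit 3, nat_lit 4, nat_lit 3, nat_lit 2, nat_lit 3, nat_lit 1], [nat_lit 27, nat_lit 18, nat_lit 11, nat_lit 26], (nat_lit 12728)), ((nat_lit 1024), [nat_lit 3, nat_lit 1, nat_lit 2, nat_lit 3, nat_lit 1, nat_lit 2, nat_lit 3, nat_lit 4, nat_lit 7, nat_lit 3, nat_lit 4, nat_lit 3, nat_lit 2, nat_lit 3, nat_lit 1], [nat_lit 10, nat_lit 10, nat_lit 0, nat_lit 17, nat_lit 11, nat_lit 17, nat_lit 26], (nat_lit 12740))] m5_5_22 m5_5_23) = 0 := by decide +kernel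
theorem e5_5_24 : dt.run q (fun c => c.edges (SP THn.T THn.Rl (nat_lit 15)) (nat_lit 4429) THn.T.n (nat_lit 5) (nat_lit 5)
  [((nat_lit 1703), [nat_lit 6, nat_lit 4, nat_lit 7, nat_lit 3, nat_lit 4, nat_lit 7, nat_lit 2, nat_lit 3, nat_lit 4, nat_lit 7, nat_lit 2, nat_lit 3, nat_lit 1], [nat_lit 24, nat_lit 37, nat_lit 17], (nat_lit 7176)), ((nat_lit 860), [nat_lit 7, nat_lit 7, nat_lit 3, nat_lit 4, nat_lit 8, nat_lit 2, nat_lit 3, nat_lit 4, nat_lit 8, nat_lit 4, nat_lit 2, nat_lit 3, nat_lit 1], [nat_lit 15, nat_lit 1, nat_lit 36, nat_lit 16, nat_lit 27], (nat_lit 6775)), ((nat_lit 550), [nat_lit 3, nat_lit 4, nat_lit 7, nat_lit 3, nat_lit 4, nat_lit 8, nat_lit 1, nat_lit 2, nat_lit 3, nat_lit 4, nat_lit 3, nat_lit 2, nat_lit 3, nat_lit 0, nat_lit 1], [nat_lit 16, nat_lit 2, nat_lit 17, nat_lit 11, nat_lit 17, nat_lit 27], (nat_lit 11189)), ((nat_lit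 2516), [nat_lit 7, nat_lit 5, nat_lit 2, nat_lit 3, nat_lit 4, nat_lit 7, nat_lit 3, nat_lit 0, nat_lit 1, nat_lit 2, nat_lit 3, nat_lit 4, nat_lit 3, nat_lit 2, nat_lit 3, nat_lit 1], [nat_lit 17, nat_lit 24, nat_lit 0, nat_lit 25, nat_lit 37], (nat_lit 15678)), ((nat_lit 2525), [nat_lit 7, nat_lit 3, nat_lit 4, nat_lit 8, nat_lit 6, nat_lit 2, nat_lit 3, nat_lit 1, nat_lit 2, nat_lit 3, nat_lit 4, nat_lit 7, nat_lit 3, nat_lit 2, nat_lit 3, nat_lit 1], [nat_lit 25, nat_lit 0, nat_lit 16, nat_lit 26], (nat_lit 16322)), ((nat_lit 555), [nat_lit 5, nat_lit 2, nat_lit 3, nat_lit 4, nat_lit 7, nat_lit 3, nat_lit 2, nat_lit 3, nat_lit 4, nat_lit 3, nat_lit 2, nat_lit 3, nat_lit 0, nat_lit 1], [nat_lit 17, nat_lit 2, nat_lit 0, nat_lit 24, nat_lit 17], (nat_lit 7622)), ((nat_lit 657), [nat_lit 8, nat_lit 3, nat_lit 4, nat_lit 8, nat_lit 8, nat_lit 1, nat_lit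 2, nat_lit 3, nat_lit 4, nat_lit 8, nat_lit 2, nat_lit 3, nat_lit 1], [nat_lit 15, nat_lit 18, nat_lit 27], (nat_lit 6890)), ((nat_lit 365), [nat_lit 8, nat_lit 8, nat_lit 3, nat_lit 0, nat_lit 1, nat_lit 2, nat_lit 3, nat_lit 4, nat_lit 7, nat_lit 3, nat_lit 2, nat_lit 3, nat_lit 0, nat_lit 1], [nat_lit 25, nat_lit 0, nat_lit 37, nat_lit 34, nat_lit 24], (nat_lit 7911)), ((nat_lit 1426), [nat_lit 5, nat_lit 4, nat_lit 3, nat_lit 1, nat_lit 2, nat_lit 3, nat_lit 4, nat_lit 8, nat_lit 3, nat_lit 4, nat_lit 3, nat_lit 2, nat_lit 3, nat_lit 0, nat_lit 1], [nat_lit 14, nat_lit 15, nat_lit 0, nat_lit 27, nat_lit 18, nat_lit 11, nat_lit 27], (nat_lit 11253)), ((nat_lit 1847), [nat_lit 3, nat_lit 4, nat_lit 7, nat_lit 4, nat_lit 7, nat_lit 5, nat_lit 2, nat_lit 3, nat_lit 4, nat_lit 8, nat_lit 2, nat_lit 3, nat_lit 1], [nat_lit 25, nat_lit 16, nat_lit 0,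 nat_lit 34, nat_lit 34, nat_lit 15, nat_lit 26], (nat_lit 6930)), ((nat_lit 2284), [nat_lit 5, nat_lit 4, nat_lit 7, nat_lit 3, nat_lit 4, nat_lit 7, nat_lit 2, nat_lit 3, nat_lit 4, nat_lit 8, nat_lit 2, nat_lit 3, nat_lit 0, nat_lit 1], [nat_lit 1, nat_lit 14, nat_lit 36, nat_lit 32, nat_lit 11], (nat_lit 8506)), ((nat_lit 1945), [nat_lit 8, nat_lit 3, nat_lit 4, nat_lit 7, nat_lit 0, nat_lit 1, nat_lit 2, nat_lit 3, nat_lit 4, nat_lit 7, nat_lit 2, nat_lit 3, nat_lit 1], [nat_lit 5, nat_lit 37, nat_lit 18], (nat_lit 7043)), ((nat_lit 2500), [nat_lit 4, nat_lit 8, nat_lit 4, nat_lit 3, nat_lit 2, nat_lit 3, nat_lit 4, nat_lit 8, nat_lit 2, nat_lit 3, nat_lit 4, nat_lit 3, nat_lit 2, nat_lit 3, nat_lit 1], [nat_lit 24, nat_lit 0, nat_lit 34, nat_lit 24, nat_lit 17], (nat_lit 12624)), ((nat_lit 1236), [nat_lit 4, nat_lit 7, nat_lit 3, nat_lit 4, nat_lit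 8, nat_lit 2, nat_lit 3, nat_lit 0, nat_lit 1, nat_lit 2, nat_lit 3, nat_lit 4, nat_lit 3, nat_lit 2, nat_lit 3, nat_lit 0, nat_lit 1], [nat_lit 15, nat_lit 5, nat_lit 15, nat_lit 17, nat_lit 11, nat_lit 26], (nat_lit 16838)), ((nat_lit 879), [nat_lit 4, nat_lit 2, nat_lit 3, nat_lit 0, nat_lit 1, nat_lit 2, nat_lit 3, nat_lit 4, nat_lit 7, nat_lit 4, nat_lit 3, nat_lit 2, nat_lit 3, nat_lit 0, nat_lit 1], [nat_lit 25, nat_lit 1, nat_lit 17, nat_lit 11, nat_lit 17, nat_lit 26], (nat_lit 11337)), ((nat_lit 1247), [nat_lit 4, nat_lit 7, nat_lit 7, nat_lit 3, nat_lit 4, nat_lit 8, nat_lit 2, nat_lit 3, nat_lit 4, nat_lit 8, nat_lit 2, nat_lit 3, nat_lit 1], [nat_lit 16, nat_lit 0, nat_lit 32], (nat_lit 6953)), ((nat_lit 1372), [nat_lit 6, nat_lit 4, nat_lit 7, nat_lit 3, nat_lit 4, nat_lit 8, nat_lit 5, nat_lit 2, nat_lit 3, nat_lit 4, nat_lit 8, nat_lit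 2, nat_lit 3, nat_lit 0, nat_lit 1], [nat_lit 15, nat_lit 1, nat_lit 11, nat_lit 16, nat_lit 27], (nat_lit 12103)), ((nat_lit 2511), [nat_lit 7, nat_lit 5, nat_lit 3, nat_lit 4, nat_lit 2, nat_lit 3, nat_lit 1, nat_lit 2, nat_lit 3, nat_lit 4, nat_lit 7, nat_lit 4, nat_lit 3, nat_lit 2, nat_lit 3, nat_lit 1], [nat_lit 16, nat_lit 5, nat_lit 2, nat_lit 33, nat_lit 37, nat_lit 11], (nat_lit 16070)), ((nat_lit 2187), [nat_lit 4, nat_lit 8, nat_lit 5, nat_lit 2, nat_lit 3, nat_lit 2, nat_lit 3, nat_lit 4, nat_lit 7, nat_lit 3, nat_lit 4, nat_lit 2, nat_lit 3, nat_lit 1], [nat_lit 25, nat_lit 0, nat_lit 36, nat_lit 25, nat_lit 11], (nat_lit 10218)), ((nat_lit 1937), [nat_lit 8, nat_lit 4, nat_lit 7, nat_lit 2, nat_lit 3, nat_lit 4, nat_lit 8, nat_lit 0, nat_lit 1, nat_lit 2, nat_lit 3, nat_lit 4, nat_lit 3, nat_lit 2, nat_lit 3, nat_lit 1], [nat_lit 10,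 nat_lit 0, nat_lit 18, nat_lit 25], (nat_lit 15708)), ((nat_lit 1743), [nat_lit 7, nat_lit 5, nat_lit 2, nat_lit 3, nat_lit 4, nat_lit 7, nat_lit 2, nat_lit 3, nat_lit 4, nat_lit 8, nat_lit 2, nat_lit 3, nat_lit 1], [nat_lit 25, nat_lit 16, nat_lit 0, nat_lit 35, nat_lit 27, nat_lit 15], (nat_lit 6973)), ((nat_lit 658), [nat_lit 7, nat_lit 2, nat_lit 3, nat_lit 4, nat_lit 8, nat_lit 8, nat_lit 2, nat_lit 3, nat_lit 4, nat_lit 8, nat_lit 3, nat_lit 2, nat_lit 3, nat_lit 1], [nat_lit 10, nat_lit 0, nat_lit 15, nat_lit 35], (nat_lit 9405)), ((nat_lit 1679), [nat_lit 3, nat_lit 4, nat_lit 7, nat_lit 4, nat_lit 7, nat_lit 0, nat_lit 1, nat_lit 2, nat_lit 3, nat_lit 4, nat_lit 8, nat_lit 2, nat_lit 3, nat_lit 0, nat_lit 1], [nat_lit 14, nat_lit 0, nat_lit 15, nat_lit 15, nat_lit 15, nat_lit 27], (nat_lit 12038)), ((nat_lit 1839), [nat_lit 8, nat_lit 3, nat_lit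 4, nat_lit 2, nat_lit 3, nat_lit 1, nat_lit 2, nat_lit 3, nat_lit 4, nat_lit 7, nat_lit 4, nat_lit 7, nat_lit 3, nat_lit 2, nat_lit 3, nat_lit 1], [nat_lit 26, nat_lit 24, nat_lit 0, nat_lit 17, nat_lit 11, nat_lit 27], (nat_lit 16406)), ((nat_lit 1266), [nat_lit 2, nat_lit 3, nat_lit 4, nat_lit 8, nat_lit 4, nat_lit 8, nat_lit 1, nat_lit 2, nat_lit 3, nat_lit 4, nat_lit 3, nat_lit 2, nat_lit 3, nat_lit 0, nat_lit 1], [nat_lit 15, nat_lit 5, nat_lit 24, nat_lit 18], (nat_lit 11190)), ((nat_lit 1318), [nat_lit 7, nat_lit 7, nat_lit 2, nat_lit 3, nat_lit 0, nat_lit 1, nat_lit 2, nat_lit 3, nat_lit 4, nat_lit 7, nat_lit 3, nat_lit 2, nat_lit 3, nat_lit 0, nat_lit 1], [nat_lit 24, nat_lit 15, nat_lit 0, nat_lit 35, nat_lit 15, nat_lit 27], (nat_lit 11526)), ((nat_lit 999), [nat_lit 6, nat_lit 8, nat_lit 4, nat_lit 7, nat_lit 3, nat_lit 4, nat_lit 8, nat_lit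 2, nat_lit 3, nat_lit 4, nat_lit 3, nat_lit 2, nat_lit 3, nat_lit 1], [nat_lit 17, nat_lit 24, nat_lit 0, nat_lit 26, nat_lit 34, nat_lit 11, nat_lit 27], (nat_lit 8902)), ((nat_lit 578), [nat_lit 7, nat_lit 4, nat_lit 8, nat_lit 3, nat_lit 4, nat_lit 7, nat_lit 2, nat_lit 3, nat_lit 4, nat_lit 7, nat_lit 3, nat_lit 2, nat_lit 3, nat_lit 0, nat_lit 1], [nat_lit 15, nat_lit 5, nat_lit 36, nat_lit 32, nat_lit 26], (nat_lit 11660)), ((nat_lit 1447), [nat_lit 4, nat_lit 8, nat_lit 8, nat_lit 3, nat_lit 4, nat_lit 7, nat_lit 2, nat_lit 3, nat_lit 4, nat_lit 8, nat_lit 2, nat_lit 3, nat_lit 1], [nat_lit 24, nat_lit 2, nat_lit 11, nat_lit 26], (nat_lit 6992)), ((nat_lit 2381), [nat_lit 5, nat_lit 7, nat_lit 2, nat_lit 3, nat_lit 4, nat_lit 7, nat_lit 1, nat_lit 2, nat_lit 3, nat_lit 4, nat_lit 7, nat_lit 4, nat_lit 2, nat_lit 3, nat_lit 0, nat_lit 1], [nat_lit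 24, nat_lit 16, nat_lit 0, nat_lit 24, nat_lit 17, nat_lit 27], (nat_lit 15417)), ((nat_lit 1322), [nat_lit 7, nat_lit 4, nat_lit 7, nat_lit 5, nat_lit 3, nat_lit 1, nat_lit 2, nat_lit 3, nat_lit 4, nat_lit 8, nat_lit 3, nat_lit 2, nat_lit 3, nat_lit 0, nat_lit 1], [nat_lit 10, nat_lit 0, nat_lit 25, nat_lit 37, nat_lit 17], (nat_lit 11432)), ((nat_lit 2510), [nat_lit 2, nat_lit 3, nat_lit 4, nat_lit 7, nat_lit 4, nat_lit 7, nat_lit 2, nat_lit 3, nat_lit 4, nat_lit 8, nat_lit 2, nat_lit 3, nat_lit 1], [nat_lit 10, nat_lit 0, nat_lit 15, nat_lit 15, nat_lit 27], (nat_lit 6999)), ((nat_lit 2503), [nat_lit 6, nat_lit 3, nat_lit 0, nat_lit 1, nat_lit 2, nat_lit 3, nat_lit 4, nat_lit 7, nat_lit 3, nat_lit 4, nat_lit 3, nat_lit 2, nat_lit 3, nat_lit 1], [nat_lit 25, nat_lit 2, nat_lit 0, nat_lit 26, nat_lit 24, nat_lit 27], (nat_lit 8986)), ((nat_lit 821),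 [nat_lit 7, nat_lit 2, nat_lit 3, nat_lit 2, nat_lit 3, nat_lit 4, nat_lit 7, nat_lit 3, nat_lit 4, nat_lit 8, nat_lit 2, nat_lit 3, nat_lit 1], [nat_lit 11, nat_lit 5, nat_lit 2, nat_lit 18, nat_lit 11, nat_lit 15, nat_lit 27], (nat_lit 7010)), ((nat_lit 2385), [nat_lit 3, nat_lit 4, nat_lit 2, nat_lit 3, nat_lit 0, nat_lit 1, nat_lit 2, nat_lit 3, nat_lit 4, nat_lit 8, nat_lit 4, nat_lit 8, nat_lit 3, nat_lit 2, nat_lit 3, nat_lit 0, nat_lit 1], [nat_lit 2, nat_lit 0, nat_lit 37, nat_lit 15, nat_lit 11, nat_lit 26], (nat_lit 16933)), ((nat_lit 2231), [nat_lit 7, nat_lit 3, nat_lit 4, nat_lit 8, nat_lit 2, nat_lit 3, nat_lit 1, nat_lit 2, nat_lit 3, nat_lit 4, nat_lit 8, nat_lit 3, nat_lit 2, nat_lit 3, nat_lit 1], [nat_lit 24, nat_lit 0, nat_lit 15, nat_lit 15, nat_lit 11, nat_lit 27], (nat_lit 13127)), ((nat_lit 1496), [nat_lit 5, nat_lit 4, nat_lit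 8, nat_lit 2, nat_lit 3, nat_lit 1, nat_lit 2, nat_lit 3, nat_lit 4, nat_lit 7, nat_lit 3, nat_lit 2, nat_lit 3, nat_lit 0, nat_lit 1], [nat_lit 15, nat_lit 1, nat_lit 32, nat_lit 16, nat_lit 26], (nat_lit 11566)), ((nat_lit 1952), [nat_lit 8, nat_lit 1, nat_lit 2, nat_lit 3, nat_lit 4, nat_lit 8, nat_lit 2, nat_lit 3, nat_lit 4, nat_lit 7, nat_lit 2, nat_lit 3, nat_lit 0, nat_lit 1], [nat_lit 15, nat_lit 0, nat_lit 27, nat_lit 16], (nat_lit 8615)), ((nat_lit 2030), [nat_lit 7, nat_lit 2, nat_lit 3, nat_lit 1, nat_lit 2, nat_lit 3, nat_lit 4, nat_lit 8, nat_lit 4, nat_lit 3, nat_lit 2, nat_lit 3, nat_lit 0, nat_lit 1], [nat_lit 1, nat_lit 1, nat_lit 36, nat_lit 16, nat_lit 27], (nat_lit 7714)), ((nat_lit 412), [nat_lit 7, nat_lit 4, nat_lit 3, nat_lit 2, nat_lit 3, nat_lit 4, nat_lit 7, nat_lit 2, nat_lit 3, nat_lit 4, nat_lit 3, nat_lit 2, nat_lit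 3, nat_lit 1], [nat_lit 15, nat_lit 0, nat_lit 24, nat_lit 15, nat_lit 26], (nat_lit 8914)), ((nat_lit 1376), [nat_lit 5, nat_lit 8, nat_lit 2, nat_lit 3, nat_lit 4, nat_lit 7, nat_lit 1, nat_lit 2, nat_lit 3, nat_lit 4, nat_lit 7, nat_lit 2, nat_lit 3, nat_lit 0, nat_lit 1], [nat_lit 25, nat_lit 14, nat_lit 0, nat_lit 36, nat_lit 16], (nat_lit 12286)), ((nat_lit 1636), [nat_lit 8, nat_lit 4, nat_lit 2, nat_lit 3, nat_lit 1, nat_lit 2, nat_lit 3, nat_lit 4, nat_lit 8, nat_lit 4, nat_lit 8, nat_lit 3, nat_lit 4, nat_lit 2, nat_lit 3, nat_lit 1], [nat_lit 5, nat_lit 15, nat_lit 35, nat_lit 11], (nat_lit 16629)), ((nat_lit 1338), [nat_lit 6, nat_lit 7, nat_lit 4, nat_lit 7, nat_lit 3, nat_lit 4, nat_lit 7, nat_lit 2, nat_lit 3, nat_lit 4, nat_lit 8, nat_lit 2, nat_lit 3, nat_lit 1], [nat_lit 16, nat_lit 0, nat_lit 34, nat_lit 27], (nat_lit 10610)), ((nat_lit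 1061), [nat_lit 0, nat_lit 1, nat_lit 2, nat_lit 3, nat_lit 1, nat_lit 2, nat_lit 3, nat_lit 4, nat_lit 8, nat_lit 4, nat_lit 8, nat_lit 3, nat_lit 4, nat_lit 2, nat_lit 3, nat_lit 1], [nat_lit 24, nat_lit 2, nat_lit 0, nat_lit 11, nat_lit 16, nat_lit 26], (nat_lit 16626)), ((nat_lit 1451), [nat_lit 8, nat_lit 5, nat_lit 3, nat_lit 4, nat_lit 8, nat_lit 2, nat_lit 3, nat_lit 1, nat_lit 2, nat_lit 3, nat_lit 4, nat_lit 8, nat_lit 3, nat_lit 2, nat_lit 3, nat_lit 1], [nat_lit 5, nat_lit 24, nat_lit 17, nat_lit 11, nat_lit 26], (nat_lit 16188)), ((nat_lit 2440), [nat_lit 7, nat_lit 3, nat_lit 2, nat_lit 3, nat_lit 4, nat_lit 8, nat_lit 2, nat_lit 3, nat_lit 4, nat_lit 7, nat_lit 2, nat_lit 3, nat_lit 1], [nat_lit 5, nat_lit 16, nat_lit 2, nat_lit 17, nat_lit 15], (nat_lit 7124)), ((nat_lit 2417), [nat_lit 3, nat_lit 4, nat_lit 8, nat_lit 6, nat_lit 0,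 nat_lit 1, nat_lit 2, nat_lit 3, nat_lit 4, nat_lit 8, nat_lit 3, nat_lit 2, nat_lit 3, nat_lit 1], [nat_lit 11, nat_lit 5, nat_lit 2, nat_lit 26, nat_lit 15, nat_lit 15], (nat_lit 9228)), ((nat_lit 600), [nat_lit 4, nat_lit 7, nat_lit 7, nat_lit 2, nat_lit 3, nat_lit 4, nat_lit 8, nat_lit 1, nat_lit 2, nat_lit 3, nat_lit 4, nat_lit 8, nat_lit 2, nat_lit 3, nat_lit 0, nat_lit 1], [nat_lit 5, nat_lit 2, nat_lit 25, nat_lit 16], (nat_lit 15464)), ((nat_lit 843), [nat_lit 5, nat_lit 7, nat_lit 4, nat_lit 7, nat_lit 3, nat_lit 2, nat_lit 3, nat_lit 4, nat_lit 7, nat_lit 3, nat_lit 4, nat_lit 3, nat_lit 2, nat_lit 3, nat_lit 1], [nat_lit 1, nat_lit 24, nat_lit 0, nat_lit 25, nat_lit 18], (nat_lit 12818)), ((nat_lit 1714), [nat_lit 7, nat_lit 3, nat_lit 4, nat_lit 8, nat_lit 2, nat_lit 3, nat_lit 1, nat_lit 2, nat_lit 3, nat_lit 4, nat_lit 3, nat_lit 2,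 nat_lit 3, nat_lit 1], [nat_lit 5, nat_lit 26, nat_lit 36, nat_lit 27], (nat_lit 8756)), ((nat_lit 1730), [nat_lit 7, nat_lit 5, nat_lit 3, nat_lit 4, nat_lit 7, nat_lit 3, nat_lit 0, nat_lit 1, nat_lit 2, nat_lit 3, nat_lit 4, nat_lit 3, nat_lit 2, nat_lit 3, nat_lit 1], [nat_lit 14, nat_lit 15, nat_lit 0, nat_lit 26, nat_lit 34, nat_lit 32, nat_lit 27], (nat_lit 12426)), ((nat_lit 1947), [nat_lit 5, nat_lit 4, nat_lit 8, nat_lit 2, nat_lit 3, nat_lit 4, nat_lit 7, nat_lit 2, nat_lit 3, nat_lit 4, nat_lit 8, nat_lit 2, nat_lit 3, nat_lit 1], [nat_lit 16, nat_lit 2, nat_lit 34, nat_lit 26], (nat_lit 10573)), ((nat_lit 1797), [nat_lit 6, nat_lit 8, nat_lit 3, nat_lit 4, nat_lit 7, nat_lit 3, nat_lit 0, nat_lit 1, nat_lit 2, nat_lit 3, nat_lit 4, nat_lit 8, nat_lit 3, nat_lit 2, nat_lit 3, nat_lit 1], [nat_lit 15, nat_lit 1, nat_lit 24, nat_lit 37, nat_lit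 17, nat_lit 27], (nat_lit 16145)), ((nat_lit 1560), [nat_lit 4, nat_lit 8, nat_lit 3, nat_lit 4, nat_lit 7, nat_lit 2, nat_lit 3, nat_lit 1, nat_lit 2, nat_lit 3, nat_lit 4, nat_lit 3, nat_lit 2, nat_lit 3, nat_lit 0, nat_lit 1], [nat_lit 24, nat_lit 2, nat_lit 0, nat_lit 35, nat_lit 16, nat_lit 16, nat_lit 26], (nat_lit 14808)), ((nat_lit 1898), [nat_lit 4, nat_lit 7, nat_lit 5, nat_lit 3, nat_lit 4, nat_lit 7, nat_lit 2, nat_lit 3, nat_lit 4, nat_lit 7, nat_lit 2, nat_lit 3, nat_lit 1], [nat_lit 24, nat_lit 1, nat_lit 35, nat_lit 15, nat_lit 27], (nat_lit 7169)), ((nat_lit 1785), [nat_lit 7, nat_lit 3, nat_lit 4, nat_lit 7, nat_lit 3, nat_lit 1, nat_lit 2, nat_lit 3, nat_lit 4, nat_lit 7, nat_lit 4, nat_lit 3, nat_lit 2, nat_lit 3, nat_lit 1], [nat_lit 15, nat_lit 2, nat_lit 37, nat_lit 17, nat_lit 11, nat_lit 26], (nat_lit 12994)), ((nat_lit 715),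 [nat_lit 7, nat_lit 6, nat_lit 1, nat_lit 2, nat_lit 3, nat_lit 4, nat_lit 7, nat_lit 1, nat_lit 2, nat_lit 3, nat_lit 4, nat_lit 3, nat_lit 2, nat_lit 3, nat_lit 0, nat_lit 1], [nat_lit 25, nat_lit 1, nat_lit 24, nat_lit 36], (nat_lit 14838)), ((nat_lit 1154), [nat_lit 8, nat_lit 4, nat_lit 2, nat_lit 3, nat_lit 0, nat_lit 1, nat_lit 2, nat_lit 3, nat_lit 4, nat_lit 7, nat_lit 4, nat_lit 3, nat_lit 2, nat_lit 3, nat_lit 1], [nat_lit 25, nat_lit 1, nat_lit 32, nat_lit 15, nat_lit 26], (nat_lit 12928)), ((nat_lit 1073), [nat_lit 6, nat_lit 8, nat_lit 4, nat_lit 7, nat_lit 3, nat_lit 4, nat_lit 8, nat_lit 2, nat_lit 3, nat_lit 4, nat_lit 7, nat_lit 3, nat_lit 2, nat_lit 3, nat_lit 1], [nat_lit 17, nat_lit 24, nat_lit 0, nat_lit 16, nat_lit 18, nat_lit 15, nat_lit 27], (nat_lit 13542)), ((nat_lit 1164), [nat_lit 7, nat_lit 5, nat_lit 1, nat_lit 2, nat_lit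 3, nat_lit 2, nat_lit 3, nat_lit 4, nat_lit 8, nat_lit 3, nat_lit 4, nat_lit 2, nat_lit 3, nat_lit 1], [nat_lit 1, nat_lit 1, nat_lit 37, nat_lit 24, nat_lit 15, nat_lit 26], (nat_lit 10087)), ((nat_lit 1028), [nat_lit 5, nat_lit 3, nat_lit 1, nat_lit 2, nat_lit 3, nat_lit 4, nat_lit 8, nat_lit 1, nat_lit 2, nat_lit 3, nat_lit 4, nat_lit 7, nat_lit 3, nat_lit 2, nat_lit 3, nat_lit 1], [nat_lit 37, nat_lit 34, nat_lit 25, nat_lit 26], (nat_lit 16348)), ((nat_lit 1620), [nat_lit 1, nat_lit 2, nat_lit 3, nat_lit 4, nat_lit 8, nat_lit 4, nat_lit 8, nat_lit 1, nat_lit 2, nat_lit 3, nat_lit 4, nat_lit 3, nat_lit 2, nat_lit 3, nat_lit 1], [nat_lit 25, nat_lit 1, nat_lit 33, nat_lit 36, nat_lit 11], (nat_lit 12575)), ((nat_lit 558), [nat_lit 4, nat_lit 7, nat_lit 1, nat_lit 2, nat_lit 3, nat_lit 4, nat_lit 8, nat_lit 1, nat_lit 2, nat_lit 3, nat_lit 4, nat_lit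 7, nat_lit 3, nat_lit 2, nat_lit 3, nat_lit 1], [nat_lit 11, nat_lit 5, nat_lit 2, nat_lit 37, nat_lit 17, nat_lit 27], (nat_lit 16354)), ((nat_lit 586), [nat_lit 4, nat_lit 7, nat_lit 0, nat_lit 1, nat_lit 2, nat_lit 3, nat_lit 4, nat_lit 8, nat_lit 2, nat_lit 3, nat_lit 4, nat_lit 3, nat_lit 2, nat_lit 3, nat_lit 1], [nat_lit 2, nat_lit 24, nat_lit 36, nat_lit 16, nat_lit 26], (nat_lit 12601)), ((nat_lit 1155), [nat_lit 8, nat_lit 8, nat_lit 4, nat_lit 8, nat_lit 3, nat_lit 4, nat_lit 8, nat_lit 2, nat_lit 3, nat_lit 4, nat_lit 8, nat_lit 2, nat_lit 3, nat_lit 1], [nat_lit 2, nat_lit 36, nat_lit 25, nat_lit 26], (nat_lit 10523)), ((nat_lit 2377), [nat_lit 5, nat_lit 7, nat_lit 5, nat_lit 2, nat_lit 3, nat_lit 4, nat_lit 7, nat_lit 2, nat_lit 3, nat_lit 4, nat_lit 8, nat_lit 2, nat_lit 3, nat_lit 0, nat_lit 1], [nat_lit 1, nat_lit 33, nat_lit 36,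 nat_lit 26], (nat_lit 12169)), ((nat_lit 1926), [nat_lit 5, nat_lit 4, nat_lit 8, nat_lit 2, nat_lit 3, nat_lit 4, nat_lit 8, nat_lit 1, nat_lit 2, nat_lit 3, nat_lit 4, nat_lit 7, nat_lit 2, nat_lit 3, nat_lit 0, nat_lit 1], [nat_lit 14, nat_lit 0, nat_lit 11, nat_lit 18, nat_lit 26], (nat_lit 15589)), ((nat_lit 374), [nat_lit 4, nat_lit 8, nat_lit 5, nat_lit 2, nat_lit 3, nat_lit 1, nat_lit 2, nat_lit 3, nat_lit 4, nat_lit 7, nat_lit 3, nat_lit 2, nat_lit 3, nat_lit 0, nat_lit 1], [nat_lit 24, nat_lit 0, nat_lit 37, nat_lit 34, nat_lit 26], (nat_lit 11564)), ((nat_lit 1771), [nat_lit 7, nat_lit 4, nat_lit 7, nat_lit 7, nat_lit 2, nat_lit 3, nat_lit 1, nat_lit 2, nat_lit 3, nat_lit 4, nat_lit 7, nat_lit 3, nat_lit 2, nat_lit 3, nat_lit 1], [nat_lit 10, nat_lit 0, nat_lit 17, nat_lit 17, nat_lit 27], (nat_lit 13419)), ((nat_lit 1899), [nat_lit 3, nat_lit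 4, nat_lit 8, nat_lit 1, nat_lit 2, nat_lit 3, nat_lit 0, nat_lit 1, nat_lit 2, nat_lit 3, nat_lit 4, nat_lit 3, nat_lit 2, nat_lit 3, nat_lit 1], [nat_lit 16, nat_lit 5, nat_lit 2, nat_lit 24, nat_lit 36, nat_lit 16, nat_lit 27], (nat_lit 12380)), ((nat_lit 1662), [nat_lit 6, nat_lit 4, nat_lit 8, nat_lit 3, nat_lit 1, nat_lit 2, nat_lit 3, nat_lit 4, nat_lit 7, nat_lit 2, nat_lit 3, nat_lit 4, nat_lit 7, nat_lit 2, nat_lit 3, nat_lit 1], [nat_lit 5, nat_lit 2, nat_lit 0, nat_lit 26, nat_lit 16], (nat_lit 16746)), ((nat_lit 2499), [nat_lit 5, nat_lit 3, nat_lit 4, nat_lit 7, nat_lit 2, nat_lit 3, nat_lit 4, nat_lit 7, nat_lit 2, nat_lit 3, nat_lit 4, nat_lit 7, nat_lit 2, nat_lit 3, nat_lit 1], [nat_lit 16, nat_lit 5, nat_lit 0, nat_lit 37, nat_lit 11, nat_lit 26], (nat_lit 14649)), ((nat_lit 2536), [nat_lit 6, nat_lit 7, nat_lit 2, nat_lit 3, nat_lit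 4, nat_lit 8, nat_lit 2, nat_lit 3, nat_lit 4, nat_lit 3, nat_lit 2, nat_lit 3, nat_lit 0, nat_lit 1], [nat_lit 15, nat_lit 2, nat_lit 36, nat_lit 17, nat_lit 26], (nat_lit 7635)), ((nat_lit 1665), [nat_lit 3, nat_lit 4, nat_lit 7, nat_lit 2, nat_lit 3, nat_lit 4, nat_lit 7, nat_lit 2, nat_lit 3, nat_lit 4, nat_lit 7, nat_lit 2, nat_lit 3, nat_lit 1], [nat_lit 5, nat_lit 2, nat_lit 0, nat_lit 16, nat_lit 18, nat_lit 15, nat_lit 26], (nat_lit 10836)), ((nat_lit 1557), [nat_lit 8, nat_lit 3, nat_lit 1, nat_lit 2, nat_lit 3, nat_lit 4, nat_lit 8, nat_lit 3, nat_lit 4, nat_lit 3, nat_lit 2, nat_lit 3, nat_lit 0, nat_lit 1], [nat_lit 5, nat_lit 16, nat_lit 2, nat_lit 33, nat_lit 18, nat_lit 27], (nat_lit 7660)), ((nat_lit 1841), [nat_lit 7, nat_lit 5, nat_lit 2, nat_lit 3, nat_lit 4, nat_lit 7, nat_lit 2, nat_lit 3, nat_lit 4, nat_lit 8, nat_lit 3, nat_lit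 2, nat_lit 3, nat_lit 1], [nat_lit 16, nat_lit 5, nat_lit 0, nat_lit 11, nat_lit 37, nat_lit 27], (nat_lit 9410)), ((nat_lit 2393), [nat_lit 7, nat_lit 4, nat_lit 7, nat_lit 3, nat_lit 4, nat_lit 7, nat_lit 5, nat_lit 2, nat_lit 3, nat_lit 4, nat_lit 7, nat_lit 2, nat_lit 3, nat_lit 0, nat_lit 1], [nat_lit 15, nat_lit 1, nat_lit 11, nat_lit 17, nat_lit 26], (nat_lit 12309)), ((nat_lit 443), [nat_lit 8, nat_lit 8, nat_lit 3, nat_lit 4, nat_lit 8, nat_lit 5, nat_lit 1, nat_lit 2, nat_lit 3, nat_lit 4, nat_lit 8, nat_lit 2, nat_lit 3, nat_lit 1], [nat_lit 32, nat_lit 11], (nat_lit 10422)), ((nat_lit 1020), [nat_lit 7, nat_lit 4, nat_lit 2, nat_lit 3, nat_lit 1, nat_lit 2, nat_lit 3, nat_lit 4, nat_lit 8, nat_lit 4, nat_lit 3, nat_lit 2, nat_lit 3, nat_lit 1], [nat_lit 5, nat_lit 37, nat_lit 34, nat_lit 24, nat_lit 27], (nat_lit 9070)), ((nat_lit 445),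 [nat_lit 2, nat_lit 3, nat_lit 4, nat_lit 7, nat_lit 7, nat_lit 3, nat_lit 2, nat_lit 3, nat_lit 4, nat_lit 7, nat_lit 3, nat_lit 2, nat_lit 3, nat_lit 1], [nat_lit 25, nat_lit 16, nat_lit 0, nat_lit 17, nat_lit 36, nat_lit 15, nat_lit 26], (nat_lit 9617))] m5_5_23 m5_5_24) = 0 := by decide +kernel
theorem e5_5_25 : dt.run q (fun c => c.edges (SP THn.T THn.Rl (nat_lit 15)) (nat_lit 4429) THn.T.n (nat_lit 5) (nat_lit 5)
  [((nat_lit 1906), [nat_lit 7, nat_lit 4, nat_lit 8, nat_lit 5, nat_lit 3, nat_lit 2, nat_lit 3, nat_lit 4, nat_lit 7, nat_lit 3, nat_lit 4, nat_lit 2, nat_lit 3, nat_lit 0, nat_lit 1], [nat_lit 0, nat_lit 2, nat_lit 18, nat_lit 36, nat_lit 27], (nat_lit 11941)), ((nat_lit 1528), [nat_lit 3, nat_lit 4, nat_lit 8, nat_lit 8, nat_lit 3, nat_lit 2, nat_lit 3, nat_lit 4, nat_lit 7, nat_lit 3, nat_lit 2, nat_lit 3, nat_lit 0, nat_lit 1],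 [nat_lit 11, nat_lit 2, nat_lit 0, nat_lit 24, nat_lit 24, nat_lit 27], (nat_lit 7986)), ((nat_lit 765), [nat_lit 5, nat_lit 4, nat_lit 3, nat_lit 0, nat_lit 1, nat_lit 2, nat_lit 3, nat_lit 4, nat_lit 7, nat_lit 4, nat_lit 3, nat_lit 2, nat_lit 3, nat_lit 0, nat_lit 1], [nat_lit 0, nat_lit 33, nat_lit 33, nat_lit 11], (nat_lit 11342)), ((nat_lit 910), [nat_lit 7, nat_lit 4, nat_lit 7, nat_lit 7, nat_lit 1, nat_lit 2, nat_lit 3, nat_lit 4, nat_lit 7, nat_lit 1, nat_lit 2, nat_lit 3, nat_lit 4, nat_lit 2, nat_lit 3, nat_lit 1], [nat_lit 17, nat_lit 2, nat_lit 0, nat_lit 17, nat_lit 36, nat_lit 15, nat_lit 27], (nat_lit 16456)), ((nat_lit 562), [nat_lit 6, nat_lit 8, nat_lit 2, nat_lit 3, nat_lit 1, nat_lit 2, nat_lit 3, nat_lit 4, nat_lit 8, nat_lit 3, nat_lit 2, nat_lit 3, nat_lit 0, nat_lit 1], [nat_lit 24, nat_lit 1, nat_lit 24, nat_lit 15, nat_lit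 27], (nat_lit 7800)), ((nat_lit 2486), [nat_lit 2, nat_lit 3, nat_lit 4, nat_lit 8, nat_lit 6, nat_lit 2, nat_lit 3, nat_lit 4, nat_lit 8, nat_lit 3, nat_lit 2, nat_lit 3, nat_lit 0, nat_lit 1], [nat_lit 25, nat_lit 16, nat_lit 0, nat_lit 16, nat_lit 16, nat_lit 26], (nat_lit 7866)), ((nat_lit 2437), [nat_lit 7, nat_lit 3, nat_lit 4, nat_lit 8, nat_lit 5, nat_lit 2, nat_lit 3, nat_lit 4, nat_lit 8, nat_lit 3, nat_lit 2, nat_lit 3, nat_lit 0, nat_lit 1], [nat_lit 17, nat_lit 15, nat_lit 11, nat_lit 26], (nat_lit 7868)), ((nat_lit 2442), [nat_lit 8, nat_lit 8, nat_lit 3, nat_lit 1, nat_lit 2, nat_lit 3, nat_lit 4, nat_lit 7, nat_lit 2, nat_lit 3, nat_lit 4, nat_lit 8, nat_lit 2, nat_lit 3, nat_lit 1], [nat_lit 15, nat_lit 5, nat_lit 24, nat_lit 16, nat_lit 26], (nat_lit 14404)), ((nat_lit 1466), [nat_lit 4, nat_lit 7, nat_lit 2, nat_lit 3, nat_lit 4,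 nat_lit 7, nat_lit 5, nat_lit 2, nat_lit 3, nat_lit 4, nat_lit 8, nat_lit 2, nat_lit 3, nat_lit 1], [nat_lit 11, nat_lit 5, nat_lit 2, nat_lit 33, nat_lit 11, nat_lit 16], (nat_lit 10489)), ((nat_lit 2507), [nat_lit 7, nat_lit 3, nat_lit 4, nat_lit 7, nat_lit 3, nat_lit 2, nat_lit 3, nat_lit 4, nat_lit 8, nat_lit 2, nat_lit 3, nat_lit 4, nat_lit 3, nat_lit 2, nat_lit 3, nat_lit 1], [nat_lit 10, nat_lit 0, nat_lit 37, nat_lit 24, nat_lit 11, nat_lit 27], (nat_lit 15837)), ((nat_lit 1781), [nat_lit 8, nat_lit 5, nat_lit 4, nat_lit 8, nat_lit 3, nat_lit 4, nat_lit 7, nat_lit 1, nat_lit 2, nat_lit 3, nat_lit 4, nat_lit 2, nat_lit 3, nat_lit 0, nat_lit 1], [nat_lit 1, nat_lit 17, nat_lit 11, nat_lit 17], (nat_lit 11778)), ((nat_lit 2405), [nat_lit 2, nat_lit 3, nat_lit 1, nat_lit 2, nat_lit 3, nat_lit 4, nat_lit 8, nat_lit 4, nat_lit 8, nat_lit 3, nat_lit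 2, nat_lit 3, nat_lit 0, nat_lit 1], [nat_lit 5, nat_lit 11, nat_lit 18], (nat_lit 7900)), ((nat_lit 404), [nat_lit 4, nat_lit 8, nat_lit 6, nat_lit 3, nat_lit 0, nat_lit 1, nat_lit 2, nat_lit 3, nat_lit 4, nat_lit 7, nat_lit 3, nat_lit 2, nat_lit 3, nat_lit 0, nat_lit 1], [nat_lit 25, nat_lit 1, nat_lit 16, nat_lit 24, nat_lit 26], (nat_lit 11527)), ((nat_lit 1133), [nat_lit 7, nat_lit 7, nat_lit 3, nat_lit 4, nat_lit 2, nat_lit 3, nat_lit 1, nat_lit 2, nat_lit 3, nat_lit 4, nat_lit 7, nat_lit 4, nat_lit 3, nat_lit 2, nat_lit 3, nat_lit 1], [nat_lit 2, nat_lit 15, nat_lit 15, nat_lit 27], (nat_lit 16072)), ((nat_lit 1088), [nat_lit 2, nat_lit 3, nat_lit 4, nat_lit 8, nat_lit 3, nat_lit 2, nat_lit 3, nat_lit 4, nat_lit 8, nat_lit 2, nat_lit 3, nat_lit 4, nat_lit 3, nat_lit 2, nat_lit 3, nat_lit 1], [nat_lit 26, nat_lit 2, nat_lit 0, nat_lit 27, nat_lit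 18, nat_lit 11, nat_lit 27], (nat_lit 15833)), ((nat_lit 1126), [nat_lit 6, nat_lit 8, nat_lit 3, nat_lit 4, nat_lit 7, nat_lit 3, nat_lit 0, nat_lit 1, nat_lit 2, nat_lit 3, nat_lit 4, nat_lit 7, nat_lit 3, nat_lit 2, nat_lit 3, nat_lit 1], [nat_lit 16, nat_lit 2], (nat_lit 16298)), ((nat_lit 563), [nat_lit 8, nat_lit 3, nat_lit 4, nat_lit 7, nat_lit 5, nat_lit 2, nat_lit 3, nat_lit 4, nat_lit 7, nat_lit 3, nat_lit 2, nat_lit 3, nat_lit 0, nat_lit 1], [nat_lit 24, nat_lit 2, nat_lit 0, nat_lit 25, nat_lit 18, nat_lit 26], (nat_lit 8002)), ((nat_lit 2058), [nat_lit 5, nat_lit 8, nat_lit 4, nat_lit 7, nat_lit 3, nat_lit 4, nat_lit 7, nat_lit 2, nat_lit 3, nat_lit 4, nat_lit 7, nat_lit 2, nat_lit 3, nat_lit 1], [nat_lit 25, nat_lit 16, nat_lit 0, nat_lit 37, nat_lit 34, nat_lit 26], (nat_lit 10859)), ((nat_lit 1316), [nat_lit 8, nat_lit 8, nat_lit 4,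 nat_lit 8, nat_lit 2, nat_lit 3, nat_lit 4, nat_lit 8, nat_lit 0, nat_lit 1, nat_lit 2, nat_lit 3, nat_lit 4, nat_lit 3, nat_lit 2, nat_lit 3, nat_lit 1], [nat_lit 15, nat_lit 2, nat_lit 25, nat_lit 36, nat_lit 11, nat_lit 27], (nat_lit 17074)), ((nat_lit 1187), [nat_lit 4, nat_lit 7, nat_lit 2, nat_lit 3, nat_lit 4, nat_lit 7, nat_lit 2, nat_lit 3, nat_lit 4, nat_lit 8, nat_lit 3, nat_lit 2, nat_lit 3, nat_lit 0, nat_lit 1], [nat_lit 10, nat_lit 0, nat_lit 24, nat_lit 17, nat_lit 11], (nat_lit 11499)), ((nat_lit 430), [nat_lit 8, nat_lit 2, nat_lit 3, nat_lit 4, nat_lit 7, nat_lit 6, nat_lit 1, nat_lit 2, nat_lit 3, nat_lit 4, nat_lit 7, nat_lit 3, nat_lit 2, nat_lit 3, nat_lit 0, nat_lit 1], [nat_lit 11, nat_lit 2, nat_lit 0, nat_lit 25, nat_lit 11, nat_lit 26], (nat_lit 15147)), ((nat_lit 1605), [nat_lit 3, nat_lit 1, nat_lit 2, nat_lit 3, nat_lit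 4, nat_lit 8, nat_lit 4, nat_lit 8, nat_lit 2, nat_lit 3, nat_lit 4, nat_lit 3, nat_lit 2, nat_lit 3, nat_lit 1], [nat_lit 26, nat_lit 2, nat_lit 0, nat_lit 24, nat_lit 37, nat_lit 15, nat_lit 27], (nat_lit 12652)), ((nat_lit 1087), [nat_lit 5, nat_lit 8, nat_lit 3, nat_lit 4, nat_lit 7, nat_lit 0, nat_lit 1, nat_lit 2, nat_lit 3, nat_lit 4, nat_lit 2, nat_lit 3, nat_lit 0, nat_lit 1], [nat_lit 15, nat_lit 0, nat_lit 35, nat_lit 15], (nat_lit 8056)), ((nat_lit 1409), [nat_lit 4, nat_lit 8, nat_lit 4, nat_lit 8, nat_lit 2, nat_lit 3, nat_lit 4, nat_lit 8, nat_lit 1, nat_lit 2, nat_lit 3, nat_lit 4, nat_lit 3, nat_lit 2, nat_lit 3, nat_lit 1], [nat_lit 24, nat_lit 1, nat_lit 32, nat_lit 15], (nat_lit 15786)), ((nat_lit 1242), [nat_lit 4, nat_lit 8, nat_lit 8, nat_lit 1, nat_lit 2, nat_lit 3, nat_lit 4, nat_lit 7, nat_lit 1, nat_lit 2, nat_lit 3, nat_lit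 4, nat_lit 8, nat_lit 2, nat_lit 3, nat_lit 1], [nat_lit 24, nat_lit 15, nat_lit 0, nat_lit 18, nat_lit 36, nat_lit 27], (nat_lit 16699)), ((nat_lit 909), [nat_lit 4, nat_lit 7, nat_lit 3, nat_lit 4, nat_lit 7, nat_lit 2, nat_lit 3, nat_lit 4, nat_lit 8, nat_lit 4, nat_lit 2, nat_lit 3, nat_lit 0, nat_lit 1], [nat_lit 1, nat_lit 1, nat_lit 25, nat_lit 11], (nat_lit 8326)), ((nat_lit 1452), [nat_lit 2, nat_lit 3, nat_lit 4, nat_lit 8, nat_lit 3, nat_lit 2, nat_lit 3, nat_lit 4, nat_lit 8, nat_lit 2, nat_lit 3, nat_lit 4, nat_lit 2, nat_lit 3, nat_lit 1], [nat_lit 1, nat_lit 5, nat_lit 11, nat_lit 18, nat_lit 27], (nat_lit 13753)), ((nat_lit 2488), [nat_lit 6, nat_lit 4, nat_lit 7, nat_lit 1, nat_lit 2, nat_lit 3, nat_lit 4, nat_lit 8, nat_lit 1, nat_lit 2, nat_lit 3, nat_lit 4, nat_lit 3, nat_lit 2, nat_lit 3, nat_lit 1], [nat_lit 24, nat_lit 16, nat_lit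 0, nat_lit 24, nat_lit 16, nat_lit 27], (nat_lit 15774)), ((nat_lit 647), [nat_lit 7, nat_lit 6, nat_lit 2, nat_lit 3, nat_lit 4, nat_lit 7, nat_lit 3, nat_lit 1, nat_lit 2, nat_lit 3, nat_lit 4, nat_lit 3, nat_lit 2, nat_lit 3, nat_lit 1], [nat_lit 25, nat_lit 2, nat_lit 0, nat_lit 34, nat_lit 11, nat_lit 26], (nat_lit 12525)), ((nat_lit 738), [nat_lit 7, nat_lit 4, nat_lit 8, nat_lit 3, nat_lit 4, nat_lit 7, nat_lit 6, nat_lit 2, nat_lit 3, nat_lit 4, nat_lit 7, nat_lit 3, nat_lit 2, nat_lit 3, nat_lit 1], [nat_lit 26, nat_lit 24, nat_lit 0, nat_lit 32, nat_lit 34, nat_lit 26], (nat_lit 13505)), ((nat_lit 1149), [nat_lit 0, nat_lit 1, nat_lit 2, nat_lit 3, nat_lit 4, nat_lit 8, nat_lit 4, nat_lit 8, nat_lit 2, nat_lit 3, nat_lit 4, nat_lit 2, nat_lit 3, nat_lit 1], [nat_lit 1, nat_lit 37, nat_lit 11], (nat_lit 9920)), ((nat_lit 1344), [nat_lit 4,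 nat_lit 3, nat_lit 0, nat_lit 1, nat_lit 2, nat_lit 3, nat_lit 4, nat_lit 8, nat_lit 4, nat_lit 8, nat_lit 3, nat_lit 4, nat_lit 2, nat_lit 3, nat_lit 0, nat_lit 1], [nat_lit 24, nat_lit 16, nat_lit 0, nat_lit 18, nat_lit 15, nat_lit 11], (nat_lit 15347)), ((nat_lit 1462), [nat_lit 8, nat_lit 5, nat_lit 1, nat_lit 2, nat_lit 3, nat_lit 4, nat_lit 8, nat_lit 1, nat_lit 2, nat_lit 3, nat_lit 4, nat_lit 2, nat_lit 3, nat_lit 1], [nat_lit 24, nat_lit 16, nat_lit 0, nat_lit 24, nat_lit 16, nat_lit 26], (nat_lit 9734)), ((nat_lit 893), [nat_lit 5, nat_lit 7, nat_lit 2, nat_lit 3, nat_lit 4, nat_lit 7, nat_lit 7, nat_lit 2, nat_lit 3, nat_lit 4, nat_lit 7, nat_lit 2, nat_lit 3, nat_lit 0, nat_lit 1], [nat_lit 18, nat_lit 15, nat_lit 0, nat_lit 15, nat_lit 11, nat_lit 15, nat_lit 26], (nat_lit 12377)), ((nat_lit 2531), [nat_lit 1, nat_lit 2, nat_lit 3, nat_lit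 4, nat_lit 7, nat_lit 3, nat_lit 2, nat_lit 3, nat_lit 4, nat_lit 8, nat_lit 3, nat_lit 4, nat_lit 2, nat_lit 3, nat_lit 1], [nat_lit 11, nat_lit 2, nat_lit 0, nat_lit 33, nat_lit 18, nat_lit 11, nat_lit 27], (nat_lit 14074)), ((nat_lit 575), [nat_lit 8, nat_lit 4, nat_lit 8, nat_lit 3, nat_lit 2, nat_lit 3, nat_lit 4, nat_lit 8, nat_lit 3, nat_lit 4, nat_lit 2, nat_lit 3, nat_lit 0, nat_lit 1], [nat_lit 25, nat_lit 2, nat_lit 0, nat_lit 34, nat_lit 16, nat_lit 11, nat_lit 26], (nat_lit 8230)), ((nat_lit 2528), [nat_lit 5, nat_lit 1, nat_lit 2, nat_lit 3, nat_lit 4, nat_lit 7, nat_lit 2, nat_lit 3, nat_lit 4, nat_lit 7, nat_lit 3, nat_lit 2, nat_lit 3, nat_lit 1], [nat_lit 14, nat_lit 0, nat_lit 32, nat_lit 24], (nat_lit 9653)), ((nat_lit 2379), [nat_lit 7, nat_lit 4, nat_lit 8, nat_lit 8, nat_lit 3, nat_lit 4, nat_lit 8, nat_lit 2, nat_lit 3, nat_lit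 4, nat_lit 7, nat_lit 3, nat_lit 2, nat_lit 3, nat_lit 1], [nat_lit 14, nat_lit 24, nat_lit 24, nat_lit 11, nat_lit 26], (nat_lit 13541)), ((nat_lit 1302), [nat_lit 7, nat_lit 4, nat_lit 7, nat_lit 2, nat_lit 3, nat_lit 0, nat_lit 1, nat_lit 2, nat_lit 3, nat_lit 4, nat_lit 8, nat_lit 3, nat_lit 2, nat_lit 3, nat_lit 0, nat_lit 1], [nat_lit 24, nat_lit 16, nat_lit 0, nat_lit 26, nat_lit 17, nat_lit 15, nat_lit 26], (nat_lit 14967)), ((nat_lit 2481), [nat_lit 7, nat_lit 1, nat_lit 2, nat_lit 3, nat_lit 4, nat_lit 7, nat_lit 2, nat_lit 3, nat_lit 4, nat_lit 7, nat_lit 4, nat_lit 2, nat_lit 3, nat_lit 1], [nat_lit 24, nat_lit 2, nat_lit 0, nat_lit 15, nat_lit 32, nat_lit 11, nat_lit 26], (nat_lit 10379)), ((nat_lit 741), [nat_lit 4, nat_lit 8, nat_lit 2, nat_lit 3, nat_lit 4, nat_lit 8, nat_lit 1, nat_lit 2, nat_lit 3, nat_lit 4, nat_lit 8, nat_lit 2,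 nat_lit 3, nat_lit 0, nat_lit 1], [nat_lit 16, nat_lit 2, nat_lit 18, nat_lit 16, nat_lit 11, nat_lit 27], (nat_lit 12060)), ((nat_lit 723), [nat_lit 0, nat_lit 1, nat_lit 2, nat_lit 3, nat_lit 4, nat_lit 8, nat_lit 2, nat_lit 3, nat_lit 4, nat_lit 7, nat_lit 4, nat_lit 3, nat_lit 2, nat_lit 3, nat_lit 1], [nat_lit 1, nat_lit 24, nat_lit 0, nat_lit 33, nat_lit 33, nat_lit 11, nat_lit 26], (nat_lit 13014)), ((nat_lit 588), [nat_lit 6, nat_lit 2, nat_lit 3, nat_lit 0, nat_lit 1, nat_lit 2, nat_lit 3, nat_lit 4, nat_lit 8, nat_lit 3, nat_lit 4, nat_lit 3, nat_lit 2, nat_lit 3, nat_lit 1], [nat_lit 2, nat_lit 0, nat_lit 25, nat_lit 15, nat_lit 11, nat_lit 27], (nat_lit 12683)), ((nat_lit 1178), [nat_lit 5, nat_lit 4, nat_lit 2, nat_lit 3, nat_lit 1, nat_lit 2, nat_lit 3, nat_lit 4, nat_lit 8, nat_lit 3, nat_lit 4, nat_lit 3, nat_lit 2, nat_lit 3, nat_lit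 0, nat_lit 1], [nat_lit 10, nat_lit 0, nat_lit 35, nat_lit 11, nat_lit 27], (nat_lit 14882)), ((nat_lit 1627), [nat_lit 1, nat_lit 2, nat_lit 3, nat_lit 4, nat_lit 7, nat_lit 2, nat_lit 3, nat_lit 4, nat_lit 7, nat_lit 3, nat_lit 4, nat_lit 3, nat_lit 2, nat_lit 3, nat_lit 1], [nat_lit 1, nat_lit 36, nat_lit 26], (nat_lit 12819)), ((nat_lit 1047), [nat_lit 7, nat_lit 5, nat_lit 2, nat_lit 3, nat_lit 4, nat_lit 7, nat_lit 1, nat_lit 2, nat_lit 3, nat_lit 4, nat_lit 7, nat_lit 2, nat_lit 3, nat_lit 0, nat_lit 1], [nat_lit 10, nat_lit 10, nat_lit 0, nat_lit 32, nat_lit 24, nat_lit 26], (nat_lit 12284)), ((nat_lit 1395), [nat_lit 5, nat_lit 2, nat_lit 3, nat_lit 4, nat_lit 8, nat_lit 3, nat_lit 1, nat_lit 2, nat_lit 3, nat_lit 4, nat_lit 3, nat_lit 2, nat_lit 3, nat_lit 0, nat_lit 1], [nat_lit 25, nat_lit 14, nat_lit 0, nat_lit 35, nat_lit 32, nat_lit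 11, nat_lit 27], (nat_lit 11165)), ((nat_lit 2253), [nat_lit 1, nat_lit 2, nat_lit 3, nat_lit 4, nat_lit 8, nat_lit 1, nat_lit 2, nat_lit 3, nat_lit 4, nat_lit 8, nat_lit 3, nat_lit 4, nat_lit 2, nat_lit 3, nat_lit 1], [nat_lit 26, nat_lit 24, nat_lit 0, nat_lit 33, nat_lit 33, nat_lit 11], (nat_lit 13992)), ((nat_lit 2070), [nat_lit 5, nat_lit 8, nat_lit 4, nat_lit 7, nat_lit 3, nat_lit 4, nat_lit 7, nat_lit 5, nat_lit 2, nat_lit 3, nat_lit 4, nat_lit 7, nat_lit 2, nat_lit 3, nat_lit 1], [nat_lit 15, nat_lit 2, nat_lit 11, nat_lit 16], (nat_lit 14599)), ((nat_lit 2495), [nat_lit 4, nat_lit 7, nat_lit 4, nat_lit 7, nat_lit 3, nat_lit 4, nat_lit 7, nat_lit 1, nat_lit 2, nat_lit 3, nat_lit 4, nat_lit 2, nat_lit 3, nat_lit 1], [nat_lit 18, nat_lit 15, nat_lit 0, nat_lit 35, nat_lit 36], (nat_lit 9817)), ((nat_lit 1077), [nat_lit 4, nat_lit 8, nat_lit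 2, nat_lit 3, nat_lit 4, nat_lit 7, nat_lit 5, nat_lit 2, nat_lit 3, nat_lit 4, nat_lit 7, nat_lit 3, nat_lit 2, nat_lit 3, nat_lit 1], [nat_lit 5, nat_lit 36, nat_lit 17, nat_lit 26], (nat_lit 13508)), ((nat_lit 1885), [nat_lit 6, nat_lit 2, nat_lit 3, nat_lit 4, nat_lit 7, nat_lit 3, nat_lit 1, nat_lit 2, nat_lit 3, nat_lit 4, nat_lit 3, nat_lit 2, nat_lit 3, nat_lit 0, nat_lit 1], [nat_lit 2, nat_lit 37, nat_lit 11, nat_lit 15, nat_lit 26], (nat_lit 11172)), ((nat_lit 1575), [nat_lit 5, nat_lit 8, nat_lit 3, nat_lit 4, nat_lit 7, nat_lit 6, nat_lit 2, nat_lit 3, nat_lit 4, nat_lit 7, nat_lit 2, nat_lit 3, nat_lit 0, nat_lit 1], [nat_lit 24, nat_lit 2, nat_lit 36, nat_lit 18, nat_lit 15, nat_lit 27], (nat_lit 8606)), ((nat_lit 1670), [nat_lit 3, nat_lit 1, nat_lit 2, nat_lit 3, nat_lit 4, nat_lit 7, nat_lit 2, nat_lit 3, nat_lit 4, nat_lit 8, nat_lit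 3, nat_lit 4, nat_lit 2, nat_lit 3, nat_lit 1], [nat_lit 5, nat_lit 14, nat_lit 16, nat_lit 18, nat_lit 15, nat_lit 26], (nat_lit 14080)), ((nat_lit 2312), [nat_lit 4, nat_lit 8, nat_lit 2, nat_lit 3, nat_lit 4, nat_lit 7, nat_lit 6, nat_lit 2, nat_lit 3, nat_lit 4, nat_lit 7, nat_lit 4, nat_lit 2, nat_lit 3, nat_lit 1], [nat_lit 14, nat_lit 35, nat_lit 36, nat_lit 11, nat_lit 27], (nat_lit 14249)), ((nat_lit 1059), [nat_lit 7, nat_lit 4, nat_lit 7, nat_lit 5, nat_lit 3, nat_lit 2, nat_lit 3, nat_lit 4, nat_lit 8, nat_lit 3, nat_lit 4, nat_lit 2, nat_lit 3, nat_lit 0, nat_lit 1], [nat_lit 26, nat_lit 24, nat_lit 0, nat_lit 36, nat_lit 18], (nat_lit 11880)), ((nat_lit 2292), [nat_lit 1, nat_lit 2, nat_lit 3, nat_lit 4, nat_lit 8, nat_lit 4, nat_lit 8, nat_lit 2, nat_lit 3, nat_lit 4, nat_lit 8, nat_lit 2, nat_lit 3, nat_lit 1], [nat_lit 15, nat_lit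 2, nat_lit 26, nat_lit 24, nat_lit 27], (nat_lit 10529)), ((nat_lit 1573), [nat_lit 6, nat_lit 4, nat_lit 7, nat_lit 3, nat_lit 4, nat_lit 7, nat_lit 2, nat_lit 3, nat_lit 4, nat_lit 7, nat_lit 2, nat_lit 3, nat_lit 0, nat_lit 1], [nat_lit 2, nat_lit 11, nat_lit 18], (nat_lit 8662)), ((nat_lit 2567), [nat_lit 5, nat_lit 4, nat_lit 8, nat_lit 2, nat_lit 3, nat_lit 4, nat_lit 8, nat_lit 1, nat_lit 2, nat_lit 3, nat_lit 4, nat_lit 8, nat_lit 2, nat_lit 3, nat_lit 0, nat_lit 1], [nat_lit 5, nat_lit 2, nat_lit 0, nat_lit 35, nat_lit 15], (nat_lit 15460)), ((nat_lit 1799), [nat_lit 5, nat_lit 3, nat_lit 4, nat_lit 7, nat_lit 2, nat_lit 3, nat_lit 4, nat_lit 7, nat_lit 2, nat_lit 3, nat_lit 4, nat_lit 2, nat_lit 3, nat_lit 1], [nat_lit 25, nat_lit 14, nat_lit 0, nat_lit 33, nat_lit 16, nat_lit 11, nat_lit 27], (nat_lit 9996)), ((nat_lit 456), [nat_lit 4,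 nat_lit 8, nat_lit 4, nat_lit 8, nat_lit 2, nat_lit 3, nat_lit 0, nat_lit 1, nat_lit 2, nat_lit 3, nat_lit 4, nat_lit 3, nat_lit 2, nat_lit 3, nat_lit 1], [nat_lit 10, nat_lit 10, nat_lit 0, nat_lit 15, nat_lit 32, nat_lit 15, nat_lit 26], (nat_lit 12395)), ((nat_lit 2540), [nat_lit 4, nat_lit 7, nat_lit 3, nat_lit 4, nat_lit 8, nat_lit 0, nat_lit 1, nat_lit 2, nat_lit 3, nat_lit 4, nat_lit 3, nat_lit 2, nat_lit 3, nat_lit 1], [nat_lit 15, nat_lit 0, nat_lit 24, nat_lit 17, nat_lit 27], (nat_lit 8730)), ((nat_lit 2572), [nat_lit 8, nat_lit 8, nat_lit 3, nat_lit 4, nat_lit 8, nat_lit 3, nat_lit 1, nat_lit 2, nat_lit 3, nat_lit 4, nat_lit 3, nat_lit 2, nat_lit 3, nat_lit 1], [nat_lit 26, nat_lit 24, nat_lit 0, nat_lit 24, nat_lit 36, nat_lit 11, nat_lit 27], (nat_lit 8786)), ((nat_lit 2397), [nat_lit 4, nat_lit 8, nat_lit 2, nat_lit 3, nat_lit 4, nat_lit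 7, nat_lit 6, nat_lit 2, nat_lit 3, nat_lit 4, nat_lit 7, nat_lit 3, nat_lit 2, nat_lit 3, nat_lit 1], [nat_lit 16, nat_lit 5, nat_lit 2, nat_lit 33, nat_lit 34, nat_lit 26], (nat_lit 13503)), ((nat_lit 1442), [nat_lit 4, nat_lit 7, nat_lit 5, nat_lit 3, nat_lit 4, nat_lit 7, nat_lit 1, nat_lit 2, nat_lit 3, nat_lit 4, nat_lit 3, nat_lit 2, nat_lit 3, nat_lit 1], [nat_lit 5, nat_lit 14, nat_lit 37, nat_lit 25], (nat_lit 8838)), ((nat_lit 1251), [nat_lit 6, nat_lit 7, nat_lit 4, nat_lit 8, nat_lit 3, nat_lit 4, nat_lit 7, nat_lit 0, nat_lit 1, nat_lit 2, nat_lit 3, nat_lit 4, nat_lit 2, nat_lit 3, nat_lit 1], [nat_lit 24, nat_lit 0, nat_lit 25, nat_lit 35], (nat_lit 13643)), ((nat_lit 655), [nat_lit 7, nat_lit 5, nat_lit 4, nat_lit 8, nat_lit 2, nat_lit 3, nat_lit 1, nat_lit 2, nat_lit 3, nat_lit 4, nat_lit 7, nat_lit 3, nat_lit 2, nat_lit 3, nat_lit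 1], [nat_lit 17, nat_lit 2, nat_lit 0, nat_lit 24, nat_lit 18], (nat_lit 13394)), ((nat_lit 1098), [nat_lit 6, nat_lit 3, nat_lit 4, nat_lit 8, nat_lit 3, nat_lit 2, nat_lit 3, nat_lit 4, nat_lit 7, nat_lit 2, nat_lit 3, nat_lit 4, nat_lit 8, nat_lit 2, nat_lit 3, nat_lit 1], [nat_lit 16, nat_lit 5, nat_lit 2, nat_lit 36, nat_lit 33, nat_lit 26], (nat_lit 16748)), ((nat_lit 1603), [nat_lit 4, nat_lit 8, nat_lit 2, nat_lit 3, nat_lit 4, nat_lit 8, nat_lit 1, nat_lit 2, nat_lit 3, nat_lit 4, nat_lit 3, nat_lit 2, nat_lit 3, nat_lit 0, nat_lit 1], [nat_lit 15, nat_lit 1, nat_lit 34, nat_lit 32, nat_lit 16], (nat_lit 11187)), ((nat_lit 1931), [nat_lit 5, nat_lit 4, nat_lit 7, nat_lit 3, nat_lit 4, nat_lit 7, nat_lit 2, nat_lit 3, nat_lit 4, nat_lit 7, nat_lit 4, nat_lit 2, nat_lit 3, nat_lit 1], [nat_lit 1, nat_lit 17, nat_lit 11, nat_lit 17, nat_lit 27],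 (nat_lit 10384)), ((nat_lit 2286), [nat_lit 6, nat_lit 7, nat_lit 1, nat_lit 2, nat_lit 3, nat_lit 4, nat_lit 8, nat_lit 1, nat_lit 2, nat_lit 3, nat_lit 4, nat_lit 3, nat_lit 2, nat_lit 3, nat_lit 1], [nat_lit 24, nat_lit 1, nat_lit 17, nat_lit 17, nat_lit 27], (nat_lit 12550)), ((nat_lit 1612), [nat_lit 5, nat_lit 3, nat_lit 0, nat_lit 1, nat_lit 2, nat_lit 3, nat_lit 4, nat_lit 7, nat_lit 3, nat_lit 4, nat_lit 3, nat_lit 2, nat_lit 3, nat_lit 1], [nat_lit 18, nat_lit 15, nat_lit 0, nat_lit 34, nat_lit 17, nat_lit 33, nat_lit 26], (nat_lit 8987)), ((nat_lit 2104), [nat_lit 5, nat_lit 7, nat_lit 4, nat_lit 8, nat_lit 3, nat_lit 4, nat_lit 7, nat_lit 1, nat_lit 2, nat_lit 3, nat_lit 4, nat_lit 7, nat_lit 2, nat_lit 3, nat_lit 1], [nat_lit 1, nat_lit 14, nat_lit 35, nat_lit 11, nat_lit 26], (nat_lit 14566)), ((nat_lit 1308), [nat_lit 5, nat_lit 4, nat_lit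 2, nat_lit 3, nat_lit 0, nat_lit 1, nat_lit 2, nat_lit 3, nat_lit 4, nat_lit 7, nat_lit 4, nat_lit 3, nat_lit 2, nat_lit 3, nat_lit 1], [nat_lit 24, nat_lit 2, nat_lit 0, nat_lit 24, nat_lit 11, nat_lit 27], (nat_lit 12927)), ((nat_lit 1208), [nat_lit 8, nat_lit 4, nat_lit 2, nat_lit 3, nat_lit 1, nat_lit 2, nat_lit 3, nat_lit 4, nat_lit 7, nat_lit 4, nat_lit 7, nat_lit 3, nat_lit 4, nat_lit 2, nat_lit 3, nat_lit 1], [nat_lit 15, nat_lit 5, nat_lit 26, nat_lit 16, nat_lit 11], (nat_lit 16587)), ((nat_lit 1415), [nat_lit 6, nat_lit 4, nat_lit 2, nat_lit 3, nat_lit 0, nat_lit 1, nat_lit 2, nat_lit 3, nat_lit 4, nat_lit 7, nat_lit 4, nat_lit 3, nat_lit 2, nat_lit 3, nat_lit 1], [nat_lit 1, nat_lit 24, nat_lit 0, nat_lit 33, nat_lit 25], (nat_lit 12926)), ((nat_lit 713), [nat_lit 2, nat_lit 3, nat_lit 0, nat_lit 1, nat_lit 2, nat_lit 3, nat_lit 4, nat_lit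 8, nat_lit 4, nat_lit 8, nat_lit 3, nat_lit 2, nat_lit 3, nat_lit 1], [nat_lit 15, nat_lit 1, nat_lit 33, nat_lit 16, nat_lit 11, nat_lit 27], (nat_lit 9440)), ((nat_lit 1355), [nat_lit 4, nat_lit 3, nat_lit 2, nat_lit 3, nat_lit 4, nat_lit 7, nat_lit 3, nat_lit 4, nat_lit 8, nat_lit 4, nat_lit 3, nat_lit 2, nat_lit 3, nat_lit 1], [nat_lit 11, nat_lit 2, nat_lit 0, nat_lit 34, nat_lit 37, nat_lit 11], (nat_lit 9118)), ((nat_lit 1629), [nat_lit 8, nat_lit 8, nat_lit 4, nat_lit 3, nat_lit 2, nat_lit 3, nat_lit 4, nat_lit 8, nat_lit 3, nat_lit 4, nat_lit 3, nat_lit 2, nat_lit 3, nat_lit 0, nat_lit 1], [nat_lit 1, nat_lit 14, nat_lit 32, nat_lit 34, nat_lit 11, nat_lit 27], (nat_lit 11262))] m5_5_24 m5_5_25) = 0 := by decide +kernel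
theorem e5_5_26 : dt.run q (fun c => c.edges (SP THn.T THn.Rl (nat_lit 15)) (nat_lit 4429) THn.T.n (nat_lit 5) (nat_lit 5)
  [((nat_lit 1913), [nat_lit 7, nat_lit 4, nat_lit 7, nat_lit 5, nat_lit 3, nat_lit 0, nat_lit 1, nat_lit 2, nat_lit 3, nat_lit 4, nat_lit 8, nat_lit 3, nat_lit 2, nat_lit 3, nat_lit 0, nat_lit 1], [nat_lit 16, nat_lit 5, nat_lit 0, nat_lit 18, nat_lit 25, nat_lit 27], (nat_lit 14973)), ((nat_lit 628), [nat_lit 8, nat_lit 2, nat_lit 3, nat_lit 0, nat_lit 1, nat_lit 2, nat_lit 3, nat_lit 4, nat_lit 7, nat_lit 3, nat_lit 4, nat_lit 3, nat_lit 2, nat_lit 3, nat_lit 1], [nat_lit 1, nat_lit 15, nat_lit 18, nat_lit 11, nat_lit 26], (nat_lit 12729)), ((nat_lit 957), [nat_lit 7, nat_lit 2, nat_lit 3, nat_lit 4, nat_lit 8, nat_lit 1, nat_lit 2, nat_lit 3, nat_lit 4, nat_lit 7, nat_lit 3, nat_lit 2, nat_lit 3, nat_lit 1], [nat_lit 15, nat_lit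 5, nat_lit 32, nat_lit 27], (nat_lit 9566)), ((nat_lit 1078), [nat_lit 5, nat_lit 8, nat_lit 2, nat_lit 3, nat_lit 0, nat_lit 1, nat_lit 2, nat_lit 3, nat_lit 4, nat_lit 7, nat_lit 3, nat_lit 2, nat_lit 3, nat_lit 1], [nat_lit 24, nat_lit 17, nat_lit 27], (nat_lit 9452)), ((nat_lit 2288), [nat_lit 3, nat_lit 4, nat_lit 8, nat_lit 8, nat_lit 0, nat_lit 1, nat_lit 2, nat_lit 3, nat_lit 4, nat_lit 8, nat_lit 3, nat_lit 2, nat_lit 3, nat_lit 1], [nat_lit 5, nat_lit 2, nat_lit 0, nat_lit 15, nat_lit 11, nat_lit 15, nat_lit 26], (nat_lit 9243)), ((nat_lit 2534), [nat_lit 4, nat_lit 7, nat_lit 2, nat_lit 3, nat_lit 4, nat_lit 8, nat_lit 1, nat_lit 2, nat_lit 3, nat_lit 4, nat_lit 8, nat_lit 3, nat_lit 2, nat_lit 3, nat_lit 1], [nat_lit 18, nat_lit 15, nat_lit 0, nat_lit 27, nat_lit 36], (nat_lit 13198)), ((nat_lit 1264), [nat_lit 6, nat_lit 7, nat_lit 2,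 nat_lit 3, nat_lit 4, nat_lit 8, nat_lit 5, nat_lit 1, nat_lit 2, nat_lit 3, nat_lit 4, nat_lit 8, nat_lit 2, nat_lit 3, nat_lit 0, nat_lit 1], [nat_lit 1, nat_lit 24, nat_lit 0, nat_lit 37, nat_lit 11, nat_lit 15, nat_lit 26], (nat_lit 15444)), ((nat_lit 2524), [nat_lit 2, nat_lit 3, nat_lit 4, nat_lit 7, nat_lit 0, nat_lit 1, nat_lit 2, nat_lit 3, nat_lit 4, nat_lit 7, nat_lit 3, nat_lit 2, nat_lit 3, nat_lit 1], [nat_lit 5, nat_lit 14, nat_lit 33, nat_lit 16], (nat_lit 9365)), ((nat_lit 1578), [nat_lit 8, nat_lit 5, nat_lit 3, nat_lit 4, nat_lit 8, nat_lit 3, nat_lit 1, nat_lit 2, nat_lit 3, nat_lit 4, nat_lit 7, nat_lit 3, nat_lit 2, nat_lit 3, nat_lit 1], [nat_lit 14, nat_lit 24, nat_lit 37, nat_lit 15, nat_lit 26], (nat_lit 13424)), ((nat_lit 2308), [nat_lit 8, nat_lit 3, nat_lit 4, nat_lit 2, nat_lit 3, nat_lit 0, nat_lit 1, nat_lit 2, nat_lit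 3, nat_lit 4, nat_lit 7, nat_lit 4, nat_lit 3, nat_lit 2, nat_lit 3, nat_lit 1], [nat_lit 25, nat_lit 2, nat_lit 0, nat_lit 16, nat_lit 18, nat_lit 26], (nat_lit 16024)), ((nat_lit 2169), [nat_lit 5, nat_lit 4, nat_lit 7, nat_lit 3, nat_lit 4, nat_lit 8, nat_lit 2, nat_lit 3, nat_lit 4, nat_lit 8, nat_lit 3, nat_lit 2, nat_lit 3, nat_lit 1], [nat_lit 24, nat_lit 16, nat_lit 0, nat_lit 32], (nat_lit 9400)), ((nat_lit 583), [nat_lit 4, nat_lit 8, nat_lit 2, nat_lit 3, nat_lit 1, nat_lit 2, nat_lit 3, nat_lit 4, nat_lit 7, nat_lit 3, nat_lit 4, nat_lit 8, nat_lit 2, nat_lit 3, nat_lit 0, nat_lit 1], [nat_lit 24, nat_lit 2, nat_lit 0, nat_lit 15, nat_lit 17, nat_lit 11, nat_lit 26], (nat_lit 15539)), ((nat_lit 2530), [nat_lit 5, nat_lit 7, nat_lit 3, nat_lit 4, nat_lit 8, nat_lit 2, nat_lit 3, nat_lit 1, nat_lit 2, nat_lit 3, nat_lit 4, nat_lit 7, nat_lit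 3, nat_lit 2, nat_lit 3, nat_lit 1], [nat_lit 2, nat_lit 15, nat_lit 18, nat_lit 16, nat_lit 26], (nat_lit 16331)), ((nat_lit 2462), [nat_lit 3, nat_lit 4, nat_lit 8, nat_lit 3, nat_lit 0, nat_lit 1, nat_lit 2, nat_lit 3, nat_lit 4, nat_lit 7, nat_lit 3, nat_lit 2, nat_lit 3, nat_lit 0, nat_lit 1], [nat_lit 5, nat_lit 0, nat_lit 25, nat_lit 33, nat_lit 15], (nat_lit 11529)), ((nat_lit 1565), [nat_lit 8, nat_lit 8, nat_lit 3, nat_lit 4, nat_lit 7, nat_lit 3, nat_lit 2, nat_lit 3, nat_lit 4, nat_lit 7, nat_lit 3, nat_lit 2, nat_lit 3, nat_lit 1], [nat_lit 17, nat_lit 24, nat_lit 0, nat_lit 33, nat_lit 18, nat_lit 27], (nat_lit 9607)), ((nat_lit 1469), [nat_lit 5, nat_lit 2, nat_lit 3, nat_lit 4, nat_lit 7, nat_lit 2, nat_lit 3, nat_lit 4, nat_lit 7, nat_lit 2, nat_lit 3, nat_lit 4, nat_lit 2, nat_lit 3, nat_lit 1], [nat_lit 16, nat_lit 5, nat_lit 2,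 nat_lit 27, nat_lit 18], (nat_lit 13902)), ((nat_lit 690), [nat_lit 6, nat_lit 4, nat_lit 8, nat_lit 1, nat_lit 2, nat_lit 3, nat_lit 1, nat_lit 2, nat_lit 3, nat_lit 4, nat_lit 8, nat_lit 3, nat_lit 4, nat_lit 2, nat_lit 3, nat_lit 1], [nat_lit 1, nat_lit 5, nat_lit 16, nat_lit 16, nat_lit 27], (nat_lit 16580)), ((nat_lit 2515), [nat_lit 7, nat_lit 4, nat_lit 8, nat_lit 3, nat_lit 4, nat_lit 7, nat_lit 2, nat_lit 3, nat_lit 4, nat_lit 7, nat_lit 3, nat_lit 2, nat_lit 3, nat_lit 1], [nat_lit 10, nat_lit 10, nat_lit 0, nat_lit 25, nat_lit 36], (nat_lit 9667)), ((nat_lit 488), [nat_lit 6, nat_lit 2, nat_lit 3, nat_lit 4, nat_lit 7, nat_lit 2, nat_lit 3, nat_lit 4, nat_lit 8, nat_lit 2, nat_lit 3, nat_lit 4, nat_lit 3, nat_lit 2, nat_lit 3, nat_lit 1], [nat_lit 15, nat_lit 1, nat_lit 34, nat_lit 34, nat_lit 11], (nat_lit 15846)), ((nat_lit 2533), [nat_lit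 4, nat_lit 8, nat_lit 6, nat_lit 2, nat_lit 3, nat_lit 4, nat_lit 7, nat_lit 1, nat_lit 2, nat_lit 3, nat_lit 4, nat_lit 8, nat_lit 2, nat_lit 3, nat_lit 1], [nat_lit 14, nat_lit 0, nat_lit 34, nat_lit 17], (nat_lit 14317)), ((nat_lit 2547), [nat_lit 4, nat_lit 7, nat_lit 3, nat_lit 4, nat_lit 8, nat_lit 8, nat_lit 1, nat_lit 2, nat_lit 3, nat_lit 4, nat_lit 7, nat_lit 2, nat_lit 3, nat_lit 1], [nat_lit 0, nat_lit 27, nat_lit 36, nat_lit 11, nat_lit 27], (nat_lit 10711)), ((nat_lit 2539), [nat_lit 6, nat_lit 7, nat_lit 3, nat_lit 1, nat_lit 2, nat_lit 3, nat_lit 4, nat_lit 7, nat_lit 2, nat_lit 3, nat_lit 4, nat_lit 2, nat_lit 3, nat_lit 1], [nat_lit 5, nat_lit 32, nat_lit 27, nat_lit 17, nat_lit 27], (nat_lit 9951)), ((nat_lit 2568), [nat_lit 6, nat_lit 8, nat_lit 3, nat_lit 0, nat_lit 1, nat_lit 2, nat_lit 3, nat_lit 4, nat_lit 8, nat_lit 2, nat_lit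 3, nat_lit 4, nat_lit 2, nat_lit 3, nat_lit 1], [nat_lit 5, nat_lit 2, nat_lit 24, nat_lit 27], (nat_lit 13735)), ((nat_lit 1027), [nat_lit 4, nat_lit 7, nat_lit 3, nat_lit 0, nat_lit 1, nat_lit 2, nat_lit 3, nat_lit 4, nat_lit 7, nat_lit 3, nat_lit 4, nat_lit 2, nat_lit 3, nat_lit 1], [nat_lit 14, nat_lit 0, nat_lit 17, nat_lit 37, nat_lit 11, nat_lit 27], (nat_lit 10173)), ((nat_lit 2542), [nat_lit 1, nat_lit 2, nat_lit 3, nat_lit 4, nat_lit 7, nat_lit 4, nat_lit 7, nat_lit 2, nat_lit 3, nat_lit 4, nat_lit 8, nat_lit 2, nat_lit 3, nat_lit 0, nat_lit 1], [nat_lit 14, nat_lit 0, nat_lit 36, nat_lit 33, nat_lit 11, nat_lit 27], (nat_lit 12188)), ((nat_lit 2337), [nat_lit 4, nat_lit 8, nat_lit 5, nat_lit 3, nat_lit 4, nat_lit 8, nat_lit 1, nat_lit 2, nat_lit 3, nat_lit 4, nat_lit 7, nat_lit 2, nat_lit 3, nat_lit 0, nat_lit 1], [nat_lit 24, nat_lit 16,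 nat_lit 0, nat_lit 35, nat_lit 17, nat_lit 16, nat_lit 27], (nat_lit 12266)), ((nat_lit 1378), [nat_lit 6, nat_lit 7, nat_lit 4, nat_lit 7, nat_lit 2, nat_lit 3, nat_lit 4, nat_lit 8, nat_lit 2, nat_lit 3, nat_lit 4, nat_lit 2, nat_lit 3, nat_lit 1], [nat_lit 25, nat_lit 16, nat_lit 0, nat_lit 35, nat_lit 32, nat_lit 11, nat_lit 27], (nat_lit 9907)), ((nat_lit 2537), [nat_lit 7, nat_lit 6, nat_lit 3, nat_lit 4, nat_lit 7, nat_lit 3, nat_lit 1, nat_lit 2, nat_lit 3, nat_lit 4, nat_lit 8, nat_lit 3, nat_lit 2, nat_lit 3, nat_lit 1], [nat_lit 24, nat_lit 1, nat_lit 37, nat_lit 26], (nat_lit 13166)), ((nat_lit 1278), [nat_lit 5, nat_lit 7, nat_lit 2, nat_lit 3, nat_lit 4, nat_lit 8, nat_lit 5, nat_lit 1, nat_lit 2, nat_lit 3, nat_lit 4, nat_lit 8, nat_lit 2, nat_lit 3, nat_lit 0, nat_lit 1], [nat_lit 1, nat_lit 24, nat_lit 0, nat_lit 18, nat_lit 11, nat_lit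 27], (nat_lit 15445)), ((nat_lit 691), [nat_lit 7, nat_lit 2, nat_lit 3, nat_lit 0, nat_lit 1, nat_lit 2, nat_lit 3, nat_lit 4, nat_lit 8, nat_lit 3, nat_lit 4, nat_lit 2, nat_lit 3, nat_lit 1], [nat_lit 1, nat_lit 14, nat_lit 32, nat_lit 18, nat_lit 11, nat_lit 27], (nat_lit 10025)), ((nat_lit 2456), [nat_lit 5, nat_lit 7, nat_lit 4, nat_lit 8, nat_lit 3, nat_lit 2, nat_lit 3, nat_lit 4, nat_lit 7, nat_lit 2, nat_lit 3, nat_lit 4, nat_lit 2, nat_lit 3, nat_lit 1], [nat_lit 25, nat_lit 2, nat_lit 0, nat_lit 35, nat_lit 35], (nat_lit 13883)), ((nat_lit 2573), [nat_lit 5, nat_lit 8, nat_lit 4, nat_lit 7, nat_lit 3, nat_lit 2, nat_lit 3, nat_lit 4, nat_lit 8, nat_lit 3, nat_lit 4, nat_lit 2, nat_lit 3, nat_lit 0, nat_lit 1], [nat_lit 16, nat_lit 2, nat_lit 33, nat_lit 25], (nat_lit 11885)), ((nat_lit 865), [nat_lit 8, nat_lit 3, nat_lit 4, nat_lit 8,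 nat_lit 2, nat_lit 3, nat_lit 2, nat_lit 3, nat_lit 4, nat_lit 7, nat_lit 3, nat_lit 4, nat_lit 3, nat_lit 2, nat_lit 3, nat_lit 1], [nat_lit 2, nat_lit 37, nat_lit 34, nat_lit 26], (nat_lit 15962)), ((nat_lit 2544), [nat_lit 4, nat_lit 7, nat_lit 3, nat_lit 4, nat_lit 8, nat_lit 0, nat_lit 1, nat_lit 2, nat_lit 3, nat_lit 4, nat_lit 7, nat_lit 3, nat_lit 2, nat_lit 3, nat_lit 1], [nat_lit 25, nat_lit 16, nat_lit 0, nat_lit 37, nat_lit 11, nat_lit 17, nat_lit 26], (nat_lit 13370)), ((nat_lit 2116), [nat_lit 3, nat_lit 4, nat_lit 7, nat_lit 3, nat_lit 4, nat_lit 8, nat_lit 2, nat_lit 3, nat_lit 4, nat_lit 8, nat_lit 4, nat_lit 2, nat_lit 3, nat_lit 1], [nat_lit 25, nat_lit 14, nat_lit 0, nat_lit 36, nat_lit 24, nat_lit 27], (nat_lit 10330)), ((nat_lit 2331), [nat_lit 7, nat_lit 4, nat_lit 8, nat_lit 2, nat_lit 3, nat_lit 4, nat_lit 7, nat_lit 2, nat_lit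 3, nat_lit 4, nat_lit 7, nat_lit 3, nat_lit 2, nat_lit 3, nat_lit 0, nat_lit 1], [nat_lit 14, nat_lit 17, nat_lit 15, nat_lit 11], (nat_lit 15192)), ((nat_lit 1949), [nat_lit 5, nat_lit 4, nat_lit 7, nat_lit 2, nat_lit 3, nat_lit 4, nat_lit 8, nat_lit 2, nat_lit 3, nat_lit 4, nat_lit 8, nat_lit 3, nat_lit 2, nat_lit 3, nat_lit 1], [nat_lit 26, nat_lit 2, nat_lit 16, nat_lit 11], (nat_lit 13256)), ((nat_lit 2541), [nat_lit 4, nat_lit 7, nat_lit 3, nat_lit 4, nat_lit 7, nat_lit 1, nat_lit 2, nat_lit 3, nat_lit 4, nat_lit 7, nat_lit 4, nat_lit 2, nat_lit 3, nat_lit 1], [nat_lit 26, nat_lit 2, nat_lit 18, nat_lit 16, nat_lit 27], (nat_lit 10369)), ((nat_lit 2543), [nat_lit 4, nat_lit 7, nat_lit 3, nat_lit 4, nat_lit 8, nat_lit 8, nat_lit 1, nat_lit 2, nat_lit 3, nat_lit 4, nat_lit 8, nat_lit 2, nat_lit 3, nat_lit 1], [nat_lit 1, nat_lit 14, nat_lit 32,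 nat_lit 35, nat_lit 27], (nat_lit 10432)), ((nat_lit 831), [nat_lit 4, nat_lit 7, nat_lit 2, nat_lit 3, nat_lit 4, nat_lit 8, nat_lit 6, nat_lit 2, nat_lit 3, nat_lit 4, nat_lit 8, nat_lit 2, nat_lit 3, nat_lit 1], [nat_lit 1, nat_lit 1, nat_lit 17, nat_lit 17], (nat_lit 10472)), ((nat_lit 1541), [nat_lit 5, nat_lit 7, nat_lit 5, nat_lit 2, nat_lit 3, nat_lit 4, nat_lit 7, nat_lit 2, nat_lit 3, nat_lit 4, nat_lit 8, nat_lit 2, nat_lit 3, nat_lit 1], [nat_lit 16, nat_lit 0, nat_lit 15, nat_lit 32], (nat_lit 10568)), ((nat_lit 789), [nat_lit 8, nat_lit 6, nat_lit 4, nat_lit 8, nat_lit 3, nat_lit 4, nat_lit 7, nat_lit 1, nat_lit 2, nat_lit 3, nat_lit 4, nat_lit 7, nat_lit 2, nat_lit 3, nat_lit 1], [nat_lit 24, nat_lit 0, nat_lit 25, nat_lit 11, nat_lit 26], (nat_lit 14561)), ((nat_lit 683), [nat_lit 6, nat_lit 1, nat_lit 2, nat_lit 3, nat_lit 1, nat_lit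 2, nat_lit 3, nat_lit 4, nat_lit 7, nat_lit 3, nat_lit 4, nat_lit 3, nat_lit 2, nat_lit 3, nat_lit 1], [nat_lit 1, nat_lit 1, nat_lit 16, nat_lit 18, nat_lit 15, nat_lit 26], (nat_lit 12742)), ((nat_lit 1776), [nat_lit 6, nat_lit 3, nat_lit 4, nat_lit 7, nat_lit 2, nat_lit 3, nat_lit 1, nat_lit 2, nat_lit 3, nat_lit 4, nat_lit 8, nat_lit 3, nat_lit 2, nat_lit 3, nat_lit 0, nat_lit 1], [nat_lit 11, nat_lit 5, nat_lit 2, nat_lit 16, nat_lit 37, nat_lit 26], (nat_lit 15022)), ((nat_lit 2425), [nat_lit 8, nat_lit 4, nat_lit 7, nat_lit 3, nat_lit 4, nat_lit 7, nat_lit 1, nat_lit 2, nat_lit 3, nat_lit 4, nat_lit 7, nat_lit 2, nat_lit 3, nat_lit 0, nat_lit 1], [nat_lit 14, nat_lit 15, nat_lit 0, nat_lit 11, nat_lit 18, nat_lit 27], (nat_lit 12297)), ((nat_lit 2561), [nat_lit 4, nat_lit 7, nat_lit 3, nat_lit 4, nat_lit 7, nat_lit 7, nat_lit 1, nat_lit 2, nat_lit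 3, nat_lit 4, nat_lit 7, nat_lit 3, nat_lit 2, nat_lit 3, nat_lit 1], [nat_lit 14, nat_lit 16, nat_lit 16, nat_lit 26], (nat_lit 13488)), ((nat_lit 2575), [nat_lit 6, nat_lit 3, nat_lit 4, nat_lit 8, nat_lit 3, nat_lit 4, nat_lit 7, nat_lit 1, nat_lit 2, nat_lit 3, nat_lit 4, nat_lit 7, nat_lit 2, nat_lit 3, nat_lit 1], [nat_lit 25, nat_lit 16, nat_lit 0, nat_lit 24, nat_lit 24, nat_lit 11], (nat_lit 14537))] m5_5_25 m5_5_26) = 0 := by decide +kernel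
theorem e5_5_27 : reachX THn.T (nat_lit 1037135913163363757) (S5.map Prod.snd) [nat_lit 0, nat_lit 1, nat_lit 0] m5_5_26 = m5_5_27 := by decide +kernel
theorem e5_6_1 : dt.run q (fun c => c.edges (SP THn.T THn.Rl (nat_lit 15)) (nat_lit 4429) THn.T.n (nat_lit 5) (nat_lit 6)
  [((nat_lit 2585), [nat_lit 6, nat_lit 8], [nat_lit 5, nat_lit 2, nat_lit 0, nat_lit 11, nat_lit 17, nat_lit 26], (nat_lit 12)), ((nat_lit 2587), [nat_lit 5, nat_lit 8], [nat_lit 24, nat_lit 0, nat_lit 25, nat_lit 18, nat_lit 18, nat_lit 27], (nat_lit 13)), ((nat_lit 2583), [nat_lit 6, nat_lit 7], [nat_lit 24, nat_lit 0, nat_lit 35, nat_lit 17, nat_lit 16, nat_lit 27], (nat_lit 14)), ((nat_lit 2838), [nat_lit 1, nat_lit 2, nat_lit 3, nat_lit 4, nat_lit 1, nat_lit 2, nat_lit 3, nat_lit 0, nat_lit 1], [nat_lit 5, nat_lit 2, nat_lit 0, nat_lit 36, nat_lit 16, nat_lit 11, nat_lit 27],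 (nat_lit 599)), ((nat_lit 2750), [nat_lit 7, nat_lit 3, nat_lit 1], [nat_lit 25, nat_lit 16, nat_lit 0, nat_lit 33, nat_lit 18, nat_lit 11, nat_lit 27], (nat_lit 22)), ((nat_lit 3036), [nat_lit 3, nat_lit 0, nat_lit 1, nat_lit 2, nat_lit 3, nat_lit 4, nat_lit 3, nat_lit 2, nat_lit 3, nat_lit 0, nat_lit 1], [nat_lit 5, nat_lit 2, nat_lit 27, nat_lit 15], (nat_lit 1848)), ((nat_lit 2712), [nat_lit 6, nat_lit 8, nat_lit 0, nat_lit 1], [nat_lit 25, nat_lit 14, nat_lit 0, nat_lit 24, nat_lit 17, nat_lit 27], (nat_lit 39)), ((nat_lit 2628), [nat_lit 5, nat_lit 3, nat_lit 4, nat_lit 7, nat_lit 1, nat_lit 2, nat_lit 3, nat_lit 0, nat_lit 1], [nat_lit 5, nat_lit 26, nat_lit 36], (nat_lit 634)), ((nat_lit 2624), [nat_lit 3, nat_lit 2, nat_lit 3, nat_lit 4, nat_lit 8, nat_lit 4, nat_lit 1, nat_lit 2, nat_lit 3, nat_lit 0, nat_lit 1], [nat_lit 5, nat_lit 2, nat_lit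 17, nat_lit 37, nat_lit 27], (nat_lit 1764)), ((nat_lit 2622), [nat_lit 5, nat_lit 8, nat_lit 3, nat_lit 2, nat_lit 3, nat_lit 4, nat_lit 1, nat_lit 2, nat_lit 3, nat_lit 0, nat_lit 1], [nat_lit 35, nat_lit 35, nat_lit 26], (nat_lit 1726)), ((nat_lit 2620), [nat_lit 6, nat_lit 3, nat_lit 2, nat_lit 3, nat_lit 4, nat_lit 8, nat_lit 1, nat_lit 2, nat_lit 3, nat_lit 0, nat_lit 1], [nat_lit 34, nat_lit 11, nat_lit 17, nat_lit 26], (nat_lit 1790)), ((nat_lit 2818), [nat_lit 1, nat_lit 2, nat_lit 3, nat_lit 4, nat_lit 7, nat_lit 2, nat_lit 3, nat_lit 1], [nat_lit 5, nat_lit 17, nat_lit 34, nat_lit 26], (nat_lit 554)), ((nat_lit 3034), [nat_lit 1, nat_lit 2, nat_lit 3, nat_lit 4, nat_lit 3, nat_lit 2, nat_lit 3, nat_lit 0, nat_lit 1], [nat_lit 1, nat_lit 14, nat_lit 27, nat_lit 15], (nat_lit 645)), ((nat_lit 2722), [nat_lit 0, nat_lit 1, nat_lit 2, nat_lit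 3, nat_lit 4, nat_lit 7, nat_lit 5, nat_lit 1, nat_lit 2, nat_lit 3, nat_lit 4, nat_lit 7, nat_lit 4, nat_lit 2, nat_lit 3, nat_lit 1], [nat_lit 25, nat_lit 16, nat_lit 0, nat_lit 37, nat_lit 27], (nat_lit 16666)), ((nat_lit 2608), [nat_lit 8, nat_lit 4, nat_lit 8, nat_lit 4, nat_lit 3], [nat_lit 10, nat_lit 10, nat_lit 0, nat_lit 36, nat_lit 33, nat_lit 24, nat_lit 26], (nat_lit 111)), ((nat_lit 2610), [nat_lit 6, nat_lit 8, nat_lit 4, nat_lit 8, nat_lit 1, nat_lit 2, nat_lit 3, nat_lit 0, nat_lit 1], [nat_lit 10, nat_lit 10, nat_lit 0, nat_lit 15, nat_lit 32, nat_lit 27], (nat_lit 628)), ((nat_lit 2632), [nat_lit 8, nat_lit 8, nat_lit 3, nat_lit 2, nat_lit 3, nat_lit 4, nat_lit 7, nat_lit 1, nat_lit 2, nat_lit 3, nat_lit 0, nat_lit 1], [nat_lit 14, nat_lit 26, nat_lit 36], (nat_lit 3062)), ((nat_lit 2618), [nat_lit 8, nat_lit 6, nat_lit 4, nat_lit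 7, nat_lit 1, nat_lit 2, nat_lit 3, nat_lit 0, nat_lit 1], [nat_lit 25, nat_lit 37, nat_lit 15], (nat_lit 637)), ((nat_lit 2728), [nat_lit 3, nat_lit 2, nat_lit 3, nat_lit 4, nat_lit 8, nat_lit 3, nat_lit 2, nat_lit 3, nat_lit 1], [nat_lit 5, nat_lit 2, nat_lit 24, nat_lit 18, nat_lit 26], (nat_lit 796)), ((nat_lit 2654), [nat_lit 3, nat_lit 4, nat_lit 7, nat_lit 0, nat_lit 1, nat_lit 2, nat_lit 3, nat_lit 4, nat_lit 8, nat_lit 2, nat_lit 3, nat_lit 1], [nat_lit 24, nat_lit 2, nat_lit 33, nat_lit 15], (nat_lit 4294)), ((nat_lit 2782), [nat_lit 3, nat_lit 4, nat_lit 8, nat_lit 0, nat_lit 1, nat_lit 2, nat_lit 3, nat_lit 4, nat_lit 8, nat_lit 2, nat_lit 3, nat_lit 1], [nat_lit 5, nat_lit 0, nat_lit 33, nat_lit 25], (nat_lit 4289)), ((nat_lit 2708), [nat_lit 3, nat_lit 0, nat_lit 1, nat_lit 2, nat_lit 3, nat_lit 4, nat_lit 7, nat_lit 3, nat_lit 4, nat_lit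 8, nat_lit 2, nat_lit 3, nat_lit 1], [nat_lit 5, nat_lit 14, nat_lit 17, nat_lit 34, nat_lit 11], (nat_lit 7000)), ((nat_lit 2652), [nat_lit 1, nat_lit 2, nat_lit 3, nat_lit 4, nat_lit 7, nat_lit 2, nat_lit 3, nat_lit 4, nat_lit 8, nat_lit 2, nat_lit 3, nat_lit 1], [nat_lit 15, nat_lit 2, nat_lit 37, nat_lit 15, nat_lit 11], (nat_lit 4370)), ((nat_lit 2842), [nat_lit 3, nat_lit 4, nat_lit 7, nat_lit 2, nat_lit 3, nat_lit 1], [nat_lit 25, nat_lit 2, nat_lit 0, nat_lit 27, nat_lit 15, nat_lit 26], (nat_lit 186)), ((nat_lit 2918), [nat_lit 7, nat_lit 4, nat_lit 7, nat_lit 6, nat_lit 2, nat_lit 3, nat_lit 4, nat_lit 7, nat_lit 1, nat_lit 2, nat_lit 3, nat_lit 4, nat_lit 2, nat_lit 3, nat_lit 1], [nat_lit 26, nat_lit 24, nat_lit 0, nat_lit 26, nat_lit 36, nat_lit 26], (nat_lit 13697)), ((nat_lit 3062), [nat_lit 0, nat_lit 1, nat_lit 2, nat_lit 3, nat_lit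 1, nat_lit 2, nat_lit 3, nat_lit 4, nat_lit 7, nat_lit 3, nat_lit 4, nat_lit 8, nat_lit 2, nat_lit 3, nat_lit 1], [nat_lit 2, nat_lit 0, nat_lit 24, nat_lit 27], (nat_lit 14468)), ((nat_lit 2606), [nat_lit 3, nat_lit 2, nat_lit 3, nat_lit 4, nat_lit 8, nat_lit 4, nat_lit 8, nat_lit 4, nat_lit 1, nat_lit 2, nat_lit 3, nat_lit 0, nat_lit 1], [nat_lit 10, nat_lit 10, nat_lit 0, nat_lit 36, nat_lit 18, nat_lit 15, nat_lit 27], (nat_lit 4761)), ((nat_lit 2614), [nat_lit 5, nat_lit 8, nat_lit 4, nat_lit 8, nat_lit 1, nat_lit 2, nat_lit 3, nat_lit 0, nat_lit 1], [nat_lit 5, nat_lit 16, nat_lit 2, nat_lit 35, nat_lit 17, nat_lit 26], (nat_lit 629)), ((nat_lit 3078), [nat_lit 5, nat_lit 4, nat_lit 8, nat_lit 4, nat_lit 2, nat_lit 3, nat_lit 0, nat_lit 1], [nat_lit 16, nat_lit 5, nat_lit 0, nat_lit 36, nat_lit 24, nat_lit 15], (nat_lit 419)), ((nat_lit 2796),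 [nat_lit 0, nat_lit 1, nat_lit 2, nat_lit 3, nat_lit 4, nat_lit 8, nat_lit 2, nat_lit 3, nat_lit 4, nat_lit 8, nat_lit 2, nat_lit 3, nat_lit 1], [nat_lit 0, nat_lit 2, nat_lit 32, nat_lit 24, nat_lit 27], (nat_lit 6931)), ((nat_lit 2756), [nat_lit 7, nat_lit 4, nat_lit 8, nat_lit 4, nat_lit 2, nat_lit 3, nat_lit 0, nat_lit 1], [nat_lit 2, nat_lit 33, nat_lit 35, nat_lit 26], (nat_lit 421)), ((nat_lit 2626), [nat_lit 6, nat_lit 3, nat_lit 0, nat_lit 1, nat_lit 2, nat_lit 3, nat_lit 4, nat_lit 7, nat_lit 1, nat_lit 2, nat_lit 3, nat_lit 0, nat_lit 1], [nat_lit 26, nat_lit 2, nat_lit 37, nat_lit 34, nat_lit 26], (nat_lit 4854)), ((nat_lit 2700), [nat_lit 4, nat_lit 3, nat_lit 1, nat_lit 2, nat_lit 3, nat_lit 4, nat_lit 7, nat_lit 3, nat_lit 4, nat_lit 8, nat_lit 2, nat_lit 3, nat_lit 1], [nat_lit 5, nat_lit 14, nat_lit 34, nat_lit 32, nat_lit 16, nat_lit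 27], (nat_lit 7004)), ((nat_lit 2638), [nat_lit 7, nat_lit 3, nat_lit 4, nat_lit 8, nat_lit 2, nat_lit 3, nat_lit 0, nat_lit 1], [nat_lit 14, nat_lit 15, nat_lit 0, nat_lit 35, nat_lit 16, nat_lit 16, nat_lit 27], (nat_lit 431)), ((nat_lit 2920), [nat_lit 8, nat_lit 4, nat_lit 8, nat_lit 3, nat_lit 2, nat_lit 3, nat_lit 1, nat_lit 2, nat_lit 3, nat_lit 4, nat_lit 3, nat_lit 2, nat_lit 3, nat_lit 1], [nat_lit 11, nat_lit 5, nat_lit 2, nat_lit 34, nat_lit 37, nat_lit 26], (nat_lit 8745)), ((nat_lit 2978), [nat_lit 4, nat_lit 7, nat_lit 4, nat_lit 7, nat_lit 3, nat_lit 2, nat_lit 3, nat_lit 4, nat_lit 3, nat_lit 2, nat_lit 3, nat_lit 1], [nat_lit 5, nat_lit 14, nat_lit 26, nat_lit 15, nat_lit 15], (nat_lit 3705)), ((nat_lit 2746), [nat_lit 3, nat_lit 2, nat_lit 3, nat_lit 4, nat_lit 7, nat_lit 1, nat_lit 2, nat_lit 3, nat_lit 4, nat_lit 7, nat_lit 3,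 nat_lit 4, nat_lit 3, nat_lit 2, nat_lit 3, nat_lit 1], [nat_lit 25, nat_lit 0, nat_lit 36, nat_lit 25, nat_lit 26], (nat_lit 15954)), ((nat_lit 2932), [nat_lit 7, nat_lit 7, nat_lit 4, nat_lit 8, nat_lit 3, nat_lit 2, nat_lit 3, nat_lit 1], [nat_lit 1, nat_lit 14, nat_lit 36, nat_lit 24, nat_lit 15, nat_lit 26], (nat_lit 491)), ((nat_lit 2670), [nat_lit 7, nat_lit 5, nat_lit 4, nat_lit 8, nat_lit 3, nat_lit 2, nat_lit 3, nat_lit 4, nat_lit 8, nat_lit 3, nat_lit 2, nat_lit 3, nat_lit 0, nat_lit 1], [nat_lit 14, nat_lit 15, nat_lit 0, nat_lit 37, nat_lit 16], (nat_lit 7853)), ((nat_lit 2882), [nat_lit 2, nat_lit 3, nat_lit 1, nat_lit 2, nat_lit 3, nat_lit 4, nat_lit 7, nat_lit 2, nat_lit 3, nat_lit 4, nat_lit 8, nat_lit 2, nat_lit 3, nat_lit 1], [nat_lit 16, nat_lit 0, nat_lit 17, nat_lit 27], (nat_lit 10542)), ((nat_lit 2848), [nat_lit 6, nat_lit 3,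 nat_lit 4, nat_lit 8, nat_lit 1, nat_lit 2, nat_lit 3, nat_lit 4, nat_lit 8, nat_lit 2, nat_lit 3, nat_lit 0, nat_lit 1], [nat_lit 5, nat_lit 16, nat_lit 2, nat_lit 24], (nat_lit 5492)), ((nat_lit 2830), [nat_lit 4, nat_lit 8, nat_lit 3, nat_lit 4, nat_lit 8, nat_lit 2, nat_lit 3, nat_lit 1], [nat_lit 5, nat_lit 2, nat_lit 37, nat_lit 34, nat_lit 25, nat_lit 26], (nat_lit 547)), ((nat_lit 2868), [nat_lit 7, nat_lit 4, nat_lit 8, nat_lit 2, nat_lit 3, nat_lit 1, nat_lit 2, nat_lit 3, nat_lit 4, nat_lit 3, nat_lit 2, nat_lit 3, nat_lit 0, nat_lit 1], [nat_lit 26, nat_lit 24, nat_lit 0, nat_lit 17, nat_lit 37, nat_lit 26], (nat_lit 7569)), ((nat_lit 2704), [nat_lit 3, nat_lit 4, nat_lit 8, nat_lit 1, nat_lit 2, nat_lit 3, nat_lit 4, nat_lit 8, nat_lit 4, nat_lit 2, nat_lit 3, nat_lit 0, nat_lit 1], [nat_lit 1, nat_lit 14, nat_lit 27, nat_lit 16, nat_lit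 27], (nat_lit 5437)), ((nat_lit 2916), [nat_lit 3, nat_lit 4, nat_lit 7, nat_lit 2, nat_lit 3, nat_lit 4, nat_lit 7, nat_lit 2, nat_lit 3, nat_lit 0, nat_lit 1], [nat_lit 10, nat_lit 0, nat_lit 36, nat_lit 16, nat_lit 11, nat_lit 26], (nat_lit 2157)), ((nat_lit 2922), [nat_lit 8, nat_lit 3, nat_lit 4, nat_lit 7, nat_lit 1, nat_lit 2, nat_lit 3, nat_lit 0, nat_lit 1], [nat_lit 5, nat_lit 2, nat_lit 0, nat_lit 33, nat_lit 15, nat_lit 26], (nat_lit 635)), ((nat_lit 2646), [nat_lit 8, nat_lit 4, nat_lit 8, nat_lit 5, nat_lit 1, nat_lit 2, nat_lit 3, nat_lit 4, nat_lit 8, nat_lit 3, nat_lit 2, nat_lit 3, nat_lit 1], [nat_lit 24, nat_lit 2, nat_lit 0, nat_lit 37, nat_lit 33, nat_lit 11, nat_lit 27], (nat_lit 6071)), ((nat_lit 2634), [nat_lit 5, nat_lit 7, nat_lit 4, nat_lit 7, nat_lit 2, nat_lit 3, nat_lit 4, nat_lit 7, nat_lit 1, nat_lit 2, nat_lit 3, nat_lit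 0, nat_lit 1], [nat_lit 17, nat_lit 17, nat_lit 11], (nat_lit 4905)), ((nat_lit 3048), [nat_lit 8, nat_lit 4, nat_lit 8, nat_lit 2, nat_lit 3, nat_lit 1, nat_lit 2, nat_lit 3, nat_lit 0, nat_lit 1], [nat_lit 15, nat_lit 5, nat_lit 17, nat_lit 17, nat_lit 15], (nat_lit 960)), ((nat_lit 2640), [nat_lit 8, nat_lit 5, nat_lit 3, nat_lit 2, nat_lit 3, nat_lit 4, nat_lit 7, nat_lit 0, nat_lit 1, nat_lit 2, nat_lit 3, nat_lit 4, nat_lit 8, nat_lit 2, nat_lit 3, nat_lit 1], [nat_lit 1, nat_lit 27, nat_lit 18, nat_lit 27], (nat_lit 16679)), ((nat_lit 2988), [nat_lit 4, nat_lit 8, nat_lit 0, nat_lit 1, nat_lit 2, nat_lit 3, nat_lit 4, nat_lit 8, nat_lit 1, nat_lit 2, nat_lit 3, nat_lit 0, nat_lit 1], [nat_lit 24, nat_lit 15, nat_lit 0, nat_lit 17], (nat_lit 4791)), ((nat_lit 3068), [nat_lit 8, nat_lit 1, nat_lit 2, nat_lit 3, nat_lit 4, nat_lit 8, nat_lit 1,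 nat_lit 2, nat_lit 3, nat_lit 0, nat_lit 1], [nat_lit 14, nat_lit 0, nat_lit 34, nat_lit 24, nat_lit 17, nat_lit 27], (nat_lit 1788)), ((nat_lit 2948), [nat_lit 3, nat_lit 2, nat_lit 3, nat_lit 4, nat_lit 7, nat_lit 2, nat_lit 3, nat_lit 4, nat_lit 8, nat_lit 2, nat_lit 3, nat_lit 1], [nat_lit 11, nat_lit 5, nat_lit 2, nat_lit 34, nat_lit 34, nat_lit 11], (nat_lit 4371)), ((nat_lit 2926), [nat_lit 4, nat_lit 8, nat_lit 8, nat_lit 1, nat_lit 2, nat_lit 3, nat_lit 4, nat_lit 7, nat_lit 1, nat_lit 2, nat_lit 3, nat_lit 0, nat_lit 1], [nat_lit 16, nat_lit 0, nat_lit 15, nat_lit 32, nat_lit 11], (nat_lit 4880)), ((nat_lit 2954), [nat_lit 4, nat_lit 7, nat_lit 7, nat_lit 1, nat_lit 2, nat_lit 3, nat_lit 4, nat_lit 7, nat_lit 1, nat_lit 2, nat_lit 3, nat_lit 0, nat_lit 1], [nat_lit 15, nat_lit 5, nat_lit 24, nat_lit 27], (nat_lit 4884)), ((nat_lit 2776),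 [nat_lit 4, nat_lit 7, nat_lit 7, nat_lit 3, nat_lit 0, nat_lit 1, nat_lit 2, nat_lit 3, nat_lit 4, nat_lit 8, nat_lit 3, nat_lit 4, nat_lit 2, nat_lit 3, nat_lit 1], [nat_lit 25, nat_lit 0, nat_lit 26, nat_lit 15, nat_lit 27], (nat_lit 13935)), ((nat_lit 2804), [nat_lit 8, nat_lit 4, nat_lit 8, nat_lit 8, nat_lit 3, nat_lit 4, nat_lit 7, nat_lit 2, nat_lit 3, nat_lit 1, nat_lit 2, nat_lit 3, nat_lit 4, nat_lit 3, nat_lit 2, nat_lit 3, nat_lit 1], [nat_lit 5, nat_lit 16, nat_lit 2, nat_lit 26, nat_lit 17, nat_lit 15], (nat_lit 17083)), ((nat_lit 2952), [nat_lit 4, nat_lit 7, nat_lit 1, nat_lit 2, nat_lit 3, nat_lit 4, nat_lit 8, nat_lit 4, nat_lit 3, nat_lit 2, nat_lit 3, nat_lit 0, nat_lit 1], [nat_lit 1, nat_lit 14, nat_lit 34, nat_lit 16, nat_lit 26], (nat_lit 5049)), ((nat_lit 2682), [nat_lit 4, nat_lit 7, nat_lit 0, nat_lit 1, nat_lit 2, nat_lit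 3, nat_lit 4, nat_lit 8, nat_lit 3, nat_lit 2, nat_lit 3, nat_lit 0, nat_lit 1], [nat_lit 16, nat_lit 2, nat_lit 37, nat_lit 37, nat_lit 16], (nat_lit 5100)), ((nat_lit 2666), [nat_lit 4, nat_lit 8, nat_lit 4, nat_lit 8, nat_lit 2, nat_lit 3, nat_lit 1, nat_lit 2, nat_lit 3, nat_lit 4, nat_lit 7, nat_lit 3, nat_lit 2, nat_lit 3, nat_lit 0, nat_lit 1], [nat_lit 14, nat_lit 15, nat_lit 15, nat_lit 11, nat_lit 27], (nat_lit 15117)), ((nat_lit 2896), [nat_lit 4, nat_lit 7, nat_lit 7, nat_lit 1, nat_lit 2, nat_lit 3, nat_lit 4, nat_lit 7, nat_lit 3, nat_lit 2, nat_lit 3, nat_lit 0, nat_lit 1], [nat_lit 2, nat_lit 25, nat_lit 18, nat_lit 16], (nat_lit 5211)), ((nat_lit 2898), [nat_lit 8, nat_lit 4, nat_lit 8, nat_lit 1, nat_lit 2, nat_lit 3, nat_lit 4, nat_lit 2, nat_lit 3, nat_lit 0, nat_lit 1], [nat_lit 1, nat_lit 14, nat_lit 32, nat_lit 32, nat_lit 27],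 (nat_lit 1987)), ((nat_lit 2928), [nat_lit 8, nat_lit 3, nat_lit 4, nat_lit 8, nat_lit 5, nat_lit 1, nat_lit 2, nat_lit 3, nat_lit 4, nat_lit 8, nat_lit 3, nat_lit 2, nat_lit 3, nat_lit 0, nat_lit 1], [nat_lit 5, nat_lit 2, nat_lit 0, nat_lit 25, nat_lit 15], (nat_lit 11451)), ((nat_lit 2662), [nat_lit 8, nat_lit 2, nat_lit 3, nat_lit 4, nat_lit 8, nat_lit 3, nat_lit 0, nat_lit 1, nat_lit 2, nat_lit 3, nat_lit 4, nat_lit 3, nat_lit 2, nat_lit 3, nat_lit 0, nat_lit 1], [nat_lit 10, nat_lit 10, nat_lit 0, nat_lit 24, nat_lit 36], (nat_lit 14774)), ((nat_lit 2984), [nat_lit 8, nat_lit 6, nat_lit 4, nat_lit 3, nat_lit 2, nat_lit 3, nat_lit 4, nat_lit 8, nat_lit 4, nat_lit 3, nat_lit 2, nat_lit 3, nat_lit 1], [nat_lit 14, nat_lit 36, nat_lit 33, nat_lit 11, nat_lit 27], (nat_lit 5943)), ((nat_lit 2678), [nat_lit 5, nat_lit 7, nat_lit 4, nat_lit 8, nat_lit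 2, nat_lit 3, nat_lit 1, nat_lit 2, nat_lit 3, nat_lit 4, nat_lit 7, nat_lit 3, nat_lit 2, nat_lit 3, nat_lit 1], [nat_lit 11, nat_lit 2, nat_lit 0, nat_lit 24, nat_lit 11, nat_lit 27], (nat_lit 13399)), ((nat_lit 3012), [nat_lit 7, nat_lit 0, nat_lit 1, nat_lit 2, nat_lit 3, nat_lit 4, nat_lit 8, nat_lit 2, nat_lit 3, nat_lit 0, nat_lit 1], [nat_lit 26, nat_lit 2, nat_lit 16, nat_lit 24], (nat_lit 2081)), ((nat_lit 2986), [nat_lit 8, nat_lit 1, nat_lit 2, nat_lit 3, nat_lit 4, nat_lit 7, nat_lit 1, nat_lit 2, nat_lit 3, nat_lit 4, nat_lit 8, nat_lit 2, nat_lit 3, nat_lit 1], [nat_lit 0, nat_lit 17, nat_lit 11, nat_lit 27], (nat_lit 10437)), ((nat_lit 2686), [nat_lit 4, nat_lit 7, nat_lit 4, nat_lit 7, nat_lit 1, nat_lit 2, nat_lit 3, nat_lit 4, nat_lit 8, nat_lit 2, nat_lit 3, nat_lit 0, nat_lit 1], [nat_lit 1, nat_lit 24, nat_lit 0, nat_lit 18, nat_lit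 11, nat_lit 27], (nat_lit 5519)), ((nat_lit 2844), [nat_lit 2, nat_lit 3, nat_lit 4, nat_lit 8, nat_lit 4, nat_lit 8, nat_lit 2, nat_lit 3, nat_lit 1], [nat_lit 5, nat_lit 33, nat_lit 33, nat_lit 11, nat_lit 26], (nat_lit 918)), ((nat_lit 2630), [nat_lit 6, nat_lit 4, nat_lit 8, nat_lit 0, nat_lit 1, nat_lit 2, nat_lit 3, nat_lit 4, nat_lit 7, nat_lit 2, nat_lit 3, nat_lit 0, nat_lit 1], [nat_lit 14, nat_lit 15, nat_lit 17, nat_lit 11, nat_lit 26], (nat_lit 5584)), ((nat_lit 3058), [nat_lit 6, nat_lit 7, nat_lit 4, nat_lit 7, nat_lit 3, nat_lit 2, nat_lit 3, nat_lit 4, nat_lit 7, nat_lit 4, nat_lit 3, nat_lit 2, nat_lit 3, nat_lit 1], [nat_lit 15, nat_lit 0, nat_lit 18, nat_lit 16, nat_lit 11], (nat_lit 9190)), ((nat_lit 2616), [nat_lit 8, nat_lit 5, nat_lit 3, nat_lit 4, nat_lit 8, nat_lit 1, nat_lit 2, nat_lit 3, nat_lit 0, nat_lit 1], [nat_lit 10,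 nat_lit 10, nat_lit 0, nat_lit 33, nat_lit 37, nat_lit 11, nat_lit 26], (nat_lit 1055)), ((nat_lit 2612), [nat_lit 7, nat_lit 5, nat_lit 3, nat_lit 4, nat_lit 8, nat_lit 1, nat_lit 2, nat_lit 3, nat_lit 0, nat_lit 1], [nat_lit 2, nat_lit 24, nat_lit 24, nat_lit 11], (nat_lit 1056)), ((nat_lit 2908), [nat_lit 8, nat_lit 5, nat_lit 3, nat_lit 0, nat_lit 1, nat_lit 2, nat_lit 3, nat_lit 4, nat_lit 8, nat_lit 1, nat_lit 2, nat_lit 3, nat_lit 0, nat_lit 1], [nat_lit 0, nat_lit 37, nat_lit 15, nat_lit 26], (nat_lit 7428)), ((nat_lit 2990), [nat_lit 4, nat_lit 7, nat_lit 6, nat_lit 1, nat_lit 2, nat_lit 3, nat_lit 4, nat_lit 7, nat_lit 2, nat_lit 3, nat_lit 1], [nat_lit 25, nat_lit 16, nat_lit 0, nat_lit 32, nat_lit 11, nat_lit 27], (nat_lit 2686)), ((nat_lit 2892), [nat_lit 5, nat_lit 4, nat_lit 8, nat_lit 1, nat_lit 2, nat_lit 3, nat_lit 4, nat_lit 7, nat_lit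 2, nat_lit 3, nat_lit 1], [nat_lit 24, nat_lit 0, nat_lit 35, nat_lit 15], (nat_lit 2690)), ((nat_lit 2710), [nat_lit 8, nat_lit 3, nat_lit 0, nat_lit 1, nat_lit 2, nat_lit 3, nat_lit 4, nat_lit 8, nat_lit 4, nat_lit 1, nat_lit 2, nat_lit 3, nat_lit 0, nat_lit 1], [nat_lit 1, nat_lit 24, nat_lit 0, nat_lit 24, nat_lit 37, nat_lit 11, nat_lit 27], (nat_lit 7398)), ((nat_lit 2874), [nat_lit 3, nat_lit 0, nat_lit 1, nat_lit 2, nat_lit 3, nat_lit 4, nat_lit 8, nat_lit 4, nat_lit 8, nat_lit 4, nat_lit 1, nat_lit 2, nat_lit 3, nat_lit 0, nat_lit 1], [nat_lit 15, nat_lit 2, nat_lit 17, nat_lit 34, nat_lit 26], (nat_lit 11029)), ((nat_lit 2656), [nat_lit 4, nat_lit 7, nat_lit 7, nat_lit 3, nat_lit 1, nat_lit 2, nat_lit 3, nat_lit 4, nat_lit 8, nat_lit 3, nat_lit 4, nat_lit 2, nat_lit 3, nat_lit 1], [nat_lit 25, nat_lit 1, nat_lit 24, nat_lit 16, nat_lit 27],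 (nat_lit 10073)), ((nat_lit 3060), [nat_lit 7, nat_lit 4, nat_lit 7, nat_lit 6, nat_lit 2, nat_lit 3, nat_lit 4, nat_lit 7, nat_lit 1, nat_lit 2, nat_lit 3, nat_lit 0, nat_lit 1], [nat_lit 1, nat_lit 1, nat_lit 24, nat_lit 18, nat_lit 18, nat_lit 27], (nat_lit 4886)), ((nat_lit 2644), [nat_lit 8, nat_lit 4, nat_lit 8, nat_lit 2, nat_lit 3, nat_lit 1, nat_lit 2, nat_lit 3, nat_lit 4, nat_lit 3, nat_lit 2, nat_lit 3, nat_lit 0, nat_lit 1], [nat_lit 15, nat_lit 0, nat_lit 17, nat_lit 34, nat_lit 11, nat_lit 26], (nat_lit 7568)), ((nat_lit 2792), [nat_lit 3, nat_lit 4, nat_lit 3, nat_lit 2, nat_lit 3, nat_lit 1, nat_lit 2, nat_lit 3, nat_lit 4, nat_lit 8, nat_lit 3, nat_lit 4, nat_lit 3, nat_lit 2, nat_lit 3, nat_lit 0, nat_lit 1], [nat_lit 2, nat_lit 24, nat_lit 36, nat_lit 16, nat_lit 26], (nat_lit 16882)), ((nat_lit 2696), [nat_lit 4, nat_lit 8, nat_lit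 8, nat_lit 2, nat_lit 3, nat_lit 1, nat_lit 2, nat_lit 3, nat_lit 4, nat_lit 7, nat_lit 2, nat_lit 3, nat_lit 4, nat_lit 2, nat_lit 3, nat_lit 1], [nat_lit 26, nat_lit 24, nat_lit 0, nat_lit 17, nat_lit 34, nat_lit 26], (nat_lit 16522)), ((nat_lit 3072), [nat_lit 4, nat_lit 8, nat_lit 0, nat_lit 1, nat_lit 2, nat_lit 3, nat_lit 4, nat_lit 8, nat_lit 4, nat_lit 1, nat_lit 2, nat_lit 3, nat_lit 0, nat_lit 1], [nat_lit 16, nat_lit 5, nat_lit 2, nat_lit 37, nat_lit 24, nat_lit 15], (nat_lit 7400)), ((nat_lit 2720), [nat_lit 3, nat_lit 1, nat_lit 2, nat_lit 3, nat_lit 4, nat_lit 7, nat_lit 1, nat_lit 2, nat_lit 3, nat_lit 4, nat_lit 8, nat_lit 2, nat_lit 3, nat_lit 1], [nat_lit 17, nat_lit 36, nat_lit 15, nat_lit 26], (nat_lit 10434)), ((nat_lit 2828), [nat_lit 6, nat_lit 8, nat_lit 1, nat_lit 2, nat_lit 3, nat_lit 4, nat_lit 7, nat_lit 1, nat_lit 2, nat_lit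 3, nat_lit 0, nat_lit 1], [nat_lit 1, nat_lit 5, nat_lit 27, nat_lit 36, nat_lit 11], (nat_lit 3053)), ((nat_lit 2876), [nat_lit 3, nat_lit 4, nat_lit 7, nat_lit 3, nat_lit 4, nat_lit 8, nat_lit 2, nat_lit 3, nat_lit 0, nat_lit 1], [nat_lit 16, nat_lit 0, nat_lit 16], (nat_lit 1233)), ((nat_lit 2774), [nat_lit 2, nat_lit 3, nat_lit 4, nat_lit 8, nat_lit 1, nat_lit 2, nat_lit 3, nat_lit 4, nat_lit 8, nat_lit 4, nat_lit 2, nat_lit 3, nat_lit 0, nat_lit 1], [nat_lit 25, nat_lit 16, nat_lit 0, nat_lit 36, nat_lit 18, nat_lit 26], (nat_lit 8304)), ((nat_lit 2748), [nat_lit 2, nat_lit 3, nat_lit 4, nat_lit 7, nat_lit 1, nat_lit 2, nat_lit 3, nat_lit 4, nat_lit 8, nat_lit 2, nat_lit 3, nat_lit 0, nat_lit 1], [nat_lit 32, nat_lit 11, nat_lit 27], (nat_lit 5507)), ((nat_lit 2636), [nat_lit 8, nat_lit 3, nat_lit 4, nat_lit 8, nat_lit 3, nat_lit 4, nat_lit 3,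 nat_lit 2, nat_lit 3, nat_lit 1], [nat_lit 5, nat_lit 2, nat_lit 0, nat_lit 32, nat_lit 18, nat_lit 26], (nat_lit 1299)), ((nat_lit 2680), [nat_lit 6, nat_lit 8, nat_lit 3, nat_lit 4, nat_lit 8, nat_lit 3, nat_lit 2, nat_lit 3, nat_lit 4, nat_lit 8, nat_lit 4, nat_lit 3, nat_lit 2, nat_lit 3, nat_lit 1], [nat_lit 1, nat_lit 24, nat_lit 0, nat_lit 34, nat_lit 15, nat_lit 27], (nat_lit 12908)), ((nat_lit 2702), [nat_lit 6, nat_lit 7, nat_lit 3, nat_lit 4, nat_lit 8, nat_lit 2, nat_lit 3, nat_lit 4, nat_lit 8, nat_lit 2, nat_lit 3, nat_lit 4, nat_lit 3, nat_lit 2, nat_lit 3, nat_lit 1], [nat_lit 14, nat_lit 0, nat_lit 24], (nat_lit 15843)), ((nat_lit 2734), [nat_lit 7, nat_lit 5, nat_lit 0, nat_lit 1, nat_lit 2, nat_lit 3, nat_lit 4, nat_lit 7, nat_lit 3, nat_lit 4, nat_lit 3, nat_lit 2, nat_lit 3, nat_lit 1], [nat_lit 15, nat_lit 0, nat_lit 18, nat_lit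 35, nat_lit 11, nat_lit 26], (nat_lit 8991)), ((nat_lit 2650), [nat_lit 4, nat_lit 8, nat_lit 8, nat_lit 3, nat_lit 4, nat_lit 8, nat_lit 3, nat_lit 2, nat_lit 3, nat_lit 1], [nat_lit 10, nat_lit 10, nat_lit 0, nat_lit 36, nat_lit 11, nat_lit 26], (nat_lit 1359)), ((nat_lit 2808), [nat_lit 4, nat_lit 7, nat_lit 4, nat_lit 7, nat_lit 3, nat_lit 2, nat_lit 3, nat_lit 4, nat_lit 7, nat_lit 2, nat_lit 3, nat_lit 4, nat_lit 2, nat_lit 3, nat_lit 1], [nat_lit 5, nat_lit 24, nat_lit 35, nat_lit 27], (nat_lit 13886)), ((nat_lit 2760), [nat_lit 8, nat_lit 4, nat_lit 7, nat_lit 2, nat_lit 3, nat_lit 4, nat_lit 8, nat_lit 8, nat_lit 1, nat_lit 2, nat_lit 3, nat_lit 4, nat_lit 7, nat_lit 3, nat_lit 2, nat_lit 3, nat_lit 1], [nat_lit 16, nat_lit 2, nat_lit 16, nat_lit 17, nat_lit 15, nat_lit 26], (nat_lit 17162))] (nat_lit 0) m5_6_1) = 0 := by decide +kernel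
theorem e5_6_2 : dt.run q (fun c => c.edges (SP THn.T THn.Rl (nat_lit 15)) (nat_lit 4429) THn.T.n (nat_lit 5) (nat_lit 6)
  [((nat_lit 2676), [nat_lit 5, nat_lit 4, nat_lit 7, nat_lit 1, nat_lit 2, nat_lit 3, nat_lit 4, nat_lit 7, nat_lit 2, nat_lit 3, nat_lit 4, nat_lit 2, nat_lit 3, nat_lit 1], [nat_lit 15, nat_lit 1, nat_lit 33, nat_lit 16, nat_lit 11, nat_lit 26], (nat_lit 9961)), ((nat_lit 2958), [nat_lit 8, nat_lit 8, nat_lit 3, nat_lit 4, nat_lit 7, nat_lit 2, nat_lit 3, nat_lit 4, nat_lit 7, nat_lit 1, nat_lit 2, nat_lit 3, nat_lit 4, nat_lit 2, nat_lit 3, nat_lit 1], [nat_lit 5, nat_lit 15, nat_lit 27, nat_lit 16, nat_lit 27], (nat_lit 16464)), ((nat_lit 2862), [nat_lit 5, nat_lit 7, nat_lit 4, nat_lit 7, nat_lit 2, nat_lit 3, nat_lit 4, nat_lit 7, nat_lit 2, nat_lit 3, nat_lit 4, nat_lit 3, nat_lit 2, nat_lit 3, nat_lit 1], [nat_lit 26, nat_lit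 24, nat_lit 0, nat_lit 17, nat_lit 37, nat_lit 11, nat_lit 27], (nat_lit 12674)), ((nat_lit 2684), [nat_lit 4, nat_lit 7, nat_lit 4, nat_lit 3, nat_lit 1, nat_lit 2, nat_lit 3, nat_lit 4, nat_lit 7, nat_lit 4, nat_lit 2, nat_lit 3, nat_lit 1], [nat_lit 35, nat_lit 16, nat_lit 16, nat_lit 27], (nat_lit 6802)), ((nat_lit 3054), [nat_lit 0, nat_lit 1, nat_lit 2, nat_lit 3, nat_lit 4, nat_lit 8, nat_lit 4, nat_lit 8, nat_lit 2, nat_lit 3, nat_lit 1], [nat_lit 25, nat_lit 2, nat_lit 0, nat_lit 37, nat_lit 15, nat_lit 26], (nat_lit 2674)), ((nat_lit 2800), [nat_lit 6, nat_lit 7, nat_lit 2, nat_lit 3, nat_lit 4, nat_lit 7, nat_lit 2, nat_lit 3, nat_lit 4, nat_lit 7, nat_lit 2, nat_lit 3, nat_lit 0, nat_lit 1], [nat_lit 16, nat_lit 5, nat_lit 0, nat_lit 24, nat_lit 35, nat_lit 26], (nat_lit 8653)), ((nat_lit 3000), [nat_lit 8, nat_lit 8, nat_lit 4, nat_lit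 8, nat_lit 3, nat_lit 4, nat_lit 8, nat_lit 2, nat_lit 3, nat_lit 1], [nat_lit 16, nat_lit 2, nat_lit 36, nat_lit 24, nat_lit 15, nat_lit 26], (nat_lit 1545)), ((nat_lit 2724), [nat_lit 5, nat_lit 7, nat_lit 4, nat_lit 8, nat_lit 3, nat_lit 4, nat_lit 8, nat_lit 2, nat_lit 3, nat_lit 1], [nat_lit 15, nat_lit 1, nat_lit 33, nat_lit 33, nat_lit 11, nat_lit 27], (nat_lit 1547)), ((nat_lit 2658), [nat_lit 7, nat_lit 5, nat_lit 3, nat_lit 1, nat_lit 2, nat_lit 3, nat_lit 4, nat_lit 8, nat_lit 3, nat_lit 4, nat_lit 2, nat_lit 3, nat_lit 0, nat_lit 1], [nat_lit 24, nat_lit 1, nat_lit 16, nat_lit 27], (nat_lit 8218)), ((nat_lit 3008), [nat_lit 7, nat_lit 5, nat_lit 1, nat_lit 2, nat_lit 3, nat_lit 4, nat_lit 7, nat_lit 4, nat_lit 2, nat_lit 3, nat_lit 1], [nat_lit 16, nat_lit 5, nat_lit 2, nat_lit 17, nat_lit 36, nat_lit 15, nat_lit 26], (nat_lit 2581)), ((nat_lit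 2740), [nat_lit 7, nat_lit 5, nat_lit 3, nat_lit 2, nat_lit 3, nat_lit 4, nat_lit 8, nat_lit 3, nat_lit 4, nat_lit 2, nat_lit 3, nat_lit 0, nat_lit 1], [nat_lit 16, nat_lit 0, nat_lit 25, nat_lit 35, nat_lit 26], (nat_lit 5386)), ((nat_lit 2688), [nat_lit 7, nat_lit 4, nat_lit 8, nat_lit 0, nat_lit 1, nat_lit 2, nat_lit 3, nat_lit 4, nat_lit 8, nat_lit 3, nat_lit 2, nat_lit 3, nat_lit 0, nat_lit 1], [nat_lit 24, nat_lit 2, nat_lit 17, nat_lit 34, nat_lit 26], (nat_lit 7789)), ((nat_lit 3084), [nat_lit 8, nat_lit 1, nat_lit 2, nat_lit 3, nat_lit 4, nat_lit 7, nat_lit 1, nat_lit 2, nat_lit 3, nat_lit 4, nat_lit 8, nat_lit 3, nat_lit 2, nat_lit 3, nat_lit 0, nat_lit 1], [nat_lit 2, nat_lit 0, nat_lit 17, nat_lit 16, nat_lit 26], (nat_lit 15041)), ((nat_lit 2944), [nat_lit 7, nat_lit 7, nat_lit 4, nat_lit 7, nat_lit 3, nat_lit 2, nat_lit 3, nat_lit 4,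 nat_lit 3, nat_lit 2, nat_lit 3, nat_lit 1], [nat_lit 24, nat_lit 0, nat_lit 17, nat_lit 37], (nat_lit 3708)), ((nat_lit 2840), [nat_lit 8, nat_lit 3, nat_lit 4, nat_lit 8, nat_lit 3, nat_lit 4, nat_lit 3, nat_lit 1, nat_lit 2, nat_lit 3, nat_lit 0, nat_lit 1], [nat_lit 14, nat_lit 15, nat_lit 0, nat_lit 37, nat_lit 34, nat_lit 11, nat_lit 26], (nat_lit 2778)), ((nat_lit 2946), [nat_lit 4, nat_lit 7, nat_lit 0, nat_lit 1, nat_lit 2, nat_lit 3, nat_lit 4, nat_lit 8, nat_lit 3, nat_lit 4, nat_lit 3, nat_lit 2, nat_lit 3, nat_lit 1], [nat_lit 1, nat_lit 36], (nat_lit 8942)), ((nat_lit 2752), [nat_lit 8, nat_lit 5, nat_lit 3, nat_lit 4, nat_lit 8, nat_lit 3, nat_lit 1, nat_lit 2, nat_lit 3, nat_lit 0, nat_lit 1], [nat_lit 2, nat_lit 0, nat_lit 26, nat_lit 36, nat_lit 26], (nat_lit 1690)), ((nat_lit 2912), [nat_lit 7, nat_lit 3, nat_lit 4, nat_lit 7, nat_lit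 2, nat_lit 3, nat_lit 4, nat_lit 7, nat_lit 3, nat_lit 1, nat_lit 2, nat_lit 3, nat_lit 0, nat_lit 1], [nat_lit 16, nat_lit 2, nat_lit 35, nat_lit 33, nat_lit 11, nat_lit 26], (nat_lit 7339)), ((nat_lit 2794), [nat_lit 4, nat_lit 7, nat_lit 6, nat_lit 1, nat_lit 2, nat_lit 3, nat_lit 4, nat_lit 7, nat_lit 3, nat_lit 2, nat_lit 3, nat_lit 1], [nat_lit 25, nat_lit 14, nat_lit 0, nat_lit 25, nat_lit 33, nat_lit 15, nat_lit 27], (nat_lit 3939)), ((nat_lit 2852), [nat_lit 8, nat_lit 5, nat_lit 4, nat_lit 8, nat_lit 3, nat_lit 4, nat_lit 1, nat_lit 2, nat_lit 3, nat_lit 0, nat_lit 1], [nat_lit 5, nat_lit 0, nat_lit 36, nat_lit 33, nat_lit 26], (nat_lit 1743)), ((nat_lit 2884), [nat_lit 8, nat_lit 2, nat_lit 3, nat_lit 4, nat_lit 7, nat_lit 3, nat_lit 4, nat_lit 8, nat_lit 1, nat_lit 2, nat_lit 3, nat_lit 0, nat_lit 1], [nat_lit 0, nat_lit 2, nat_lit 37,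 nat_lit 34, nat_lit 27], (nat_lit 4848)), ((nat_lit 2878), [nat_lit 7, nat_lit 7, nat_lit 3, nat_lit 0, nat_lit 1, nat_lit 2, nat_lit 3, nat_lit 4, nat_lit 7, nat_lit 1, nat_lit 2, nat_lit 3, nat_lit 0, nat_lit 1], [nat_lit 15, nat_lit 24], (nat_lit 7488)), ((nat_lit 2964), [nat_lit 4, nat_lit 8, nat_lit 5, nat_lit 3, nat_lit 2, nat_lit 3, nat_lit 4, nat_lit 7, nat_lit 3, nat_lit 2, nat_lit 3, nat_lit 1], [nat_lit 2, nat_lit 11, nat_lit 36, nat_lit 26], (nat_lit 3953)), ((nat_lit 2694), [nat_lit 4, nat_lit 7, nat_lit 4, nat_lit 7, nat_lit 3, nat_lit 4, nat_lit 8, nat_lit 1, nat_lit 2, nat_lit 3, nat_lit 0, nat_lit 1], [nat_lit 24, nat_lit 15, nat_lit 0, nat_lit 36, nat_lit 18, nat_lit 15, nat_lit 26], (nat_lit 3035)), ((nat_lit 2900), [nat_lit 4, nat_lit 7, nat_lit 5, nat_lit 2, nat_lit 3, nat_lit 4, nat_lit 7, nat_lit 1, nat_lit 2, nat_lit 3, nat_lit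 4, nat_lit 2, nat_lit 3, nat_lit 0, nat_lit 1], [nat_lit 18, nat_lit 15, nat_lit 0, nat_lit 32, nat_lit 11, nat_lit 26], (nat_lit 11766)), ((nat_lit 2648), [nat_lit 6, nat_lit 8, nat_lit 4, nat_lit 8, nat_lit 6, nat_lit 3, nat_lit 4, nat_lit 8, nat_lit 2, nat_lit 3, nat_lit 4, nat_lit 7, nat_lit 2, nat_lit 3, nat_lit 1], [nat_lit 0, nat_lit 33, nat_lit 33, nat_lit 27], (nat_lit 14617)), ((nat_lit 2788), [nat_lit 6, nat_lit 8, nat_lit 4, nat_lit 8, nat_lit 2, nat_lit 3, nat_lit 1, nat_lit 2, nat_lit 3, nat_lit 4, nat_lit 7, nat_lit 3, nat_lit 2, nat_lit 3, nat_lit 0, nat_lit 1], [nat_lit 15, nat_lit 2, nat_lit 24, nat_lit 18, nat_lit 26], (nat_lit 15118)), ((nat_lit 3040), [nat_lit 7, nat_lit 5, nat_lit 1, nat_lit 2, nat_lit 3, nat_lit 4, nat_lit 7, nat_lit 2, nat_lit 3, nat_lit 4, nat_lit 2, nat_lit 3, nat_lit 0, nat_lit 1], [nat_lit 27, nat_lit 36,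 nat_lit 27], (nat_lit 8164)), ((nat_lit 2642), [nat_lit 8, nat_lit 4, nat_lit 7, nat_lit 3, nat_lit 4, nat_lit 7, nat_lit 2, nat_lit 3, nat_lit 4, nat_lit 8, nat_lit 4, nat_lit 2, nat_lit 3, nat_lit 1], [nat_lit 24, nat_lit 15, nat_lit 0, nat_lit 15, nat_lit 15, nat_lit 11, nat_lit 27], (nat_lit 10339)), ((nat_lit 2906), [nat_lit 7, nat_lit 7, nat_lit 4, nat_lit 7, nat_lit 2, nat_lit 3, nat_lit 4, nat_lit 7, nat_lit 2, nat_lit 3, nat_lit 4, nat_lit 2, nat_lit 3, nat_lit 0, nat_lit 1], [nat_lit 2, nat_lit 0, nat_lit 26, nat_lit 17, nat_lit 15], (nat_lit 11858)), ((nat_lit 2744), [nat_lit 8, nat_lit 3, nat_lit 4, nat_lit 8, nat_lit 2, nat_lit 3, nat_lit 4, nat_lit 7, nat_lit 2, nat_lit 3, nat_lit 1], [nat_lit 5, nat_lit 14, nat_lit 33, nat_lit 11, nat_lit 16], (nat_lit 2708)), ((nat_lit 3070), [nat_lit 8, nat_lit 6, nat_lit 4, nat_lit 7, nat_lit 1, nat_lit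 2, nat_lit 3, nat_lit 4, nat_lit 8, nat_lit 3, nat_lit 1, nat_lit 2, nat_lit 3, nat_lit 0, nat_lit 1], [nat_lit 5, nat_lit 2, nat_lit 18, nat_lit 16, nat_lit 27], (nat_lit 10962)), ((nat_lit 3020), [nat_lit 2, nat_lit 3, nat_lit 4, nat_lit 7, nat_lit 6, nat_lit 3, nat_lit 0, nat_lit 1, nat_lit 2, nat_lit 3, nat_lit 4, nat_lit 8, nat_lit 3, nat_lit 2, nat_lit 3, nat_lit 1], [nat_lit 5, nat_lit 2, nat_lit 0, nat_lit 33, nat_lit 16, nat_lit 26], (nat_lit 16132)), ((nat_lit 2660), [nat_lit 7, nat_lit 4, nat_lit 7, nat_lit 0, nat_lit 1, nat_lit 2, nat_lit 3, nat_lit 4, nat_lit 8, nat_lit 3, nat_lit 2, nat_lit 3, nat_lit 0, nat_lit 1], [nat_lit 1, nat_lit 1, nat_lit 15, nat_lit 17, nat_lit 27], (nat_lit 7795)), ((nat_lit 3066), [nat_lit 7, nat_lit 7, nat_lit 4, nat_lit 8, nat_lit 5, nat_lit 1, nat_lit 2, nat_lit 3, nat_lit 4, nat_lit 8, nat_lit 1, nat_lit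 2, nat_lit 3, nat_lit 0, nat_lit 1], [nat_lit 25, nat_lit 1, nat_lit 37, nat_lit 15], (nat_lit 11063)), ((nat_lit 2742), [nat_lit 8, nat_lit 8, nat_lit 4, nat_lit 7, nat_lit 3, nat_lit 4, nat_lit 8, nat_lit 2, nat_lit 3, nat_lit 0, nat_lit 1], [nat_lit 25, nat_lit 14, nat_lit 0, nat_lit 34, nat_lit 34, nat_lit 26], (nat_lit 2130)), ((nat_lit 3074), [nat_lit 4, nat_lit 8, nat_lit 3, nat_lit 4, nat_lit 7, nat_lit 1, nat_lit 2, nat_lit 3, nat_lit 4, nat_lit 8, nat_lit 3, nat_lit 2, nat_lit 3, nat_lit 1], [nat_lit 5, nat_lit 0, nat_lit 33, nat_lit 25, nat_lit 26], (nat_lit 9340)), ((nat_lit 2716), [nat_lit 7, nat_lit 1, nat_lit 2, nat_lit 3, nat_lit 4, nat_lit 8, nat_lit 3, nat_lit 4, nat_lit 3, nat_lit 1, nat_lit 2, nat_lit 3, nat_lit 0, nat_lit 1], [nat_lit 2, nat_lit 17, nat_lit 16, nat_lit 27], (nat_lit 7228)), ((nat_lit 2784), [nat_lit 6, nat_lit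 4, nat_lit 8, nat_lit 3, nat_lit 2, nat_lit 3, nat_lit 4, nat_lit 3, nat_lit 2, nat_lit 3, nat_lit 1], [nat_lit 26, nat_lit 2, nat_lit 0, nat_lit 34, nat_lit 16], (nat_lit 2221)), ((nat_lit 2930), [nat_lit 5, nat_lit 7, nat_lit 4, nat_lit 8, nat_lit 2, nat_lit 3, nat_lit 4, nat_lit 8, nat_lit 1, nat_lit 2, nat_lit 3, nat_lit 0, nat_lit 1], [nat_lit 24, nat_lit 2, nat_lit 37, nat_lit 18, nat_lit 26], (nat_lit 4827)), ((nat_lit 3002), [nat_lit 7, nat_lit 4, nat_lit 7, nat_lit 5, nat_lit 3, nat_lit 4, nat_lit 7, nat_lit 2, nat_lit 3, nat_lit 4, nat_lit 2, nat_lit 3, nat_lit 0, nat_lit 1], [nat_lit 17, nat_lit 2, nat_lit 0, nat_lit 24, nat_lit 17, nat_lit 26], (nat_lit 8184)), ((nat_lit 2806), [nat_lit 4, nat_lit 7, nat_lit 5, nat_lit 3, nat_lit 4, nat_lit 8, nat_lit 3, nat_lit 2, nat_lit 3, nat_lit 4, nat_lit 3, nat_lit 2, nat_lit 3, nat_lit 1], [nat_lit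 16, nat_lit 2, nat_lit 16, nat_lit 11, nat_lit 27], (nat_lit 8846)), ((nat_lit 2972), [nat_lit 4, nat_lit 8, nat_lit 2, nat_lit 3, nat_lit 4, nat_lit 8, nat_lit 4, nat_lit 3, nat_lit 2, nat_lit 3, nat_lit 1], [nat_lit 24, nat_lit 15, nat_lit 0, nat_lit 15, nat_lit 24, nat_lit 26], (nat_lit 2278)), ((nat_lit 2780), [nat_lit 6, nat_lit 3, nat_lit 2, nat_lit 3, nat_lit 4, nat_lit 7, nat_lit 4, nat_lit 3, nat_lit 2, nat_lit 3, nat_lit 1], [nat_lit 24, nat_lit 1, nat_lit 35, nat_lit 36, nat_lit 27], (nat_lit 2291)), ((nat_lit 2968), [nat_lit 8, nat_lit 6, nat_lit 1, nat_lit 2, nat_lit 3, nat_lit 4, nat_lit 8, nat_lit 3, nat_lit 2, nat_lit 3, nat_lit 1], [nat_lit 24, nat_lit 2, nat_lit 33, nat_lit 15, nat_lit 11, nat_lit 27], (nat_lit 2312)), ((nat_lit 2814), [nat_lit 6, nat_lit 7, nat_lit 3, nat_lit 1, nat_lit 2, nat_lit 3, nat_lit 4, nat_lit 8, nat_lit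 2, nat_lit 3, nat_lit 4, nat_lit 2, nat_lit 3, nat_lit 1], [nat_lit 1, nat_lit 1, nat_lit 15, nat_lit 32, nat_lit 11, nat_lit 26], (nat_lit 9850)), ((nat_lit 2664), [nat_lit 8, nat_lit 4, nat_lit 7, nat_lit 5, nat_lit 2, nat_lit 3, nat_lit 4, nat_lit 7, nat_lit 2, nat_lit 3, nat_lit 4, nat_lit 7, nat_lit 2, nat_lit 3, nat_lit 1], [nat_lit 24, nat_lit 1, nat_lit 16, nat_lit 37], (nat_lit 14643)), ((nat_lit 2706), [nat_lit 3, nat_lit 4, nat_lit 7, nat_lit 2, nat_lit 3, nat_lit 4, nat_lit 8, nat_lit 3, nat_lit 2, nat_lit 3, nat_lit 1], [nat_lit 1, nat_lit 27], (nat_lit 2338)), ((nat_lit 2764), [nat_lit 8, nat_lit 1, nat_lit 2, nat_lit 3, nat_lit 4, nat_lit 8, nat_lit 3, nat_lit 4, nat_lit 7, nat_lit 2, nat_lit 3, nat_lit 4, nat_lit 3, nat_lit 2, nat_lit 3, nat_lit 1], [nat_lit 24, nat_lit 2, nat_lit 0, nat_lit 37, nat_lit 33], (nat_lit 15869)), ((nat_lit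 2934), [nat_lit 2, nat_lit 3, nat_lit 2, nat_lit 3, nat_lit 4, nat_lit 7, nat_lit 3, nat_lit 4, nat_lit 8, nat_lit 3, nat_lit 4, nat_lit 2, nat_lit 3, nat_lit 1], [nat_lit 24, nat_lit 16, nat_lit 0, nat_lit 34, nat_lit 15, nat_lit 11], (nat_lit 10160)), ((nat_lit 2718), [nat_lit 7, nat_lit 7, nat_lit 0, nat_lit 1, nat_lit 2, nat_lit 3, nat_lit 4, nat_lit 7, nat_lit 3, nat_lit 4, nat_lit 2, nat_lit 3, nat_lit 1], [nat_lit 24, nat_lit 15, nat_lit 0, nat_lit 37, nat_lit 15, nat_lit 11, nat_lit 26], (nat_lit 6663)), ((nat_lit 2674), [nat_lit 7, nat_lit 4, nat_lit 7, nat_lit 3, nat_lit 4, nat_lit 8, nat_lit 3, nat_lit 1, nat_lit 2, nat_lit 3, nat_lit 0, nat_lit 1], [nat_lit 26, nat_lit 2, nat_lit 36, nat_lit 18, nat_lit 27], (nat_lit 2837)), ((nat_lit 2798), [nat_lit 8, nat_lit 8, nat_lit 4, nat_lit 8, nat_lit 1, nat_lit 2, nat_lit 3, nat_lit 4, nat_lit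 8, nat_lit 2, nat_lit 3, nat_lit 4, nat_lit 3, nat_lit 2, nat_lit 3, nat_lit 1], [nat_lit 10, nat_lit 10, nat_lit 0, nat_lit 15, nat_lit 15, nat_lit 11, nat_lit 27], (nat_lit 15827)), ((nat_lit 2786), [nat_lit 8, nat_lit 5, nat_lit 3, nat_lit 4, nat_lit 8, nat_lit 1, nat_lit 2, nat_lit 3, nat_lit 4, nat_lit 2, nat_lit 3, nat_lit 0, nat_lit 1], [nat_lit 1, nat_lit 5, nat_lit 16, nat_lit 16, nat_lit 11, nat_lit 27], (nat_lit 5287)), ((nat_lit 2672), [nat_lit 6, nat_lit 2, nat_lit 3, nat_lit 4, nat_lit 8, nat_lit 3, nat_lit 0, nat_lit 1, nat_lit 2, nat_lit 3, nat_lit 4, nat_lit 8, nat_lit 3, nat_lit 2, nat_lit 3, nat_lit 0, nat_lit 1], [nat_lit 15, nat_lit 1, nat_lit 17, nat_lit 25, nat_lit 15, nat_lit 26], (nat_lit 16911)), ((nat_lit 2982), [nat_lit 6, nat_lit 8, nat_lit 3, nat_lit 4, nat_lit 7, nat_lit 2, nat_lit 3, nat_lit 4, nat_lit 2, nat_lit 3,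 nat_lit 1], [nat_lit 5, nat_lit 32, nat_lit 27, nat_lit 17, nat_lit 27], (nat_lit 2485)), ((nat_lit 2790), [nat_lit 6, nat_lit 8, nat_lit 2, nat_lit 3, nat_lit 4, nat_lit 7, nat_lit 3, nat_lit 4, nat_lit 2, nat_lit 3, nat_lit 1], [nat_lit 25, nat_lit 14, nat_lit 0, nat_lit 35, nat_lit 35], (nat_lit 2532)), ((nat_lit 2754), [nat_lit 7, nat_lit 7, nat_lit 4, nat_lit 8, nat_lit 5, nat_lit 0, nat_lit 1, nat_lit 2, nat_lit 3, nat_lit 4, nat_lit 8, nat_lit 2, nat_lit 3, nat_lit 0, nat_lit 1], [nat_lit 5, nat_lit 0, nat_lit 36, nat_lit 16, nat_lit 27], (nat_lit 12020)), ((nat_lit 2914), [nat_lit 4, nat_lit 7, nat_lit 5, nat_lit 2, nat_lit 3, nat_lit 4, nat_lit 7, nat_lit 4, nat_lit 1, nat_lit 2, nat_lit 3, nat_lit 0, nat_lit 1], [nat_lit 26, nat_lit 24, nat_lit 0, nat_lit 37, nat_lit 24, nat_lit 26], (nat_lit 4773)), ((nat_lit 2992), [nat_lit 7, nat_lit 4,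 nat_lit 7, nat_lit 6, nat_lit 1, nat_lit 2, nat_lit 3, nat_lit 4, nat_lit 7, nat_lit 2, nat_lit 3, nat_lit 0, nat_lit 1], [nat_lit 15, nat_lit 2, nat_lit 37, nat_lit 33, nat_lit 27], (nat_lit 5596)), ((nat_lit 2860), [nat_lit 6, nat_lit 7, nat_lit 4, nat_lit 7, nat_lit 1, nat_lit 2, nat_lit 3, nat_lit 4, nat_lit 7, nat_lit 2, nat_lit 3, nat_lit 0, nat_lit 1], [nat_lit 25, nat_lit 1, nat_lit 33, nat_lit 33], (nat_lit 5625)), ((nat_lit 3064), [nat_lit 8, nat_lit 4, nat_lit 3, nat_lit 2, nat_lit 3, nat_lit 4, nat_lit 8, nat_lit 1, nat_lit 2, nat_lit 3, nat_lit 4, nat_lit 3, nat_lit 2, nat_lit 3, nat_lit 1], [nat_lit 11, nat_lit 2, nat_lit 0, nat_lit 15, nat_lit 18, nat_lit 16, nat_lit 27], (nat_lit 12553)), ((nat_lit 2692), [nat_lit 8, nat_lit 4, nat_lit 7, nat_lit 1, nat_lit 2, nat_lit 3, nat_lit 4, nat_lit 7, nat_lit 3, nat_lit 4, nat_lit 2, nat_lit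 3, nat_lit 1], [nat_lit 11, nat_lit 5, nat_lit 2, nat_lit 35, nat_lit 27], (nat_lit 6683)), ((nat_lit 2890), [nat_lit 7, nat_lit 7, nat_lit 4, nat_lit 3, nat_lit 2, nat_lit 3, nat_lit 4, nat_lit 8, nat_lit 1, nat_lit 2, nat_lit 3, nat_lit 4, nat_lit 3, nat_lit 2, nat_lit 3, nat_lit 1], [nat_lit 2, nat_lit 33, nat_lit 24, nat_lit 11], (nat_lit 15781)), ((nat_lit 2936), [nat_lit 6, nat_lit 7, nat_lit 3, nat_lit 2, nat_lit 3, nat_lit 4, nat_lit 8, nat_lit 1, nat_lit 2, nat_lit 3, nat_lit 4, nat_lit 7, nat_lit 3, nat_lit 2, nat_lit 3, nat_lit 1], [nat_lit 16, nat_lit 2, nat_lit 34, nat_lit 24], (nat_lit 16176)), ((nat_lit 2816), [nat_lit 8, nat_lit 4, nat_lit 7, nat_lit 6, nat_lit 1, nat_lit 2, nat_lit 3, nat_lit 4, nat_lit 7, nat_lit 3, nat_lit 2, nat_lit 3, nat_lit 1], [nat_lit 5, nat_lit 2, nat_lit 34, nat_lit 16, nat_lit 11, nat_lit 27], (nat_lit 6232)),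 ((nat_lit 2812), [nat_lit 4, nat_lit 8, nat_lit 3, nat_lit 2, nat_lit 3, nat_lit 4, nat_lit 8, nat_lit 4, nat_lit 3, nat_lit 2, nat_lit 3, nat_lit 0, nat_lit 1], [nat_lit 0, nat_lit 2, nat_lit 36, nat_lit 32], (nat_lit 5055)), ((nat_lit 2894), [nat_lit 8, nat_lit 8, nat_lit 4, nat_lit 8, nat_lit 3, nat_lit 4, nat_lit 8, nat_lit 1, nat_lit 2, nat_lit 3, nat_lit 0, nat_lit 1], [nat_lit 10, nat_lit 10, nat_lit 0, nat_lit 18, nat_lit 11, nat_lit 15, nat_lit 27], (nat_lit 3019)), ((nat_lit 3044), [nat_lit 8, nat_lit 3, nat_lit 2, nat_lit 3, nat_lit 1, nat_lit 2, nat_lit 3, nat_lit 4, nat_lit 8, nat_lit 3, nat_lit 2, nat_lit 3, nat_lit 1], [nat_lit 16, nat_lit 5, nat_lit 0, nat_lit 33, nat_lit 24, nat_lit 27], (nat_lit 6045)), ((nat_lit 2714), [nat_lit 5, nat_lit 7, nat_lit 4, nat_lit 7, nat_lit 6, nat_lit 1, nat_lit 2, nat_lit 3, nat_lit 4, nat_lit 7, nat_lit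 2, nat_lit 3, nat_lit 1], [nat_lit 14, nat_lit 15, nat_lit 0, nat_lit 17, nat_lit 36, nat_lit 15], (nat_lit 7062)), ((nat_lit 2850), [nat_lit 7, nat_lit 4, nat_lit 7, nat_lit 5, nat_lit 0, nat_lit 1, nat_lit 2, nat_lit 3, nat_lit 4, nat_lit 7, nat_lit 3, nat_lit 2, nat_lit 3, nat_lit 1], [nat_lit 26, nat_lit 2, nat_lit 0, nat_lit 37, nat_lit 15, nat_lit 11, nat_lit 26], (nat_lit 9474)), ((nat_lit 2880), [nat_lit 7, nat_lit 5, nat_lit 4, nat_lit 8, nat_lit 3, nat_lit 4, nat_lit 7, nat_lit 2, nat_lit 3, nat_lit 4, nat_lit 7, nat_lit 2, nat_lit 3, nat_lit 1], [nat_lit 1, nat_lit 14, nat_lit 34, nat_lit 25], (nat_lit 10848)), ((nat_lit 3056), [nat_lit 7, nat_lit 5, nat_lit 0, nat_lit 1, nat_lit 2, nat_lit 3, nat_lit 4, nat_lit 7, nat_lit 3, nat_lit 4, nat_lit 3, nat_lit 1, nat_lit 2, nat_lit 3, nat_lit 0, nat_lit 1], [nat_lit 0, nat_lit 2, nat_lit 27,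 nat_lit 24, nat_lit 27], (nat_lit 14699)), ((nat_lit 2910), [nat_lit 7, nat_lit 5, nat_lit 4, nat_lit 8, nat_lit 0, nat_lit 1, nat_lit 2, nat_lit 3, nat_lit 4, nat_lit 7, nat_lit 3, nat_lit 2, nat_lit 3, nat_lit 1], [nat_lit 5, nat_lit 16, nat_lit 2, nat_lit 33], (nat_lit 9482)), ((nat_lit 3010), [nat_lit 8, nat_lit 4, nat_lit 7, nat_lit 3, nat_lit 4, nat_lit 7, nat_lit 2, nat_lit 3, nat_lit 4, nat_lit 8, nat_lit 4, nat_lit 2, nat_lit 3, nat_lit 0, nat_lit 1], [nat_lit 25, nat_lit 1, nat_lit 37, nat_lit 33, nat_lit 11, nat_lit 27], (nat_lit 11996)), ((nat_lit 2864), [nat_lit 4, nat_lit 8, nat_lit 4, nat_lit 3, nat_lit 2, nat_lit 3, nat_lit 4, nat_lit 8, nat_lit 3, nat_lit 4, nat_lit 2, nat_lit 3, nat_lit 1], [nat_lit 25, nat_lit 1, nat_lit 25, nat_lit 35, nat_lit 27], (nat_lit 6623)), ((nat_lit 2766), [nat_lit 8, nat_lit 3, nat_lit 4, nat_lit 7, nat_lit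 6, nat_lit 1, nat_lit 2, nat_lit 3, nat_lit 4, nat_lit 7, nat_lit 2, nat_lit 3, nat_lit 1], [nat_lit 0, nat_lit 37, nat_lit 16, nat_lit 27], (nat_lit 7057)), ((nat_lit 2810), [nat_lit 7, nat_lit 4, nat_lit 7, nat_lit 5, nat_lit 2, nat_lit 3, nat_lit 4, nat_lit 7, nat_lit 3, nat_lit 2, nat_lit 3, nat_lit 1], [nat_lit 25, nat_lit 1, nat_lit 36, nat_lit 33, nat_lit 11, nat_lit 27], (nat_lit 3969)), ((nat_lit 2822), [nat_lit 8, nat_lit 4, nat_lit 7, nat_lit 5, nat_lit 0, nat_lit 1, nat_lit 2, nat_lit 3, nat_lit 4, nat_lit 8, nat_lit 1, nat_lit 2, nat_lit 3, nat_lit 0, nat_lit 1], [nat_lit 26, nat_lit 2, nat_lit 33, nat_lit 27], (nat_lit 11039)), ((nat_lit 3046), [nat_lit 5, nat_lit 8, nat_lit 4, nat_lit 7, nat_lit 3, nat_lit 4, nat_lit 8, nat_lit 2, nat_lit 3, nat_lit 4, nat_lit 7, nat_lit 2, nat_lit 3, nat_lit 0, nat_lit 1], [nat_lit 16, nat_lit 0, nat_lit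 27, nat_lit 15], (nat_lit 12349)), ((nat_lit 3030), [nat_lit 7, nat_lit 4, nat_lit 8, nat_lit 8, nat_lit 0, nat_lit 1, nat_lit 2, nat_lit 3, nat_lit 4, nat_lit 8, nat_lit 1, nat_lit 2, nat_lit 3, nat_lit 0, nat_lit 1], [nat_lit 5, nat_lit 14, nat_lit 18, nat_lit 35, nat_lit 11, nat_lit 27], (nat_lit 11050)), ((nat_lit 2762), [nat_lit 2, nat_lit 3, nat_lit 1, nat_lit 2, nat_lit 3, nat_lit 4, nat_lit 8, nat_lit 1, nat_lit 2, nat_lit 3, nat_lit 4, nat_lit 3, nat_lit 2, nat_lit 3, nat_lit 1], [nat_lit 5, nat_lit 16, nat_lit 2, nat_lit 15, nat_lit 18, nat_lit 11], (nat_lit 12541)), ((nat_lit 2824), [nat_lit 7, nat_lit 0, nat_lit 1, nat_lit 2, nat_lit 3, nat_lit 4, nat_lit 7, nat_lit 4, nat_lit 3, nat_lit 2, nat_lit 3, nat_lit 1], [nat_lit 14, nat_lit 0, nat_lit 25, nat_lit 35, nat_lit 27], (nat_lit 3796)), ((nat_lit 3052), [nat_lit 3, nat_lit 4, nat_lit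 8, nat_lit 2, nat_lit 3, nat_lit 4, nat_lit 7, nat_lit 4, nat_lit 3, nat_lit 2, nat_lit 3, nat_lit 1], [nat_lit 14, nat_lit 37, nat_lit 15, nat_lit 11], (nat_lit 3815)), ((nat_lit 3024), [nat_lit 3, nat_lit 4, nat_lit 8, nat_lit 2, nat_lit 3, nat_lit 4, nat_lit 7, nat_lit 2, nat_lit 3, nat_lit 4, nat_lit 8, nat_lit 2, nat_lit 3, nat_lit 1], [nat_lit 15, nat_lit 0, nat_lit 34, nat_lit 24, nat_lit 17], (nat_lit 10571)), ((nat_lit 2820), [nat_lit 7, nat_lit 2, nat_lit 3, nat_lit 4, nat_lit 8, nat_lit 8, nat_lit 1, nat_lit 2, nat_lit 3, nat_lit 4, nat_lit 7, nat_lit 2, nat_lit 3, nat_lit 1], [nat_lit 24, nat_lit 0, nat_lit 25, nat_lit 18, nat_lit 16], (nat_lit 10518))] m5_6_1 m5_6_2) = 0 := by decide +kernel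
theorem e5_6_3 : dt.run q (fun c => c.edges (SP THn.T THn.Rl (nat_lit 15)) (nat_lit 4429) THn.T.n (nat_lit 5) (nat_lit 6)
  [((nat_lit 2974), [nat_lit 8, nat_lit 3, nat_lit 1, nat_lit 2, nat_lit 3, nat_lit 4, nat_lit 7, nat_lit 2, nat_lit 3, nat_lit 4, nat_lit 7, nat_lit 3, nat_lit 2, nat_lit 3, nat_lit 1], [nat_lit 26, nat_lit 24, nat_lit 0, nat_lit 37, nat_lit 34], (nat_lit 13552)), ((nat_lit 3032), [nat_lit 4, nat_lit 7, nat_lit 4, nat_lit 3, nat_lit 1, nat_lit 2, nat_lit 3, nat_lit 4, nat_lit 7, nat_lit 2, nat_lit 3, nat_lit 4, nat_lit 2, nat_lit 3, nat_lit 1], [nat_lit 16, nat_lit 2, nat_lit 36, nat_lit 32], (nat_lit 13838)), ((nat_lit 2938), [nat_lit 8, nat_lit 8, nat_lit 1, nat_lit 2, nat_lit 3, nat_lit 4, nat_lit 8, nat_lit 0, nat_lit 1, nat_lit 2, nat_lit 3, nat_lit 4, nat_lit 2, nat_lit 3, nat_lit 1], [nat_lit 10, nat_lit 10, nat_lit 0, nat_lit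 34, nat_lit 37, nat_lit 11], (nat_lit 13590)), ((nat_lit 3082), [nat_lit 8, nat_lit 3, nat_lit 2, nat_lit 3, nat_lit 1, nat_lit 2, nat_lit 3, nat_lit 4, nat_lit 8, nat_lit 3, nat_lit 4, nat_lit 3, nat_lit 2, nat_lit 3, nat_lit 0, nat_lit 1], [nat_lit 5, nat_lit 2, nat_lit 37, nat_lit 32, nat_lit 11], (nat_lit 14878)), ((nat_lit 2924), [nat_lit 8, nat_lit 8, nat_lit 2, nat_lit 3, nat_lit 4, nat_lit 8, nat_lit 2, nat_lit 3, nat_lit 4, nat_lit 8, nat_lit 3, nat_lit 2, nat_lit 3, nat_lit 1], [nat_lit 1, nat_lit 16, nat_lit 18, nat_lit 26], (nat_lit 9390)), ((nat_lit 2970), [nat_lit 7, nat_lit 7, nat_lit 4, nat_lit 8, nat_lit 3, nat_lit 4, nat_lit 7, nat_lit 1, nat_lit 2, nat_lit 3, nat_lit 4, nat_lit 7, nat_lit 2, nat_lit 3, nat_lit 1], [nat_lit 24, nat_lit 1, nat_lit 27, nat_lit 16], (nat_lit 14567)), ((nat_lit 2976), [nat_lit 0, nat_lit 1, nat_lit 2,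 nat_lit 3, nat_lit 4, nat_lit 8, nat_lit 4, nat_lit 8, nat_lit 3, nat_lit 4, nat_lit 2, nat_lit 3, nat_lit 0, nat_lit 1], [nat_lit 1, nat_lit 24, nat_lit 0, nat_lit 16, nat_lit 32, nat_lit 15], (nat_lit 8243)), ((nat_lit 2802), [nat_lit 8, nat_lit 8, nat_lit 2, nat_lit 3, nat_lit 4, nat_lit 8, nat_lit 2, nat_lit 3, nat_lit 4, nat_lit 8, nat_lit 3, nat_lit 2, nat_lit 3, nat_lit 0, nat_lit 1], [nat_lit 24, nat_lit 0, nat_lit 37, nat_lit 24, nat_lit 11, nat_lit 26], (nat_lit 11481)), ((nat_lit 2698), [nat_lit 8, nat_lit 0, nat_lit 1, nat_lit 2, nat_lit 3, nat_lit 4, nat_lit 8, nat_lit 6, nat_lit 2, nat_lit 3, nat_lit 4, nat_lit 8, nat_lit 2, nat_lit 3, nat_lit 0, nat_lit 1], [nat_lit 0, nat_lit 25, nat_lit 18, nat_lit 18], (nat_lit 15479)), ((nat_lit 2950), [nat_lit 7, nat_lit 6, nat_lit 0, nat_lit 1, nat_lit 2, nat_lit 3, nat_lit 4, nat_lit 7, nat_lit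 1, nat_lit 2, nat_lit 3, nat_lit 4, nat_lit 2, nat_lit 3, nat_lit 1], [nat_lit 25, nat_lit 14, nat_lit 0, nat_lit 18, nat_lit 15, nat_lit 26], (nat_lit 13672)), ((nat_lit 2730), [nat_lit 7, nat_lit 6, nat_lit 3, nat_lit 1, nat_lit 2, nat_lit 3, nat_lit 4, nat_lit 8, nat_lit 3, nat_lit 4, nat_lit 2, nat_lit 3, nat_lit 1], [nat_lit 5, nat_lit 0, nat_lit 34, nat_lit 37, nat_lit 26], (nat_lit 6593)), ((nat_lit 2832), [nat_lit 4, nat_lit 8, nat_lit 8, nat_lit 3, nat_lit 4, nat_lit 7, nat_lit 2, nat_lit 3, nat_lit 4, nat_lit 2, nat_lit 3, nat_lit 0, nat_lit 1], [nat_lit 26, nat_lit 16, nat_lit 11], (nat_lit 5359)), ((nat_lit 3018), [nat_lit 3, nat_lit 2, nat_lit 3, nat_lit 4, nat_lit 7, nat_lit 3, nat_lit 4, nat_lit 8, nat_lit 2, nat_lit 3, nat_lit 4, nat_lit 3, nat_lit 2, nat_lit 3, nat_lit 1], [nat_lit 25, nat_lit 1, nat_lit 17, nat_lit 16], (nat_lit 12649)),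 ((nat_lit 2758), [nat_lit 7, nat_lit 6, nat_lit 3, nat_lit 4, nat_lit 7, nat_lit 2, nat_lit 3, nat_lit 4, nat_lit 3, nat_lit 2, nat_lit 3, nat_lit 0, nat_lit 1], [nat_lit 18, nat_lit 15, nat_lit 0, nat_lit 33, nat_lit 35, nat_lit 11, nat_lit 26], (nat_lit 5001)), ((nat_lit 2778), [nat_lit 6, nat_lit 4, nat_lit 7, nat_lit 2, nat_lit 3, nat_lit 4, nat_lit 7, nat_lit 1, nat_lit 2, nat_lit 3, nat_lit 4, nat_lit 7, nat_lit 2, nat_lit 3, nat_lit 1], [nat_lit 26, nat_lit 2, nat_lit 0, nat_lit 24, nat_lit 37, nat_lit 27], (nat_lit 14555)), ((nat_lit 2858), [nat_lit 8, nat_lit 4, nat_lit 8, nat_lit 3, nat_lit 4, nat_lit 8, nat_lit 1, nat_lit 2, nat_lit 3, nat_lit 4, nat_lit 8, nat_lit 4, nat_lit 2, nat_lit 3, nat_lit 1], [nat_lit 1, nat_lit 24, nat_lit 0, nat_lit 35, nat_lit 35], (nat_lit 14207)), ((nat_lit 2940), [nat_lit 7, nat_lit 1, nat_lit 2, nat_lit 3,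 nat_lit 4, nat_lit 8, nat_lit 1, nat_lit 2, nat_lit 3, nat_lit 4, nat_lit 2, nat_lit 3, nat_lit 0, nat_lit 1], [nat_lit 15, nat_lit 2, nat_lit 33, nat_lit 18, nat_lit 11], (nat_lit 8066)), ((nat_lit 3038), [nat_lit 7, nat_lit 3, nat_lit 4, nat_lit 7, nat_lit 7, nat_lit 3, nat_lit 2, nat_lit 3, nat_lit 4, nat_lit 7, nat_lit 3, nat_lit 2, nat_lit 3, nat_lit 1], [nat_lit 10, nat_lit 0, nat_lit 33, nat_lit 24, nat_lit 11, nat_lit 27], (nat_lit 9618)), ((nat_lit 2854), [nat_lit 3, nat_lit 2, nat_lit 3, nat_lit 4, nat_lit 7, nat_lit 5, nat_lit 1, nat_lit 2, nat_lit 3, nat_lit 4, nat_lit 8, nat_lit 3, nat_lit 2, nat_lit 3, nat_lit 0, nat_lit 1], [nat_lit 25, nat_lit 2, nat_lit 0, nat_lit 33, nat_lit 33, nat_lit 11, nat_lit 26], (nat_lit 15037)), ((nat_lit 2888), [nat_lit 4, nat_lit 7, nat_lit 6, nat_lit 1, nat_lit 2, nat_lit 3, nat_lit 4, nat_lit 7, nat_lit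 2, nat_lit 3, nat_lit 4, nat_lit 2, nat_lit 3, nat_lit 1], [nat_lit 14, nat_lit 0, nat_lit 24, nat_lit 18, nat_lit 16, nat_lit 26], (nat_lit 9954)), ((nat_lit 2866), [nat_lit 7, nat_lit 6, nat_lit 4, nat_lit 7, nat_lit 2, nat_lit 3, nat_lit 4, nat_lit 8, nat_lit 2, nat_lit 3, nat_lit 4, nat_lit 2, nat_lit 3, nat_lit 1], [nat_lit 5, nat_lit 33, nat_lit 15, nat_lit 27], (nat_lit 9900)), ((nat_lit 2856), [nat_lit 8, nat_lit 5, nat_lit 4, nat_lit 8, nat_lit 3, nat_lit 1, nat_lit 2, nat_lit 3, nat_lit 4, nat_lit 7, nat_lit 3, nat_lit 4, nat_lit 2, nat_lit 3, nat_lit 0, nat_lit 1], [nat_lit 1, nat_lit 1, nat_lit 26, nat_lit 15, nat_lit 15], (nat_lit 15375)), ((nat_lit 2836), [nat_lit 4, nat_lit 7, nat_lit 5, nat_lit 3, nat_lit 4, nat_lit 7, nat_lit 2, nat_lit 3, nat_lit 4, nat_lit 2, nat_lit 3, nat_lit 0, nat_lit 1], [nat_lit 17, nat_lit 2, nat_lit 0, nat_lit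 33, nat_lit 37, nat_lit 26], (nat_lit 5353)), ((nat_lit 2826), [nat_lit 7, nat_lit 6, nat_lit 0, nat_lit 1, nat_lit 2, nat_lit 3, nat_lit 4, nat_lit 7, nat_lit 2, nat_lit 3, nat_lit 4, nat_lit 2, nat_lit 3, nat_lit 1], [nat_lit 24, nat_lit 16, nat_lit 0, nat_lit 27, nat_lit 24, nat_lit 11, nat_lit 27], (nat_lit 9929)), ((nat_lit 2998), [nat_lit 2, nat_lit 3, nat_lit 4, nat_lit 7, nat_lit 5, nat_lit 2, nat_lit 3, nat_lit 4, nat_lit 7, nat_lit 2, nat_lit 3, nat_lit 4, nat_lit 8, nat_lit 2, nat_lit 3, nat_lit 1], [nat_lit 17, nat_lit 2, nat_lit 0, nat_lit 37, nat_lit 15, nat_lit 11, nat_lit 26], (nat_lit 16753)), ((nat_lit 2902), [nat_lit 8, nat_lit 6, nat_lit 3, nat_lit 0, nat_lit 1, nat_lit 2, nat_lit 3, nat_lit 4, nat_lit 7, nat_lit 3, nat_lit 2, nat_lit 3, nat_lit 1], [nat_lit 24, nat_lit 0, nat_lit 16, nat_lit 18, nat_lit 15], (nat_lit 6183)), ((nat_lit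 2966), [nat_lit 7, nat_lit 3, nat_lit 2, nat_lit 3, nat_lit 4, nat_lit 7, nat_lit 3, nat_lit 4, nat_lit 8, nat_lit 4, nat_lit 2, nat_lit 3, nat_lit 1], [nat_lit 11, nat_lit 37], (nat_lit 6789)), ((nat_lit 2732), [nat_lit 7, nat_lit 3, nat_lit 4, nat_lit 2, nat_lit 3, nat_lit 1, nat_lit 2, nat_lit 3, nat_lit 4, nat_lit 8, nat_lit 4, nat_lit 3, nat_lit 2, nat_lit 3, nat_lit 1], [nat_lit 24, nat_lit 15, nat_lit 0, nat_lit 15, nat_lit 18, nat_lit 26], (nat_lit 12873)), ((nat_lit 3042), [nat_lit 7, nat_lit 5, nat_lit 1, nat_lit 2, nat_lit 3, nat_lit 4, nat_lit 7, nat_lit 0, nat_lit 1, nat_lit 2, nat_lit 3, nat_lit 4, nat_lit 3, nat_lit 2, nat_lit 3, nat_lit 1], [nat_lit 24, nat_lit 15, nat_lit 0, nat_lit 15, nat_lit 27], (nat_lit 15717)), ((nat_lit 2668), [nat_lit 8, nat_lit 8, nat_lit 2, nat_lit 3, nat_lit 1, nat_lit 2, nat_lit 3, nat_lit 4, nat_lit 7,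 nat_lit 3, nat_lit 2, nat_lit 3, nat_lit 0, nat_lit 1], [nat_lit 25, nat_lit 16, nat_lit 0, nat_lit 33, nat_lit 11, nat_lit 16, nat_lit 27], (nat_lit 7932)), ((nat_lit 3004), [nat_lit 4, nat_lit 8, nat_lit 2, nat_lit 3, nat_lit 1, nat_lit 2, nat_lit 3, nat_lit 4, nat_lit 8, nat_lit 4, nat_lit 3, nat_lit 2, nat_lit 3, nat_lit 1], [nat_lit 10, nat_lit 10, nat_lit 0, nat_lit 33, nat_lit 27], (nat_lit 9072)), ((nat_lit 2904), [nat_lit 4, nat_lit 8, nat_lit 6, nat_lit 3, nat_lit 0, nat_lit 1, nat_lit 2, nat_lit 3, nat_lit 4, nat_lit 7, nat_lit 3, nat_lit 2, nat_lit 3, nat_lit 1], [nat_lit 24, nat_lit 15, nat_lit 0, nat_lit 17, nat_lit 24], (nat_lit 9458)), ((nat_lit 3076), [nat_lit 8, nat_lit 2, nat_lit 3, nat_lit 4, nat_lit 8, nat_lit 3, nat_lit 4, nat_lit 7, nat_lit 1, nat_lit 2, nat_lit 3, nat_lit 4, nat_lit 2, nat_lit 3, nat_lit 0, nat_lit 1], [nat_lit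 24, nat_lit 15, nat_lit 0, nat_lit 32, nat_lit 15], (nat_lit 15290)), ((nat_lit 3050), [nat_lit 2, nat_lit 3, nat_lit 4, nat_lit 8, nat_lit 2, nat_lit 3, nat_lit 4, nat_lit 7, nat_lit 4, nat_lit 3, nat_lit 2, nat_lit 3, nat_lit 1], [nat_lit 14, nat_lit 15, nat_lit 17, nat_lit 11], (nat_lit 6009)), ((nat_lit 2770), [nat_lit 7, nat_lit 1, nat_lit 2, nat_lit 3, nat_lit 4, nat_lit 8, nat_lit 2, nat_lit 3, nat_lit 4, nat_lit 7, nat_lit 2, nat_lit 3, nat_lit 0, nat_lit 1], [nat_lit 16, nat_lit 2, nat_lit 18, nat_lit 35, nat_lit 15], (nat_lit 8616)), ((nat_lit 2994), [nat_lit 3, nat_lit 0, nat_lit 1, nat_lit 2, nat_lit 3, nat_lit 4, nat_lit 8, nat_lit 4, nat_lit 8, nat_lit 4, nat_lit 3, nat_lit 2, nat_lit 3, nat_lit 1], [nat_lit 16, nat_lit 0, nat_lit 33, nat_lit 35, nat_lit 11], (nat_lit 9119)), ((nat_lit 2726), [nat_lit 8, nat_lit 8, nat_lit 2, nat_lit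 3, nat_lit 0, nat_lit 1, nat_lit 2, nat_lit 3, nat_lit 4, nat_lit 7, nat_lit 3, nat_lit 2, nat_lit 3, nat_lit 0, nat_lit 1], [nat_lit 11, nat_lit 5, nat_lit 2, nat_lit 35, nat_lit 33, nat_lit 11, nat_lit 27], (nat_lit 11523)), ((nat_lit 2768), [nat_lit 8, nat_lit 3, nat_lit 4, nat_lit 7, nat_lit 5, nat_lit 2, nat_lit 3, nat_lit 4, nat_lit 7, nat_lit 3, nat_lit 2, nat_lit 3, nat_lit 1], [nat_lit 5, nat_lit 2, nat_lit 0, nat_lit 35, nat_lit 16, nat_lit 16, nat_lit 26], (nat_lit 6303)), ((nat_lit 3014), [nat_lit 5, nat_lit 8, nat_lit 2, nat_lit 3, nat_lit 1, nat_lit 2, nat_lit 3, nat_lit 4, nat_lit 7, nat_lit 2, nat_lit 3, nat_lit 4, nat_lit 2, nat_lit 3, nat_lit 1], [nat_lit 25, nat_lit 0, nat_lit 27, nat_lit 24, nat_lit 27], (nat_lit 13831)), ((nat_lit 2962), [nat_lit 8, nat_lit 8, nat_lit 4, nat_lit 8, nat_lit 3, nat_lit 4, nat_lit 8, nat_lit 0, nat_lit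 1, nat_lit 2, nat_lit 3, nat_lit 4, nat_lit 3, nat_lit 2, nat_lit 3, nat_lit 1], [nat_lit 16, nat_lit 2, nat_lit 36, nat_lit 32, nat_lit 26], (nat_lit 15712)), ((nat_lit 2834), [nat_lit 8, nat_lit 6, nat_lit 4, nat_lit 8, nat_lit 2, nat_lit 3, nat_lit 4, nat_lit 7, nat_lit 1, nat_lit 2, nat_lit 3, nat_lit 4, nat_lit 2, nat_lit 3, nat_lit 1], [nat_lit 5, nat_lit 0, nat_lit 33, nat_lit 16, nat_lit 26], (nat_lit 13700)), ((nat_lit 2886), [nat_lit 8, nat_lit 5, nat_lit 0, nat_lit 1, nat_lit 2, nat_lit 3, nat_lit 4, nat_lit 7, nat_lit 2, nat_lit 3, nat_lit 4, nat_lit 8, nat_lit 2, nat_lit 3, nat_lit 1], [nat_lit 25, nat_lit 16, nat_lit 0, nat_lit 36, nat_lit 17, nat_lit 27], (nat_lit 14390)), ((nat_lit 2690), [nat_lit 1, nat_lit 2, nat_lit 3, nat_lit 4, nat_lit 8, nat_lit 8, nat_lit 1, nat_lit 2, nat_lit 3, nat_lit 4, nat_lit 8, nat_lit 3, nat_lit 2, nat_lit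 3, nat_lit 1], [nat_lit 17, nat_lit 2, nat_lit 0, nat_lit 34, nat_lit 32, nat_lit 27], (nat_lit 13211)), ((nat_lit 2960), [nat_lit 8, nat_lit 1, nat_lit 2, nat_lit 3, nat_lit 4, nat_lit 8, nat_lit 1, nat_lit 2, nat_lit 3, nat_lit 4, nat_lit 7, nat_lit 2, nat_lit 3, nat_lit 1], [nat_lit 24, nat_lit 0, nat_lit 37, nat_lit 11, nat_lit 17, nat_lit 26], (nat_lit 10694)), ((nat_lit 2942), [nat_lit 0, nat_lit 1, nat_lit 2, nat_lit 3, nat_lit 4, nat_lit 8, nat_lit 2, nat_lit 3, nat_lit 4, nat_lit 8, nat_lit 3, nat_lit 2, nat_lit 3, nat_lit 1], [nat_lit 14, nat_lit 15, nat_lit 0, nat_lit 24, nat_lit 11, nat_lit 26], (nat_lit 9382)), ((nat_lit 2870), [nat_lit 7, nat_lit 2, nat_lit 3, nat_lit 1, nat_lit 2, nat_lit 3, nat_lit 4, nat_lit 8, nat_lit 3, nat_lit 4, nat_lit 2, nat_lit 3, nat_lit 1], [nat_lit 25, nat_lit 1, nat_lit 17, nat_lit 17, nat_lit 11, nat_lit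 27], (nat_lit 6590)), ((nat_lit 3028), [nat_lit 8, nat_lit 8, nat_lit 3, nat_lit 4, nat_lit 8, nat_lit 2, nat_lit 3, nat_lit 1, nat_lit 2, nat_lit 3, nat_lit 4, nat_lit 8, nat_lit 3, nat_lit 2, nat_lit 3, nat_lit 1], [nat_lit 24, nat_lit 2, nat_lit 15, nat_lit 18, nat_lit 16], (nat_lit 16192)), ((nat_lit 2738), [nat_lit 4, nat_lit 8, nat_lit 3, nat_lit 4, nat_lit 7, nat_lit 6, nat_lit 2, nat_lit 3, nat_lit 4, nat_lit 7, nat_lit 3, nat_lit 2, nat_lit 3, nat_lit 1], [nat_lit 1, nat_lit 14, nat_lit 26, nat_lit 34], (nat_lit 9622)), ((nat_lit 2872), [nat_lit 7, nat_lit 6, nat_lit 2, nat_lit 3, nat_lit 4, nat_lit 8, nat_lit 2, nat_lit 3, nat_lit 4, nat_lit 7, nat_lit 2, nat_lit 3, nat_lit 1], [nat_lit 2, nat_lit 33, nat_lit 27], (nat_lit 7126)), ((nat_lit 2736), [nat_lit 7, nat_lit 2, nat_lit 3, nat_lit 4, nat_lit 7, nat_lit 7, nat_lit 2, nat_lit 3, nat_lit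 4, nat_lit 7, nat_lit 2, nat_lit 3, nat_lit 1], [nat_lit 1, nat_lit 5, nat_lit 35, nat_lit 17, nat_lit 27], (nat_lit 7186)), ((nat_lit 2846), [nat_lit 2, nat_lit 3, nat_lit 4, nat_lit 8, nat_lit 4, nat_lit 8, nat_lit 2, nat_lit 3, nat_lit 4, nat_lit 3, nat_lit 2, nat_lit 3, nat_lit 0, nat_lit 1], [nat_lit 34, nat_lit 16, nat_lit 26], (nat_lit 7638)), ((nat_lit 3026), [nat_lit 8, nat_lit 4, nat_lit 7, nat_lit 5, nat_lit 3, nat_lit 4, nat_lit 7, nat_lit 1, nat_lit 2, nat_lit 3, nat_lit 4, nat_lit 3, nat_lit 2, nat_lit 3, nat_lit 1], [nat_lit 25, nat_lit 0, nat_lit 17, nat_lit 11, nat_lit 17], (nat_lit 12582)), ((nat_lit 3022), [nat_lit 0, nat_lit 1, nat_lit 2, nat_lit 3, nat_lit 4, nat_lit 8, nat_lit 1, nat_lit 2, nat_lit 3, nat_lit 4, nat_lit 8, nat_lit 3, nat_lit 2, nat_lit 3, nat_lit 1], [nat_lit 24, nat_lit 2, nat_lit 0, nat_lit 34, nat_lit 32, nat_lit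 11, nat_lit 26], (nat_lit 13186)), ((nat_lit 2980), [nat_lit 4, nat_lit 7, nat_lit 5, nat_lit 2, nat_lit 3, nat_lit 4, nat_lit 8, nat_lit 0, nat_lit 1, nat_lit 2, nat_lit 3, nat_lit 4, nat_lit 2, nat_lit 3, nat_lit 1], [nat_lit 1, nat_lit 1, nat_lit 24, nat_lit 37, nat_lit 26], (nat_lit 13591)), ((nat_lit 2772), [nat_lit 3, nat_lit 0, nat_lit 1, nat_lit 2, nat_lit 3, nat_lit 4, nat_lit 8, nat_lit 4, nat_lit 8, nat_lit 4, nat_lit 3, nat_lit 2, nat_lit 3, nat_lit 0, nat_lit 1], [nat_lit 1, nat_lit 14, nat_lit 18, nat_lit 16, nat_lit 11, nat_lit 27], (nat_lit 11335)), ((nat_lit 3016), [nat_lit 5, nat_lit 7, nat_lit 3, nat_lit 1, nat_lit 2, nat_lit 3, nat_lit 4, nat_lit 7, nat_lit 2, nat_lit 3, nat_lit 4, nat_lit 2, nat_lit 3, nat_lit 1], [nat_lit 24, nat_lit 15, nat_lit 0, nat_lit 24, nat_lit 37], (nat_lit 9952)), ((nat_lit 2956), [nat_lit 6, nat_lit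 3, nat_lit 4, nat_lit 7, nat_lit 4, nat_lit 7, nat_lit 0, nat_lit 1, nat_lit 2, nat_lit 3, nat_lit 4, nat_lit 7, nat_lit 2, nat_lit 3, nat_lit 0, nat_lit 1], [nat_lit 25, nat_lit 14, nat_lit 0, nat_lit 18, nat_lit 16, nat_lit 11], (nat_lit 15555)), ((nat_lit 3080), [nat_lit 4, nat_lit 7, nat_lit 5, nat_lit 3, nat_lit 4, nat_lit 7, nat_lit 1, nat_lit 2, nat_lit 3, nat_lit 4, nat_lit 8, nat_lit 3, nat_lit 2, nat_lit 3, nat_lit 1], [nat_lit 24, nat_lit 16, nat_lit 0, nat_lit 26, nat_lit 15, nat_lit 26], (nat_lit 13214)), ((nat_lit 3006), [nat_lit 4, nat_lit 8, nat_lit 3, nat_lit 4, nat_lit 7, nat_lit 1, nat_lit 2, nat_lit 3, nat_lit 4, nat_lit 8, nat_lit 3, nat_lit 4, nat_lit 2, nat_lit 3, nat_lit 1], [nat_lit 36, nat_lit 25, nat_lit 26], (nat_lit 13996)), ((nat_lit 2996), [nat_lit 5, nat_lit 8, nat_lit 4, nat_lit 7, nat_lit 3, nat_lit 4, nat_lit 8, nat_lit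 2, nat_lit 3, nat_lit 4, nat_lit 8, nat_lit 4, nat_lit 2, nat_lit 3, nat_lit 1], [nat_lit 24, nat_lit 16, nat_lit 0, nat_lit 17, nat_lit 25, nat_lit 15, nat_lit 27], (nat_lit 14228))] m5_6_2 m5_6_3) = 0 := by decide +kernel
theorem e5_6_4 : reachX THn.T (nat_lit 1402808002635959133) (S5.map Prod.snd) [nat_lit 0, nat_lit 1, nat_lit 0] m5_6_3 = m5_6_4 := by decide +kernel
theorem e5_7_1 : dt.run q (fun c => c.edges (SP THn.T THn.Rl (nat_lit 15)) (nat_lit 4429) THn.T.n (nat_lit 5) (nat_lit 7)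
  [((nat_lit 3124), [nat_lit 5, nat_lit 7, nat_lit 2, nat_lit 3, nat_lit 4, nat_lit 1, nat_lit 2, nat_lit 3, nat_lit 0, nat_lit 1], [nat_lit 10, nat_lit 10, nat_lit 0, nat_lit 34, nat_lit 16, nat_lit 11, nat_lit 27], (nat_lit 1022)), ((nat_lit 3122), [nat_lit 0, nat_lit 1, nat_lit 2, nat_lit 3, nat_lit 4, nat_lit 8, nat_lit 3, nat_lit 4, nat_lit 2, nat_lit 3, nat_lit 1], [nat_lit 26, nat_lit 34, nat_lit 32, nat_lit 26], (nat_lit 2492)), ((nat_lit 3114), [nat_lit 5, nat_lit 7, nat_lit 3, nat_lit 1, nat_lit 2, nat_lit 3, nat_lit 4, nat_lit 1, nat_lit 2, nat_lit 3, nat_lit 0, nat_lit 1], [nat_lit 25, nat_lit 0, nat_lit 33, nat_lit 36, nat_lit 11], (nat_lit 2877)), ((nat_lit 3112), [nat_lit 8, nat_lit 8, nat_lit 2, nat_lit 3, nat_lit 4, nat_lit 8, nat_lit 1, nat_lit 2, nat_lit 3, nat_lit 0, nat_lit 1], [nat_lit 5, nat_lit 2, nat_lit 0, nat_lit 32, nat_lit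 32, nat_lit 11, nat_lit 26], (nat_lit 1799)), ((nat_lit 3128), [nat_lit 3, nat_lit 2, nat_lit 3, nat_lit 4, nat_lit 8, nat_lit 3, nat_lit 0, nat_lit 1, nat_lit 2, nat_lit 3, nat_lit 4, nat_lit 7, nat_lit 3, nat_lit 2, nat_lit 3, nat_lit 0, nat_lit 1], [nat_lit 5, nat_lit 34, nat_lit 34, nat_lit 15, nat_lit 27], (nat_lit 16943)), ((nat_lit 3126), [nat_lit 4, nat_lit 8, nat_lit 3, nat_lit 4, nat_lit 8, nat_lit 5, nat_lit 1, nat_lit 2, nat_lit 3, nat_lit 4, nat_lit 8, nat_lit 2, nat_lit 3, nat_lit 1], [nat_lit 0, nat_lit 2, nat_lit 15, nat_lit 15, nat_lit 27], (nat_lit 10421))] (nat_lit 0) m5_7_1) = 0 := by decide +kernel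
theorem e5_7_2 : reachX THn.T (nat_lit 3717189487275243564) (S5.map Prod.snd) [nat_lit 0, nat_lit 1, nat_lit 0] m5_7_1 = m5_7_2 := by decide +kernel
theorem e5_8_1 : dt.run q (fun c => c.edges (SP THn.T THn.Rl (nat_lit 15)) (nat_lit 4429) THn.T.n (nat_lit 5) (nat_lit 8)
  [((nat_lit 3261), [nat_lit 6, nat_lit 2, nat_lit 3, nat_lit 0, nat_lit 1, nat_lit 2, nat_lit 3, nat_lit 4, nat_lit 7, nat_lit 3, nat_lit 2, nat_lit 3, nat_lit 1], [nat_lit 17, nat_lit 2, nat_lit 0, nat_lit 15, nat_lit 18, nat_lit 11], (nat_lit 6179)), ((nat_lit 3185), [nat_lit 6, nat_lit 3, nat_lit 1, nat_lit 2, nat_lit 3, nat_lit 4, nat_lit 7, nat_lit 3, nat_lit 2, nat_lit 3, nat_lit 0, nat_lit 1], [nat_lit 5, nat_lit 37, nat_lit 18], (nat_lit 3281)), ((nat_lit 3153), [nat_lit 6, nat_lit 3, nat_lit 1, nat_lit 2, nat_lit 3, nat_lit 4, nat_lit 8, nat_lit 3, nat_lit 2, nat_lit 3, nat_lit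 1], [nat_lit 15, nat_lit 5, nat_lit 16, nat_lit 26], (nat_lit 2308)), ((nat_lit 3255), [nat_lit 6, nat_lit 4, nat_lit 8, nat_lit 3, nat_lit 0, nat_lit 1], [nat_lit 16, nat_lit 0, nat_lit 17, nat_lit 17, nat_lit 11, nat_lit 27], (nat_lit 155)), ((nat_lit 3171), [nat_lit 6, nat_lit 8, nat_lit 2, nat_lit 3, nat_lit 0, nat_lit 1], [nat_lit 5, nat_lit 14, nat_lit 26, nat_lit 16, nat_lit 11], (nat_lit 144)), ((nat_lit 3375), [nat_lit 6, nat_lit 7, nat_lit 3, nat_lit 2, nat_lit 3, nat_lit 1], [nat_lit 25, nat_lit 2, nat_lit 0, nat_lit 27, nat_lit 16, nat_lit 26], (nat_lit 170)), ((nat_lit 3479), [nat_lit 6, nat_lit 7, nat_lit 4, nat_lit 8, nat_lit 3, nat_lit 1], [nat_lit 24, nat_lit 2, nat_lit 0, nat_lit 37, nat_lit 11, nat_lit 17, nat_lit 27], (nat_lit 206)), ((nat_lit 3287), [nat_lit 2, nat_lit 3, nat_lit 4, nat_lit 7, nat_lit 7, nat_lit 0, nat_lit 1, nat_lit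 2, nat_lit 3, nat_lit 4, nat_lit 7, nat_lit 2, nat_lit 3, nat_lit 1], [nat_lit 16, nat_lit 2, nat_lit 32, nat_lit 35], (nat_lit 10671)), ((nat_lit 3136), [nat_lit 3, nat_lit 1, nat_lit 2, nat_lit 3, nat_lit 4, nat_lit 7, nat_lit 1, nat_lit 2, nat_lit 3, nat_lit 0, nat_lit 1], [nat_lit 25, nat_lit 2, nat_lit 0, nat_lit 33, nat_lit 34], (nat_lit 1817)), ((nat_lit 3145), [nat_lit 3, nat_lit 4, nat_lit 8, nat_lit 2, nat_lit 3, nat_lit 0, nat_lit 1], [nat_lit 1, nat_lit 5, nat_lit 26, nat_lit 15, nat_lit 15, nat_lit 26], (nat_lit 252)), ((nat_lit 3399), [nat_lit 3, nat_lit 4, nat_lit 7, nat_lit 5, nat_lit 0, nat_lit 1, nat_lit 2, nat_lit 3, nat_lit 4, nat_lit 8, nat_lit 2, nat_lit 3, nat_lit 1], [nat_lit 5, nat_lit 16, nat_lit 2, nat_lit 33, nat_lit 36, nat_lit 11], (nat_lit 6838)), ((nat_lit 3467), [nat_lit 8, nat_lit 5, nat_lit 4, nat_lit 7, nat_lit 3,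 nat_lit 2, nat_lit 3, nat_lit 4, nat_lit 7, nat_lit 3, nat_lit 2, nat_lit 3, nat_lit 1], [nat_lit 16, nat_lit 0, nat_lit 15, nat_lit 35, nat_lit 26], (nat_lit 6287)), ((nat_lit 3177), [nat_lit 8, nat_lit 4, nat_lit 7, nat_lit 3, nat_lit 1, nat_lit 2, nat_lit 3, nat_lit 4, nat_lit 7, nat_lit 3, nat_lit 2, nat_lit 3, nat_lit 0, nat_lit 1], [nat_lit 2, nat_lit 0, nat_lit 37, nat_lit 15, nat_lit 27], (nat_lit 7947)), ((nat_lit 3259), [nat_lit 6, nat_lit 0, nat_lit 1, nat_lit 2, nat_lit 3, nat_lit 4, nat_lit 7, nat_lit 3, nat_lit 2, nat_lit 3, nat_lit 0, nat_lit 1], [nat_lit 24, nat_lit 15, nat_lit 0, nat_lit 37, nat_lit 18, nat_lit 27], (nat_lit 3276)), ((nat_lit 3323), [nat_lit 2, nat_lit 3, nat_lit 4, nat_lit 7, nat_lit 7, nat_lit 1, nat_lit 2, nat_lit 3, nat_lit 4, nat_lit 7, nat_lit 2, nat_lit 3, nat_lit 1], [nat_lit 24, nat_lit 15, nat_lit 0, nat_lit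 36, nat_lit 32, nat_lit 26], (nat_lit 7099)), ((nat_lit 3339), [nat_lit 6, nat_lit 7, nat_lit 4, nat_lit 7, nat_lit 2, nat_lit 3, nat_lit 0, nat_lit 1], [nat_lit 15, nat_lit 0, nat_lit 27, nat_lit 24, nat_lit 15], (nat_lit 450)), ((nat_lit 3465), [nat_lit 8, nat_lit 2, nat_lit 3, nat_lit 4, nat_lit 3, nat_lit 2, nat_lit 3, nat_lit 1], [nat_lit 15, nat_lit 1, nat_lit 36, nat_lit 25, nat_lit 11], (nat_lit 461)), ((nat_lit 3157), [nat_lit 5, nat_lit 8, nat_lit 4, nat_lit 7, nat_lit 3, nat_lit 0, nat_lit 1, nat_lit 2, nat_lit 3, nat_lit 4, nat_lit 7, nat_lit 3, nat_lit 2, nat_lit 3, nat_lit 0, nat_lit 1], [nat_lit 24, nat_lit 0, nat_lit 34, nat_lit 17, nat_lit 33], (nat_lit 15096)), ((nat_lit 3189), [nat_lit 3, nat_lit 4, nat_lit 8, nat_lit 2, nat_lit 3, nat_lit 4, nat_lit 8, nat_lit 2, nat_lit 3, nat_lit 4, nat_lit 2, nat_lit 3, nat_lit 0, nat_lit 1],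 [nat_lit 15, nat_lit 0, nat_lit 25, nat_lit 15, nat_lit 11], (nat_lit 8130)), ((nat_lit 3419), [nat_lit 7, nat_lit 2, nat_lit 3, nat_lit 4, nat_lit 7, nat_lit 3, nat_lit 0, nat_lit 1, nat_lit 2, nat_lit 3, nat_lit 4, nat_lit 3, nat_lit 2, nat_lit 3, nat_lit 1], [nat_lit 1, nat_lit 14, nat_lit 27, nat_lit 37, nat_lit 26], (nat_lit 12424)), ((nat_lit 3147), [nat_lit 4, nat_lit 8, nat_lit 4, nat_lit 8, nat_lit 3, nat_lit 4, nat_lit 7, nat_lit 1, nat_lit 2, nat_lit 3, nat_lit 4, nat_lit 8, nat_lit 2, nat_lit 3, nat_lit 1], [nat_lit 24, nat_lit 15, nat_lit 0, nat_lit 24, nat_lit 18, nat_lit 18, nat_lit 27], (nat_lit 14334)), ((nat_lit 3391), [nat_lit 6, nat_lit 8, nat_lit 4, nat_lit 8, nat_lit 3, nat_lit 2, nat_lit 3, nat_lit 0, nat_lit 1], [nat_lit 5, nat_lit 2, nat_lit 24, nat_lit 37], (nat_lit 674)), ((nat_lit 3149), [nat_lit 8, nat_lit 5, nat_lit 4,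 nat_lit 7, nat_lit 0, nat_lit 1, nat_lit 2, nat_lit 3, nat_lit 4, nat_lit 7, nat_lit 3, nat_lit 2, nat_lit 3, nat_lit 1], [nat_lit 10, nat_lit 10, nat_lit 0, nat_lit 15, nat_lit 15, nat_lit 15, nat_lit 27], (nat_lit 9489)), ((nat_lit 3223), [nat_lit 7, nat_lit 4, nat_lit 7, nat_lit 3, nat_lit 1, nat_lit 2, nat_lit 3, nat_lit 4, nat_lit 8, nat_lit 3, nat_lit 2, nat_lit 3, nat_lit 1], [nat_lit 1, nat_lit 15, nat_lit 32, nat_lit 15, nat_lit 26], (nat_lit 6067)), ((nat_lit 3407), [nat_lit 8, nat_lit 3, nat_lit 4, nat_lit 8, nat_lit 6, nat_lit 1, nat_lit 2, nat_lit 3, nat_lit 4, nat_lit 8, nat_lit 2, nat_lit 3, nat_lit 1], [nat_lit 25, nat_lit 14, nat_lit 0, nat_lit 16, nat_lit 18, nat_lit 26], (nat_lit 6872)), ((nat_lit 3425), [nat_lit 1, nat_lit 2, nat_lit 3, nat_lit 4, nat_lit 7, nat_lit 2, nat_lit 3, nat_lit 4, nat_lit 8, nat_lit 4, nat_lit 2, nat_lit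 3, nat_lit 0, nat_lit 1], [nat_lit 1, nat_lit 5, nat_lit 34, nat_lit 11, nat_lit 17], (nat_lit 8322)), ((nat_lit 3379), [nat_lit 4, nat_lit 7, nat_lit 3, nat_lit 4, nat_lit 7, nat_lit 3, nat_lit 0, nat_lit 1, nat_lit 2, nat_lit 3, nat_lit 4, nat_lit 7, nat_lit 3, nat_lit 2, nat_lit 3, nat_lit 1], [nat_lit 1, nat_lit 1, nat_lit 17, nat_lit 36, nat_lit 27], (nat_lit 16300)), ((nat_lit 3269), [nat_lit 4, nat_lit 3, nat_lit 1, nat_lit 2, nat_lit 3, nat_lit 4, nat_lit 8, nat_lit 4, nat_lit 8, nat_lit 2, nat_lit 3, nat_lit 1], [nat_lit 16, nat_lit 5, nat_lit 2, nat_lit 11, nat_lit 37, nat_lit 27], (nat_lit 4401)), ((nat_lit 3433), [nat_lit 4, nat_lit 8, nat_lit 8, nat_lit 0, nat_lit 1, nat_lit 2, nat_lit 3, nat_lit 4, nat_lit 8, nat_lit 2, nat_lit 3, nat_lit 0, nat_lit 1], [nat_lit 26, nat_lit 2, nat_lit 36, nat_lit 25, nat_lit 26], (nat_lit 5476)), ((nat_lit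 3439), [nat_lit 7, nat_lit 5, nat_lit 1, nat_lit 2, nat_lit 3, nat_lit 4, nat_lit 8, nat_lit 2, nat_lit 3, nat_lit 0, nat_lit 1], [nat_lit 5, nat_lit 16, nat_lit 2, nat_lit 26, nat_lit 24, nat_lit 11, nat_lit 27], (nat_lit 2084)), ((nat_lit 3197), [nat_lit 7, nat_lit 2, nat_lit 3, nat_lit 4, nat_lit 7, nat_lit 3, nat_lit 0, nat_lit 1, nat_lit 2, nat_lit 3, nat_lit 4, nat_lit 8, nat_lit 3, nat_lit 2, nat_lit 3, nat_lit 1], [nat_lit 16, nat_lit 0, nat_lit 33, nat_lit 11], (nat_lit 16142)), ((nat_lit 3353), [nat_lit 4, nat_lit 8, nat_lit 4, nat_lit 8, nat_lit 3, nat_lit 4, nat_lit 8, nat_lit 2, nat_lit 3, nat_lit 4, nat_lit 7, nat_lit 2, nat_lit 3, nat_lit 1], [nat_lit 26, nat_lit 2, nat_lit 0, nat_lit 34, nat_lit 11, nat_lit 17, nat_lit 26], (nat_lit 10799)), ((nat_lit 3247), [nat_lit 4, nat_lit 8, nat_lit 4, nat_lit 8, nat_lit 3, nat_lit 2, nat_lit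 3, nat_lit 4, nat_lit 7, nat_lit 2, nat_lit 3, nat_lit 4, nat_lit 2, nat_lit 3, nat_lit 1], [nat_lit 5, nat_lit 37, nat_lit 24, nat_lit 26], (nat_lit 13878)), ((nat_lit 3403), [nat_lit 7, nat_lit 4, nat_lit 3, nat_lit 2, nat_lit 3, nat_lit 1, nat_lit 2, nat_lit 3, nat_lit 4, nat_lit 7, nat_lit 4, nat_lit 3, nat_lit 2, nat_lit 3, nat_lit 1], [nat_lit 5, nat_lit 0, nat_lit 27, nat_lit 15, nat_lit 27], (nat_lit 12957)), ((nat_lit 3237), [nat_lit 8, nat_lit 8, nat_lit 3, nat_lit 4, nat_lit 8, nat_lit 3, nat_lit 2, nat_lit 3, nat_lit 0, nat_lit 1], [nat_lit 15, nat_lit 2, nat_lit 35, nat_lit 35, nat_lit 11, nat_lit 27], (nat_lit 1129)), ((nat_lit 3409), [nat_lit 6, nat_lit 7, nat_lit 4, nat_lit 8, nat_lit 3, nat_lit 4, nat_lit 2, nat_lit 3, nat_lit 0, nat_lit 1], [nat_lit 16, nat_lit 2, nat_lit 37, nat_lit 11, nat_lit 15, nat_lit 26], (nat_lit 1179)), ((nat_lit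 3253), [nat_lit 8, nat_lit 4, nat_lit 7, nat_lit 3, nat_lit 1, nat_lit 2, nat_lit 3, nat_lit 4, nat_lit 8, nat_lit 3, nat_lit 2, nat_lit 3, nat_lit 0, nat_lit 1], [nat_lit 1, nat_lit 14, nat_lit 24, nat_lit 37, nat_lit 15, nat_lit 26], (nat_lit 7815)), ((nat_lit 3471), [nat_lit 5, nat_lit 4, nat_lit 8, nat_lit 3, nat_lit 4, nat_lit 7, nat_lit 1, nat_lit 2, nat_lit 3, nat_lit 4, nat_lit 2, nat_lit 3, nat_lit 0, nat_lit 1], [nat_lit 16, nat_lit 5, nat_lit 2, nat_lit 17, nat_lit 16, nat_lit 26], (nat_lit 8106)), ((nat_lit 3283), [nat_lit 2, nat_lit 3, nat_lit 4, nat_lit 8, nat_lit 8, nat_lit 2, nat_lit 3, nat_lit 4, nat_lit 7, nat_lit 2, nat_lit 3, nat_lit 0, nat_lit 1], [nat_lit 5, nat_lit 14, nat_lit 35, nat_lit 27], (nat_lit 5657)), ((nat_lit 3263), [nat_lit 8, nat_lit 5, nat_lit 1, nat_lit 2, nat_lit 3, nat_lit 4, nat_lit 8, nat_lit 1, nat_lit 2,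 nat_lit 3, nat_lit 0, nat_lit 1], [nat_lit 16, nat_lit 2, nat_lit 25, nat_lit 11], (nat_lit 2982)), ((nat_lit 3231), [nat_lit 5, nat_lit 8, nat_lit 0, nat_lit 1, nat_lit 2, nat_lit 3, nat_lit 4, nat_lit 7, nat_lit 1, nat_lit 2, nat_lit 3, nat_lit 0, nat_lit 1], [nat_lit 16, nat_lit 0, nat_lit 37, nat_lit 27], (nat_lit 4862)), ((nat_lit 3475), [nat_lit 2, nat_lit 3, nat_lit 0, nat_lit 1, nat_lit 2, nat_lit 3, nat_lit 4, nat_lit 8, nat_lit 3, nat_lit 4, nat_lit 3, nat_lit 2, nat_lit 3, nat_lit 0, nat_lit 1], [nat_lit 25, nat_lit 14, nat_lit 0, nat_lit 18, nat_lit 35, nat_lit 15], (nat_lit 11237)), ((nat_lit 3493), [nat_lit 7, nat_lit 7, nat_lit 3, nat_lit 2, nat_lit 3, nat_lit 4, nat_lit 7, nat_lit 3, nat_lit 1, nat_lit 2, nat_lit 3, nat_lit 4, nat_lit 3, nat_lit 2, nat_lit 3, nat_lit 1], [nat_lit 17, nat_lit 24, nat_lit 0, nat_lit 26, nat_lit 34], (nat_lit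 15757)), ((nat_lit 3173), [nat_lit 7, nat_lit 3, nat_lit 4, nat_lit 8, nat_lit 2, nat_lit 3, nat_lit 1, nat_lit 2, nat_lit 3, nat_lit 4, nat_lit 8, nat_lit 3, nat_lit 2, nat_lit 3, nat_lit 0, nat_lit 1], [nat_lit 14, nat_lit 0, nat_lit 37, nat_lit 34, nat_lit 24], (nat_lit 15014)), ((nat_lit 3199), [nat_lit 4, nat_lit 7, nat_lit 6, nat_lit 4, nat_lit 7, nat_lit 3, nat_lit 2, nat_lit 3, nat_lit 4, nat_lit 8, nat_lit 3, nat_lit 4, nat_lit 2, nat_lit 3, nat_lit 1], [nat_lit 25, nat_lit 2, nat_lit 0, nat_lit 36, nat_lit 32, nat_lit 11, nat_lit 26], (nat_lit 14076)), ((nat_lit 3327), [nat_lit 2, nat_lit 3, nat_lit 4, nat_lit 8, nat_lit 4, nat_lit 8, nat_lit 3, nat_lit 2, nat_lit 3, nat_lit 1], [nat_lit 16, nat_lit 5, nat_lit 0, nat_lit 18, nat_lit 36, nat_lit 11, nat_lit 26], (nat_lit 1365)), ((nat_lit 3363), [nat_lit 5, nat_lit 2, nat_lit 3, nat_lit 4,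 nat_lit 7, nat_lit 3, nat_lit 1, nat_lit 2, nat_lit 3, nat_lit 4, nat_lit 7, nat_lit 3, nat_lit 2, nat_lit 3, nat_lit 1], [nat_lit 5, nat_lit 0, nat_lit 17, nat_lit 24, nat_lit 27], (nat_lit 13429)), ((nat_lit 3345), [nat_lit 6, nat_lit 7, nat_lit 4, nat_lit 8, nat_lit 0, nat_lit 1, nat_lit 2, nat_lit 3, nat_lit 4, nat_lit 2, nat_lit 3, nat_lit 0, nat_lit 1], [nat_lit 15, nat_lit 5, nat_lit 34, nat_lit 24, nat_lit 17, nat_lit 27], (nat_lit 5266)), ((nat_lit 3365), [nat_lit 8, nat_lit 5, nat_lit 4, nat_lit 7, nat_lit 1, nat_lit 2, nat_lit 3, nat_lit 4, nat_lit 8, nat_lit 2, nat_lit 3, nat_lit 0, nat_lit 1], [nat_lit 5, nat_lit 2, nat_lit 25, nat_lit 35, nat_lit 11], (nat_lit 5514)), ((nat_lit 3395), [nat_lit 6, nat_lit 7, nat_lit 4, nat_lit 7, nat_lit 2, nat_lit 3, nat_lit 4, nat_lit 7, nat_lit 2, nat_lit 3, nat_lit 4, nat_lit 3, nat_lit 2, nat_lit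 3, nat_lit 1], [nat_lit 15, nat_lit 5, nat_lit 24, nat_lit 11, nat_lit 26], (nat_lit 12673)), ((nat_lit 3335), [nat_lit 3, nat_lit 1, nat_lit 2, nat_lit 3, nat_lit 4, nat_lit 8, nat_lit 4, nat_lit 8, nat_lit 3, nat_lit 4, nat_lit 2, nat_lit 3, nat_lit 0, nat_lit 1], [nat_lit 0, nat_lit 2, nat_lit 36, nat_lit 24, nat_lit 15], (nat_lit 8244)), ((nat_lit 3417), [nat_lit 0, nat_lit 1, nat_lit 2, nat_lit 3, nat_lit 4, nat_lit 8, nat_lit 6, nat_lit 0, nat_lit 1, nat_lit 2, nat_lit 3, nat_lit 4, nat_lit 8, nat_lit 2, nat_lit 3, nat_lit 0, nat_lit 1], [nat_lit 11, nat_lit 5, nat_lit 2, nat_lit 32, nat_lit 18, nat_lit 15], (nat_lit 17021)), ((nat_lit 3351), [nat_lit 6, nat_lit 3, nat_lit 4, nat_lit 7, nat_lit 3, nat_lit 1, nat_lit 2, nat_lit 3, nat_lit 4, nat_lit 3, nat_lit 2, nat_lit 3, nat_lit 1], [nat_lit 15, nat_lit 5, nat_lit 32, nat_lit 18, nat_lit 26],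 (nat_lit 5748)), ((nat_lit 3309), [nat_lit 5, nat_lit 7, nat_lit 4, nat_lit 8, nat_lit 1, nat_lit 2, nat_lit 3, nat_lit 4, nat_lit 8, nat_lit 2, nat_lit 3, nat_lit 0, nat_lit 1], [nat_lit 26, nat_lit 2, nat_lit 0, nat_lit 35, nat_lit 36, nat_lit 11], (nat_lit 5502)), ((nat_lit 3401), [nat_lit 3, nat_lit 4, nat_lit 7, nat_lit 5, nat_lit 0, nat_lit 1, nat_lit 2, nat_lit 3, nat_lit 4, nat_lit 7, nat_lit 3, nat_lit 1, nat_lit 2, nat_lit 3, nat_lit 0, nat_lit 1], [nat_lit 5, nat_lit 2, nat_lit 0, nat_lit 15, nat_lit 32, nat_lit 11, nat_lit 27], (nat_lit 14724)), ((nat_lit 3491), [nat_lit 8, nat_lit 5, nat_lit 4, nat_lit 7, nat_lit 3, nat_lit 4, nat_lit 8, nat_lit 2, nat_lit 3, nat_lit 1], [nat_lit 1, nat_lit 33, nat_lit 15, nat_lit 26], (nat_lit 1556)), ((nat_lit 3181), [nat_lit 3, nat_lit 2, nat_lit 3, nat_lit 4, nat_lit 7, nat_lit 7, nat_lit 0, nat_lit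 1, nat_lit 2, nat_lit 3, nat_lit 4, nat_lit 7, nat_lit 2, nat_lit 3, nat_lit 1], [nat_lit 5, nat_lit 2, nat_lit 36, nat_lit 25, nat_lit 11, nat_lit 26], (nat_lit 14509)), ((nat_lit 3389), [nat_lit 0, nat_lit 1, nat_lit 2, nat_lit 3, nat_lit 4, nat_lit 8, nat_lit 4, nat_lit 8, nat_lit 4, nat_lit 2, nat_lit 3, nat_lit 0, nat_lit 1], [nat_lit 15, nat_lit 1, nat_lit 36, nat_lit 25, nat_lit 11], (nat_lit 5458)), ((nat_lit 3265), [nat_lit 5, nat_lit 3, nat_lit 4, nat_lit 7, nat_lit 2, nat_lit 3, nat_lit 0, nat_lit 1, nat_lit 2, nat_lit 3, nat_lit 4, nat_lit 3, nat_lit 2, nat_lit 3, nat_lit 1], [nat_lit 25, nat_lit 1, nat_lit 16, nat_lit 25, nat_lit 27], (nat_lit 12401)), ((nat_lit 3321), [nat_lit 4, nat_lit 8, nat_lit 4, nat_lit 8, nat_lit 2, nat_lit 3, nat_lit 4, nat_lit 8, nat_lit 1, nat_lit 2, nat_lit 3, nat_lit 4, nat_lit 2, nat_lit 3, nat_lit 0, nat_lit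 1], [nat_lit 11, nat_lit 5, nat_lit 2, nat_lit 24, nat_lit 26], (nat_lit 15259)), ((nat_lit 3243), [nat_lit 7, nat_lit 2, nat_lit 3, nat_lit 4, nat_lit 7, nat_lit 3, nat_lit 4, nat_lit 1, nat_lit 2, nat_lit 3, nat_lit 0, nat_lit 1], [nat_lit 11, nat_lit 5, nat_lit 2, nat_lit 16, nat_lit 16, nat_lit 11, nat_lit 27], (nat_lit 2921)), ((nat_lit 3138), [nat_lit 6, nat_lit 8, nat_lit 3, nat_lit 1, nat_lit 2, nat_lit 3, nat_lit 4, nat_lit 8, nat_lit 4, nat_lit 1, nat_lit 2, nat_lit 3, nat_lit 0, nat_lit 1], [nat_lit 25, nat_lit 14, nat_lit 0, nat_lit 24, nat_lit 37, nat_lit 17, nat_lit 27], (nat_lit 7403)), ((nat_lit 3221), [nat_lit 6, nat_lit 1, nat_lit 2, nat_lit 3, nat_lit 4, nat_lit 8, nat_lit 4, nat_lit 3, nat_lit 1, nat_lit 2, nat_lit 3, nat_lit 0, nat_lit 1], [nat_lit 14, nat_lit 32, nat_lit 24, nat_lit 11, nat_lit 26], (nat_lit 4558)), ((nat_lit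 3215), [nat_lit 8, nat_lit 4, nat_lit 8, nat_lit 5, nat_lit 3, nat_lit 1, nat_lit 2, nat_lit 3, nat_lit 4, nat_lit 7, nat_lit 3, nat_lit 2, nat_lit 3, nat_lit 0, nat_lit 1], [nat_lit 5, nat_lit 16, nat_lit 2, nat_lit 37, nat_lit 34, nat_lit 25, nat_lit 26], (nat_lit 11578)), ((nat_lit 3385), [nat_lit 7, nat_lit 0, nat_lit 1, nat_lit 2, nat_lit 3, nat_lit 4, nat_lit 8, nat_lit 3, nat_lit 1, nat_lit 2, nat_lit 3, nat_lit 0, nat_lit 1], [nat_lit 5, nat_lit 2, nat_lit 0, nat_lit 32, nat_lit 11, nat_lit 27], (nat_lit 4584)), ((nat_lit 3413), [nat_lit 4, nat_lit 7, nat_lit 3, nat_lit 2, nat_lit 3, nat_lit 4, nat_lit 8, nat_lit 3, nat_lit 4, nat_lit 7, nat_lit 2, nat_lit 3, nat_lit 0, nat_lit 1], [nat_lit 17, nat_lit 2, nat_lit 0, nat_lit 34, nat_lit 17, nat_lit 11], (nat_lit 8679)), ((nat_lit 3347), [nat_lit 4, nat_lit 7, nat_lit 3, nat_lit 2, nat_lit 3,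 nat_lit 1, nat_lit 2, nat_lit 3, nat_lit 4, nat_lit 7, nat_lit 3, nat_lit 2, nat_lit 3, nat_lit 1], [nat_lit 17, nat_lit 2, nat_lit 0, nat_lit 33, nat_lit 15, nat_lit 26], (nat_lit 9502)), ((nat_lit 3429), [nat_lit 8, nat_lit 4, nat_lit 2, nat_lit 3, nat_lit 0, nat_lit 1, nat_lit 2, nat_lit 3, nat_lit 4, nat_lit 7, nat_lit 4, nat_lit 2, nat_lit 3, nat_lit 1], [nat_lit 1, nat_lit 24, nat_lit 33, nat_lit 15, nat_lit 27], (nat_lit 10348)), ((nat_lit 3229), [nat_lit 5, nat_lit 8, nat_lit 4, nat_lit 7, nat_lit 0, nat_lit 1, nat_lit 2, nat_lit 3, nat_lit 4, nat_lit 1, nat_lit 2, nat_lit 3, nat_lit 0, nat_lit 1], [nat_lit 15, nat_lit 5, nat_lit 25, nat_lit 37, nat_lit 17], (nat_lit 7357)), ((nat_lit 3349), [nat_lit 5, nat_lit 8, nat_lit 4, nat_lit 7, nat_lit 2, nat_lit 3, nat_lit 4, nat_lit 2, nat_lit 3, nat_lit 0, nat_lit 1], [nat_lit 5, nat_lit 16, nat_lit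 2, nat_lit 18, nat_lit 16, nat_lit 11, nat_lit 27], (nat_lit 2014)), ((nat_lit 3443), [nat_lit 7, nat_lit 5, nat_lit 4, nat_lit 8, nat_lit 3, nat_lit 2, nat_lit 3, nat_lit 4, nat_lit 8, nat_lit 3, nat_lit 4, nat_lit 2, nat_lit 3, nat_lit 1], [nat_lit 5, nat_lit 0, nat_lit 15, nat_lit 11, nat_lit 15, nat_lit 26], (nat_lit 10131)), ((nat_lit 3487), [nat_lit 6, nat_lit 4, nat_lit 7, nat_lit 0, nat_lit 1, nat_lit 2, nat_lit 3, nat_lit 4, nat_lit 8, nat_lit 4, nat_lit 1, nat_lit 2, nat_lit 3, nat_lit 0, nat_lit 1], [nat_lit 17, nat_lit 2, nat_lit 0, nat_lit 32, nat_lit 32, nat_lit 27], (nat_lit 11020)), ((nat_lit 3279), [nat_lit 1, nat_lit 2, nat_lit 3, nat_lit 4, nat_lit 8, nat_lit 4, nat_lit 8, nat_lit 4, nat_lit 1, nat_lit 2, nat_lit 3, nat_lit 0, nat_lit 1], [nat_lit 5, nat_lit 14, nat_lit 24, nat_lit 16, nat_lit 27], (nat_lit 4760)), ((nat_lit 3485),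 [nat_lit 6, nat_lit 7, nat_lit 1, nat_lit 2, nat_lit 3, nat_lit 4, nat_lit 8, nat_lit 4, nat_lit 1, nat_lit 2, nat_lit 3, nat_lit 0, nat_lit 1], [nat_lit 1, nat_lit 24, nat_lit 0, nat_lit 37, nat_lit 18, nat_lit 15, nat_lit 26], (nat_lit 4743)), ((nat_lit 3469), [nat_lit 5, nat_lit 4, nat_lit 8, nat_lit 3, nat_lit 4, nat_lit 7, nat_lit 1, nat_lit 2, nat_lit 3, nat_lit 4, nat_lit 7, nat_lit 2, nat_lit 3, nat_lit 0, nat_lit 1], [nat_lit 16, nat_lit 2, nat_lit 25, nat_lit 36, nat_lit 15, nat_lit 26], (nat_lit 12293)), ((nat_lit 3187), [nat_lit 4, nat_lit 7, nat_lit 2, nat_lit 3, nat_lit 4, nat_lit 7, nat_lit 0, nat_lit 1, nat_lit 2, nat_lit 3, nat_lit 4, nat_lit 7, nat_lit 2, nat_lit 3, nat_lit 1], [nat_lit 14, nat_lit 15, nat_lit 0, nat_lit 34, nat_lit 17, nat_lit 27], (nat_lit 14498)), ((nat_lit 3329), [nat_lit 4, nat_lit 3, nat_lit 0, nat_lit 1, nat_lit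 2, nat_lit 3, nat_lit 4, nat_lit 8, nat_lit 4, nat_lit 3, nat_lit 2, nat_lit 3, nat_lit 1], [nat_lit 24, nat_lit 16, nat_lit 0, nat_lit 27, nat_lit 24, nat_lit 11, nat_lit 27], (nat_lit 5917)), ((nat_lit 3233), [nat_lit 5, nat_lit 8, nat_lit 3, nat_lit 2, nat_lit 3, nat_lit 4, nat_lit 8, nat_lit 3, nat_lit 2, nat_lit 3, nat_lit 1], [nat_lit 11, nat_lit 2, nat_lit 0, nat_lit 37, nat_lit 25, nat_lit 26], (nat_lit 2326)), ((nat_lit 3463), [nat_lit 8, nat_lit 0, nat_lit 1, nat_lit 2, nat_lit 3, nat_lit 4, nat_lit 7, nat_lit 2, nat_lit 3, nat_lit 4, nat_lit 7, nat_lit 3, nat_lit 2, nat_lit 3, nat_lit 0, nat_lit 1], [nat_lit 14, nat_lit 35, nat_lit 17, nat_lit 16, nat_lit 26], (nat_lit 15185)), ((nat_lit 3319), [nat_lit 5, nat_lit 3, nat_lit 4, nat_lit 7, nat_lit 3, nat_lit 1, nat_lit 2, nat_lit 3, nat_lit 4, nat_lit 3, nat_lit 2, nat_lit 3, nat_lit 1],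 [nat_lit 2, nat_lit 0, nat_lit 25, nat_lit 15, nat_lit 11], (nat_lit 5749)), ((nat_lit 3411), [nat_lit 6, nat_lit 7, nat_lit 4, nat_lit 8, nat_lit 3, nat_lit 4, nat_lit 7, nat_lit 3, nat_lit 2, nat_lit 3, nat_lit 1], [nat_lit 15, nat_lit 1, nat_lit 37, nat_lit 15, nat_lit 26], (nat_lit 2413)), ((nat_lit 3369), [nat_lit 3, nat_lit 1, nat_lit 2, nat_lit 3, nat_lit 4, nat_lit 7, nat_lit 2, nat_lit 3, nat_lit 4, nat_lit 3, nat_lit 2, nat_lit 3, nat_lit 1], [nat_lit 25, nat_lit 1, nat_lit 15, nat_lit 15, nat_lit 27], (nat_lit 5833)), ((nat_lit 3343), [nat_lit 6, nat_lit 7, nat_lit 4, nat_lit 7, nat_lit 1, nat_lit 2, nat_lit 3, nat_lit 4, nat_lit 7, nat_lit 4, nat_lit 2, nat_lit 3, nat_lit 0, nat_lit 1], [nat_lit 16, nat_lit 5, nat_lit 2, nat_lit 11, nat_lit 16, nat_lit 26], (nat_lit 8340)), ((nat_lit 3239), [nat_lit 5, nat_lit 8, nat_lit 4, nat_lit 8, nat_lit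 5, nat_lit 3, nat_lit 4, nat_lit 8, nat_lit 2, nat_lit 3, nat_lit 0, nat_lit 1], [nat_lit 15, nat_lit 1, nat_lit 25, nat_lit 15], (nat_lit 3546)), ((nat_lit 3169), [nat_lit 5, nat_lit 2, nat_lit 3, nat_lit 4, nat_lit 7, nat_lit 1, nat_lit 2, nat_lit 3, nat_lit 4, nat_lit 8, nat_lit 3, nat_lit 2, nat_lit 3, nat_lit 0, nat_lit 1], [nat_lit 14, nat_lit 15, nat_lit 0, nat_lit 34, nat_lit 25, nat_lit 27], (nat_lit 11464)), ((nat_lit 3161), [nat_lit 0, nat_lit 1, nat_lit 2, nat_lit 3, nat_lit 4, nat_lit 8, nat_lit 4, nat_lit 8, nat_lit 4, nat_lit 2, nat_lit 3, nat_lit 1], [nat_lit 0, nat_lit 2, nat_lit 24, nat_lit 18, nat_lit 27], (nat_lit 4251)), ((nat_lit 3151), [nat_lit 4, nat_lit 7, nat_lit 3, nat_lit 4, nat_lit 7, nat_lit 1, nat_lit 2, nat_lit 3, nat_lit 4, nat_lit 8, nat_lit 4, nat_lit 2, nat_lit 3, nat_lit 0, nat_lit 1], [nat_lit 25, nat_lit 0, nat_lit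 36, nat_lit 33, nat_lit 11, nat_lit 27], (nat_lit 11984)), ((nat_lit 3383), [nat_lit 8, nat_lit 4, nat_lit 7, nat_lit 2, nat_lit 3, nat_lit 4, nat_lit 7, nat_lit 3, nat_lit 4, nat_lit 2, nat_lit 3, nat_lit 0, nat_lit 1], [nat_lit 11, nat_lit 2, nat_lit 0, nat_lit 32, nat_lit 18], (nat_lit 5431))] (nat_lit 0) m5_8_1) = 0 := by decide +kernel
theorem e5_8_2 : dt.run q (fun c => c.edges (SP THn.T THn.Rl (nat_lit 15)) (nat_lit 4429) THn.T.n (nat_lit 5) (nat_lit 8)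
  [((nat_lit 3495), [nat_lit 7, nat_lit 5, nat_lit 0, nat_lit 1, nat_lit 2, nat_lit 3, nat_lit 4, nat_lit 8, nat_lit 4, nat_lit 3, nat_lit 2, nat_lit 3, nat_lit 0, nat_lit 1], [nat_lit 17, nat_lit 2, nat_lit 0, nat_lit 24, nat_lit 36], (nat_lit 7705)), ((nat_lit 3489), [nat_lit 8, nat_lit 4, nat_lit 8, nat_lit 3, nat_lit 2, nat_lit 3, nat_lit 4, nat_lit 8, nat_lit 4, nat_lit 3, nat_lit 2, nat_lit 3, nat_lit 0, nat_lit 1], [nat_lit 25, nat_lit 14, nat_lit 0, nat_lit 37, nat_lit 32], (nat_lit 7728)), ((nat_lit 3497), [nat_lit 6, nat_lit 4, nat_lit 7, nat_lit 2, nat_lit 3, nat_lit 4, nat_lit 8, nat_lit 4, nat_lit 1, nat_lit 2, nat_lit 3, nat_lit 0, nat_lit 1], [nat_lit 15, nat_lit 1, nat_lit 17, nat_lit 11, nat_lit 27], (nat_lit 4749)), ((nat_lit 3341), [nat_lit 5, nat_lit 8, nat_lit 4, nat_lit 7, nat_lit 0, nat_lit 1, nat_lit 2, nat_lit 3, nat_lit 4,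 nat_lit 8, nat_lit 3, nat_lit 2, nat_lit 3, nat_lit 0, nat_lit 1], [nat_lit 25, nat_lit 0, nat_lit 35, nat_lit 35, nat_lit 11, nat_lit 27], (nat_lit 11411)), ((nat_lit 3355), [nat_lit 7, nat_lit 4, nat_lit 7, nat_lit 7, nat_lit 2, nat_lit 3, nat_lit 4, nat_lit 7, nat_lit 2, nat_lit 3, nat_lit 1], [nat_lit 5, nat_lit 2, nat_lit 37, nat_lit 15], (nat_lit 2735)), ((nat_lit 3241), [nat_lit 7, nat_lit 5, nat_lit 2, nat_lit 3, nat_lit 4, nat_lit 7, nat_lit 3, nat_lit 1, nat_lit 2, nat_lit 3, nat_lit 0, nat_lit 1], [nat_lit 24, nat_lit 2, nat_lit 15, nat_lit 11], (nat_lit 2845)), ((nat_lit 3211), [nat_lit 2, nat_lit 3, nat_lit 4, nat_lit 8, nat_lit 4, nat_lit 8, nat_lit 4, nat_lit 1, nat_lit 2, nat_lit 3, nat_lit 0, nat_lit 1], [nat_lit 15, nat_lit 2, nat_lit 24, nat_lit 36, nat_lit 26], (nat_lit 2953)), ((nat_lit 3143), [nat_lit 7, nat_lit 3, nat_lit 1,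 nat_lit 2, nat_lit 3, nat_lit 4, nat_lit 8, nat_lit 4, nat_lit 1, nat_lit 2, nat_lit 3, nat_lit 0, nat_lit 1], [nat_lit 26, nat_lit 2, nat_lit 27], (nat_lit 4740)), ((nat_lit 3473), [nat_lit 7, nat_lit 4, nat_lit 8, nat_lit 2, nat_lit 3, nat_lit 4, nat_lit 7, nat_lit 1, nat_lit 2, nat_lit 3, nat_lit 0, nat_lit 1], [nat_lit 24, nat_lit 2, nat_lit 27, nat_lit 15, nat_lit 26], (nat_lit 3071)), ((nat_lit 3449), [nat_lit 7, nat_lit 7, nat_lit 2, nat_lit 3, nat_lit 0, nat_lit 1, nat_lit 2, nat_lit 3, nat_lit 4, nat_lit 8, nat_lit 3, nat_lit 4, nat_lit 2, nat_lit 3, nat_lit 1], [nat_lit 16, nat_lit 0, nat_lit 15, nat_lit 11, nat_lit 15, nat_lit 26], (nat_lit 13929)), ((nat_lit 3225), [nat_lit 4, nat_lit 7, nat_lit 3, nat_lit 1, nat_lit 2, nat_lit 3, nat_lit 4, nat_lit 7, nat_lit 4, nat_lit 3, nat_lit 2, nat_lit 3, nat_lit 0, nat_lit 1], [nat_lit 15, nat_lit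 5, nat_lit 16, nat_lit 37, nat_lit 27], (nat_lit 7757)), ((nat_lit 3301), [nat_lit 8, nat_lit 4, nat_lit 8, nat_lit 2, nat_lit 3, nat_lit 2, nat_lit 3, nat_lit 4, nat_lit 7, nat_lit 3, nat_lit 4, nat_lit 2, nat_lit 3, nat_lit 1], [nat_lit 16, nat_lit 5, nat_lit 0, nat_lit 37, nat_lit 37, nat_lit 11], (nat_lit 10221)), ((nat_lit 3249), [nat_lit 6, nat_lit 0, nat_lit 1, nat_lit 2, nat_lit 3, nat_lit 4, nat_lit 8, nat_lit 4, nat_lit 3, nat_lit 1, nat_lit 2, nat_lit 3, nat_lit 0, nat_lit 1], [nat_lit 5, nat_lit 2, nat_lit 15, nat_lit 26], (nat_lit 7242)), ((nat_lit 3217), [nat_lit 8, nat_lit 8, nat_lit 4, nat_lit 8, nat_lit 0, nat_lit 1, nat_lit 2, nat_lit 3, nat_lit 4, nat_lit 8, nat_lit 1, nat_lit 2, nat_lit 3, nat_lit 0, nat_lit 1], [nat_lit 5, nat_lit 2, nat_lit 18, nat_lit 35, nat_lit 15, nat_lit 26], (nat_lit 11045)), ((nat_lit 3331), [nat_lit 6,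 nat_lit 7, nat_lit 2, nat_lit 3, nat_lit 4, nat_lit 8, nat_lit 4, nat_lit 3, nat_lit 2, nat_lit 3, nat_lit 0, nat_lit 1], [nat_lit 1, nat_lit 34, nat_lit 34, nat_lit 11, nat_lit 27], (nat_lit 3192)), ((nat_lit 3251), [nat_lit 2, nat_lit 3, nat_lit 0, nat_lit 1, nat_lit 2, nat_lit 3, nat_lit 4, nat_lit 8, nat_lit 4, nat_lit 8, nat_lit 3, nat_lit 4, nat_lit 2, nat_lit 3, nat_lit 1], [nat_lit 17, nat_lit 24, nat_lit 0, nat_lit 26, nat_lit 16], (nat_lit 14086)), ((nat_lit 3227), [nat_lit 7, nat_lit 7, nat_lit 4, nat_lit 7, nat_lit 3, nat_lit 4, nat_lit 8, nat_lit 3, nat_lit 2, nat_lit 3, nat_lit 0, nat_lit 1], [nat_lit 2, nat_lit 11, nat_lit 16, nat_lit 27], (nat_lit 3272)), ((nat_lit 3483), [nat_lit 8, nat_lit 0, nat_lit 1, nat_lit 2, nat_lit 3, nat_lit 4, nat_lit 8, nat_lit 3, nat_lit 4, nat_lit 2, nat_lit 3, nat_lit 1], [nat_lit 26, nat_lit 24, nat_lit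 0, nat_lit 32, nat_lit 34], (nat_lit 4123)), ((nat_lit 3435), [nat_lit 5, nat_lit 8, nat_lit 4, nat_lit 7, nat_lit 1, nat_lit 2, nat_lit 3, nat_lit 4, nat_lit 8, nat_lit 1, nat_lit 2, nat_lit 3, nat_lit 0, nat_lit 1], [nat_lit 16, nat_lit 0, nat_lit 33, nat_lit 36, nat_lit 27], (nat_lit 7466)), ((nat_lit 3481), [nat_lit 4, nat_lit 7, nat_lit 3, nat_lit 4, nat_lit 8, nat_lit 2, nat_lit 3, nat_lit 4, nat_lit 2, nat_lit 3, nat_lit 0, nat_lit 1], [nat_lit 5, nat_lit 32, nat_lit 18, nat_lit 15, nat_lit 26], (nat_lit 3381)), ((nat_lit 3311), [nat_lit 5, nat_lit 3, nat_lit 4, nat_lit 2, nat_lit 3, nat_lit 1, nat_lit 2, nat_lit 3, nat_lit 4, nat_lit 8, nat_lit 4, nat_lit 3, nat_lit 2, nat_lit 3, nat_lit 1], [nat_lit 16, nat_lit 5, nat_lit 2, nat_lit 37, nat_lit 11, nat_lit 15, nat_lit 26], (nat_lit 12871)), ((nat_lit 3273), [nat_lit 8, nat_lit 5, nat_lit 4,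 nat_lit 2, nat_lit 3, nat_lit 0, nat_lit 1, nat_lit 2, nat_lit 3, nat_lit 4, nat_lit 8, nat_lit 4, nat_lit 2, nat_lit 3, nat_lit 1], [nat_lit 11, nat_lit 2, nat_lit 0, nat_lit 26, nat_lit 34, nat_lit 32, nat_lit 27], (nat_lit 14185)), ((nat_lit 3183), [nat_lit 5, nat_lit 4, nat_lit 7, nat_lit 3, nat_lit 4, nat_lit 7, nat_lit 1, nat_lit 2, nat_lit 3, nat_lit 4, nat_lit 7, nat_lit 2, nat_lit 3, nat_lit 0, nat_lit 1], [nat_lit 10, nat_lit 10, nat_lit 0, nat_lit 34, nat_lit 17, nat_lit 11, nat_lit 27], (nat_lit 12296)), ((nat_lit 3201), [nat_lit 6, nat_lit 7, nat_lit 4, nat_lit 8, nat_lit 0, nat_lit 1, nat_lit 2, nat_lit 3, nat_lit 4, nat_lit 7, nat_lit 2, nat_lit 3, nat_lit 0, nat_lit 1], [nat_lit 11, nat_lit 5, nat_lit 2, nat_lit 17, nat_lit 36, nat_lit 15], (nat_lit 8535)), ((nat_lit 3155), [nat_lit 7, nat_lit 7, nat_lit 4, nat_lit 7, nat_lit 2, nat_lit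 3, nat_lit 4, nat_lit 7, nat_lit 1, nat_lit 2, nat_lit 3, nat_lit 4, nat_lit 2, nat_lit 3, nat_lit 1], [nat_lit 24, nat_lit 0, nat_lit 18, nat_lit 36, nat_lit 11, nat_lit 26], (nat_lit 13720)), ((nat_lit 3441), [nat_lit 4, nat_lit 2, nat_lit 3, nat_lit 1, nat_lit 2, nat_lit 3, nat_lit 4, nat_lit 8, nat_lit 3, nat_lit 4, nat_lit 3, nat_lit 2, nat_lit 3, nat_lit 1], [nat_lit 24, nat_lit 16, nat_lit 0, nat_lit 33, nat_lit 37, nat_lit 27], (nat_lit 8945)), ((nat_lit 3203), [nat_lit 6, nat_lit 7, nat_lit 3, nat_lit 0, nat_lit 1, nat_lit 2, nat_lit 3, nat_lit 4, nat_lit 8, nat_lit 3, nat_lit 2, nat_lit 3, nat_lit 0, nat_lit 1], [nat_lit 24, nat_lit 15, nat_lit 0, nat_lit 24], (nat_lit 7782)), ((nat_lit 3437), [nat_lit 7, nat_lit 7, nat_lit 2, nat_lit 3, nat_lit 4, nat_lit 7, nat_lit 2, nat_lit 3, nat_lit 4, nat_lit 8, nat_lit 2, nat_lit 3, nat_lit 0, nat_lit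 1], [nat_lit 10, nat_lit 10, nat_lit 0, nat_lit 18, nat_lit 25, nat_lit 26], (nat_lit 8496)), ((nat_lit 3277), [nat_lit 5, nat_lit 4, nat_lit 7, nat_lit 3, nat_lit 4, nat_lit 7, nat_lit 2, nat_lit 3, nat_lit 4, nat_lit 2, nat_lit 3, nat_lit 1], [nat_lit 0, nat_lit 18, nat_lit 36, nat_lit 26], (nat_lit 4115)), ((nat_lit 3405), [nat_lit 5, nat_lit 7, nat_lit 4, nat_lit 3, nat_lit 2, nat_lit 3, nat_lit 4, nat_lit 7, nat_lit 4, nat_lit 2, nat_lit 3, nat_lit 1], [nat_lit 26, nat_lit 24, nat_lit 0, nat_lit 37, nat_lit 15, nat_lit 11], (nat_lit 4271)), ((nat_lit 3381), [nat_lit 4, nat_lit 2, nat_lit 3, nat_lit 0, nat_lit 1, nat_lit 2, nat_lit 3, nat_lit 4, nat_lit 8, nat_lit 3, nat_lit 4, nat_lit 3, nat_lit 2, nat_lit 3, nat_lit 0, nat_lit 1], [nat_lit 10, nat_lit 0, nat_lit 33, nat_lit 24, nat_lit 27], (nat_lit 14864)), ((nat_lit 3359), [nat_lit 8, nat_lit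 4, nat_lit 2, nat_lit 3, nat_lit 0, nat_lit 1, nat_lit 2, nat_lit 3, nat_lit 4, nat_lit 7, nat_lit 3, nat_lit 4, nat_lit 3, nat_lit 2, nat_lit 3, nat_lit 1], [nat_lit 1, nat_lit 1, nat_lit 16, nat_lit 18, nat_lit 15, nat_lit 27], (nat_lit 15904)), ((nat_lit 3333), [nat_lit 8, nat_lit 4, nat_lit 7, nat_lit 2, nat_lit 3, nat_lit 4, nat_lit 8, nat_lit 1, nat_lit 2, nat_lit 3, nat_lit 4, nat_lit 3, nat_lit 2, nat_lit 3, nat_lit 1], [nat_lit 24, nat_lit 0, nat_lit 37, nat_lit 34, nat_lit 24, nat_lit 26], (nat_lit 12565)), ((nat_lit 3275), [nat_lit 5, nat_lit 7, nat_lit 0, nat_lit 1, nat_lit 2, nat_lit 3, nat_lit 4, nat_lit 7, nat_lit 1, nat_lit 2, nat_lit 3, nat_lit 4, nat_lit 8, nat_lit 2, nat_lit 3, nat_lit 1], [nat_lit 1, nat_lit 5, nat_lit 37, nat_lit 24, nat_lit 11, nat_lit 27], (nat_lit 16691)), ((nat_lit 3337), [nat_lit 8, nat_lit 5, nat_lit 2, nat_lit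 3, nat_lit 2, nat_lit 3, nat_lit 4, nat_lit 8, nat_lit 3, nat_lit 4, nat_lit 3, nat_lit 2, nat_lit 3, nat_lit 1], [nat_lit 0, nat_lit 2, nat_lit 34, nat_lit 24, nat_lit 26], (nat_lit 8961)), ((nat_lit 3175), [nat_lit 5, nat_lit 8, nat_lit 1, nat_lit 2, nat_lit 3, nat_lit 4, nat_lit 7, nat_lit 0, nat_lit 1, nat_lit 2, nat_lit 3, nat_lit 4, nat_lit 2, nat_lit 3, nat_lit 0, nat_lit 1], [nat_lit 16, nat_lit 0, nat_lit 15, nat_lit 18, nat_lit 16, nat_lit 27], (nat_lit 15224)), ((nat_lit 3453), [nat_lit 6, nat_lit 3, nat_lit 4, nat_lit 8, nat_lit 3, nat_lit 2, nat_lit 3, nat_lit 4, nat_lit 3, nat_lit 2, nat_lit 3, nat_lit 0, nat_lit 1], [nat_lit 14, nat_lit 0, nat_lit 15, nat_lit 32, nat_lit 27], (nat_lit 4971)), ((nat_lit 3423), [nat_lit 7, nat_lit 3, nat_lit 2, nat_lit 3, nat_lit 4, nat_lit 7, nat_lit 3, nat_lit 1, nat_lit 2, nat_lit 3, nat_lit 4, nat_lit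 3, nat_lit 2, nat_lit 3, nat_lit 1], [nat_lit 0, nat_lit 2, nat_lit 27, nat_lit 24], (nat_lit 12524)), ((nat_lit 3267), [nat_lit 7, nat_lit 6, nat_lit 2, nat_lit 3, nat_lit 4, nat_lit 7, nat_lit 3, nat_lit 4, nat_lit 3, nat_lit 2, nat_lit 3, nat_lit 0, nat_lit 1], [nat_lit 26, nat_lit 2, nat_lit 24, nat_lit 37, nat_lit 17, nat_lit 27], (nat_lit 5032)), ((nat_lit 3191), [nat_lit 8, nat_lit 6, nat_lit 4, nat_lit 7, nat_lit 3, nat_lit 4, nat_lit 7, nat_lit 1, nat_lit 2, nat_lit 3, nat_lit 4, nat_lit 7, nat_lit 2, nat_lit 3, nat_lit 1], [nat_lit 17, nat_lit 2, nat_lit 0, nat_lit 36, nat_lit 17], (nat_lit 14569)), ((nat_lit 3195), [nat_lit 2, nat_lit 3, nat_lit 4, nat_lit 7, nat_lit 4, nat_lit 7, nat_lit 0, nat_lit 1, nat_lit 2, nat_lit 3, nat_lit 4, nat_lit 8, nat_lit 3, nat_lit 2, nat_lit 3, nat_lit 1], [nat_lit 5, nat_lit 14, nat_lit 18, nat_lit 35,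 nat_lit 15], (nat_lit 16174)), ((nat_lit 3207), [nat_lit 7, nat_lit 4, nat_lit 8, nat_lit 3, nat_lit 4, nat_lit 7, nat_lit 5, nat_lit 2, nat_lit 3, nat_lit 4, nat_lit 8, nat_lit 2, nat_lit 3, nat_lit 1], [nat_lit 16, nat_lit 5, nat_lit 0, nat_lit 26, nat_lit 24, nat_lit 26], (nat_lit 10492)), ((nat_lit 3427), [nat_lit 8, nat_lit 4, nat_lit 8, nat_lit 2, nat_lit 3, nat_lit 4, nat_lit 8, nat_lit 2, nat_lit 3, nat_lit 4, nat_lit 8, nat_lit 2, nat_lit 3, nat_lit 0, nat_lit 1], [nat_lit 18, nat_lit 15, nat_lit 0, nat_lit 24, nat_lit 33, nat_lit 15], (nat_lit 12131)), ((nat_lit 3235), [nat_lit 4, nat_lit 7, nat_lit 7, nat_lit 3, nat_lit 4, nat_lit 8, nat_lit 2, nat_lit 3, nat_lit 4, nat_lit 8, nat_lit 2, nat_lit 3, nat_lit 0, nat_lit 1], [nat_lit 16, nat_lit 0, nat_lit 17, nat_lit 16, nat_lit 26], (nat_lit 8472)), ((nat_lit 3315), [nat_lit 3, nat_lit 4,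 nat_lit 7, nat_lit 5, nat_lit 2, nat_lit 3, nat_lit 4, nat_lit 8, nat_lit 3, nat_lit 2, nat_lit 3, nat_lit 0, nat_lit 1], [nat_lit 17, nat_lit 24, nat_lit 0, nat_lit 17, nat_lit 25, nat_lit 15, nat_lit 27], (nat_lit 5145)), ((nat_lit 3159), [nat_lit 6, nat_lit 7, nat_lit 4, nat_lit 8, nat_lit 3, nat_lit 4, nat_lit 7, nat_lit 2, nat_lit 3, nat_lit 4, nat_lit 8, nat_lit 2, nat_lit 3, nat_lit 1], [nat_lit 15, nat_lit 2, nat_lit 34, nat_lit 25, nat_lit 11, nat_lit 27], (nat_lit 10599)), ((nat_lit 3325), [nat_lit 7, nat_lit 4, nat_lit 7, nat_lit 6, nat_lit 3, nat_lit 4, nat_lit 8, nat_lit 2, nat_lit 3, nat_lit 4, nat_lit 7, nat_lit 2, nat_lit 3, nat_lit 0, nat_lit 1], [nat_lit 25, nat_lit 14, nat_lit 0, nat_lit 26, nat_lit 15, nat_lit 27], (nat_lit 12338)), ((nat_lit 3245), [nat_lit 8, nat_lit 6, nat_lit 4, nat_lit 7, nat_lit 2, nat_lit 3, nat_lit 4, nat_lit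 8, nat_lit 1, nat_lit 2, nat_lit 3, nat_lit 4, nat_lit 2, nat_lit 3, nat_lit 0, nat_lit 1], [nat_lit 14, nat_lit 15, nat_lit 0, nat_lit 15, nat_lit 17, nat_lit 26], (nat_lit 15269)), ((nat_lit 3167), [nat_lit 7, nat_lit 2, nat_lit 3, nat_lit 4, nat_lit 7, nat_lit 2, nat_lit 3, nat_lit 4, nat_lit 8, nat_lit 4, nat_lit 2, nat_lit 3, nat_lit 1], [nat_lit 17, nat_lit 11, nat_lit 26], (nat_lit 6781)), ((nat_lit 3305), [nat_lit 7, nat_lit 6, nat_lit 4, nat_lit 3, nat_lit 0, nat_lit 1, nat_lit 2, nat_lit 3, nat_lit 4, nat_lit 8, nat_lit 3, nat_lit 4, nat_lit 3, nat_lit 2, nat_lit 3, nat_lit 0, nat_lit 1], [nat_lit 5, nat_lit 2, nat_lit 0, nat_lit 33, nat_lit 24, nat_lit 27], (nat_lit 16880)), ((nat_lit 3219), [nat_lit 7, nat_lit 5, nat_lit 4, nat_lit 8, nat_lit 0, nat_lit 1, nat_lit 2, nat_lit 3, nat_lit 4, nat_lit 7, nat_lit 3, nat_lit 1, nat_lit 2, nat_lit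 3, nat_lit 0, nat_lit 1], [nat_lit 16, nat_lit 5, nat_lit 2, nat_lit 33, nat_lit 35, nat_lit 26], (nat_lit 14727)), ((nat_lit 3193), [nat_lit 8, nat_lit 0, nat_lit 1, nat_lit 2, nat_lit 3, nat_lit 1, nat_lit 2, nat_lit 3, nat_lit 4, nat_lit 8, nat_lit 3, nat_lit 4, nat_lit 2, nat_lit 3, nat_lit 1], [nat_lit 16, nat_lit 5, nat_lit 0, nat_lit 37], (nat_lit 13940)), ((nat_lit 3285), [nat_lit 7, nat_lit 4, nat_lit 7, nat_lit 5, nat_lit 3, nat_lit 4, nat_lit 8, nat_lit 1, nat_lit 2, nat_lit 3, nat_lit 4, nat_lit 2, nat_lit 3, nat_lit 0, nat_lit 1], [nat_lit 2, nat_lit 33, nat_lit 35, nat_lit 26], (nat_lit 11737)), ((nat_lit 3179), [nat_lit 6, nat_lit 3, nat_lit 4, nat_lit 8, nat_lit 1, nat_lit 2, nat_lit 3, nat_lit 4, nat_lit 8, nat_lit 3, nat_lit 2, nat_lit 3, nat_lit 1], [nat_lit 5, nat_lit 14, nat_lit 37, nat_lit 11, nat_lit 17], (nat_lit 6076)), ((nat_lit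 3415), [nat_lit 7, nat_lit 2, nat_lit 3, nat_lit 4, nat_lit 8, nat_lit 1, nat_lit 2, nat_lit 3, nat_lit 4, nat_lit 8, nat_lit 2, nat_lit 3, nat_lit 0, nat_lit 1], [nat_lit 24, nat_lit 0, nat_lit 34, nat_lit 17, nat_lit 33, nat_lit 26], (nat_lit 8400)), ((nat_lit 3289), [nat_lit 6, nat_lit 2, nat_lit 3, nat_lit 4, nat_lit 8, nat_lit 1, nat_lit 2, nat_lit 3, nat_lit 4, nat_lit 3, nat_lit 2, nat_lit 3, nat_lit 1], [nat_lit 25, nat_lit 0, nat_lit 18, nat_lit 18, nat_lit 26], (nat_lit 5762)), ((nat_lit 3457), [nat_lit 6, nat_lit 4, nat_lit 8, nat_lit 2, nat_lit 3, nat_lit 0, nat_lit 1, nat_lit 2, nat_lit 3, nat_lit 4, nat_lit 8, nat_lit 4, nat_lit 3, nat_lit 2, nat_lit 3, nat_lit 1], [nat_lit 1, nat_lit 5, nat_lit 33, nat_lit 37, nat_lit 11, nat_lit 27], (nat_lit 15988)), ((nat_lit 3371), [nat_lit 4, nat_lit 7, nat_lit 2, nat_lit 3, nat_lit 4, nat_lit 8,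 nat_lit 1, nat_lit 2, nat_lit 3, nat_lit 4, nat_lit 3, nat_lit 2, nat_lit 3, nat_lit 1], [nat_lit 24, nat_lit 18, nat_lit 26], (nat_lit 8820)), ((nat_lit 3431), [nat_lit 6, nat_lit 3, nat_lit 4, nat_lit 8, nat_lit 1, nat_lit 2, nat_lit 3, nat_lit 0, nat_lit 1, nat_lit 2, nat_lit 3, nat_lit 4, nat_lit 3, nat_lit 2, nat_lit 3, nat_lit 1], [nat_lit 14, nat_lit 35, nat_lit 11, nat_lit 26], (nat_lit 15655)), ((nat_lit 3357), [nat_lit 7, nat_lit 4, nat_lit 8, nat_lit 2, nat_lit 3, nat_lit 4, nat_lit 7, nat_lit 2, nat_lit 3, nat_lit 4, nat_lit 2, nat_lit 3, nat_lit 0, nat_lit 1], [nat_lit 17, nat_lit 24, nat_lit 0, nat_lit 11, nat_lit 15, nat_lit 26], (nat_lit 8175)), ((nat_lit 3299), [nat_lit 7, nat_lit 7, nat_lit 3, nat_lit 4, nat_lit 7, nat_lit 3, nat_lit 2, nat_lit 3, nat_lit 4, nat_lit 8, nat_lit 3, nat_lit 2, nat_lit 3, nat_lit 1], [nat_lit 1, nat_lit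 14, nat_lit 16, nat_lit 11, nat_lit 27], (nat_lit 9369)), ((nat_lit 3447), [nat_lit 8, nat_lit 4, nat_lit 8, nat_lit 3, nat_lit 1, nat_lit 2, nat_lit 3, nat_lit 4, nat_lit 8, nat_lit 3, nat_lit 2, nat_lit 3, nat_lit 1], [nat_lit 25, nat_lit 14, nat_lit 0, nat_lit 24, nat_lit 16, nat_lit 26], (nat_lit 6062)), ((nat_lit 3213), [nat_lit 5, nat_lit 4, nat_lit 2, nat_lit 3, nat_lit 0, nat_lit 1, nat_lit 2, nat_lit 3, nat_lit 4, nat_lit 8, nat_lit 4, nat_lit 3, nat_lit 2, nat_lit 3, nat_lit 0, nat_lit 1], [nat_lit 1, nat_lit 1, nat_lit 25, nat_lit 18, nat_lit 18, nat_lit 27], (nat_lit 14914)), ((nat_lit 3297), [nat_lit 7, nat_lit 4, nat_lit 8, nat_lit 6, nat_lit 2, nat_lit 3, nat_lit 4, nat_lit 8, nat_lit 2, nat_lit 3, nat_lit 4, nat_lit 2, nat_lit 3, nat_lit 1], [nat_lit 17, nat_lit 2, nat_lit 0, nat_lit 36, nat_lit 16], (nat_lit 9875)), ((nat_lit 3361),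 [nat_lit 7, nat_lit 2, nat_lit 3, nat_lit 4, nat_lit 7, nat_lit 7, nat_lit 2, nat_lit 3, nat_lit 4, nat_lit 7, nat_lit 2, nat_lit 3, nat_lit 4, nat_lit 2, nat_lit 3, nat_lit 1], [nat_lit 2, nat_lit 0, nat_lit 35, nat_lit 32, nat_lit 11], (nat_lit 16552)), ((nat_lit 3291), [nat_lit 2, nat_lit 3, nat_lit 2, nat_lit 3, nat_lit 4, nat_lit 7, nat_lit 3, nat_lit 4, nat_lit 8, nat_lit 3, nat_lit 2, nat_lit 3, nat_lit 1], [nat_lit 17, nat_lit 2, nat_lit 0, nat_lit 16, nat_lit 32, nat_lit 15, nat_lit 26], (nat_lit 6170)), ((nat_lit 3461), [nat_lit 4, nat_lit 8, nat_lit 6, nat_lit 2, nat_lit 3, nat_lit 0, nat_lit 1, nat_lit 2, nat_lit 3, nat_lit 4, nat_lit 7, nat_lit 4, nat_lit 3, nat_lit 2, nat_lit 3, nat_lit 1], [nat_lit 25, nat_lit 14, nat_lit 0, nat_lit 15, nat_lit 24, nat_lit 27], (nat_lit 16033)), ((nat_lit 3313), [nat_lit 6, nat_lit 7, nat_lit 4, nat_lit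 7, nat_lit 3, nat_lit 2, nat_lit 3, nat_lit 4, nat_lit 7, nat_lit 3, nat_lit 4, nat_lit 2, nat_lit 3, nat_lit 0, nat_lit 1], [nat_lit 25, nat_lit 2, nat_lit 0, nat_lit 37, nat_lit 37], (nat_lit 11956)), ((nat_lit 3459), [nat_lit 4, nat_lit 8, nat_lit 8, nat_lit 1, nat_lit 2, nat_lit 3, nat_lit 4, nat_lit 8, nat_lit 1, nat_lit 2, nat_lit 3, nat_lit 4, nat_lit 2, nat_lit 3, nat_lit 0, nat_lit 1], [nat_lit 10, nat_lit 10, nat_lit 0, nat_lit 33, nat_lit 16, nat_lit 27], (nat_lit 15248)), ((nat_lit 3367), [nat_lit 8, nat_lit 1, nat_lit 2, nat_lit 3, nat_lit 4, nat_lit 8, nat_lit 1, nat_lit 2, nat_lit 3, nat_lit 4, nat_lit 2, nat_lit 3, nat_lit 1], [nat_lit 1, nat_lit 24, nat_lit 0, nat_lit 25, nat_lit 37, nat_lit 26], (nat_lit 6375)), ((nat_lit 3455), [nat_lit 8, nat_lit 8, nat_lit 2, nat_lit 3, nat_lit 0, nat_lit 1, nat_lit 2, nat_lit 3, nat_lit 4, nat_lit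 7, nat_lit 3, nat_lit 2, nat_lit 3, nat_lit 1], [nat_lit 10, nat_lit 10, nat_lit 0, nat_lit 37, nat_lit 34, nat_lit 26], (nat_lit 9453)), ((nat_lit 3373), [nat_lit 8, nat_lit 4, nat_lit 7, nat_lit 6, nat_lit 3, nat_lit 4, nat_lit 7, nat_lit 2, nat_lit 3, nat_lit 4, nat_lit 8, nat_lit 2, nat_lit 3, nat_lit 1], [nat_lit 5, nat_lit 16, nat_lit 2, nat_lit 16, nat_lit 11, nat_lit 27], (nat_lit 10585)), ((nat_lit 3303), [nat_lit 4, nat_lit 7, nat_lit 4, nat_lit 7, nat_lit 3, nat_lit 1, nat_lit 2, nat_lit 3, nat_lit 4, nat_lit 8, nat_lit 3, nat_lit 2, nat_lit 3, nat_lit 0, nat_lit 1], [nat_lit 14, nat_lit 0, nat_lit 35, nat_lit 33, nat_lit 27], (nat_lit 11447)), ((nat_lit 3295), [nat_lit 8, nat_lit 8, nat_lit 3, nat_lit 4, nat_lit 8, nat_lit 3, nat_lit 0, nat_lit 1, nat_lit 2, nat_lit 3, nat_lit 4, nat_lit 3, nat_lit 2, nat_lit 3, nat_lit 1], [nat_lit 26,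 nat_lit 2, nat_lit 33, nat_lit 24, nat_lit 27], (nat_lit 12416)), ((nat_lit 3307), [nat_lit 4, nat_lit 7, nat_lit 3, nat_lit 4, nat_lit 8, nat_lit 8, nat_lit 2, nat_lit 3, nat_lit 4, nat_lit 7, nat_lit 2, nat_lit 3, nat_lit 1], [nat_lit 5, nat_lit 2, nat_lit 0, nat_lit 15, nat_lit 24, nat_lit 11, nat_lit 27], (nat_lit 7152)), ((nat_lit 3209), [nat_lit 6, nat_lit 3, nat_lit 4, nat_lit 7, nat_lit 2, nat_lit 3, nat_lit 2, nat_lit 3, nat_lit 4, nat_lit 8, nat_lit 3, nat_lit 4, nat_lit 7, nat_lit 2, nat_lit 3, nat_lit 1], [nat_lit 10, nat_lit 10, nat_lit 0, nat_lit 34, nat_lit 17], (nat_lit 16736)), ((nat_lit 3165), [nat_lit 4, nat_lit 7, nat_lit 5, nat_lit 3, nat_lit 0, nat_lit 1, nat_lit 2, nat_lit 3, nat_lit 4, nat_lit 8, nat_lit 3, nat_lit 2, nat_lit 3, nat_lit 0, nat_lit 1], [nat_lit 11, nat_lit 2, nat_lit 0, nat_lit 26, nat_lit 34, nat_lit 32], (nat_lit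 11378)), ((nat_lit 3293), [nat_lit 8, nat_lit 6, nat_lit 4, nat_lit 7, nat_lit 2, nat_lit 3, nat_lit 0, nat_lit 1, nat_lit 2, nat_lit 3, nat_lit 4, nat_lit 3, nat_lit 2, nat_lit 3, nat_lit 0, nat_lit 1], [nat_lit 2, nat_lit 0, nat_lit 24, nat_lit 36, nat_lit 11, nat_lit 26], (nat_lit 14767)), ((nat_lit 3317), [nat_lit 5, nat_lit 2, nat_lit 3, nat_lit 4, nat_lit 7, nat_lit 2, nat_lit 3, nat_lit 4, nat_lit 8, nat_lit 3, nat_lit 2, nat_lit 3, nat_lit 0, nat_lit 1], [nat_lit 15, nat_lit 1, nat_lit 34, nat_lit 32, nat_lit 11], (nat_lit 7883)), ((nat_lit 3445), [nat_lit 2, nat_lit 3, nat_lit 4, nat_lit 7, nat_lit 5, nat_lit 2, nat_lit 3, nat_lit 4, nat_lit 7, nat_lit 3, nat_lit 2, nat_lit 3, nat_lit 0, nat_lit 1], [nat_lit 33, nat_lit 15, nat_lit 11], (nat_lit 8001)), ((nat_lit 3205), [nat_lit 7, nat_lit 2, nat_lit 3, nat_lit 1, nat_lit 2, nat_lit 3, nat_lit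 4, nat_lit 8, nat_lit 3, nat_lit 4, nat_lit 7, nat_lit 2, nat_lit 3, nat_lit 1], [nat_lit 16, nat_lit 5, nat_lit 0, nat_lit 34, nat_lit 37], (nat_lit 10884)), ((nat_lit 3163), [nat_lit 7, nat_lit 4, nat_lit 8, nat_lit 3, nat_lit 4, nat_lit 7, nat_lit 2, nat_lit 3, nat_lit 4, nat_lit 7, nat_lit 2, nat_lit 3, nat_lit 0, nat_lit 1], [nat_lit 1, nat_lit 24, nat_lit 37, nat_lit 26], (nat_lit 8660))] m5_8_1 m5_8_2) = 0 := by decide +kernel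
theorem e5_8_3 : dt.run q (fun c => c.edges (SP THn.T THn.Rl (nat_lit 15)) (nat_lit 4429) THn.T.n (nat_lit 5) (nat_lit 8)
  [((nat_lit 3281), [nat_lit 7, nat_lit 5, nat_lit 4, nat_lit 8, nat_lit 2, nat_lit 3, nat_lit 0, nat_lit 1, nat_lit 2, nat_lit 3, nat_lit 4, nat_lit 8, nat_lit 3, nat_lit 2, nat_lit 3, nat_lit 1], [nat_lit 0, nat_lit 36, nat_lit 24, nat_lit 15], (nat_lit 16115)), ((nat_lit 3397), [nat_lit 5, nat_lit 7, nat_lit 3, nat_lit 4, nat_lit 7, nat_lit 7, nat_lit 2, nat_lit 3, nat_lit 4, nat_lit 7, nat_lit 2, nat_lit 3, nat_lit 0, nat_lit 1], [nat_lit 25, nat_lit 14, nat_lit 0, nat_lit 25, nat_lit 36, nat_lit 27], (nat_lit 8674)), ((nat_lit 3421), [nat_lit 3, nat_lit 4, nat_lit 8, nat_lit 4, nat_lit 8, nat_lit 3, nat_lit 2, nat_lit 3, nat_lit 4, nat_lit 7, nat_lit 3, nat_lit 2, nat_lit 3, nat_lit 0, nat_lit 1], [nat_lit 5, nat_lit 2, nat_lit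 0, nat_lit 36, nat_lit 32], (nat_lit 11629)), ((nat_lit 3377), [nat_lit 6, nat_lit 7, nat_lit 1, nat_lit 2, nat_lit 3, nat_lit 4, nat_lit 8, nat_lit 2, nat_lit 3, nat_lit 4, nat_lit 3, nat_lit 2, nat_lit 3, nat_lit 0, nat_lit 1], [nat_lit 24, nat_lit 11, nat_lit 27], (nat_lit 11218)), ((nat_lit 3393), [nat_lit 5, nat_lit 1, nat_lit 2, nat_lit 3, nat_lit 4, nat_lit 7, nat_lit 1, nat_lit 2, nat_lit 3, nat_lit 4, nat_lit 3, nat_lit 2, nat_lit 3, nat_lit 1], [nat_lit 26, nat_lit 2, nat_lit 0, nat_lit 36, nat_lit 25, nat_lit 27], (nat_lit 8832)), ((nat_lit 3451), [nat_lit 8, nat_lit 4, nat_lit 3, nat_lit 2, nat_lit 3, nat_lit 1, nat_lit 2, nat_lit 3, nat_lit 4, nat_lit 7, nat_lit 4, nat_lit 3, nat_lit 2, nat_lit 3, nat_lit 0, nat_lit 1], [nat_lit 16, nat_lit 5, nat_lit 0, nat_lit 18, nat_lit 16, nat_lit 11, nat_lit 26], (nat_lit 14949)), ((nat_lit 3387),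 [nat_lit 5, nat_lit 4, nat_lit 7, nat_lit 2, nat_lit 3, nat_lit 0, nat_lit 1, nat_lit 2, nat_lit 3, nat_lit 4, nat_lit 7, nat_lit 3, nat_lit 2, nat_lit 3, nat_lit 1], [nat_lit 2, nat_lit 34, nat_lit 17, nat_lit 26], (nat_lit 13321)), ((nat_lit 3271), [nat_lit 2, nat_lit 3, nat_lit 4, nat_lit 7, nat_lit 5, nat_lit 2, nat_lit 3, nat_lit 4, nat_lit 8, nat_lit 3, nat_lit 4, nat_lit 2, nat_lit 3, nat_lit 1], [nat_lit 14, nat_lit 18, nat_lit 11, nat_lit 15, nat_lit 26], (nat_lit 10152)), ((nat_lit 3257), [nat_lit 5, nat_lit 4, nat_lit 8, nat_lit 3, nat_lit 4, nat_lit 7, nat_lit 2, nat_lit 3, nat_lit 1, nat_lit 2, nat_lit 3, nat_lit 4, nat_lit 3, nat_lit 2, nat_lit 3, nat_lit 1], [nat_lit 5, nat_lit 2, nat_lit 0, nat_lit 27, nat_lit 16], (nat_lit 15748)), ((nat_lit 3477), [nat_lit 2, nat_lit 3, nat_lit 4, nat_lit 8, nat_lit 4, nat_lit 8, nat_lit 0, nat_lit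 1, nat_lit 2, nat_lit 3, nat_lit 4, nat_lit 3, nat_lit 2, nat_lit 3, nat_lit 1], [nat_lit 25, nat_lit 14, nat_lit 0, nat_lit 36, nat_lit 36, nat_lit 17], (nat_lit 12457))] m5_8_2 m5_8_3) = 0 := by decide +kernel
theorem e5_8_4 : reachX THn.T (nat_lit 271151052572073968) (S5.map Prod.snd) [nat_lit 0, nat_lit 1, nat_lit 0] m5_8_3 = m5_8_4 := by decide +kernel
theorem e5_9_1 : dt.run q (fun c => c.edges (SP THn.T THn.Rl (nat_lit 15)) (nat_lit 4429) THn.T.n (nat_lit 5) (nat_lit 9)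
  [((nat_lit 3626), [nat_lit 6, nat_lit 7, nat_lit 0, nat_lit 1], [nat_lit 18, nat_lit 15, nat_lit 0, nat_lit 25, nat_lit 36], (nat_lit 41)), ((nat_lit 3758), [nat_lit 4, nat_lit 2, nat_lit 3, nat_lit 0, nat_lit 1, nat_lit 2, nat_lit 3, nat_lit 4, nat_lit 8, nat_lit 2, nat_lit 3, nat_lit 4, nat_lit 2, nat_lit 3, nat_lit 1], [nat_lit 18, nat_lit 15, nat_lit 0, nat_lit 37, nat_lit 25, nat_lit 26], (nat_lit 13729)), ((nat_lit 3609), [nat_lit 5, nat_lit 0, nat_lit 1, nat_lit 2, nat_lit 3, nat_lit 4, nat_lit 8, nat_lit 1, nat_lit 2, nat_lit 3, nat_lit 0, nat_lit 1], [nat_lit 15, nat_lit 0, nat_lit 18, nat_lit 18], (nat_lit 2974)), ((nat_lit 3798), [nat_lit 6, nat_lit 3, nat_lit 2, nat_lit 3, nat_lit 4, nat_lit 7, nat_lit 1, nat_lit 2, nat_lit 3, nat_lit 0, nat_lit 1], [nat_lit 24, nat_lit 16, nat_lit 0, nat_lit 34, nat_lit 37, nat_lit 27], (nat_lit 1822)),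 ((nat_lit 3611), [nat_lit 4, nat_lit 3, nat_lit 1, nat_lit 2, nat_lit 3, nat_lit 4, nat_lit 8, nat_lit 2, nat_lit 3, nat_lit 4, nat_lit 2, nat_lit 3, nat_lit 1], [nat_lit 14, nat_lit 15, nat_lit 0, nat_lit 33, nat_lit 11], (nat_lit 6428)), ((nat_lit 3748), [nat_lit 5, nat_lit 4, nat_lit 8, nat_lit 4, nat_lit 3, nat_lit 1], [nat_lit 18, nat_lit 15, nat_lit 0, nat_lit 34, nat_lit 34, nat_lit 15], (nat_lit 193)), ((nat_lit 3760), [nat_lit 8, nat_lit 5, nat_lit 4, nat_lit 8, nat_lit 3], [nat_lit 0, nat_lit 2, nat_lit 25, nat_lit 33, nat_lit 15, nat_lit 27], (nat_lit 118)), ((nat_lit 3599), [nat_lit 6, nat_lit 7, nat_lit 4, nat_lit 8, nat_lit 3], [nat_lit 5, nat_lit 14, nat_lit 15, nat_lit 24, nat_lit 11, nat_lit 27], (nat_lit 123)), ((nat_lit 3601), [nat_lit 5, nat_lit 8, nat_lit 3, nat_lit 2, nat_lit 3, nat_lit 4, nat_lit 7, nat_lit 1, nat_lit 2, nat_lit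 3, nat_lit 0, nat_lit 1], [nat_lit 14, nat_lit 37, nat_lit 34, nat_lit 25], (nat_lit 3061)), ((nat_lit 3650), [nat_lit 5, nat_lit 2, nat_lit 3, nat_lit 1, nat_lit 2, nat_lit 3, nat_lit 4, nat_lit 7, nat_lit 3, nat_lit 2, nat_lit 3, nat_lit 1], [nat_lit 25, nat_lit 0, nat_lit 17, nat_lit 34, nat_lit 11, nat_lit 27], (nat_lit 3927)), ((nat_lit 3634), [nat_lit 5, nat_lit 7, nat_lit 3, nat_lit 2, nat_lit 3, nat_lit 1], [nat_lit 14, nat_lit 0, nat_lit 33, nat_lit 18, nat_lit 11, nat_lit 27], (nat_lit 171)), ((nat_lit 3628), [nat_lit 3, nat_lit 4, nat_lit 8, nat_lit 2, nat_lit 3, nat_lit 1], [nat_lit 0, nat_lit 34, nat_lit 16, nat_lit 26], (nat_lit 181)), ((nat_lit 3738), [nat_lit 8, nat_lit 5, nat_lit 4, nat_lit 7, nat_lit 3, nat_lit 0, nat_lit 1], [nat_lit 10, nat_lit 10, nat_lit 0, nat_lit 25, nat_lit 36, nat_lit 15, nat_lit 26], (nat_lit 280)), ((nat_lit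 3690), [nat_lit 6, nat_lit 7, nat_lit 3, nat_lit 1, nat_lit 2, nat_lit 3, nat_lit 0, nat_lit 1], [nat_lit 25, nat_lit 1, nat_lit 25, nat_lit 15, nat_lit 11, nat_lit 26], (nat_lit 368)), ((nat_lit 3630), [nat_lit 6, nat_lit 7, nat_lit 3, nat_lit 4, nat_lit 7, nat_lit 3, nat_lit 1, nat_lit 2, nat_lit 3, nat_lit 4, nat_lit 7, nat_lit 3, nat_lit 2, nat_lit 3, nat_lit 1], [nat_lit 25, nat_lit 2, nat_lit 0, nat_lit 26, nat_lit 16, nat_lit 26], (nat_lit 13439)), ((nat_lit 3714), [nat_lit 1, nat_lit 2, nat_lit 3, nat_lit 4, nat_lit 7, nat_lit 3, nat_lit 4, nat_lit 2, nat_lit 3, nat_lit 0, nat_lit 1], [nat_lit 16, nat_lit 5, nat_lit 2, nat_lit 25, nat_lit 37, nat_lit 17], (nat_lit 2036)), ((nat_lit 3708), [nat_lit 6, nat_lit 3, nat_lit 4, nat_lit 8, nat_lit 2, nat_lit 3, nat_lit 1], [nat_lit 15, nat_lit 1, nat_lit 34, nat_lit 32, nat_lit 16, nat_lit 27], (nat_lit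 326)), ((nat_lit 3804), [nat_lit 8, nat_lit 4, nat_lit 8, nat_lit 3, nat_lit 4, nat_lit 8, nat_lit 4, nat_lit 1, nat_lit 2, nat_lit 3, nat_lit 0, nat_lit 1], [nat_lit 1, nat_lit 5, nat_lit 34, nat_lit 17, nat_lit 11, nat_lit 27], (nat_lit 2947)), ((nat_lit 3776), [nat_lit 6, nat_lit 7, nat_lit 3, nat_lit 4, nat_lit 2, nat_lit 3, nat_lit 0, nat_lit 1], [nat_lit 14, nat_lit 18, nat_lit 15, nat_lit 11, nat_lit 26], (nat_lit 415)), ((nat_lit 3658), [nat_lit 8, nat_lit 4, nat_lit 8, nat_lit 4, nat_lit 2, nat_lit 3, nat_lit 0, nat_lit 1], [nat_lit 24, nat_lit 2, nat_lit 25, nat_lit 15, nat_lit 26], (nat_lit 420)), ((nat_lit 3676), [nat_lit 6, nat_lit 8, nat_lit 3, nat_lit 4, nat_lit 8, nat_lit 3, nat_lit 2, nat_lit 3, nat_lit 4, nat_lit 3, nat_lit 2, nat_lit 3, nat_lit 1], [nat_lit 5, nat_lit 16, nat_lit 2, nat_lit 15, nat_lit 18, nat_lit 11, nat_lit 27],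 (nat_lit 5788)), ((nat_lit 3624), [nat_lit 5, nat_lit 4, nat_lit 8, nat_lit 3, nat_lit 2, nat_lit 3, nat_lit 4, nat_lit 7, nat_lit 1, nat_lit 2, nat_lit 3, nat_lit 4, nat_lit 2, nat_lit 3, nat_lit 1], [nat_lit 15, nat_lit 2, nat_lit 16, nat_lit 25], (nat_lit 13693)), ((nat_lit 3660), [nat_lit 6, nat_lit 7, nat_lit 3, nat_lit 2, nat_lit 3, nat_lit 1, nat_lit 2, nat_lit 3, nat_lit 4, nat_lit 8, nat_lit 3, nat_lit 4, nat_lit 2, nat_lit 3, nat_lit 1], [nat_lit 0, nat_lit 15, nat_lit 15, nat_lit 11, nat_lit 26], (nat_lit 13958)), ((nat_lit 3712), [nat_lit 6, nat_lit 4, nat_lit 7, nat_lit 0, nat_lit 1, nat_lit 2, nat_lit 3, nat_lit 4, nat_lit 2, nat_lit 3, nat_lit 0, nat_lit 1], [nat_lit 14, nat_lit 0, nat_lit 17, nat_lit 11, nat_lit 17, nat_lit 26], (nat_lit 3340)), ((nat_lit 3724), [nat_lit 0, nat_lit 1, nat_lit 2, nat_lit 3, nat_lit 4, nat_lit 7, nat_lit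 0, nat_lit 1, nat_lit 2, nat_lit 3, nat_lit 4, nat_lit 2, nat_lit 3, nat_lit 0, nat_lit 1], [nat_lit 15, nat_lit 2, nat_lit 18, nat_lit 36], (nat_lit 11692)), ((nat_lit 3722), [nat_lit 5, nat_lit 1, nat_lit 2, nat_lit 3, nat_lit 4, nat_lit 8, nat_lit 0, nat_lit 1, nat_lit 2, nat_lit 3, nat_lit 4, nat_lit 2, nat_lit 3, nat_lit 1], [nat_lit 14, nat_lit 15, nat_lit 18, nat_lit 26], (nat_lit 9688)), ((nat_lit 3718), [nat_lit 4, nat_lit 3, nat_lit 1, nat_lit 2, nat_lit 3, nat_lit 4, nat_lit 7, nat_lit 4, nat_lit 7, nat_lit 3, nat_lit 4, nat_lit 3, nat_lit 2, nat_lit 3, nat_lit 1], [nat_lit 24, nat_lit 1, nat_lit 33, nat_lit 35, nat_lit 11, nat_lit 26], (nat_lit 12822)), ((nat_lit 3800), [nat_lit 8, nat_lit 6, nat_lit 4, nat_lit 7, nat_lit 3, nat_lit 4, nat_lit 8, nat_lit 1, nat_lit 2, nat_lit 3, nat_lit 0, nat_lit 1], [nat_lit 24, nat_lit 1, nat_lit 32,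 nat_lit 18, nat_lit 26], (nat_lit 3028)), ((nat_lit 3768), [nat_lit 4, nat_lit 7, nat_lit 2, nat_lit 3, nat_lit 4, nat_lit 2, nat_lit 3, nat_lit 0, nat_lit 1], [nat_lit 11, nat_lit 5, nat_lit 2, nat_lit 24, nat_lit 36, nat_lit 16, nat_lit 26], (nat_lit 697)), ((nat_lit 3678), [nat_lit 5, nat_lit 3, nat_lit 4, nat_lit 8, nat_lit 3, nat_lit 0, nat_lit 1, nat_lit 2, nat_lit 3, nat_lit 4, nat_lit 8, nat_lit 3, nat_lit 2, nat_lit 3, nat_lit 1], [nat_lit 15, nat_lit 1, nat_lit 33, nat_lit 25, nat_lit 27], (nat_lit 13052)), ((nat_lit 3692), [nat_lit 5, nat_lit 7, nat_lit 4, nat_lit 7, nat_lit 3, nat_lit 0, nat_lit 1, nat_lit 2, nat_lit 3, nat_lit 4, nat_lit 3, nat_lit 2, nat_lit 3, nat_lit 1], [nat_lit 26, nat_lit 2, nat_lit 32, nat_lit 24, nat_lit 11], (nat_lit 8720)), ((nat_lit 3668), [nat_lit 6, nat_lit 7, nat_lit 4, nat_lit 8, nat_lit 1, nat_lit 2, nat_lit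 3, nat_lit 4, nat_lit 8, nat_lit 2, nat_lit 3, nat_lit 4, nat_lit 3, nat_lit 2, nat_lit 3, nat_lit 1], [nat_lit 17, nat_lit 2, nat_lit 0, nat_lit 26, nat_lit 17, nat_lit 15, nat_lit 27], (nat_lit 15828)), ((nat_lit 3644), [nat_lit 8, nat_lit 4, nat_lit 7, nat_lit 3, nat_lit 4, nat_lit 7, nat_lit 2, nat_lit 3, nat_lit 1], [nat_lit 5, nat_lit 2, nat_lit 0, nat_lit 25, nat_lit 35, nat_lit 11], (nat_lit 942)), ((nat_lit 3646), [nat_lit 8, nat_lit 4, nat_lit 7, nat_lit 1, nat_lit 2, nat_lit 3, nat_lit 4, nat_lit 3, nat_lit 2, nat_lit 3, nat_lit 1], [nat_lit 11, nat_lit 2, nat_lit 0, nat_lit 26, nat_lit 34, nat_lit 32, nat_lit 27], (nat_lit 2218)), ((nat_lit 3790), [nat_lit 5, nat_lit 1, nat_lit 2, nat_lit 3, nat_lit 4, nat_lit 8, nat_lit 3, nat_lit 4, nat_lit 2, nat_lit 3, nat_lit 1], [nat_lit 24, nat_lit 0, nat_lit 34, nat_lit 16, nat_lit 27], (nat_lit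 2495)), ((nat_lit 3802), [nat_lit 4, nat_lit 8, nat_lit 1, nat_lit 2, nat_lit 3, nat_lit 4, nat_lit 7, nat_lit 4, nat_lit 2, nat_lit 3, nat_lit 1], [nat_lit 14, nat_lit 17, nat_lit 25, nat_lit 15, nat_lit 26], (nat_lit 2582)), ((nat_lit 3796), [nat_lit 4, nat_lit 7, nat_lit 2, nat_lit 3, nat_lit 4, nat_lit 3, nat_lit 2, nat_lit 3, nat_lit 0, nat_lit 1], [nat_lit 24, nat_lit 1, nat_lit 37, nat_lit 18, nat_lit 15, nat_lit 26], (nat_lit 1089)), ((nat_lit 3732), [nat_lit 5, nat_lit 8, nat_lit 3, nat_lit 4, nat_lit 8, nat_lit 0, nat_lit 1, nat_lit 2, nat_lit 3, nat_lit 4, nat_lit 7, nat_lit 2, nat_lit 3, nat_lit 1], [nat_lit 1, nat_lit 37, nat_lit 27], (nat_lit 10653)), ((nat_lit 3746), [nat_lit 8, nat_lit 6, nat_lit 4, nat_lit 7, nat_lit 1, nat_lit 2, nat_lit 3, nat_lit 4, nat_lit 3, nat_lit 1, nat_lit 2, nat_lit 3, nat_lit 0, nat_lit 1], [nat_lit 5, nat_lit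 2, nat_lit 11, nat_lit 17], (nat_lit 7221)), ((nat_lit 3764), [nat_lit 6, nat_lit 7, nat_lit 4, nat_lit 8, nat_lit 3, nat_lit 1, nat_lit 2, nat_lit 3, nat_lit 4, nat_lit 3, nat_lit 2, nat_lit 3, nat_lit 1], [nat_lit 5, nat_lit 2, nat_lit 0, nat_lit 24, nat_lit 36], (nat_lit 5745)), ((nat_lit 3642), [nat_lit 8, nat_lit 4, nat_lit 7, nat_lit 1, nat_lit 2, nat_lit 3, nat_lit 4, nat_lit 8, nat_lit 3, nat_lit 2, nat_lit 3, nat_lit 1], [nat_lit 1, nat_lit 25, nat_lit 37, nat_lit 15, nat_lit 26], (nat_lit 3860)), ((nat_lit 3710), [nat_lit 5, nat_lit 8, nat_lit 4, nat_lit 7, nat_lit 3, nat_lit 4, nat_lit 2, nat_lit 3, nat_lit 2, nat_lit 3, nat_lit 4, nat_lit 8, nat_lit 4, nat_lit 3, nat_lit 1], [nat_lit 16, nat_lit 2, nat_lit 27, nat_lit 18, nat_lit 11], (nat_lit 14693)), ((nat_lit 3786), [nat_lit 4, nat_lit 7, nat_lit 6, nat_lit 0, nat_lit 1, nat_lit 2, nat_lit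 3, nat_lit 4, nat_lit 7, nat_lit 3, nat_lit 2, nat_lit 3, nat_lit 0, nat_lit 1], [nat_lit 10, nat_lit 10, nat_lit 0, nat_lit 15, nat_lit 32, nat_lit 15, nat_lit 27], (nat_lit 7916)), ((nat_lit 3617), [nat_lit 7, nat_lit 4, nat_lit 7, nat_lit 1, nat_lit 2, nat_lit 3, nat_lit 4, nat_lit 7, nat_lit 3, nat_lit 2, nat_lit 3, nat_lit 0, nat_lit 1], [nat_lit 5, nat_lit 16, nat_lit 2, nat_lit 35, nat_lit 17, nat_lit 16], (nat_lit 5210)), ((nat_lit 3603), [nat_lit 5, nat_lit 8, nat_lit 4, nat_lit 7, nat_lit 3, nat_lit 2, nat_lit 3, nat_lit 4, nat_lit 3, nat_lit 2, nat_lit 3, nat_lit 1], [nat_lit 24, nat_lit 0, nat_lit 36, nat_lit 32, nat_lit 26], (nat_lit 3703)), ((nat_lit 3780), [nat_lit 8, nat_lit 1, nat_lit 2, nat_lit 3, nat_lit 4, nat_lit 7, nat_lit 1, nat_lit 2, nat_lit 3, nat_lit 4, nat_lit 3, nat_lit 2, nat_lit 3, nat_lit 0, nat_lit 1], [nat_lit 24,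 nat_lit 16, nat_lit 0, nat_lit 25, nat_lit 15, nat_lit 27], (nat_lit 11195)), ((nat_lit 3638), [nat_lit 8, nat_lit 3, nat_lit 4, nat_lit 8, nat_lit 3, nat_lit 4, nat_lit 7, nat_lit 2, nat_lit 3, nat_lit 1], [nat_lit 5, nat_lit 2, nat_lit 0, nat_lit 17, nat_lit 15], (nat_lit 1598)), ((nat_lit 3605), [nat_lit 3, nat_lit 4, nat_lit 7, nat_lit 2, nat_lit 3, nat_lit 4, nat_lit 7, nat_lit 4, nat_lit 2, nat_lit 3, nat_lit 1], [nat_lit 26, nat_lit 2, nat_lit 37, nat_lit 18], (nat_lit 2590)), ((nat_lit 3734), [nat_lit 4, nat_lit 8, nat_lit 2, nat_lit 3, nat_lit 4, nat_lit 8, nat_lit 1, nat_lit 2, nat_lit 3, nat_lit 4, nat_lit 7, nat_lit 3, nat_lit 2, nat_lit 3, nat_lit 1], [nat_lit 5, nat_lit 0, nat_lit 16, nat_lit 11, nat_lit 26], (nat_lit 13465)), ((nat_lit 3686), [nat_lit 7, nat_lit 1, nat_lit 2, nat_lit 3, nat_lit 4, nat_lit 7, nat_lit 2, nat_lit 3, nat_lit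 4, nat_lit 7, nat_lit 4, nat_lit 3, nat_lit 2, nat_lit 3, nat_lit 1], [nat_lit 15, nat_lit 18, nat_lit 11], (nat_lit 13017)), ((nat_lit 3736), [nat_lit 4, nat_lit 7, nat_lit 4, nat_lit 3, nat_lit 1, nat_lit 2, nat_lit 3, nat_lit 4, nat_lit 7, nat_lit 3, nat_lit 4, nat_lit 2, nat_lit 3, nat_lit 1], [nat_lit 2, nat_lit 34, nat_lit 37, nat_lit 11], (nat_lit 10191)), ((nat_lit 3750), [nat_lit 8, nat_lit 4, nat_lit 8, nat_lit 6, nat_lit 1, nat_lit 2, nat_lit 3, nat_lit 4, nat_lit 8, nat_lit 1, nat_lit 2, nat_lit 3, nat_lit 0, nat_lit 1], [nat_lit 25, nat_lit 14, nat_lit 0, nat_lit 24, nat_lit 37, nat_lit 15, nat_lit 26], (nat_lit 7445)), ((nat_lit 3652), [nat_lit 6, nat_lit 7, nat_lit 4, nat_lit 7, nat_lit 1, nat_lit 2, nat_lit 3, nat_lit 4, nat_lit 8, nat_lit 1, nat_lit 2, nat_lit 3, nat_lit 0, nat_lit 1], [nat_lit 1, nat_lit 14, nat_lit 37, nat_lit 17,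 nat_lit 11, nat_lit 26], (nat_lit 7469)), ((nat_lit 3684), [nat_lit 4, nat_lit 8, nat_lit 1, nat_lit 2, nat_lit 3, nat_lit 4, nat_lit 7, nat_lit 0, nat_lit 1, nat_lit 2, nat_lit 3, nat_lit 4, nat_lit 3, nat_lit 2, nat_lit 3, nat_lit 1], [nat_lit 2, nat_lit 0, nat_lit 15, nat_lit 32, nat_lit 15, nat_lit 27], (nat_lit 15718)), ((nat_lit 3704), [nat_lit 5, nat_lit 8, nat_lit 3, nat_lit 2, nat_lit 3, nat_lit 1, nat_lit 2, nat_lit 3, nat_lit 4, nat_lit 7, nat_lit 3, nat_lit 2, nat_lit 3, nat_lit 1], [nat_lit 26, nat_lit 24, nat_lit 0, nat_lit 11, nat_lit 16, nat_lit 26], (nat_lit 9500)), ((nat_lit 3682), [nat_lit 5, nat_lit 4, nat_lit 7, nat_lit 1, nat_lit 2, nat_lit 3, nat_lit 4, nat_lit 7, nat_lit 2, nat_lit 3, nat_lit 4, nat_lit 7, nat_lit 2, nat_lit 3, nat_lit 1], [nat_lit 26, nat_lit 2, nat_lit 0, nat_lit 18, nat_lit 15, nat_lit 11, nat_lit 26], (nat_lit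 14636)), ((nat_lit 3607), [nat_lit 4, nat_lit 7, nat_lit 5, nat_lit 2, nat_lit 3, nat_lit 4, nat_lit 7, nat_lit 1, nat_lit 2, nat_lit 3, nat_lit 4, nat_lit 8, nat_lit 2, nat_lit 3, nat_lit 1], [nat_lit 5, nat_lit 2, nat_lit 37, nat_lit 16], (nat_lit 14320)), ((nat_lit 3662), [nat_lit 7, nat_lit 3, nat_lit 4, nat_lit 7, nat_lit 2, nat_lit 3, nat_lit 4, nat_lit 8, nat_lit 4, nat_lit 2, nat_lit 3, nat_lit 1], [nat_lit 1, nat_lit 14, nat_lit 37, nat_lit 34, nat_lit 25, nat_lit 26], (nat_lit 4246)), ((nat_lit 3615), [nat_lit 5, nat_lit 8, nat_lit 2, nat_lit 3, nat_lit 4, nat_lit 7, nat_lit 3, nat_lit 4, nat_lit 2, nat_lit 3, nat_lit 1], [nat_lit 16, nat_lit 5, nat_lit 0, nat_lit 34, nat_lit 11, nat_lit 17], (nat_lit 2533)), ((nat_lit 3782), [nat_lit 7, nat_lit 4, nat_lit 8, nat_lit 3, nat_lit 4, nat_lit 8, nat_lit 2, nat_lit 3, nat_lit 4, nat_lit 8, nat_lit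 3, nat_lit 2, nat_lit 3, nat_lit 1], [nat_lit 26, nat_lit 24, nat_lit 0, nat_lit 26, nat_lit 17, nat_lit 15], (nat_lit 9396)), ((nat_lit 3619), [nat_lit 8, nat_lit 2, nat_lit 3, nat_lit 4, nat_lit 8, nat_lit 0, nat_lit 1, nat_lit 2, nat_lit 3, nat_lit 4, nat_lit 8, nat_lit 2, nat_lit 3, nat_lit 0, nat_lit 1], [nat_lit 25, nat_lit 1, nat_lit 24, nat_lit 17, nat_lit 27], (nat_lit 12025)), ((nat_lit 3726), [nat_lit 5, nat_lit 7, nat_lit 4, nat_lit 7, nat_lit 3, nat_lit 4, nat_lit 7, nat_lit 4, nat_lit 2, nat_lit 3, nat_lit 1], [nat_lit 11, nat_lit 2, nat_lit 0, nat_lit 37, nat_lit 17], (nat_lit 2599)), ((nat_lit 3794), [nat_lit 6, nat_lit 4, nat_lit 8, nat_lit 2, nat_lit 3, nat_lit 4, nat_lit 8, nat_lit 1, nat_lit 2, nat_lit 3, nat_lit 0, nat_lit 1], [nat_lit 5, nat_lit 2, nat_lit 37, nat_lit 11, nat_lit 17, nat_lit 26], (nat_lit 3000)), ((nat_lit 3654),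 [nat_lit 8, nat_lit 4, nat_lit 8, nat_lit 8, nat_lit 1, nat_lit 2, nat_lit 3, nat_lit 4, nat_lit 8, nat_lit 2, nat_lit 3, nat_lit 4, nat_lit 2, nat_lit 3, nat_lit 0, nat_lit 1], [nat_lit 5, nat_lit 16, nat_lit 2, nat_lit 18, nat_lit 16, nat_lit 11], (nat_lit 15302)), ((nat_lit 3700), [nat_lit 6, nat_lit 7, nat_lit 3, nat_lit 4, nat_lit 7, nat_lit 2, nat_lit 3, nat_lit 4, nat_lit 7, nat_lit 2, nat_lit 3, nat_lit 0, nat_lit 1], [nat_lit 2, nat_lit 0, nat_lit 35, nat_lit 17, nat_lit 26], (nat_lit 5670)), ((nat_lit 3632), [nat_lit 6, nat_lit 7, nat_lit 3, nat_lit 4, nat_lit 7, nat_lit 3, nat_lit 4, nat_lit 8, nat_lit 2, nat_lit 3, nat_lit 1], [nat_lit 37, nat_lit 34, nat_lit 11, nat_lit 26], (nat_lit 2667)), ((nat_lit 3774), [nat_lit 8, nat_lit 3, nat_lit 4, nat_lit 7, nat_lit 2, nat_lit 3, nat_lit 4, nat_lit 7, nat_lit 2, nat_lit 3, nat_lit 1], [nat_lit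 5, nat_lit 0, nat_lit 36, nat_lit 36, nat_lit 17], (nat_lit 2723)), ((nat_lit 3784), [nat_lit 7, nat_lit 4, nat_lit 7, nat_lit 3, nat_lit 4, nat_lit 7, nat_lit 3, nat_lit 1, nat_lit 2, nat_lit 3, nat_lit 0, nat_lit 1], [nat_lit 5, nat_lit 2, nat_lit 17, nat_lit 24], (nat_lit 2863)), ((nat_lit 3742), [nat_lit 5, nat_lit 8, nat_lit 0, nat_lit 1, nat_lit 2, nat_lit 3, nat_lit 4, nat_lit 7, nat_lit 3, nat_lit 2, nat_lit 3, nat_lit 1], [nat_lit 26, nat_lit 24, nat_lit 0, nat_lit 24, nat_lit 16, nat_lit 27], (nat_lit 3920)), ((nat_lit 3696), [nat_lit 6, nat_lit 4, nat_lit 3, nat_lit 2, nat_lit 3, nat_lit 4, nat_lit 7, nat_lit 3, nat_lit 4, nat_lit 3, nat_lit 2, nat_lit 3, nat_lit 0, nat_lit 1], [nat_lit 10, nat_lit 10, nat_lit 0, nat_lit 35, nat_lit 16, nat_lit 16], (nat_lit 7689)), ((nat_lit 3672), [nat_lit 3, nat_lit 2, nat_lit 3, nat_lit 4, nat_lit 7,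 nat_lit 1, nat_lit 2, nat_lit 3, nat_lit 4, nat_lit 3, nat_lit 2, nat_lit 3, nat_lit 0, nat_lit 1], [nat_lit 2, nat_lit 0, nat_lit 18, nat_lit 18, nat_lit 27], (nat_lit 7603)), ((nat_lit 3636), [nat_lit 7, nat_lit 4, nat_lit 8, nat_lit 3, nat_lit 4, nat_lit 7, nat_lit 0, nat_lit 1, nat_lit 2, nat_lit 3, nat_lit 4, nat_lit 7, nat_lit 2, nat_lit 3, nat_lit 0, nat_lit 1], [nat_lit 15, nat_lit 0, nat_lit 33, nat_lit 18, nat_lit 11, nat_lit 27], (nat_lit 15566)), ((nat_lit 3752), [nat_lit 7, nat_lit 1, nat_lit 2, nat_lit 3, nat_lit 4, nat_lit 7, nat_lit 3, nat_lit 4, nat_lit 3, nat_lit 1, nat_lit 2, nat_lit 3, nat_lit 0, nat_lit 1], [nat_lit 11, nat_lit 5, nat_lit 2, nat_lit 24, nat_lit 24], (nat_lit 7237)), ((nat_lit 3666), [nat_lit 7, nat_lit 3, nat_lit 4, nat_lit 7, nat_lit 3, nat_lit 2, nat_lit 3, nat_lit 4, nat_lit 7, nat_lit 3, nat_lit 4, nat_lit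 2, nat_lit 3, nat_lit 1], [nat_lit 10, nat_lit 0, nat_lit 26, nat_lit 17, nat_lit 15, nat_lit 27], (nat_lit 10251)), ((nat_lit 3613), [nat_lit 6, nat_lit 3, nat_lit 4, nat_lit 8, nat_lit 1, nat_lit 2, nat_lit 3, nat_lit 4, nat_lit 3, nat_lit 2, nat_lit 3, nat_lit 1], [nat_lit 1, nat_lit 24, nat_lit 0, nat_lit 25, nat_lit 37, nat_lit 15, nat_lit 27], (nat_lit 3668)), ((nat_lit 3788), [nat_lit 3, nat_lit 2, nat_lit 3, nat_lit 4, nat_lit 7, nat_lit 2, nat_lit 3, nat_lit 4, nat_lit 3, nat_lit 2, nat_lit 3, nat_lit 1], [nat_lit 5, nat_lit 14, nat_lit 17, nat_lit 17, nat_lit 15, nat_lit 27], (nat_lit 3721)), ((nat_lit 3664), [nat_lit 5, nat_lit 8, nat_lit 3, nat_lit 4, nat_lit 7, nat_lit 2, nat_lit 3, nat_lit 4, nat_lit 8, nat_lit 2, nat_lit 3, nat_lit 1], [nat_lit 11, nat_lit 5, nat_lit 2, nat_lit 32, nat_lit 18], (nat_lit 4382)), ((nat_lit 3720), [nat_lit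 2, nat_lit 3, nat_lit 4, nat_lit 7, nat_lit 2, nat_lit 3, nat_lit 4, nat_lit 7, nat_lit 2, nat_lit 3, nat_lit 4, nat_lit 7, nat_lit 2, nat_lit 3, nat_lit 0, nat_lit 1], [nat_lit 1, nat_lit 1, nat_lit 37, nat_lit 33, nat_lit 11, nat_lit 27], (nat_lit 15651)), ((nat_lit 3688), [nat_lit 4, nat_lit 7, nat_lit 3, nat_lit 4, nat_lit 8, nat_lit 3, nat_lit 2, nat_lit 3, nat_lit 4, nat_lit 7, nat_lit 3, nat_lit 2, nat_lit 3, nat_lit 1], [nat_lit 14, nat_lit 0, nat_lit 33, nat_lit 11, nat_lit 16, nat_lit 27], (nat_lit 9595)), ((nat_lit 3680), [nat_lit 8, nat_lit 4, nat_lit 7, nat_lit 2, nat_lit 3, nat_lit 4, nat_lit 7, nat_lit 2, nat_lit 3, nat_lit 4, nat_lit 8, nat_lit 2, nat_lit 3, nat_lit 0, nat_lit 1], [nat_lit 16, nat_lit 2, nat_lit 18, nat_lit 11, nat_lit 26], (nat_lit 12175)), ((nat_lit 3728), [nat_lit 4, nat_lit 8, nat_lit 2, nat_lit 3, nat_lit 4, nat_lit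 8, nat_lit 1, nat_lit 2, nat_lit 3, nat_lit 4, nat_lit 2, nat_lit 3, nat_lit 1], [nat_lit 14, nat_lit 15, nat_lit 0, nat_lit 27, nat_lit 24], (nat_lit 6379)), ((nat_lit 3674), [nat_lit 6, nat_lit 7, nat_lit 4, nat_lit 7, nat_lit 3, nat_lit 4, nat_lit 8, nat_lit 1, nat_lit 2, nat_lit 3, nat_lit 4, nat_lit 8, nat_lit 3, nat_lit 2, nat_lit 3, nat_lit 1], [nat_lit 25, nat_lit 2, nat_lit 0, nat_lit 37, nat_lit 34, nat_lit 25, nat_lit 27], (nat_lit 16253)), ((nat_lit 3766), [nat_lit 4, nat_lit 8, nat_lit 5, nat_lit 2, nat_lit 3, nat_lit 1, nat_lit 2, nat_lit 3, nat_lit 4, nat_lit 7, nat_lit 4, nat_lit 3, nat_lit 2, nat_lit 3, nat_lit 1], [nat_lit 24, nat_lit 2, nat_lit 34, nat_lit 32, nat_lit 16], (nat_lit 12975)), ((nat_lit 3694), [nat_lit 3, nat_lit 4, nat_lit 8, nat_lit 3, nat_lit 2, nat_lit 3, nat_lit 4, nat_lit 8, nat_lit 3, nat_lit 2, nat_lit 3, nat_lit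 1], [nat_lit 1, nat_lit 37, nat_lit 16, nat_lit 26], (nat_lit 3865)), ((nat_lit 3792), [nat_lit 7, nat_lit 3, nat_lit 4, nat_lit 7, nat_lit 7, nat_lit 1, nat_lit 2, nat_lit 3, nat_lit 4, nat_lit 7, nat_lit 2, nat_lit 3, nat_lit 0, nat_lit 1], [nat_lit 18, nat_lit 15, nat_lit 0, nat_lit 15, nat_lit 18, nat_lit 11, nat_lit 26], (nat_lit 8602)), ((nat_lit 3762), [nat_lit 8, nat_lit 5, nat_lit 3, nat_lit 0, nat_lit 1, nat_lit 2, nat_lit 3, nat_lit 4, nat_lit 7, nat_lit 4, nat_lit 3, nat_lit 2, nat_lit 3, nat_lit 0, nat_lit 1], [nat_lit 5, nat_lit 2, nat_lit 37, nat_lit 15], (nat_lit 11345)), ((nat_lit 3706), [nat_lit 7, nat_lit 6, nat_lit 3, nat_lit 4, nat_lit 7, nat_lit 2, nat_lit 3, nat_lit 4, nat_lit 8, nat_lit 2, nat_lit 3, nat_lit 1], [nat_lit 18, nat_lit 15, nat_lit 0, nat_lit 18, nat_lit 16, nat_lit 26], (nat_lit 4377)), ((nat_lit 3640), [nat_lit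 7, nat_lit 6, nat_lit 2, nat_lit 3, nat_lit 4, nat_lit 7, nat_lit 2, nat_lit 3, nat_lit 4, nat_lit 2, nat_lit 3, nat_lit 1], [nat_lit 17, nat_lit 16, nat_lit 27], (nat_lit 4098)), ((nat_lit 3648), [nat_lit 8, nat_lit 2, nat_lit 3, nat_lit 4, nat_lit 7, nat_lit 6, nat_lit 3, nat_lit 1, nat_lit 2, nat_lit 3, nat_lit 4, nat_lit 8, nat_lit 3, nat_lit 2, nat_lit 3, nat_lit 1], [nat_lit 24, nat_lit 2, nat_lit 15, nat_lit 18], (nat_lit 16208)), ((nat_lit 3716), [nat_lit 2, nat_lit 3, nat_lit 4, nat_lit 7, nat_lit 4, nat_lit 7, nat_lit 0, nat_lit 1, nat_lit 2, nat_lit 3, nat_lit 4, nat_lit 7, nat_lit 2, nat_lit 3, nat_lit 0, nat_lit 1], [nat_lit 1, nat_lit 1, nat_lit 36, nat_lit 33, nat_lit 24, nat_lit 26], (nat_lit 15568)), ((nat_lit 3770), [nat_lit 5, nat_lit 3, nat_lit 4, nat_lit 7, nat_lit 3, nat_lit 1, nat_lit 2, nat_lit 3, nat_lit 4, nat_lit 3, nat_lit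 2, nat_lit 3, nat_lit 0, nat_lit 1], [nat_lit 25, nat_lit 2, nat_lit 0, nat_lit 36, nat_lit 36, nat_lit 17, nat_lit 27], (nat_lit 7585)), ((nat_lit 3744), [nat_lit 8, nat_lit 3, nat_lit 4, nat_lit 7, nat_lit 2, nat_lit 3, nat_lit 4, nat_lit 8, nat_lit 2, nat_lit 3, nat_lit 4, nat_lit 2, nat_lit 3, nat_lit 0, nat_lit 1], [nat_lit 24, nat_lit 2, nat_lit 0, nat_lit 15, nat_lit 17, nat_lit 27], (nat_lit 11827))] (nat_lit 0) m5_9_1) = 0 := by decide +kernel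
theorem e5_9_2 : dt.run q (fun c => c.edges (SP THn.T THn.Rl (nat_lit 15)) (nat_lit 4429) THn.T.n (nat_lit 5) (nat_lit 9)
  [((nat_lit 3656), [nat_lit 7, nat_lit 3, nat_lit 4, nat_lit 7, nat_lit 7, nat_lit 0, nat_lit 1, nat_lit 2, nat_lit 3, nat_lit 4, nat_lit 7, nat_lit 2, nat_lit 3, nat_lit 0, nat_lit 1], [nat_lit 24, nat_lit 36, nat_lit 11], (nat_lit 12239)), ((nat_lit 3730), [nat_lit 8, nat_lit 8, nat_lit 4, nat_lit 2, nat_lit 3, nat_lit 1, nat_lit 2, nat_lit 3, nat_lit 4, nat_lit 8, nat_lit 3, nat_lit 4, nat_lit 3, nat_lit 2, nat_lit 3, nat_lit 0, nat_lit 1], [nat_lit 5, nat_lit 0, nat_lit 11, nat_lit 27], (nat_lit 16890)), ((nat_lit 3772), [nat_lit 3, nat_lit 4, nat_lit 7, nat_lit 4, nat_lit 7, nat_lit 3, nat_lit 1, nat_lit 2, nat_lit 3, nat_lit 4, nat_lit 3, nat_lit 2, nat_lit 3, nat_lit 0, nat_lit 1], [nat_lit 11, nat_lit 2, nat_lit 0, nat_lit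 25, nat_lit 11], (nat_lit 11177)), ((nat_lit 3756), [nat_lit 4, nat_lit 7, nat_lit 5, nat_lit 3, nat_lit 4, nat_lit 8, nat_lit 1, nat_lit 2, nat_lit 3, nat_lit 4, nat_lit 7, nat_lit 2, nat_lit 3, nat_lit 0, nat_lit 1], [nat_lit 14, nat_lit 15, nat_lit 26], (nat_lit 12267)), ((nat_lit 3698), [nat_lit 7, nat_lit 4, nat_lit 7, nat_lit 3, nat_lit 4, nat_lit 8, nat_lit 5, nat_lit 2, nat_lit 3, nat_lit 4, nat_lit 8, nat_lit 2, nat_lit 3, nat_lit 0, nat_lit 1], [nat_lit 10, nat_lit 10, nat_lit 0, nat_lit 26, nat_lit 24, nat_lit 27], (nat_lit 12106)), ((nat_lit 3702), [nat_lit 5, nat_lit 7, nat_lit 4, nat_lit 8, nat_lit 3, nat_lit 4, nat_lit 7, nat_lit 2, nat_lit 3, nat_lit 4, nat_lit 7, nat_lit 3, nat_lit 2, nat_lit 3, nat_lit 1], [nat_lit 26, nat_lit 2, nat_lit 25, nat_lit 11, nat_lit 27], (nat_lit 13565)), ((nat_lit 3754), [nat_lit 3, nat_lit 4, nat_lit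 8, nat_lit 4, nat_lit 8, nat_lit 2, nat_lit 3, nat_lit 1, nat_lit 2, nat_lit 3, nat_lit 4, nat_lit 3, nat_lit 2, nat_lit 3, nat_lit 1], [nat_lit 11, nat_lit 5, nat_lit 2, nat_lit 24, nat_lit 37], (nat_lit 12503)), ((nat_lit 3740), [nat_lit 3, nat_lit 4, nat_lit 8, nat_lit 3, nat_lit 1, nat_lit 2, nat_lit 3, nat_lit 4, nat_lit 7, nat_lit 3, nat_lit 4, nat_lit 3, nat_lit 2, nat_lit 3, nat_lit 1], [nat_lit 25, nat_lit 2, nat_lit 0, nat_lit 18, nat_lit 25, nat_lit 26], (nat_lit 12770)), ((nat_lit 3778), [nat_lit 7, nat_lit 5, nat_lit 1, nat_lit 2, nat_lit 3, nat_lit 4, nat_lit 8, nat_lit 1, nat_lit 2, nat_lit 3, nat_lit 4, nat_lit 7, nat_lit 2, nat_lit 3, nat_lit 0, nat_lit 1], [nat_lit 26, nat_lit 2, nat_lit 35, nat_lit 17, nat_lit 16, nat_lit 26], (nat_lit 15577)), ((nat_lit 3592), [nat_lit 4, nat_lit 7, nat_lit 5, nat_lit 3, nat_lit 4, nat_lit 8, nat_lit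 1, nat_lit 2, nat_lit 3, nat_lit 4, nat_lit 7, nat_lit 2, nat_lit 3, nat_lit 1], [nat_lit 1, nat_lit 24, nat_lit 0, nat_lit 24, nat_lit 17, nat_lit 27], (nat_lit 10704)), ((nat_lit 3670), [nat_lit 8, nat_lit 3, nat_lit 4, nat_lit 7, nat_lit 2, nat_lit 3, nat_lit 1, nat_lit 2, nat_lit 3, nat_lit 4, nat_lit 3, nat_lit 2, nat_lit 3, nat_lit 0, nat_lit 1], [nat_lit 15, nat_lit 5, nat_lit 25, nat_lit 36, nat_lit 27], (nat_lit 11157)), ((nat_lit 3808), [nat_lit 5, nat_lit 7, nat_lit 3, nat_lit 1, nat_lit 2, nat_lit 3, nat_lit 4, nat_lit 7, nat_lit 2, nat_lit 3, nat_lit 4, nat_lit 7, nat_lit 2, nat_lit 3, nat_lit 1], [nat_lit 2, nat_lit 17, nat_lit 37, nat_lit 27], (nat_lit 14631)), ((nat_lit 3585), [nat_lit 4, nat_lit 7, nat_lit 3, nat_lit 4, nat_lit 8, nat_lit 0, nat_lit 1, nat_lit 2, nat_lit 3, nat_lit 4, nat_lit 8, nat_lit 3, nat_lit 2, nat_lit 3, nat_lit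 1], [], (nat_lit 13089)), ((nat_lit 3806), [nat_lit 4, nat_lit 7, nat_lit 5, nat_lit 3, nat_lit 4, nat_lit 7, nat_lit 1, nat_lit 2, nat_lit 3, nat_lit 4, nat_lit 7, nat_lit 3, nat_lit 2, nat_lit 3, nat_lit 1], [nat_lit 5, nat_lit 16, nat_lit 2, nat_lit 33, nat_lit 15, nat_lit 27], (nat_lit 13482))] m5_9_1 m5_9_2) = 0 := by decide +kernel
theorem e5_9_3 : reachX THn.T (nat_lit 1447419482702870848) (S5.map Prod.snd) [nat_lit 0, nat_lit 1, nat_lit 0] m5_9_2 = m5_9_3 := by decide +kernel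
theorem e5_10_1 : dt.run q (fun c => c.edges (SP THn.T THn.Rl (nat_lit 15)) (nat_lit 4429) THn.T.n (nat_lit 5) (nat_lit 10)
  [((nat_lit 3900), [nat_lit 3, nat_lit 4, nat_lit 8, nat_lit 1, nat_lit 2, nat_lit 3, nat_lit 0, nat_lit 1], [nat_lit 10, nat_lit 10, nat_lit 0, nat_lit 17, nat_lit 27], (nat_lit 379)), ((nat_lit 3954), [nat_lit 4, nat_lit 7, nat_lit 4, nat_lit 1, nat_lit 2, nat_lit 3, nat_lit 0, nat_lit 1], [nat_lit 16, nat_lit 16], (nat_lit 376)), ((nat_lit 4006), [nat_lit 3, nat_lit 2, nat_lit 3, nat_lit 4, nat_lit 7, nat_lit 4, nat_lit 1, nat_lit 2, nat_lit 3, nat_lit 0, nat_lit 1], [nat_lit 0, nat_lit 24, nat_lit 35, nat_lit 27], (nat_lit 1775)), ((nat_lit 3952), [nat_lit 6, nat_lit 7, nat_lit 3, nat_lit 2, nat_lit 3, nat_lit 4, nat_lit 1, nat_lit 2, nat_lit 3, nat_lit 0, nat_lit 1], [nat_lit 24, nat_lit 18, nat_lit 26], (nat_lit 1727)),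 ((nat_lit 3966), [nat_lit 5, nat_lit 4, nat_lit 7, nat_lit 3], [nat_lit 10, nat_lit 10, nat_lit 0, nat_lit 34, nat_lit 34, nat_lit 15, nat_lit 26], (nat_lit 66)), ((nat_lit 3942), [nat_lit 8, nat_lit 3, nat_lit 2, nat_lit 3, nat_lit 4, nat_lit 7, nat_lit 1, nat_lit 2, nat_lit 3, nat_lit 0, nat_lit 1], [nat_lit 5, nat_lit 17, nat_lit 11, nat_lit 17], (nat_lit 1824)), ((nat_lit 4084), [nat_lit 5, nat_lit 3, nat_lit 4, nat_lit 7, nat_lit 3, nat_lit 2, nat_lit 3, nat_lit 0, nat_lit 1], [nat_lit 26, nat_lit 2, nat_lit 0, nat_lit 26, nat_lit 15, nat_lit 27], (nat_lit 680)), ((nat_lit 3982), [nat_lit 7, nat_lit 4, nat_lit 2, nat_lit 3, nat_lit 1], [nat_lit 10, nat_lit 10, nat_lit 0, nat_lit 35, nat_lit 35, nat_lit 11, nat_lit 26], (nat_lit 87)), ((nat_lit 3992), [nat_lit 5, nat_lit 3, nat_lit 4, nat_lit 7, nat_lit 3, nat_lit 2, nat_lit 3, nat_lit 1], [nat_lit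 24, nat_lit 2, nat_lit 0, nat_lit 34, nat_lit 17, nat_lit 26], (nat_lit 494)), ((nat_lit 3902), [nat_lit 3, nat_lit 2, nat_lit 3, nat_lit 1, nat_lit 2, nat_lit 3, nat_lit 4, nat_lit 8, nat_lit 4, nat_lit 3, nat_lit 0, nat_lit 1], [nat_lit 10, nat_lit 10, nat_lit 0, nat_lit 24, nat_lit 18, nat_lit 26], (nat_lit 3627)), ((nat_lit 3968), [nat_lit 5, nat_lit 4, nat_lit 7, nat_lit 4, nat_lit 3], [nat_lit 10, nat_lit 10, nat_lit 0, nat_lit 36, nat_lit 11], (nat_lit 115)), ((nat_lit 3944), [nat_lit 8, nat_lit 4, nat_lit 7, nat_lit 4, nat_lit 3], [nat_lit 35, nat_lit 35, nat_lit 26], (nat_lit 116)), ((nat_lit 3962), [nat_lit 8, nat_lit 5, nat_lit 4, nat_lit 8, nat_lit 4, nat_lit 1, nat_lit 2, nat_lit 3, nat_lit 0, nat_lit 1], [nat_lit 33, nat_lit 15, nat_lit 11, nat_lit 26], (nat_lit 1038)), ((nat_lit 3958), [nat_lit 8, nat_lit 5, nat_lit 4, nat_lit 7, nat_lit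 1, nat_lit 2, nat_lit 3, nat_lit 0, nat_lit 1], [nat_lit 33, nat_lit 15, nat_lit 26], (nat_lit 638)), ((nat_lit 3956), [nat_lit 8, nat_lit 5, nat_lit 3, nat_lit 2, nat_lit 3, nat_lit 4, nat_lit 7, nat_lit 1, nat_lit 2, nat_lit 3, nat_lit 0, nat_lit 1], [nat_lit 10, nat_lit 10, nat_lit 0, nat_lit 24, nat_lit 17, nat_lit 11, nat_lit 27], (nat_lit 3060)), ((nat_lit 3964), [nat_lit 7, nat_lit 4, nat_lit 7, nat_lit 1, nat_lit 2, nat_lit 3, nat_lit 0, nat_lit 1], [nat_lit 15, nat_lit 5, nat_lit 15, nat_lit 18, nat_lit 11, nat_lit 27], (nat_lit 388)), ((nat_lit 3990), [nat_lit 3, nat_lit 0, nat_lit 1, nat_lit 2, nat_lit 3, nat_lit 4, nat_lit 8, nat_lit 1, nat_lit 2, nat_lit 3, nat_lit 0, nat_lit 1], [nat_lit 10, nat_lit 10, nat_lit 0, nat_lit 24, nat_lit 18, nat_lit 18, nat_lit 27], (nat_lit 2972)), ((nat_lit 4040), [nat_lit 6, nat_lit 0, nat_lit 1, nat_lit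 2, nat_lit 3, nat_lit 1, nat_lit 2, nat_lit 3, nat_lit 4, nat_lit 7, nat_lit 3, nat_lit 4, nat_lit 2, nat_lit 3, nat_lit 1], [nat_lit 10, nat_lit 0, nat_lit 35, nat_lit 36, nat_lit 11], (nat_lit 14051)), ((nat_lit 4108), [nat_lit 5, nat_lit 3, nat_lit 2, nat_lit 3, nat_lit 4, nat_lit 7, nat_lit 3, nat_lit 2, nat_lit 3, nat_lit 1], [nat_lit 5, nat_lit 15, nat_lit 15, nat_lit 11, nat_lit 26], (nat_lit 1373)), ((nat_lit 4118), [nat_lit 5, nat_lit 0, nat_lit 1, nat_lit 2, nat_lit 3, nat_lit 4, nat_lit 7, nat_lit 2, nat_lit 3, nat_lit 4, nat_lit 8, nat_lit 2, nat_lit 3, nat_lit 1], [nat_lit 5, nat_lit 14, nat_lit 37, nat_lit 33, nat_lit 26], (nat_lit 10539)), ((nat_lit 4026), [nat_lit 6, nat_lit 1, nat_lit 2, nat_lit 3, nat_lit 2, nat_lit 3, nat_lit 4, nat_lit 7, nat_lit 3, nat_lit 4, nat_lit 2, nat_lit 3, nat_lit 1], [nat_lit 5, nat_lit 27, nat_lit 36,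 nat_lit 26], (nat_lit 6686)), ((nat_lit 4068), [nat_lit 8, nat_lit 8, nat_lit 4, nat_lit 7, nat_lit 3, nat_lit 2, nat_lit 3, nat_lit 4, nat_lit 3, nat_lit 2, nat_lit 3, nat_lit 1], [nat_lit 26, nat_lit 2, nat_lit 37], (nat_lit 3704)), ((nat_lit 4004), [nat_lit 4, nat_lit 7, nat_lit 4, nat_lit 7, nat_lit 5, nat_lit 3, nat_lit 2, nat_lit 3, nat_lit 4, nat_lit 8, nat_lit 3, nat_lit 2, nat_lit 3, nat_lit 1], [nat_lit 2, nat_lit 0, nat_lit 25, nat_lit 11, nat_lit 27], (nat_lit 9354)), ((nat_lit 3972), [nat_lit 3, nat_lit 1, nat_lit 2, nat_lit 3, nat_lit 4, nat_lit 7, nat_lit 4, nat_lit 2, nat_lit 3, nat_lit 1], [nat_lit 18, nat_lit 15, nat_lit 11, nat_lit 27], (nat_lit 1493)), ((nat_lit 3904), [nat_lit 3, nat_lit 2, nat_lit 3, nat_lit 0, nat_lit 1, nat_lit 2, nat_lit 3, nat_lit 4, nat_lit 8, nat_lit 4, nat_lit 2, nat_lit 3, nat_lit 1], [nat_lit 5, nat_lit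 2, nat_lit 0, nat_lit 18, nat_lit 15, nat_lit 11, nat_lit 26], (nat_lit 6729)), ((nat_lit 4010), [nat_lit 7, nat_lit 4, nat_lit 3, nat_lit 2, nat_lit 3, nat_lit 4, nat_lit 8, nat_lit 1, nat_lit 2, nat_lit 3, nat_lit 4, nat_lit 3, nat_lit 2, nat_lit 3, nat_lit 1], [nat_lit 10, nat_lit 10, nat_lit 0, nat_lit 33, nat_lit 36], (nat_lit 12554)), ((nat_lit 4044), [nat_lit 8, nat_lit 4, nat_lit 7, nat_lit 3, nat_lit 2, nat_lit 3, nat_lit 0, nat_lit 1], [nat_lit 15, nat_lit 5, nat_lit 36, nat_lit 16, nat_lit 27], (nat_lit 406)), ((nat_lit 4106), [nat_lit 2, nat_lit 3, nat_lit 4, nat_lit 8, nat_lit 8, nat_lit 2, nat_lit 3, nat_lit 4, nat_lit 8, nat_lit 2, nat_lit 3, nat_lit 0, nat_lit 1], [nat_lit 5, nat_lit 14, nat_lit 16, nat_lit 18, nat_lit 15], (nat_lit 5552)), ((nat_lit 4110), [nat_lit 2, nat_lit 3, nat_lit 4, nat_lit 8, nat_lit 2, nat_lit 3, nat_lit 4,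 nat_lit 2, nat_lit 3, nat_lit 0, nat_lit 1], [nat_lit 5, nat_lit 16, nat_lit 2, nat_lit 32, nat_lit 37, nat_lit 15], (nat_lit 1994)), ((nat_lit 4198), [nat_lit 6, nat_lit 7, nat_lit 3, nat_lit 4, nat_lit 3, nat_lit 2, nat_lit 3, nat_lit 1], [nat_lit 10, nat_lit 0, nat_lit 32, nat_lit 16, nat_lit 26], (nat_lit 467)), ((nat_lit 4134), [nat_lit 8, nat_lit 8, nat_lit 4, nat_lit 7, nat_lit 3, nat_lit 2, nat_lit 3, nat_lit 4, nat_lit 7, nat_lit 3, nat_lit 2, nat_lit 3, nat_lit 1], [nat_lit 16, nat_lit 5, nat_lit 0, nat_lit 33, nat_lit 35, nat_lit 27], (nat_lit 6291)), ((nat_lit 4142), [nat_lit 7, nat_lit 4, nat_lit 8, nat_lit 2, nat_lit 3, nat_lit 1, nat_lit 2, nat_lit 3, nat_lit 4, nat_lit 8, nat_lit 3, nat_lit 2, nat_lit 3, nat_lit 1], [nat_lit 24, nat_lit 2, nat_lit 0, nat_lit 37, nat_lit 11, nat_lit 17, nat_lit 27], (nat_lit 9273)), ((nat_lit 4126),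 [nat_lit 8, nat_lit 1, nat_lit 2, nat_lit 3, nat_lit 4, nat_lit 7, nat_lit 1, nat_lit 2, nat_lit 3, nat_lit 4, nat_lit 2, nat_lit 3, nat_lit 1], [nat_lit 17, nat_lit 2, nat_lit 0, nat_lit 36, nat_lit 11, nat_lit 27], (nat_lit 6394)), ((nat_lit 4094), [nat_lit 8, nat_lit 6, nat_lit 3, nat_lit 4, nat_lit 8, nat_lit 2, nat_lit 3, nat_lit 1], [nat_lit 11, nat_lit 5, nat_lit 2, nat_lit 37, nat_lit 25], (nat_lit 544)), ((nat_lit 3974), [nat_lit 6, nat_lit 8, nat_lit 3, nat_lit 4, nat_lit 1, nat_lit 2, nat_lit 3, nat_lit 0, nat_lit 1], [nat_lit 26, nat_lit 2, nat_lit 37, nat_lit 11, nat_lit 15, nat_lit 27], (nat_lit 604)), ((nat_lit 3996), [nat_lit 5, nat_lit 8, nat_lit 3, nat_lit 4, nat_lit 1, nat_lit 2, nat_lit 3, nat_lit 0, nat_lit 1], [nat_lit 5, nat_lit 2, nat_lit 36, nat_lit 24, nat_lit 15, nat_lit 26], (nat_lit 605)), ((nat_lit 3994), [nat_lit 6, nat_lit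 7, nat_lit 3, nat_lit 4, nat_lit 1, nat_lit 2, nat_lit 3, nat_lit 0, nat_lit 1], [nat_lit 26, nat_lit 2, nat_lit 18, nat_lit 15, nat_lit 26], (nat_lit 607)), ((nat_lit 3984), [nat_lit 7, nat_lit 3, nat_lit 0, nat_lit 1, nat_lit 2, nat_lit 3, nat_lit 4, nat_lit 1, nat_lit 2, nat_lit 3, nat_lit 0, nat_lit 1], [nat_lit 10, nat_lit 10, nat_lit 0, nat_lit 37, nat_lit 24, nat_lit 15, nat_lit 27], (nat_lit 2867)), ((nat_lit 4194), [nat_lit 6, nat_lit 7, nat_lit 6, nat_lit 4, nat_lit 7, nat_lit 2, nat_lit 3, nat_lit 1, nat_lit 2, nat_lit 3, nat_lit 4, nat_lit 7, nat_lit 3, nat_lit 2, nat_lit 3, nat_lit 1], [nat_lit 0, nat_lit 15, nat_lit 32, nat_lit 11], (nat_lit 16335)), ((nat_lit 4020), [nat_lit 8, nat_lit 4, nat_lit 7, nat_lit 7, nat_lit 3, nat_lit 2, nat_lit 3, nat_lit 4, nat_lit 8, nat_lit 3, nat_lit 2, nat_lit 3, nat_lit 1], [nat_lit 25, nat_lit 0, nat_lit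 25, nat_lit 15], (nat_lit 6131)), ((nat_lit 4168), [nat_lit 7, nat_lit 3, nat_lit 4, nat_lit 7, nat_lit 5, nat_lit 1, nat_lit 2, nat_lit 3, nat_lit 4, nat_lit 7, nat_lit 2, nat_lit 3, nat_lit 1], [nat_lit 1, nat_lit 24, nat_lit 35, nat_lit 27], (nat_lit 7065)), ((nat_lit 4034), [nat_lit 6, nat_lit 3, nat_lit 0, nat_lit 1, nat_lit 2, nat_lit 3, nat_lit 4, nat_lit 8, nat_lit 2, nat_lit 3, nat_lit 4, nat_lit 2, nat_lit 3, nat_lit 1], [nat_lit 5, nat_lit 15, nat_lit 11, nat_lit 15, nat_lit 27], (nat_lit 9826)), ((nat_lit 4156), [nat_lit 3, nat_lit 4, nat_lit 8, nat_lit 2, nat_lit 3, nat_lit 4, nat_lit 2, nat_lit 3, nat_lit 1], [nat_lit 10, nat_lit 0, nat_lit 32, nat_lit 32, nat_lit 11], (nat_lit 835)), ((nat_lit 4000), [nat_lit 5, nat_lit 0, nat_lit 1, nat_lit 2, nat_lit 3, nat_lit 4, nat_lit 8, nat_lit 0, nat_lit 1, nat_lit 2, nat_lit 3, nat_lit 4, nat_lit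 2, nat_lit 3, nat_lit 1], [nat_lit 5, nat_lit 35, nat_lit 36, nat_lit 11, nat_lit 27], (nat_lit 13585)), ((nat_lit 4116), [nat_lit 4, nat_lit 8, nat_lit 6, nat_lit 1, nat_lit 2, nat_lit 3, nat_lit 4, nat_lit 8, nat_lit 1, nat_lit 2, nat_lit 3, nat_lit 0, nat_lit 1], [nat_lit 1, nat_lit 5, nat_lit 36, nat_lit 16, nat_lit 11], (nat_lit 4804)), ((nat_lit 4256), [nat_lit 5, nat_lit 4, nat_lit 7, nat_lit 2, nat_lit 3, nat_lit 4, nat_lit 8, nat_lit 2, nat_lit 3, nat_lit 0, nat_lit 1], [nat_lit 26, nat_lit 2, nat_lit 33, nat_lit 15], (nat_lit 2101)), ((nat_lit 4062), [nat_lit 3, nat_lit 2, nat_lit 3, nat_lit 4, nat_lit 8, nat_lit 2, nat_lit 3, nat_lit 4, nat_lit 2, nat_lit 3, nat_lit 1], [nat_lit 15, nat_lit 5, nat_lit 24, nat_lit 37, nat_lit 15, nat_lit 27], (nat_lit 2461)), ((nat_lit 4246), [nat_lit 7, nat_lit 4, nat_lit 8, nat_lit 3, nat_lit 1, nat_lit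 2, nat_lit 3, nat_lit 4, nat_lit 8, nat_lit 3, nat_lit 4, nat_lit 2, nat_lit 3, nat_lit 1], [nat_lit 25, nat_lit 1, nat_lit 11, nat_lit 15], (nat_lit 10068)), ((nat_lit 4078), [nat_lit 7, nat_lit 4, nat_lit 8, nat_lit 3, nat_lit 4, nat_lit 7, nat_lit 1, nat_lit 2, nat_lit 3, nat_lit 4, nat_lit 7, nat_lit 3, nat_lit 2, nat_lit 3, nat_lit 1], [nat_lit 16, nat_lit 0, nat_lit 33, nat_lit 25], (nat_lit 13485)), ((nat_lit 4124), [nat_lit 3, nat_lit 4, nat_lit 8, nat_lit 4, nat_lit 8, nat_lit 3, nat_lit 2, nat_lit 3, nat_lit 4, nat_lit 7, nat_lit 2, nat_lit 3, nat_lit 4, nat_lit 2, nat_lit 3, nat_lit 1], [nat_lit 25, nat_lit 2, nat_lit 0, nat_lit 26, nat_lit 34, nat_lit 32], (nat_lit 16535)), ((nat_lit 4130), [nat_lit 8, nat_lit 4, nat_lit 7, nat_lit 7, nat_lit 2, nat_lit 3, nat_lit 1, nat_lit 2, nat_lit 3, nat_lit 4, nat_lit 8, nat_lit 3, nat_lit 2, nat_lit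 3, nat_lit 0, nat_lit 1], [nat_lit 26, nat_lit 2, nat_lit 0, nat_lit 11, nat_lit 16, nat_lit 27], (nat_lit 15030)), ((nat_lit 4218), [nat_lit 3, nat_lit 4, nat_lit 7, nat_lit 1, nat_lit 2, nat_lit 3, nat_lit 4, nat_lit 8, nat_lit 2, nat_lit 3, nat_lit 4, nat_lit 7, nat_lit 2, nat_lit 3, nat_lit 0, nat_lit 1], [nat_lit 24, nat_lit 16, nat_lit 0, nat_lit 16, nat_lit 25, nat_lit 27], (nat_lit 15629)), ((nat_lit 4144), [nat_lit 8, nat_lit 4, nat_lit 7, nat_lit 3, nat_lit 0, nat_lit 1, nat_lit 2, nat_lit 3, nat_lit 4, nat_lit 8, nat_lit 3, nat_lit 2, nat_lit 3, nat_lit 0, nat_lit 1], [nat_lit 14, nat_lit 15, nat_lit 0, nat_lit 18, nat_lit 25, nat_lit 27], (nat_lit 11386)), ((nat_lit 4064), [nat_lit 8, nat_lit 5, nat_lit 2, nat_lit 3, nat_lit 4, nat_lit 8, nat_lit 2, nat_lit 3, nat_lit 1], [nat_lit 16, nat_lit 5, nat_lit 2, nat_lit 34, nat_lit 37, nat_lit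 11], (nat_lit 898)), ((nat_lit 3950), [nat_lit 4, nat_lit 7, nat_lit 3, nat_lit 4, nat_lit 7, nat_lit 4, nat_lit 1, nat_lit 2, nat_lit 3, nat_lit 0, nat_lit 1], [nat_lit 15, nat_lit 32, nat_lit 11], (nat_lit 1783)), ((nat_lit 4222), [nat_lit 3, nat_lit 4, nat_lit 7, nat_lit 2, nat_lit 3, nat_lit 2, nat_lit 3, nat_lit 4, nat_lit 7, nat_lit 3, nat_lit 4, nat_lit 3, nat_lit 2, nat_lit 3, nat_lit 1], [nat_lit 5, nat_lit 0, nat_lit 15, nat_lit 24, nat_lit 11], (nat_lit 12796)), ((nat_lit 4016), [nat_lit 7, nat_lit 7, nat_lit 4, nat_lit 8, nat_lit 3, nat_lit 2, nat_lit 3, nat_lit 4, nat_lit 8, nat_lit 3, nat_lit 2, nat_lit 3, nat_lit 1], [nat_lit 17, nat_lit 24, nat_lit 0, nat_lit 36, nat_lit 24], (nat_lit 6117)), ((nat_lit 4172), [nat_lit 6, nat_lit 8, nat_lit 4, nat_lit 8, nat_lit 5, nat_lit 3, nat_lit 2, nat_lit 3, nat_lit 4, nat_lit 7, nat_lit 3, nat_lit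 2, nat_lit 3, nat_lit 1], [nat_lit 5, nat_lit 2, nat_lit 0, nat_lit 33, nat_lit 24, nat_lit 26], (nat_lit 9587)), ((nat_lit 4018), [nat_lit 7, nat_lit 3, nat_lit 2, nat_lit 3, nat_lit 1, nat_lit 2, nat_lit 3, nat_lit 4, nat_lit 8, nat_lit 3, nat_lit 2, nat_lit 3, nat_lit 1], [nat_lit 10, nat_lit 10, nat_lit 0, nat_lit 34, nat_lit 16, nat_lit 11, nat_lit 27], (nat_lit 6046)), ((nat_lit 4146), [nat_lit 6, nat_lit 7, nat_lit 3, nat_lit 0, nat_lit 1, nat_lit 2, nat_lit 3, nat_lit 4, nat_lit 1, nat_lit 2, nat_lit 3, nat_lit 0, nat_lit 1], [nat_lit 16, nat_lit 5, nat_lit 2, nat_lit 33, nat_lit 24, nat_lit 26], (nat_lit 4671)), ((nat_lit 3998), [nat_lit 6, nat_lit 8, nat_lit 3, nat_lit 0, nat_lit 1, nat_lit 2, nat_lit 3, nat_lit 4, nat_lit 1, nat_lit 2, nat_lit 3, nat_lit 0, nat_lit 1], [nat_lit 10, nat_lit 10, nat_lit 0, nat_lit 17, nat_lit 11, nat_lit 17],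 (nat_lit 4669)), ((nat_lit 4248), [nat_lit 8, nat_lit 6, nat_lit 3, nat_lit 4, nat_lit 8, nat_lit 1, nat_lit 2, nat_lit 3, nat_lit 0, nat_lit 1], [nat_lit 15, nat_lit 2, nat_lit 33, nat_lit 37, nat_lit 26], (nat_lit 1054)), ((nat_lit 4074), [nat_lit 8, nat_lit 4, nat_lit 7, nat_lit 3, nat_lit 4, nat_lit 3, nat_lit 2, nat_lit 3, nat_lit 0, nat_lit 1], [nat_lit 25, nat_lit 16, nat_lit 0, nat_lit 33, nat_lit 15, nat_lit 27], (nat_lit 1100)), ((nat_lit 4180), [nat_lit 7, nat_lit 6, nat_lit 4, nat_lit 2, nat_lit 3, nat_lit 1, nat_lit 2, nat_lit 3, nat_lit 4, nat_lit 8, nat_lit 4, nat_lit 3, nat_lit 2, nat_lit 3, nat_lit 1], [nat_lit 24, nat_lit 2, nat_lit 0, nat_lit 25, nat_lit 11], (nat_lit 12875)), ((nat_lit 4002), [nat_lit 6, nat_lit 2, nat_lit 3, nat_lit 4, nat_lit 7, nat_lit 3, nat_lit 4, nat_lit 2, nat_lit 3, nat_lit 0, nat_lit 1], [nat_lit 5, nat_lit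 34, nat_lit 16], (nat_lit 2038)), ((nat_lit 4122), [nat_lit 7, nat_lit 4, nat_lit 7, nat_lit 3, nat_lit 4, nat_lit 7, nat_lit 4, nat_lit 3, nat_lit 2, nat_lit 3, nat_lit 1], [nat_lit 24, nat_lit 33, nat_lit 15, nat_lit 27], (nat_lit 2300)), ((nat_lit 4042), [nat_lit 6, nat_lit 8, nat_lit 3, nat_lit 4, nat_lit 8, nat_lit 2, nat_lit 3, nat_lit 4, nat_lit 7, nat_lit 2, nat_lit 3, nat_lit 1], [nat_lit 14, nat_lit 15, nat_lit 0, nat_lit 27, nat_lit 24, nat_lit 15, nat_lit 26], (nat_lit 4474)), ((nat_lit 4112), [nat_lit 6, nat_lit 3, nat_lit 4, nat_lit 8, nat_lit 2, nat_lit 3, nat_lit 4, nat_lit 8, nat_lit 2, nat_lit 3, nat_lit 1], [nat_lit 15, nat_lit 2, nat_lit 15, nat_lit 17, nat_lit 11, nat_lit 27], (nat_lit 2632)), ((nat_lit 3988), [nat_lit 3, nat_lit 0, nat_lit 1, nat_lit 2, nat_lit 3, nat_lit 4, nat_lit 7, nat_lit 4, nat_lit 1, nat_lit 2, nat_lit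 3, nat_lit 0, nat_lit 1], [nat_lit 37, nat_lit 11, nat_lit 15, nat_lit 27], (nat_lit 4762)), ((nat_lit 4238), [nat_lit 5, nat_lit 7, nat_lit 1, nat_lit 2, nat_lit 3, nat_lit 4, nat_lit 8, nat_lit 2, nat_lit 3, nat_lit 4, nat_lit 2, nat_lit 3, nat_lit 1], [nat_lit 36, nat_lit 33, nat_lit 24, nat_lit 27], (nat_lit 6440)), ((nat_lit 4192), [nat_lit 7, nat_lit 3, nat_lit 2, nat_lit 3, nat_lit 4, nat_lit 8, nat_lit 2, nat_lit 3, nat_lit 4, nat_lit 8, nat_lit 2, nat_lit 3, nat_lit 4, nat_lit 2, nat_lit 3, nat_lit 1], [nat_lit 24, nat_lit 16, nat_lit 0, nat_lit 34, nat_lit 37], (nat_lit 16486)), ((nat_lit 4060), [nat_lit 8, nat_lit 1, nat_lit 2, nat_lit 3, nat_lit 4, nat_lit 7, nat_lit 3, nat_lit 2, nat_lit 3, nat_lit 1], [nat_lit 10, nat_lit 10, nat_lit 0, nat_lit 15, nat_lit 24, nat_lit 11, nat_lit 26], (nat_lit 1370)), ((nat_lit 3980), [nat_lit 8, nat_lit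 2, nat_lit 3, nat_lit 4, nat_lit 7, nat_lit 3, nat_lit 4, nat_lit 1, nat_lit 2, nat_lit 3, nat_lit 0, nat_lit 1], [nat_lit 18, nat_lit 11, nat_lit 15], (nat_lit 2920)), ((nat_lit 4088), [nat_lit 8, nat_lit 5, nat_lit 2, nat_lit 3, nat_lit 4, nat_lit 8, nat_lit 0, nat_lit 1, nat_lit 2, nat_lit 3, nat_lit 4, nat_lit 2, nat_lit 3, nat_lit 0, nat_lit 1], [nat_lit 10, nat_lit 0, nat_lit 32, nat_lit 34, nat_lit 27], (nat_lit 11680)), ((nat_lit 4138), [nat_lit 4, nat_lit 7, nat_lit 5, nat_lit 3, nat_lit 4, nat_lit 7, nat_lit 0, nat_lit 1, nat_lit 2, nat_lit 3, nat_lit 4, nat_lit 8, nat_lit 2, nat_lit 3, nat_lit 1], [nat_lit 24, nat_lit 15, nat_lit 0, nat_lit 36, nat_lit 36, nat_lit 17, nat_lit 26], (nat_lit 14277)), ((nat_lit 3960), [nat_lit 4, nat_lit 7, nat_lit 3, nat_lit 2, nat_lit 3, nat_lit 4, nat_lit 8, nat_lit 4, nat_lit 3, nat_lit 2, nat_lit 3, nat_lit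 1], [nat_lit 24, nat_lit 2, nat_lit 0, nat_lit 24, nat_lit 33, nat_lit 15, nat_lit 27], (nat_lit 3785)), ((nat_lit 4076), [nat_lit 8, nat_lit 4, nat_lit 7, nat_lit 3, nat_lit 0, nat_lit 1, nat_lit 2, nat_lit 3, nat_lit 4, nat_lit 8, nat_lit 3, nat_lit 2, nat_lit 3, nat_lit 1], [nat_lit 25, nat_lit 1, nat_lit 26, nat_lit 34, nat_lit 11], (nat_lit 9225)), ((nat_lit 4136), [nat_lit 4, nat_lit 7, nat_lit 4, nat_lit 7, nat_lit 5, nat_lit 2, nat_lit 3, nat_lit 4, nat_lit 8, nat_lit 2, nat_lit 3, nat_lit 1], [nat_lit 16, nat_lit 5, nat_lit 0, nat_lit 34, nat_lit 37, nat_lit 11, nat_lit 27], (nat_lit 4350)), ((nat_lit 4090), [nat_lit 4, nat_lit 7, nat_lit 3, nat_lit 4, nat_lit 7, nat_lit 3, nat_lit 0, nat_lit 1, nat_lit 2, nat_lit 3, nat_lit 4, nat_lit 3, nat_lit 2, nat_lit 3, nat_lit 1], [nat_lit 2, nat_lit 0, nat_lit 36, nat_lit 32, nat_lit 27], (nat_lit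 12431)), ((nat_lit 4066), [nat_lit 8, nat_lit 1, nat_lit 2, nat_lit 3, nat_lit 4, nat_lit 7, nat_lit 3, nat_lit 4, nat_lit 3, nat_lit 2, nat_lit 3, nat_lit 0, nat_lit 1], [nat_lit 24, nat_lit 16, nat_lit 0, nat_lit 25, nat_lit 35, nat_lit 26], (nat_lit 5025)), ((nat_lit 3978), [nat_lit 8, nat_lit 4, nat_lit 7, nat_lit 3, nat_lit 2, nat_lit 3, nat_lit 4, nat_lit 3, nat_lit 2, nat_lit 3, nat_lit 0, nat_lit 1], [nat_lit 1, nat_lit 14, nat_lit 26, nat_lit 34, nat_lit 11], (nat_lit 3140)), ((nat_lit 4012), [nat_lit 4, nat_lit 8, nat_lit 4, nat_lit 8, nat_lit 3, nat_lit 2, nat_lit 3, nat_lit 1, nat_lit 2, nat_lit 3, nat_lit 4, nat_lit 3, nat_lit 2, nat_lit 3, nat_lit 1], [nat_lit 35, nat_lit 35], (nat_lit 12474)), ((nat_lit 4178), [nat_lit 6, nat_lit 8, nat_lit 4, nat_lit 8, nat_lit 3, nat_lit 2, nat_lit 3, nat_lit 4, nat_lit 8, nat_lit 3, nat_lit 2, nat_lit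 3, nat_lit 1], [nat_lit 24, nat_lit 0, nat_lit 27, nat_lit 24, nat_lit 26], (nat_lit 6113)), ((nat_lit 4166), [nat_lit 5, nat_lit 8, nat_lit 4, nat_lit 8, nat_lit 5, nat_lit 1, nat_lit 2, nat_lit 3, nat_lit 4, nat_lit 8, nat_lit 2, nat_lit 3, nat_lit 1], [nat_lit 25, nat_lit 14, nat_lit 0, nat_lit 32, nat_lit 18, nat_lit 11, nat_lit 27], (nat_lit 6876)), ((nat_lit 4188), [nat_lit 8, nat_lit 4, nat_lit 8, nat_lit 5, nat_lit 3, nat_lit 4, nat_lit 8, nat_lit 1, nat_lit 2, nat_lit 3, nat_lit 0, nat_lit 1], [nat_lit 5, nat_lit 14, nat_lit 25, nat_lit 37], (nat_lit 3010)), ((nat_lit 4014), [nat_lit 5, nat_lit 8, nat_lit 3, nat_lit 2, nat_lit 3, nat_lit 4, nat_lit 7, nat_lit 0, nat_lit 1, nat_lit 2, nat_lit 3, nat_lit 4, nat_lit 2, nat_lit 3, nat_lit 1], [nat_lit 10, nat_lit 10, nat_lit 0, nat_lit 32, nat_lit 27, nat_lit 17, nat_lit 27], (nat_lit 13625)),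 ((nat_lit 3948), [nat_lit 8, nat_lit 4, nat_lit 7, nat_lit 2, nat_lit 3, nat_lit 4, nat_lit 1, nat_lit 2, nat_lit 3, nat_lit 0, nat_lit 1], [nat_lit 35, nat_lit 15, nat_lit 26], (nat_lit 1735)), ((nat_lit 4022), [nat_lit 8, nat_lit 3, nat_lit 2, nat_lit 3, nat_lit 4, nat_lit 7, nat_lit 3, nat_lit 2, nat_lit 3, nat_lit 0, nat_lit 1], [nat_lit 18, nat_lit 15, nat_lit 0, nat_lit 27, nat_lit 24, nat_lit 15], (nat_lit 1954)), ((nat_lit 3986), [nat_lit 5, nat_lit 3, nat_lit 0, nat_lit 1, nat_lit 2, nat_lit 3, nat_lit 4, nat_lit 7, nat_lit 4, nat_lit 1, nat_lit 2, nat_lit 3, nat_lit 0, nat_lit 1], [nat_lit 34, nat_lit 32], (nat_lit 7418)), ((nat_lit 4048), [nat_lit 8, nat_lit 4, nat_lit 7, nat_lit 2, nat_lit 3, nat_lit 4, nat_lit 7, nat_lit 1, nat_lit 2, nat_lit 3, nat_lit 0, nat_lit 1], [nat_lit 17, nat_lit 34, nat_lit 15, nat_lit 26], (nat_lit 3074)), ((nat_lit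 4140), [nat_lit 5, nat_lit 4, nat_lit 8, nat_lit 3, nat_lit 2, nat_lit 3, nat_lit 1, nat_lit 2, nat_lit 3, nat_lit 4, nat_lit 3, nat_lit 2, nat_lit 3, nat_lit 1], [nat_lit 5, nat_lit 2, nat_lit 16, nat_lit 32, nat_lit 15], (nat_lit 8744)), ((nat_lit 3976), [nat_lit 7, nat_lit 3, nat_lit 2, nat_lit 3, nat_lit 4, nat_lit 8, nat_lit 3, nat_lit 2, nat_lit 3, nat_lit 0, nat_lit 1], [nat_lit 26, nat_lit 24, nat_lit 0, nat_lit 17, nat_lit 36, nat_lit 15, nat_lit 26], (nat_lit 1923)), ((nat_lit 4242), [nat_lit 7, nat_lit 4, nat_lit 8, nat_lit 2, nat_lit 3, nat_lit 4, nat_lit 8, nat_lit 2, nat_lit 3, nat_lit 4, nat_lit 8, nat_lit 2, nat_lit 3, nat_lit 1], [nat_lit 14, nat_lit 0, nat_lit 34, nat_lit 11, nat_lit 27], (nat_lit 10515)), ((nat_lit 4252), [nat_lit 4, nat_lit 8, nat_lit 2, nat_lit 3, nat_lit 4, nat_lit 7, nat_lit 3, nat_lit 1, nat_lit 2, nat_lit 3,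 nat_lit 4, nat_lit 3, nat_lit 2, nat_lit 3, nat_lit 1], [nat_lit 10, nat_lit 10, nat_lit 0, nat_lit 24, nat_lit 36, nat_lit 16, nat_lit 27], (nat_lit 12527)), ((nat_lit 4056), [nat_lit 7, nat_lit 4, nat_lit 7, nat_lit 5, nat_lit 2, nat_lit 3, nat_lit 4, nat_lit 8, nat_lit 3, nat_lit 2, nat_lit 3, nat_lit 1], [nat_lit 10, nat_lit 0, nat_lit 37, nat_lit 25, nat_lit 26], (nat_lit 3880)), ((nat_lit 4100), [nat_lit 7, nat_lit 7, nat_lit 4, nat_lit 8, nat_lit 2, nat_lit 3, nat_lit 4, nat_lit 8, nat_lit 1, nat_lit 2, nat_lit 3, nat_lit 4, nat_lit 7, nat_lit 2, nat_lit 3, nat_lit 0, nat_lit 1], [nat_lit 10, nat_lit 0, nat_lit 11, nat_lit 15], (nat_lit 17059))] (nat_lit 0) m5_10_1) = 0 := by decide +kernel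
theorem e5_10_2 : dt.run q (fun c => c.edges (SP THn.T THn.Rl (nat_lit 15)) (nat_lit 4429) THn.T.n (nat_lit 5) (nat_lit 10)
  [((nat_lit 4036), [nat_lit 5, nat_lit 8, nat_lit 3, nat_lit 4, nat_lit 8, nat_lit 2, nat_lit 3, nat_lit 4, nat_lit 7, nat_lit 2, nat_lit 3, nat_lit 1], [nat_lit 14, nat_lit 15, nat_lit 0, nat_lit 24, nat_lit 18, nat_lit 27], (nat_lit 4475)), ((nat_lit 4184), [nat_lit 7, nat_lit 6, nat_lit 4, nat_lit 8, nat_lit 2, nat_lit 3, nat_lit 4, nat_lit 8, nat_lit 2, nat_lit 3, nat_lit 1], [nat_lit 1, nat_lit 34, nat_lit 25, nat_lit 11, nat_lit 27], (nat_lit 2636)), ((nat_lit 4240), [nat_lit 8, nat_lit 6, nat_lit 4, nat_lit 8, nat_lit 3, nat_lit 4, nat_lit 8, nat_lit 2, nat_lit 3, nat_lit 0, nat_lit 1], [nat_lit 0, nat_lit 2, nat_lit 15, nat_lit 11, nat_lit 26], (nat_lit 2110)), ((nat_lit 4038), [nat_lit 8, nat_lit 6, nat_lit 0, nat_lit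 1, nat_lit 2, nat_lit 3, nat_lit 4, nat_lit 8, nat_lit 3, nat_lit 4, nat_lit 2, nat_lit 3, nat_lit 0, nat_lit 1], [nat_lit 1, nat_lit 5, nat_lit 35, nat_lit 33, nat_lit 27], (nat_lit 8204)), ((nat_lit 4250), [nat_lit 7, nat_lit 6, nat_lit 2, nat_lit 3, nat_lit 4, nat_lit 7, nat_lit 3, nat_lit 2, nat_lit 3, nat_lit 4, nat_lit 3, nat_lit 2, nat_lit 3, nat_lit 1], [nat_lit 5, nat_lit 2, nat_lit 32, nat_lit 34, nat_lit 16, nat_lit 26], (nat_lit 8856)), ((nat_lit 4170), [nat_lit 4, nat_lit 7, nat_lit 3, nat_lit 4, nat_lit 7, nat_lit 3, nat_lit 4, nat_lit 3, nat_lit 2, nat_lit 3, nat_lit 1], [nat_lit 10, nat_lit 10, nat_lit 0, nat_lit 32, nat_lit 15], (nat_lit 2264)), ((nat_lit 4082), [nat_lit 6, nat_lit 8, nat_lit 2, nat_lit 3, nat_lit 4, nat_lit 8, nat_lit 2, nat_lit 3, nat_lit 4, nat_lit 8, nat_lit 2, nat_lit 3, nat_lit 4, nat_lit 2, nat_lit 3, nat_lit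 0, nat_lit 1], [nat_lit 5, nat_lit 14, nat_lit 17, nat_lit 36], (nat_lit 16997)), ((nat_lit 4186), [nat_lit 8, nat_lit 6, nat_lit 3, nat_lit 4, nat_lit 8, nat_lit 3, nat_lit 4, nat_lit 1, nat_lit 2, nat_lit 3, nat_lit 0, nat_lit 1], [nat_lit 2, nat_lit 27, nat_lit 36, nat_lit 26], (nat_lit 2907)), ((nat_lit 3946), [nat_lit 8, nat_lit 1, nat_lit 2, nat_lit 3, nat_lit 0, nat_lit 1, nat_lit 2, nat_lit 3, nat_lit 4, nat_lit 7, nat_lit 4, nat_lit 3, nat_lit 2, nat_lit 3, nat_lit 1], [nat_lit 17, nat_lit 2, nat_lit 0, nat_lit 35, nat_lit 27, nat_lit 15], (nat_lit 12920)), ((nat_lit 4050), [nat_lit 5, nat_lit 8, nat_lit 3, nat_lit 2, nat_lit 3, nat_lit 4, nat_lit 7, nat_lit 3, nat_lit 2, nat_lit 3, nat_lit 1], [nat_lit 26, nat_lit 24, nat_lit 0, nat_lit 16, nat_lit 24], (nat_lit 2386)), ((nat_lit 4072), [nat_lit 2, nat_lit 3, nat_lit 4, nat_lit 8, nat_lit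 2, nat_lit 3, nat_lit 1, nat_lit 2, nat_lit 3, nat_lit 4, nat_lit 3, nat_lit 2, nat_lit 3, nat_lit 1], [nat_lit 25, nat_lit 14, nat_lit 0, nat_lit 15, nat_lit 27, nat_lit 16, nat_lit 27], (nat_lit 8752)), ((nat_lit 4128), [nat_lit 7, nat_lit 0, nat_lit 1, nat_lit 2, nat_lit 3, nat_lit 4, nat_lit 8, nat_lit 5, nat_lit 2, nat_lit 3, nat_lit 4, nat_lit 8, nat_lit 2, nat_lit 3, nat_lit 0, nat_lit 1], [nat_lit 0, nat_lit 2, nat_lit 24, nat_lit 18, nat_lit 26], (nat_lit 15485)), ((nat_lit 4096), [nat_lit 7, nat_lit 4, nat_lit 8, nat_lit 2, nat_lit 3, nat_lit 4, nat_lit 8, nat_lit 4, nat_lit 2, nat_lit 3, nat_lit 1], [nat_lit 14, nat_lit 15, nat_lit 0, nat_lit 17, nat_lit 11, nat_lit 17, nat_lit 27], (nat_lit 2559)), ((nat_lit 4080), [nat_lit 8, nat_lit 0, nat_lit 1, nat_lit 2, nat_lit 3, nat_lit 4, nat_lit 7, nat_lit 2, nat_lit 3, nat_lit 4, nat_lit 7, nat_lit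 2, nat_lit 3, nat_lit 4, nat_lit 2, nat_lit 3, nat_lit 1], [nat_lit 26, nat_lit 24, nat_lit 0, nat_lit 33, nat_lit 35, nat_lit 26], (nat_lit 17182)), ((nat_lit 4160), [nat_lit 3, nat_lit 4, nat_lit 8, nat_lit 2, nat_lit 3, nat_lit 4, nat_lit 8, nat_lit 6, nat_lit 2, nat_lit 3, nat_lit 4, nat_lit 8, nat_lit 2, nat_lit 3, nat_lit 1], [nat_lit 25, nat_lit 14, nat_lit 0, nat_lit 15, nat_lit 17, nat_lit 11], (nat_lit 14345)), ((nat_lit 4120), [nat_lit 6, nat_lit 8, nat_lit 4, nat_lit 7, nat_lit 0, nat_lit 1, nat_lit 2, nat_lit 3, nat_lit 4, nat_lit 8, nat_lit 2, nat_lit 3, nat_lit 0, nat_lit 1], [nat_lit 18, nat_lit 35], (nat_lit 8377)), ((nat_lit 4054), [nat_lit 4, nat_lit 8, nat_lit 2, nat_lit 3, nat_lit 4, nat_lit 7, nat_lit 3, nat_lit 0, nat_lit 1, nat_lit 2, nat_lit 3, nat_lit 4, nat_lit 3, nat_lit 2, nat_lit 3, nat_lit 1], [nat_lit 2, nat_lit 0, nat_lit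 17, nat_lit 34], (nat_lit 15679)), ((nat_lit 4226), [nat_lit 5, nat_lit 7, nat_lit 4, nat_lit 7, nat_lit 1, nat_lit 2, nat_lit 3, nat_lit 4, nat_lit 7, nat_lit 4, nat_lit 2, nat_lit 3, nat_lit 1], [nat_lit 5, nat_lit 14, nat_lit 33, nat_lit 37, nat_lit 11, nat_lit 26], (nat_lit 6816)), ((nat_lit 4046), [nat_lit 7, nat_lit 3, nat_lit 2, nat_lit 3, nat_lit 4, nat_lit 8, nat_lit 1, nat_lit 2, nat_lit 3, nat_lit 4, nat_lit 3, nat_lit 2, nat_lit 3, nat_lit 1], [nat_lit 18, nat_lit 18, nat_lit 26], (nat_lit 8817)), ((nat_lit 4104), [nat_lit 5, nat_lit 8, nat_lit 4, nat_lit 8, nat_lit 0, nat_lit 1, nat_lit 2, nat_lit 3, nat_lit 4, nat_lit 2, nat_lit 3, nat_lit 1], [nat_lit 10, nat_lit 10, nat_lit 0, nat_lit 17, nat_lit 37, nat_lit 11, nat_lit 27], (nat_lit 4009)), ((nat_lit 4008), [nat_lit 6, nat_lit 4, nat_lit 8, nat_lit 3, nat_lit 2, nat_lit 3, nat_lit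 1, nat_lit 2, nat_lit 3, nat_lit 4, nat_lit 7, nat_lit 3, nat_lit 2, nat_lit 3, nat_lit 1], [nat_lit 10, nat_lit 10, nat_lit 0, nat_lit 17, nat_lit 17, nat_lit 27], (nat_lit 13378)), ((nat_lit 3970), [nat_lit 8, nat_lit 6, nat_lit 2, nat_lit 3, nat_lit 4, nat_lit 8, nat_lit 3, nat_lit 4, nat_lit 1, nat_lit 2, nat_lit 3, nat_lit 0, nat_lit 1], [nat_lit 34, nat_lit 15, nat_lit 11], (nat_lit 4702)), ((nat_lit 4114), [nat_lit 3, nat_lit 4, nat_lit 8, nat_lit 1, nat_lit 2, nat_lit 3, nat_lit 4, nat_lit 3, nat_lit 2, nat_lit 3, nat_lit 0, nat_lit 1], [nat_lit 1, nat_lit 11], (nat_lit 3122)), ((nat_lit 4052), [nat_lit 3, nat_lit 4, nat_lit 7, nat_lit 5, nat_lit 2, nat_lit 3, nat_lit 4, nat_lit 8, nat_lit 3, nat_lit 1, nat_lit 2, nat_lit 3, nat_lit 0, nat_lit 1], [nat_lit 10, nat_lit 10, nat_lit 0, nat_lit 33, nat_lit 36], (nat_lit 7291)), ((nat_lit 4232),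 [nat_lit 8, nat_lit 4, nat_lit 7, nat_lit 2, nat_lit 3, nat_lit 4, nat_lit 8, nat_lit 3, nat_lit 2, nat_lit 3, nat_lit 0, nat_lit 1], [nat_lit 1, nat_lit 14, nat_lit 26, nat_lit 34, nat_lit 11, nat_lit 27], (nat_lit 3252)), ((nat_lit 4086), [nat_lit 3, nat_lit 4, nat_lit 7, nat_lit 0, nat_lit 1, nat_lit 2, nat_lit 3, nat_lit 4, nat_lit 7, nat_lit 3, nat_lit 2, nat_lit 3, nat_lit 0, nat_lit 1], [nat_lit 26, nat_lit 24, nat_lit 0, nat_lit 16, nat_lit 37, nat_lit 26], (nat_lit 7924)), ((nat_lit 4028), [nat_lit 3, nat_lit 0, nat_lit 1, nat_lit 2, nat_lit 3, nat_lit 4, nat_lit 7, nat_lit 3, nat_lit 4, nat_lit 3, nat_lit 1, nat_lit 2, nat_lit 3, nat_lit 0, nat_lit 1], [nat_lit 1, nat_lit 1, nat_lit 33, nat_lit 37, nat_lit 26], (nat_lit 10917)), ((nat_lit 4030), [nat_lit 4, nat_lit 8, nat_lit 6, nat_lit 2, nat_lit 3, nat_lit 4, nat_lit 8, nat_lit 1, nat_lit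 2, nat_lit 3, nat_lit 4, nat_lit 8, nat_lit 2, nat_lit 3, nat_lit 0, nat_lit 1], [nat_lit 24, nat_lit 2, nat_lit 0, nat_lit 17, nat_lit 11, nat_lit 27], (nat_lit 15457)), ((nat_lit 4244), [nat_lit 3, nat_lit 2, nat_lit 3, nat_lit 4, nat_lit 7, nat_lit 4, nat_lit 7, nat_lit 2, nat_lit 3, nat_lit 4, nat_lit 3, nat_lit 2, nat_lit 3, nat_lit 1], [nat_lit 24, nat_lit 0, nat_lit 37, nat_lit 34, nat_lit 11, nat_lit 27], (nat_lit 8934)), ((nat_lit 4182), [nat_lit 6, nat_lit 7, nat_lit 3, nat_lit 0, nat_lit 1, nat_lit 2, nat_lit 3, nat_lit 4, nat_lit 3, nat_lit 2, nat_lit 3, nat_lit 1], [nat_lit 25, nat_lit 16, nat_lit 0, nat_lit 37, nat_lit 11, nat_lit 15, nat_lit 26], (nat_lit 3637)), ((nat_lit 4202), [nat_lit 4, nat_lit 8, nat_lit 3, nat_lit 4, nat_lit 7, nat_lit 2, nat_lit 3, nat_lit 4, nat_lit 3, nat_lit 2, nat_lit 3, nat_lit 1], [nat_lit 24, nat_lit 1,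 nat_lit 37, nat_lit 37, nat_lit 27], (nat_lit 3728)), ((nat_lit 4254), [nat_lit 7, nat_lit 1, nat_lit 2, nat_lit 3, nat_lit 4, nat_lit 7, nat_lit 0, nat_lit 1, nat_lit 2, nat_lit 3, nat_lit 4, nat_lit 3, nat_lit 2, nat_lit 3, nat_lit 1], [nat_lit 1, nat_lit 5, nat_lit 16, nat_lit 11], (nat_lit 12460)), ((nat_lit 4132), [nat_lit 4, nat_lit 7, nat_lit 3, nat_lit 0, nat_lit 1, nat_lit 2, nat_lit 3, nat_lit 4, nat_lit 8, nat_lit 3, nat_lit 2, nat_lit 3, nat_lit 1], [nat_lit 5, nat_lit 16, nat_lit 2, nat_lit 25, nat_lit 35, nat_lit 11, nat_lit 26], (nat_lit 6027)), ((nat_lit 4264), [nat_lit 8, nat_lit 4, nat_lit 7, nat_lit 7, nat_lit 4, nat_lit 3, nat_lit 1, nat_lit 2, nat_lit 3, nat_lit 4, nat_lit 7, nat_lit 3, nat_lit 4, nat_lit 2, nat_lit 3, nat_lit 1], [nat_lit 1, nat_lit 5, nat_lit 36, nat_lit 25, nat_lit 27], (nat_lit 16635)), ((nat_lit 4162), [nat_lit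 8, nat_lit 0, nat_lit 1, nat_lit 2, nat_lit 3, nat_lit 4, nat_lit 8, nat_lit 2, nat_lit 3, nat_lit 4, nat_lit 7, nat_lit 2, nat_lit 3, nat_lit 0, nat_lit 1], [nat_lit 15, nat_lit 1, nat_lit 15, nat_lit 18, nat_lit 27], (nat_lit 12312)), ((nat_lit 4266), [nat_lit 3, nat_lit 2, nat_lit 3, nat_lit 1, nat_lit 2, nat_lit 3, nat_lit 4, nat_lit 7, nat_lit 4, nat_lit 7, nat_lit 3, nat_lit 2, nat_lit 3, nat_lit 0, nat_lit 1], [nat_lit 0, nat_lit 37, nat_lit 32, nat_lit 11, nat_lit 27], (nat_lit 11673)), ((nat_lit 4190), [nat_lit 2, nat_lit 3, nat_lit 4, nat_lit 7, nat_lit 2, nat_lit 3, nat_lit 4, nat_lit 7, nat_lit 3, nat_lit 2, nat_lit 3, nat_lit 1], [nat_lit 15, nat_lit 2, nat_lit 34, nat_lit 32, nat_lit 16], (nat_lit 3982)), ((nat_lit 4210), [nat_lit 7, nat_lit 5, nat_lit 3, nat_lit 4, nat_lit 8, nat_lit 2, nat_lit 3, nat_lit 4, nat_lit 7, nat_lit 2, nat_lit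 3, nat_lit 1], [nat_lit 10, nat_lit 10, nat_lit 0, nat_lit 18, nat_lit 18], (nat_lit 4472)), ((nat_lit 4204), [nat_lit 4, nat_lit 8, nat_lit 2, nat_lit 3, nat_lit 4, nat_lit 7, nat_lit 2, nat_lit 3, nat_lit 4, nat_lit 2, nat_lit 3, nat_lit 1], [nat_lit 5, nat_lit 0, nat_lit 37, nat_lit 11, nat_lit 15, nat_lit 27], (nat_lit 4100)), ((nat_lit 4220), [nat_lit 5, nat_lit 8, nat_lit 3, nat_lit 2, nat_lit 3, nat_lit 4, nat_lit 7, nat_lit 3, nat_lit 4, nat_lit 2, nat_lit 3, nat_lit 1], [nat_lit 26, nat_lit 2, nat_lit 32, nat_lit 34, nat_lit 16, nat_lit 26], (nat_lit 4196)), ((nat_lit 4070), [nat_lit 2, nat_lit 3, nat_lit 1, nat_lit 2, nat_lit 3, nat_lit 4, nat_lit 7, nat_lit 3, nat_lit 4, nat_lit 3, nat_lit 2, nat_lit 3, nat_lit 0, nat_lit 1], [nat_lit 25, nat_lit 14, nat_lit 0, nat_lit 25, nat_lit 35, nat_lit 26], (nat_lit 7680)), ((nat_lit 4212), [nat_lit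 4, nat_lit 7, nat_lit 7, nat_lit 3, nat_lit 4, nat_lit 7, nat_lit 1, nat_lit 2, nat_lit 3, nat_lit 4, nat_lit 2, nat_lit 3, nat_lit 1], [nat_lit 25, nat_lit 1, nat_lit 17, nat_lit 34, nat_lit 26], (nat_lit 6420)), ((nat_lit 4174), [nat_lit 3, nat_lit 4, nat_lit 8, nat_lit 1, nat_lit 2, nat_lit 3, nat_lit 2, nat_lit 3, nat_lit 4, nat_lit 7, nat_lit 3, nat_lit 4, nat_lit 3, nat_lit 2, nat_lit 3, nat_lit 1], [nat_lit 15, nat_lit 5, nat_lit 27, nat_lit 24, nat_lit 27], (nat_lit 15957)), ((nat_lit 4092), [nat_lit 7, nat_lit 3, nat_lit 4, nat_lit 8, nat_lit 6, nat_lit 1, nat_lit 2, nat_lit 3, nat_lit 4, nat_lit 8, nat_lit 2, nat_lit 3, nat_lit 1], [nat_lit 24, nat_lit 1, nat_lit 25, nat_lit 18], (nat_lit 6873)), ((nat_lit 4236), [nat_lit 6, nat_lit 4, nat_lit 7, nat_lit 3, nat_lit 0, nat_lit 1, nat_lit 2, nat_lit 3, nat_lit 4, nat_lit 3, nat_lit 2, nat_lit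 3, nat_lit 0, nat_lit 1], [nat_lit 24, nat_lit 1, nat_lit 11, nat_lit 17, nat_lit 27], (nat_lit 7545)), ((nat_lit 4224), [nat_lit 8, nat_lit 3, nat_lit 4, nat_lit 7, nat_lit 3, nat_lit 4, nat_lit 8, nat_lit 1, nat_lit 2, nat_lit 3, nat_lit 4, nat_lit 2, nat_lit 3, nat_lit 0, nat_lit 1], [nat_lit 26, nat_lit 2, nat_lit 0, nat_lit 27, nat_lit 36, nat_lit 26], (nat_lit 11745)), ((nat_lit 4230), [nat_lit 3, nat_lit 1, nat_lit 2, nat_lit 3, nat_lit 4, nat_lit 7, nat_lit 1, nat_lit 2, nat_lit 3, nat_lit 4, nat_lit 3, nat_lit 2, nat_lit 3, nat_lit 0, nat_lit 1], [nat_lit 24, nat_lit 2, nat_lit 0, nat_lit 33, nat_lit 15, nat_lit 11], (nat_lit 11192)), ((nat_lit 4148), [nat_lit 5, nat_lit 3, nat_lit 2, nat_lit 3, nat_lit 4, nat_lit 7, nat_lit 3, nat_lit 4, nat_lit 3, nat_lit 2, nat_lit 3, nat_lit 0, nat_lit 1], [nat_lit 15, nat_lit 1, nat_lit 36], (nat_lit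 5029)), ((nat_lit 4214), [nat_lit 7, nat_lit 1, nat_lit 2, nat_lit 3, nat_lit 4, nat_lit 7, nat_lit 2, nat_lit 3, nat_lit 4, nat_lit 3, nat_lit 2, nat_lit 3, nat_lit 0, nat_lit 1], [nat_lit 16, nat_lit 5, nat_lit 2, nat_lit 34, nat_lit 32], (nat_lit 7643)), ((nat_lit 4154), [nat_lit 8, nat_lit 2, nat_lit 3, nat_lit 4, nat_lit 8, nat_lit 2, nat_lit 3, nat_lit 4, nat_lit 7, nat_lit 3, nat_lit 2, nat_lit 3, nat_lit 1], [nat_lit 16, nat_lit 0, nat_lit 26, nat_lit 16, nat_lit 26], (nat_lit 6308)), ((nat_lit 4032), [nat_lit 8, nat_lit 3, nat_lit 4, nat_lit 7, nat_lit 2, nat_lit 3, nat_lit 1, nat_lit 2, nat_lit 3, nat_lit 4, nat_lit 8, nat_lit 3, nat_lit 2, nat_lit 3, nat_lit 1], [nat_lit 15, nat_lit 5, nat_lit 37], (nat_lit 13138)), ((nat_lit 4176), [nat_lit 4, nat_lit 7, nat_lit 2, nat_lit 3, nat_lit 4, nat_lit 7, nat_lit 2, nat_lit 3, nat_lit 4, nat_lit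 3, nat_lit 2, nat_lit 3, nat_lit 1], [nat_lit 25, nat_lit 14, nat_lit 0, nat_lit 18, nat_lit 36, nat_lit 27], (nat_lit 5846)), ((nat_lit 4208), [nat_lit 8, nat_lit 6, nat_lit 3, nat_lit 4, nat_lit 8, nat_lit 0, nat_lit 1, nat_lit 2, nat_lit 3, nat_lit 4, nat_lit 2, nat_lit 3, nat_lit 0, nat_lit 1], [nat_lit 10, nat_lit 10, nat_lit 0, nat_lit 37, nat_lit 33, nat_lit 26], (nat_lit 8038)), ((nat_lit 4098), [nat_lit 5, nat_lit 4, nat_lit 7, nat_lit 2, nat_lit 3, nat_lit 1, nat_lit 2, nat_lit 3, nat_lit 4, nat_lit 7, nat_lit 3, nat_lit 2, nat_lit 3, nat_lit 1], [nat_lit 2, nat_lit 37, nat_lit 18, nat_lit 15], (nat_lit 9514)), ((nat_lit 4058), [nat_lit 7, nat_lit 4, nat_lit 7, nat_lit 3, nat_lit 4, nat_lit 7, nat_lit 2, nat_lit 3, nat_lit 4, nat_lit 7, nat_lit 4, nat_lit 2, nat_lit 3, nat_lit 0, nat_lit 1], [nat_lit 14, nat_lit 18, nat_lit 35], (nat_lit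 12011)), ((nat_lit 4268), [nat_lit 4, nat_lit 7, nat_lit 4, nat_lit 2, nat_lit 3, nat_lit 2, nat_lit 3, nat_lit 4, nat_lit 8, nat_lit 3, nat_lit 4, nat_lit 2, nat_lit 3, nat_lit 1], [nat_lit 14, nat_lit 15, nat_lit 0, nat_lit 35, nat_lit 17, nat_lit 16, nat_lit 27], (nat_lit 10097)), ((nat_lit 4206), [nat_lit 5, nat_lit 8, nat_lit 2, nat_lit 3, nat_lit 4, nat_lit 7, nat_lit 1, nat_lit 2, nat_lit 3, nat_lit 4, nat_lit 8, nat_lit 3, nat_lit 2, nat_lit 3, nat_lit 0, nat_lit 1], [nat_lit 1, nat_lit 14, nat_lit 33, nat_lit 37, nat_lit 11, nat_lit 26], (nat_lit 15050)), ((nat_lit 4228), [nat_lit 4, nat_lit 8, nat_lit 5, nat_lit 4, nat_lit 3, nat_lit 0, nat_lit 1, nat_lit 2, nat_lit 3, nat_lit 4, nat_lit 7, nat_lit 4, nat_lit 3, nat_lit 2, nat_lit 3, nat_lit 1], [nat_lit 1, nat_lit 1, nat_lit 33, nat_lit 35], (nat_lit 16040)), ((nat_lit 4216), [nat_lit 8,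 nat_lit 6, nat_lit 4, nat_lit 7, nat_lit 2, nat_lit 3, nat_lit 1, nat_lit 2, nat_lit 3, nat_lit 4, nat_lit 8, nat_lit 3, nat_lit 2, nat_lit 3, nat_lit 0, nat_lit 1], [nat_lit 11, nat_lit 2, nat_lit 0, nat_lit 36, nat_lit 33, nat_lit 26], (nat_lit 15025)), ((nat_lit 4258), [nat_lit 4, nat_lit 7, nat_lit 2, nat_lit 3, nat_lit 4, nat_lit 7, nat_lit 2, nat_lit 3, nat_lit 4, nat_lit 7, nat_lit 2, nat_lit 3, nat_lit 1], [nat_lit 10, nat_lit 10, nat_lit 0, nat_lit 34, nat_lit 24, nat_lit 15], (nat_lit 7165)), ((nat_lit 4262), [nat_lit 8, nat_lit 3, nat_lit 4, nat_lit 7, nat_lit 2, nat_lit 3, nat_lit 0, nat_lit 1, nat_lit 2, nat_lit 3, nat_lit 4, nat_lit 3, nat_lit 2, nat_lit 3, nat_lit 0, nat_lit 1], [nat_lit 24, nat_lit 15, nat_lit 0, nat_lit 15, nat_lit 15, nat_lit 15, nat_lit 27], (nat_lit 14766)), ((nat_lit 4150), [nat_lit 3, nat_lit 0, nat_lit 1, nat_lit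 2, nat_lit 3, nat_lit 4, nat_lit 7, nat_lit 1, nat_lit 2, nat_lit 3, nat_lit 4, nat_lit 3, nat_lit 2, nat_lit 3, nat_lit 0, nat_lit 1], [nat_lit 5, nat_lit 2, nat_lit 26, nat_lit 34, nat_lit 32, nat_lit 27], (nat_lit 14829)), ((nat_lit 4164), [nat_lit 8, nat_lit 4, nat_lit 7, nat_lit 3, nat_lit 4, nat_lit 7, nat_lit 0, nat_lit 1, nat_lit 2, nat_lit 3, nat_lit 4, nat_lit 7, nat_lit 2, nat_lit 3, nat_lit 1], [nat_lit 14, nat_lit 0, nat_lit 16, nat_lit 11, nat_lit 27], (nat_lit 14505)), ((nat_lit 4158), [nat_lit 7, nat_lit 4, nat_lit 8, nat_lit 3, nat_lit 4, nat_lit 7, nat_lit 1, nat_lit 2, nat_lit 3, nat_lit 4, nat_lit 7, nat_lit 2, nat_lit 3, nat_lit 1], [nat_lit 1, nat_lit 14, nat_lit 16, nat_lit 11, nat_lit 26], (nat_lit 10729)), ((nat_lit 4152), [nat_lit 5, nat_lit 0, nat_lit 1, nat_lit 2, nat_lit 3, nat_lit 2, nat_lit 3, nat_lit 4, nat_lit 7, nat_lit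 3, nat_lit 4, nat_lit 3, nat_lit 2, nat_lit 3, nat_lit 1], [nat_lit 18, nat_lit 36, nat_lit 26], (nat_lit 12775)), ((nat_lit 4200), [nat_lit 3, nat_lit 4, nat_lit 8, nat_lit 3, nat_lit 4, nat_lit 7, nat_lit 5, nat_lit 2, nat_lit 3, nat_lit 4, nat_lit 8, nat_lit 2, nat_lit 3, nat_lit 1], [nat_lit 0, nat_lit 2, nat_lit 25, nat_lit 18, nat_lit 18], (nat_lit 10490)), ((nat_lit 4024), [nat_lit 7, nat_lit 2, nat_lit 3, nat_lit 4, nat_lit 7, nat_lit 5, nat_lit 2, nat_lit 3, nat_lit 4, nat_lit 7, nat_lit 4, nat_lit 2, nat_lit 3, nat_lit 1], [nat_lit 1, nat_lit 1, nat_lit 34, nat_lit 15], (nat_lit 10374)), ((nat_lit 4102), [nat_lit 7, nat_lit 1, nat_lit 2, nat_lit 3, nat_lit 4, nat_lit 7, nat_lit 1, nat_lit 2, nat_lit 3, nat_lit 4, nat_lit 3, nat_lit 2, nat_lit 3, nat_lit 1], [nat_lit 15, nat_lit 0, nat_lit 27, nat_lit 16, nat_lit 26], (nat_lit 8834)), ((nat_lit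 4270), [nat_lit 3, nat_lit 4, nat_lit 7, nat_lit 3, nat_lit 4, nat_lit 8, nat_lit 3, nat_lit 2, nat_lit 3, nat_lit 4, nat_lit 3, nat_lit 2, nat_lit 3, nat_lit 1], [nat_lit 24, nat_lit 16, nat_lit 0, nat_lit 34, nat_lit 15, nat_lit 11, nat_lit 26], (nat_lit 8847)), ((nat_lit 4234), [nat_lit 8, nat_lit 0, nat_lit 1, nat_lit 2, nat_lit 3, nat_lit 2, nat_lit 3, nat_lit 4, nat_lit 7, nat_lit 3, nat_lit 4, nat_lit 2, nat_lit 3, nat_lit 1], [nat_lit 10, nat_lit 10, nat_lit 0, nat_lit 17, nat_lit 34, nat_lit 27], (nat_lit 10134)), ((nat_lit 4196), [nat_lit 5, nat_lit 0, nat_lit 1, nat_lit 2, nat_lit 3, nat_lit 1, nat_lit 2, nat_lit 3, nat_lit 4, nat_lit 7, nat_lit 3, nat_lit 4, nat_lit 3, nat_lit 2, nat_lit 3, nat_lit 1], [nat_lit 2, nat_lit 0, nat_lit 37, nat_lit 11, nat_lit 27], (nat_lit 15916)), ((nat_lit 4260), [nat_lit 8, nat_lit 8, nat_lit 3, nat_lit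 4, nat_lit 7, nat_lit 2, nat_lit 3, nat_lit 1, nat_lit 2, nat_lit 3, nat_lit 4, nat_lit 8, nat_lit 3, nat_lit 2, nat_lit 3, nat_lit 0, nat_lit 1], [nat_lit 24, nat_lit 2, nat_lit 33, nat_lit 24, nat_lit 11], (nat_lit 16920))] m5_10_1 m5_10_2) = 0 := by decide +kernel
theorem e5_10_3 : reachX THn.T (nat_lit 3350278484122927718) (S5.map Prod.snd) [nat_lit 0, nat_lit 1, nat_lit 0] m5_10_2 = m5_10_3 := by decide +kernel
theorem pc5 : partChk THn.T.n (nat_lit 860) [(nat_lit 0), m5_1_1, m5_2_2, m5_3_2, m5_4_2, m5_5_27, m5_6_4, m5_7_2, m5_8_4, m5_9_3, m5_10_3] (nth [] aL (nat_lit 5)) = true ∧ nth 0 PL (nat_lit 5) = (nat_lit 5) := by decide +kernel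
theorem st6c : dt.run q (fun c => sumL (c.sgen (nat_lit 4429) (nat_lit 6)) S6) = 0 := by decide +kernel
theorem e6_1_1 : dt.run q (fun c => c.edges (SP THn.T THn.Rl (nat_lit 15)) (nat_lit 4429) THn.T.n (nat_lit 6) (nat_lit 1)
  [((nat_lit 2577), [], [], (nat_lit 0))] (nat_lit 0) m6_1_1) = 0 := by decide +kernel
theorem e6_1_2 : reachX THn.T (nat_lit 289701188330575638) (S6.map Prod.snd) [nat_lit 2, nat_lit 0, nat_lit 2, nat_lit 0, nat_lit 2, nat_lit 1] m6_1_1 = m6_1_2 := by decide +kernel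
theorem e6_3_1 : dt.run q (fun c => c.edges (SP THn.T THn.Rl (nat_lit 15)) (nat_lit 4429) THn.T.n (nat_lit 6) (nat_lit 3)
  [((nat_lit 2597), [nat_lit 5, nat_lit 8, nat_lit 4, nat_lit 8, nat_lit 3], [nat_lit 16, nat_lit 5, nat_lit 2, nat_lit 24, nat_lit 37, nat_lit 15, nat_lit 26], (nat_lit 122)), ((nat_lit 2593), [nat_lit 8, nat_lit 3, nat_lit 4, nat_lit 8, nat_lit 4, nat_lit 1, nat_lit 2, nat_lit 3, nat_lit 0, nat_lit 1], [nat_lit 10, nat_lit 10, nat_lit 0, nat_lit 15, nat_lit 24, nat_lit 11, nat_lit 26], (nat_lit 1036)), ((nat_lit 2595), [nat_lit 8, nat_lit 2, nat_lit 3, nat_lit 4, nat_lit 8, nat_lit 1, nat_lit 2, nat_lit 3, nat_lit 0, nat_lit 1], [nat_lit 33, nat_lit 37, nat_lit 11], (nat_lit 1052)), ((nat_lit 3095), [nat_lit 7, nat_lit 4, nat_lit 7, nat_lit 3, nat_lit 4, nat_lit 7, nat_lit 5, nat_lit 1, nat_lit 2, nat_lit 3, nat_lit 4, nat_lit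 7, nat_lit 2, nat_lit 3, nat_lit 1], [nat_lit 25, nat_lit 16, nat_lit 0, nat_lit 34, nat_lit 25], (nat_lit 14530)), ((nat_lit 3099), [nat_lit 4, nat_lit 8, nat_lit 3, nat_lit 4, nat_lit 8, nat_lit 4, nat_lit 2, nat_lit 3, nat_lit 0, nat_lit 1], [nat_lit 10, nat_lit 0, nat_lit 24, nat_lit 33, nat_lit 15, nat_lit 26], (nat_lit 1200)), ((nat_lit 3097), [nat_lit 6, nat_lit 7, nat_lit 4, nat_lit 7, nat_lit 1, nat_lit 2, nat_lit 3, nat_lit 4, nat_lit 7, nat_lit 2, nat_lit 3, nat_lit 4, nat_lit 2, nat_lit 3, nat_lit 1], [nat_lit 5, nat_lit 37, nat_lit 24, nat_lit 26], (nat_lit 13862)), ((nat_lit 2599), [nat_lit 7, nat_lit 2, nat_lit 3, nat_lit 4, nat_lit 7, nat_lit 3, nat_lit 4, nat_lit 2, nat_lit 3, nat_lit 0, nat_lit 1], [nat_lit 0, nat_lit 35, nat_lit 15, nat_lit 27], (nat_lit 2041))] (nat_lit 0) m6_3_1) = 0 := by decide +kernel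
theorem e6_3_2 : reachX THn.T (nat_lit 2043784659807883087) (S6.map Prod.snd) [nat_lit 0, nat_lit 1, nat_lit 0, nat_lit 2, nat_lit 0, nat_lit 2, nat_lit 0, nat_lit 2, nat_lit 1] m6_3_1 = m6_3_2 := by decide +kernel
theorem e6_4_1 : dt.run q (fun c => c.edges (SP THn.T THn.Rl (nat_lit 15)) (nat_lit 4429) THn.T.n (nat_lit 6) (nat_lit 4)
  [((nat_lit 2580), [nat_lit 8], [nat_lit 10, nat_lit 10, nat_lit 0, nat_lit 15, nat_lit 15, nat_lit 15], (nat_lit 3)), ((nat_lit 2603), [nat_lit 6, nat_lit 3, nat_lit 4, nat_lit 8, nat_lit 4, nat_lit 1, nat_lit 2, nat_lit 3, nat_lit 0, nat_lit 1], [nat_lit 1, nat_lit 24, nat_lit 0, nat_lit 25, nat_lit 15, nat_lit 11, nat_lit 27], (nat_lit 1034)), ((nat_lit 2601), [nat_lit 7, nat_lit 5, nat_lit 2, nat_lit 3, nat_lit 4, nat_lit 8, nat_lit 4, nat_lit 1, nat_lit 2, nat_lit 3, nat_lit 0, nat_lit 1], [nat_lit 16, nat_lit 32,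 nat_lit 15], (nat_lit 2942)), ((nat_lit 3090), [nat_lit 7, nat_lit 7, nat_lit 4, nat_lit 7, nat_lit 1, nat_lit 2, nat_lit 3, nat_lit 0, nat_lit 1], [nat_lit 33, nat_lit 15], (nat_lit 644))] (nat_lit 0) m6_4_1) = 0 := by decide +kernel
theorem e6_4_2 : reachX THn.T (nat_lit 1065014159041240451) (S6.map Prod.snd) [nat_lit 0, nat_lit 2, nat_lit 0, nat_lit 2, nat_lit 0, nat_lit 1, nat_lit 2, nat_lit 2] m6_4_1 = m6_4_2 := by decide +kernel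
theorem e6_5_1 : dt.run q (fun c => c.edges (SP THn.T THn.Rl (nat_lit 15)) (nat_lit 4429) THn.T.n (nat_lit 6) (nat_lit 5)
  [((nat_lit 2582), [nat_lit 6, nat_lit 8], [nat_lit 18, nat_lit 15, nat_lit 0, nat_lit 24, nat_lit 36, nat_lit 11], (nat_lit 12)), ((nat_lit 2584), [nat_lit 5, nat_lit 7], [nat_lit 0, nat_lit 2, nat_lit 17, nat_lit 11, nat_lit 26], (nat_lit 15)), ((nat_lit 2586), [nat_lit 6, nat_lit 7], [nat_lit 18, nat_lit 15, nat_lit 0, nat_lit 16, nat_lit 11, nat_lit 26], (nat_lit 14)), ((nat_lit 3073), [nat_lit 3, nat_lit 4, nat_lit 7, nat_lit 1, nat_lit 2, nat_lit 3, nat_lit 4, nat_lit 8, nat_lit 3, nat_lit 4, nat_lit 2, nat_lit 3, nat_lit 1], [nat_lit 33, nat_lit 24, nat_lit 11, nat_lit 26], (nat_lit 6604)), ((nat_lit 2903), [nat_lit 6, nat_lit 7, nat_lit 4, nat_lit 8, nat_lit 2, nat_lit 3, nat_lit 4, nat_lit 7, nat_lit 1, nat_lit 2, nat_lit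 3, nat_lit 0, nat_lit 1], [nat_lit 10, nat_lit 0, nat_lit 34, nat_lit 37], (nat_lit 4894)), ((nat_lit 2967), [nat_lit 8, nat_lit 8, nat_lit 4, nat_lit 8, nat_lit 1, nat_lit 2, nat_lit 3, nat_lit 4, nat_lit 8, nat_lit 4, nat_lit 2, nat_lit 3, nat_lit 0, nat_lit 1], [nat_lit 16, nat_lit 5, nat_lit 0, nat_lit 16, nat_lit 37, nat_lit 26], (nat_lit 8309)), ((nat_lit 2605), [nat_lit 3, nat_lit 4, nat_lit 7, nat_lit 4, nat_lit 7, nat_lit 1, nat_lit 2, nat_lit 3, nat_lit 0, nat_lit 1], [nat_lit 2, nat_lit 25, nat_lit 16, nat_lit 16, nat_lit 27], (nat_lit 1079)), ((nat_lit 2615), [nat_lit 5, nat_lit 3, nat_lit 0, nat_lit 1, nat_lit 2, nat_lit 3, nat_lit 4, nat_lit 8, nat_lit 1, nat_lit 2, nat_lit 3, nat_lit 0, nat_lit 1], [nat_lit 5, nat_lit 16, nat_lit 2, nat_lit 27, nat_lit 25, nat_lit 27], (nat_lit 4785)), ((nat_lit 2921), [nat_lit 7, nat_lit 1, nat_lit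 2, nat_lit 3, nat_lit 0, nat_lit 1], [nat_lit 0, nat_lit 24, nat_lit 18, nat_lit 18], (nat_lit 136)), ((nat_lit 2993), [nat_lit 4, nat_lit 8, nat_lit 2, nat_lit 3, nat_lit 4, nat_lit 8, nat_lit 2, nat_lit 3, nat_lit 4, nat_lit 8, nat_lit 3, nat_lit 2, nat_lit 3, nat_lit 0, nat_lit 1], [nat_lit 37, nat_lit 34, nat_lit 11, nat_lit 26], (nat_lit 11480)), ((nat_lit 2885), [nat_lit 6, nat_lit 8, nat_lit 4, nat_lit 7, nat_lit 2, nat_lit 3, nat_lit 4, nat_lit 7, nat_lit 2, nat_lit 3, nat_lit 1], [nat_lit 24, nat_lit 15, nat_lit 0, nat_lit 24, nat_lit 17], (nat_lit 2726)), ((nat_lit 2631), [nat_lit 6, nat_lit 3, nat_lit 4, nat_lit 7, nat_lit 1, nat_lit 2, nat_lit 3, nat_lit 0, nat_lit 1], [nat_lit 24, nat_lit 2, nat_lit 32, nat_lit 11], (nat_lit 633)), ((nat_lit 2627), [nat_lit 6, nat_lit 3, nat_lit 4, nat_lit 8, nat_lit 1, nat_lit 2, nat_lit 3, nat_lit 0,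 nat_lit 1], [nat_lit 5, nat_lit 37, nat_lit 24, nat_lit 27], (nat_lit 620)), ((nat_lit 2611), [nat_lit 3, nat_lit 2, nat_lit 3, nat_lit 1, nat_lit 2, nat_lit 3, nat_lit 4, nat_lit 8, nat_lit 4, nat_lit 3, nat_lit 0, nat_lit 1], [nat_lit 24, nat_lit 2, nat_lit 25, nat_lit 16, nat_lit 16], (nat_lit 3627)), ((nat_lit 3035), [nat_lit 7, nat_lit 4, nat_lit 8, nat_lit 2, nat_lit 3, nat_lit 4, nat_lit 7, nat_lit 3, nat_lit 2, nat_lit 3, nat_lit 4, nat_lit 3, nat_lit 2, nat_lit 3, nat_lit 1], [nat_lit 15, nat_lit 2, nat_lit 25, nat_lit 15, nat_lit 11, nat_lit 27], (nat_lit 12595)), ((nat_lit 2675), [nat_lit 4, nat_lit 8, nat_lit 4, nat_lit 8, nat_lit 3, nat_lit 2, nat_lit 3, nat_lit 4, nat_lit 7, nat_lit 3, nat_lit 2, nat_lit 3, nat_lit 1], [nat_lit 1, nat_lit 5, nat_lit 18, nat_lit 26], (nat_lit 6271)), ((nat_lit 2773), [nat_lit 7, nat_lit 3, nat_lit 4, nat_lit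 7, nat_lit 2, nat_lit 3, nat_lit 4, nat_lit 8, nat_lit 2, nat_lit 3, nat_lit 4, nat_lit 2, nat_lit 3, nat_lit 1], [nat_lit 5, nat_lit 37, nat_lit 11, nat_lit 26], (nat_lit 9899)), ((nat_lit 2731), [nat_lit 8, nat_lit 5, nat_lit 3, nat_lit 1, nat_lit 2, nat_lit 3, nat_lit 4, nat_lit 7, nat_lit 3, nat_lit 2, nat_lit 3, nat_lit 1], [nat_lit 26, nat_lit 24, nat_lit 0, nat_lit 33, nat_lit 18, nat_lit 26], (nat_lit 3931)), ((nat_lit 2719), [nat_lit 3, nat_lit 4, nat_lit 7, nat_lit 0, nat_lit 1, nat_lit 2, nat_lit 3, nat_lit 4, nat_lit 7, nat_lit 3, nat_lit 2, nat_lit 3, nat_lit 1], [nat_lit 5, nat_lit 0, nat_lit 25, nat_lit 16], (nat_lit 6200)), ((nat_lit 2929), [nat_lit 8, nat_lit 4, nat_lit 7, nat_lit 5, nat_lit 2, nat_lit 3, nat_lit 4, nat_lit 8, nat_lit 0, nat_lit 1, nat_lit 2, nat_lit 3, nat_lit 4, nat_lit 3, nat_lit 2, nat_lit 3, nat_lit 1], [nat_lit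 5, nat_lit 14, nat_lit 33, nat_lit 16, nat_lit 26], (nat_lit 17073)), ((nat_lit 2821), [nat_lit 6, nat_lit 7, nat_lit 4, nat_lit 8, nat_lit 2, nat_lit 3, nat_lit 4, nat_lit 8, nat_lit 1, nat_lit 2, nat_lit 3, nat_lit 0, nat_lit 1], [nat_lit 25, nat_lit 16, nat_lit 0, nat_lit 25, nat_lit 11, nat_lit 26], (nat_lit 4826)), ((nat_lit 2613), [nat_lit 3, nat_lit 2, nat_lit 3, nat_lit 4, nat_lit 8, nat_lit 4, nat_lit 1, nat_lit 2, nat_lit 3, nat_lit 0, nat_lit 1], [nat_lit 10, nat_lit 10, nat_lit 0, nat_lit 24, nat_lit 17, nat_lit 27], (nat_lit 1764)), ((nat_lit 2607), [nat_lit 6, nat_lit 7, nat_lit 3, nat_lit 4, nat_lit 8, nat_lit 4, nat_lit 1, nat_lit 2, nat_lit 3, nat_lit 0, nat_lit 1], [nat_lit 14, nat_lit 33, nat_lit 37, nat_lit 27], (nat_lit 1772)), ((nat_lit 2617), [nat_lit 8, nat_lit 3, nat_lit 0, nat_lit 1, nat_lit 2, nat_lit 3, nat_lit 4, nat_lit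 7, nat_lit 4, nat_lit 1, nat_lit 2, nat_lit 3, nat_lit 0, nat_lit 1], [nat_lit 11, nat_lit 5, nat_lit 2, nat_lit 34, nat_lit 24, nat_lit 17, nat_lit 26], (nat_lit 7419)), ((nat_lit 2709), [nat_lit 7, nat_lit 3, nat_lit 2, nat_lit 3, nat_lit 4, nat_lit 8, nat_lit 1, nat_lit 2, nat_lit 3, nat_lit 0, nat_lit 1], [nat_lit 10, nat_lit 10, nat_lit 0, nat_lit 25, nat_lit 33, nat_lit 15, nat_lit 26], (nat_lit 1793)), ((nat_lit 2891), [nat_lit 4, nat_lit 2, nat_lit 3, nat_lit 1, nat_lit 2, nat_lit 3, nat_lit 4, nat_lit 7, nat_lit 4, nat_lit 7, nat_lit 3, nat_lit 2, nat_lit 3, nat_lit 1], [nat_lit 15, nat_lit 2, nat_lit 25, nat_lit 18, nat_lit 18], (nat_lit 9684)), ((nat_lit 2873), [nat_lit 8, nat_lit 3, nat_lit 2, nat_lit 3, nat_lit 4, nat_lit 7, nat_lit 1, nat_lit 2, nat_lit 3, nat_lit 0, nat_lit 1], [nat_lit 10, nat_lit 10, nat_lit 0, nat_lit 17, nat_lit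 17, nat_lit 27], (nat_lit 1824)), ((nat_lit 2751), [nat_lit 5, nat_lit 8, nat_lit 5, nat_lit 4, nat_lit 7, nat_lit 1, nat_lit 2, nat_lit 3, nat_lit 4, nat_lit 8, nat_lit 2, nat_lit 3, nat_lit 1], [nat_lit 24, nat_lit 2, nat_lit 0, nat_lit 32, nat_lit 36, nat_lit 16], (nat_lit 6910)), ((nat_lit 2655), [nat_lit 7, nat_lit 4, nat_lit 7, nat_lit 2, nat_lit 3, nat_lit 4, nat_lit 8, nat_lit 1, nat_lit 2, nat_lit 3, nat_lit 4, nat_lit 7, nat_lit 3, nat_lit 2, nat_lit 3, nat_lit 1], [nat_lit 26, nat_lit 2, nat_lit 0, nat_lit 37, nat_lit 11, nat_lit 17, nat_lit 27], (nat_lit 16359)), ((nat_lit 3021), [nat_lit 7, nat_lit 4, nat_lit 8, nat_lit 8, nat_lit 3, nat_lit 0, nat_lit 1, nat_lit 2, nat_lit 3, nat_lit 4, nat_lit 7, nat_lit 3, nat_lit 2, nat_lit 3, nat_lit 1], [nat_lit 26, nat_lit 2, nat_lit 0, nat_lit 18, nat_lit 35], (nat_lit 13338)), ((nat_lit 2943),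 [nat_lit 5, nat_lit 3, nat_lit 1, nat_lit 2, nat_lit 3, nat_lit 4, nat_lit 7, nat_lit 3, nat_lit 2, nat_lit 3, nat_lit 1], [nat_lit 26, nat_lit 2, nat_lit 37, nat_lit 34, nat_lit 11, nat_lit 27], (nat_lit 2371)), ((nat_lit 2795), [nat_lit 6, nat_lit 7, nat_lit 3, nat_lit 0, nat_lit 1], [nat_lit 24, nat_lit 16, nat_lit 0, nat_lit 33, nat_lit 37, nat_lit 27], (nat_lit 80)), ((nat_lit 2957), [nat_lit 8, nat_lit 4, nat_lit 8, nat_lit 6, nat_lit 3, nat_lit 2, nat_lit 3, nat_lit 4, nat_lit 7, nat_lit 3, nat_lit 2, nat_lit 3, nat_lit 1], [nat_lit 16, nat_lit 0, nat_lit 37, nat_lit 11, nat_lit 17, nat_lit 27], (nat_lit 6260)), ((nat_lit 2787), [nat_lit 7, nat_lit 4, nat_lit 7, nat_lit 2, nat_lit 3, nat_lit 1, nat_lit 2, nat_lit 3, nat_lit 4, nat_lit 3, nat_lit 2, nat_lit 3, nat_lit 1], [nat_lit 24, nat_lit 2, nat_lit 24, nat_lit 35], (nat_lit 5733)), ((nat_lit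 2953), [nat_lit 7, nat_lit 4, nat_lit 8, nat_lit 2, nat_lit 3, nat_lit 1, nat_lit 2, nat_lit 3, nat_lit 4, nat_lit 8, nat_lit 4, nat_lit 3, nat_lit 2, nat_lit 3, nat_lit 1], [nat_lit 15, nat_lit 5, nat_lit 37, nat_lit 25, nat_lit 27], (nat_lit 12885)), ((nat_lit 3033), [nat_lit 6, nat_lit 8, nat_lit 4, nat_lit 7, nat_lit 3, nat_lit 2, nat_lit 3, nat_lit 4, nat_lit 8, nat_lit 2, nat_lit 3, nat_lit 4, nat_lit 2, nat_lit 3, nat_lit 1], [nat_lit 14, nat_lit 26, nat_lit 36, nat_lit 27], (nat_lit 13761)), ((nat_lit 2687), [nat_lit 8, nat_lit 4, nat_lit 8, nat_lit 3, nat_lit 2, nat_lit 3, nat_lit 1, nat_lit 2, nat_lit 3, nat_lit 4, nat_lit 7, nat_lit 3, nat_lit 2, nat_lit 3, nat_lit 1], [nat_lit 15, nat_lit 26], (nat_lit 13380)), ((nat_lit 2775), [nat_lit 4, nat_lit 8, nat_lit 4, nat_lit 8, nat_lit 3, nat_lit 2, nat_lit 3, nat_lit 4, nat_lit 8, nat_lit 3,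 nat_lit 2, nat_lit 3, nat_lit 1], [nat_lit 25, nat_lit 1, nat_lit 33, nat_lit 24, nat_lit 11], (nat_lit 6112)), ((nat_lit 2951), [nat_lit 7, nat_lit 7, nat_lit 4, nat_lit 7, nat_lit 3, nat_lit 1, nat_lit 2, nat_lit 3, nat_lit 4, nat_lit 8, nat_lit 4, nat_lit 3, nat_lit 2, nat_lit 3, nat_lit 1], [nat_lit 5, nat_lit 16, nat_lit 2, nat_lit 32, nat_lit 32, nat_lit 27], (nat_lit 12904)), ((nat_lit 2827), [nat_lit 3, nat_lit 2, nat_lit 3, nat_lit 4, nat_lit 7, nat_lit 4, nat_lit 7, nat_lit 0, nat_lit 1, nat_lit 2, nat_lit 3, nat_lit 4, nat_lit 3, nat_lit 2, nat_lit 3, nat_lit 1], [nat_lit 10, nat_lit 10, nat_lit 0, nat_lit 34, nat_lit 17, nat_lit 26], (nat_lit 15724)), ((nat_lit 3071), [nat_lit 2, nat_lit 3, nat_lit 4, nat_lit 7, nat_lit 4, nat_lit 3, nat_lit 1, nat_lit 2, nat_lit 3, nat_lit 0, nat_lit 1], [nat_lit 26, nat_lit 2, nat_lit 11, nat_lit 18],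 (nat_lit 1676)), ((nat_lit 2747), [nat_lit 7, nat_lit 6, nat_lit 3, nat_lit 2, nat_lit 3, nat_lit 4, nat_lit 8, nat_lit 3, nat_lit 4, nat_lit 2, nat_lit 3, nat_lit 0, nat_lit 1], [nat_lit 24, nat_lit 15, nat_lit 0, nat_lit 33, nat_lit 33, nat_lit 11], (nat_lit 5384)), ((nat_lit 3041), [nat_lit 6, nat_lit 8, nat_lit 3, nat_lit 4, nat_lit 7, nat_lit 3, nat_lit 2, nat_lit 3, nat_lit 4, nat_lit 3, nat_lit 2, nat_lit 3, nat_lit 1], [nat_lit 16, nat_lit 18, nat_lit 15, nat_lit 26], (nat_lit 5803)), ((nat_lit 2865), [nat_lit 4, nat_lit 7, nat_lit 5, nat_lit 3, nat_lit 4, nat_lit 7, nat_lit 2, nat_lit 3, nat_lit 4, nat_lit 7, nat_lit 3, nat_lit 2, nat_lit 3, nat_lit 1], [nat_lit 11, nat_lit 2, nat_lit 0, nat_lit 15, nat_lit 32, nat_lit 11, nat_lit 26], (nat_lit 9664)), ((nat_lit 2813), [nat_lit 6, nat_lit 8, nat_lit 1, nat_lit 2, nat_lit 3, nat_lit 4, nat_lit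 7, nat_lit 3, nat_lit 4, nat_lit 1, nat_lit 2, nat_lit 3, nat_lit 0, nat_lit 1], [nat_lit 24, nat_lit 16, nat_lit 0, nat_lit 25, nat_lit 37, nat_lit 17], (nat_lit 7387)), ((nat_lit 2999), [nat_lit 7, nat_lit 5, nat_lit 4, nat_lit 8, nat_lit 0, nat_lit 1, nat_lit 2, nat_lit 3, nat_lit 4, nat_lit 7, nat_lit 3, nat_lit 2, nat_lit 3, nat_lit 1], [nat_lit 18, nat_lit 15, nat_lit 0, nat_lit 15, nat_lit 17], (nat_lit 9482)), ((nat_lit 2829), [nat_lit 8, nat_lit 5, nat_lit 3, nat_lit 1, nat_lit 2, nat_lit 3, nat_lit 4, nat_lit 8, nat_lit 3, nat_lit 2, nat_lit 3, nat_lit 1], [nat_lit 24, nat_lit 2, nat_lit 0, nat_lit 35, nat_lit 35, nat_lit 26], (nat_lit 3841)), ((nat_lit 2609), [nat_lit 5, nat_lit 8, nat_lit 3, nat_lit 1, nat_lit 2, nat_lit 3, nat_lit 0, nat_lit 1], [nat_lit 5, nat_lit 16, nat_lit 2, nat_lit 37, nat_lit 18], (nat_lit 366)), ((nat_lit 2989),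 [nat_lit 5, nat_lit 1, nat_lit 2, nat_lit 3, nat_lit 4, nat_lit 8, nat_lit 3, nat_lit 4, nat_lit 2, nat_lit 3, nat_lit 1], [nat_lit 25, nat_lit 1, nat_lit 17, nat_lit 11], (nat_lit 2495)), ((nat_lit 2907), [nat_lit 7, nat_lit 5, nat_lit 4, nat_lit 7, nat_lit 0, nat_lit 1, nat_lit 2, nat_lit 3, nat_lit 4, nat_lit 8, nat_lit 2, nat_lit 3, nat_lit 0, nat_lit 1], [nat_lit 15, nat_lit 5, nat_lit 37, nat_lit 17, nat_lit 11], (nat_lit 8376)), ((nat_lit 2877), [nat_lit 7, nat_lit 3, nat_lit 0, nat_lit 1, nat_lit 2, nat_lit 3, nat_lit 4, nat_lit 1, nat_lit 2, nat_lit 3, nat_lit 0, nat_lit 1], [nat_lit 5, nat_lit 14, nat_lit 26, nat_lit 15, nat_lit 15, nat_lit 26], (nat_lit 2867)), ((nat_lit 2623), [nat_lit 5, nat_lit 2, nat_lit 3, nat_lit 4, nat_lit 7, nat_lit 4, nat_lit 1, nat_lit 2, nat_lit 3, nat_lit 0, nat_lit 1], [nat_lit 5, nat_lit 14, nat_lit 16, nat_lit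 25, nat_lit 26], (nat_lit 1777)), ((nat_lit 2625), [nat_lit 8, nat_lit 8, nat_lit 3, nat_lit 4, nat_lit 8, nat_lit 1, nat_lit 2, nat_lit 3, nat_lit 0, nat_lit 1], [nat_lit 10, nat_lit 10, nat_lit 0, nat_lit 33, nat_lit 18], (nat_lit 1059)), ((nat_lit 2711), [nat_lit 7, nat_lit 3, nat_lit 4, nat_lit 1, nat_lit 2, nat_lit 3, nat_lit 0, nat_lit 1], [nat_lit 2, nat_lit 27, nat_lit 16], (nat_lit 372)), ((nat_lit 2619), [nat_lit 6, nat_lit 7, nat_lit 2, nat_lit 3, nat_lit 4, nat_lit 1, nat_lit 2, nat_lit 3, nat_lit 0, nat_lit 1], [nat_lit 1, nat_lit 24, nat_lit 0, nat_lit 34, nat_lit 15, nat_lit 26], (nat_lit 1021)), ((nat_lit 2985), [nat_lit 6, nat_lit 4, nat_lit 7, nat_lit 2, nat_lit 3, nat_lit 4, nat_lit 8, nat_lit 1, nat_lit 2, nat_lit 3, nat_lit 4, nat_lit 2, nat_lit 3, nat_lit 0, nat_lit 1], [nat_lit 1, nat_lit 14, nat_lit 34, nat_lit 32, nat_lit 11,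 nat_lit 26], (nat_lit 11731)), ((nat_lit 2913), [nat_lit 4, nat_lit 8, nat_lit 8, nat_lit 3, nat_lit 4, nat_lit 8, nat_lit 1, nat_lit 2, nat_lit 3, nat_lit 4, nat_lit 8, nat_lit 2, nat_lit 3, nat_lit 0, nat_lit 1], [nat_lit 14, nat_lit 15, nat_lit 18, nat_lit 16], (nat_lit 12073)), ((nat_lit 2851), [nat_lit 4, nat_lit 8, nat_lit 1, nat_lit 2, nat_lit 3, nat_lit 4, nat_lit 8, nat_lit 1, nat_lit 2, nat_lit 3, nat_lit 4, nat_lit 8, nat_lit 4, nat_lit 2, nat_lit 3, nat_lit 1], [nat_lit 25, nat_lit 0, nat_lit 11, nat_lit 17, nat_lit 26], (nat_lit 16648)), ((nat_lit 3043), [nat_lit 7, nat_lit 4, nat_lit 8, nat_lit 6, nat_lit 3, nat_lit 4, nat_lit 8, nat_lit 1, nat_lit 2, nat_lit 3, nat_lit 0, nat_lit 1], [nat_lit 5, nat_lit 0, nat_lit 36, nat_lit 24], (nat_lit 3009)), ((nat_lit 2945), [nat_lit 5, nat_lit 2, nat_lit 3, nat_lit 1, nat_lit 2, nat_lit 3, nat_lit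 4, nat_lit 7, nat_lit 3, nat_lit 2, nat_lit 3, nat_lit 1], [nat_lit 11, nat_lit 2, nat_lit 0, nat_lit 16, nat_lit 25, nat_lit 26], (nat_lit 3927)), ((nat_lit 2717), [nat_lit 5, nat_lit 2, nat_lit 3, nat_lit 1, nat_lit 2, nat_lit 3, nat_lit 4, nat_lit 8, nat_lit 3, nat_lit 2, nat_lit 3, nat_lit 1], [nat_lit 14, nat_lit 15, nat_lit 0, nat_lit 16, nat_lit 18, nat_lit 15, nat_lit 27], (nat_lit 3837)), ((nat_lit 2629), [nat_lit 7, nat_lit 5, nat_lit 3, nat_lit 4, nat_lit 8, nat_lit 2, nat_lit 3, nat_lit 0, nat_lit 1, nat_lit 2, nat_lit 3, nat_lit 4, nat_lit 3, nat_lit 2, nat_lit 3, nat_lit 1], [nat_lit 2, nat_lit 32, nat_lit 24, nat_lit 11, nat_lit 26], (nat_lit 15662)), ((nat_lit 2899), [nat_lit 7, nat_lit 6, nat_lit 2, nat_lit 3, nat_lit 4, nat_lit 7, nat_lit 3, nat_lit 2, nat_lit 3, nat_lit 1], [nat_lit 5, nat_lit 0, nat_lit 17, nat_lit 34, nat_lit 11],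 (nat_lit 1376)), ((nat_lit 2869), [nat_lit 6, nat_lit 4, nat_lit 7, nat_lit 4, nat_lit 2, nat_lit 3, nat_lit 1], [nat_lit 5, nat_lit 0, nat_lit 36, nat_lit 16, nat_lit 11], (nat_lit 321)), ((nat_lit 2783), [nat_lit 7, nat_lit 4, nat_lit 8, nat_lit 5, nat_lit 2, nat_lit 3, nat_lit 1, nat_lit 2, nat_lit 3, nat_lit 4, nat_lit 8, nat_lit 3, nat_lit 2, nat_lit 3, nat_lit 1], [nat_lit 1, nat_lit 5, nat_lit 17, nat_lit 27], (nat_lit 13119)), ((nat_lit 2871), [nat_lit 5, nat_lit 4, nat_lit 8, nat_lit 3, nat_lit 0, nat_lit 1, nat_lit 2, nat_lit 3, nat_lit 4, nat_lit 7, nat_lit 3, nat_lit 2, nat_lit 3, nat_lit 1], [nat_lit 25, nat_lit 1, nat_lit 34, nat_lit 34, nat_lit 15], (nat_lit 9461)), ((nat_lit 2763), [nat_lit 4, nat_lit 8, nat_lit 8, nat_lit 1, nat_lit 2, nat_lit 3, nat_lit 4, nat_lit 8, nat_lit 2, nat_lit 3, nat_lit 4, nat_lit 8, nat_lit 2, nat_lit 3,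 nat_lit 0, nat_lit 1], [nat_lit 5, nat_lit 14, nat_lit 27, nat_lit 37, nat_lit 27], (nat_lit 15511)), ((nat_lit 2887), [nat_lit 7, nat_lit 4, nat_lit 8, nat_lit 2, nat_lit 3, nat_lit 4, nat_lit 7, nat_lit 5, nat_lit 1, nat_lit 2, nat_lit 3, nat_lit 4, nat_lit 8, nat_lit 2, nat_lit 3, nat_lit 1], [nat_lit 24, nat_lit 2, nat_lit 16, nat_lit 18, nat_lit 11], (nat_lit 16686)), ((nat_lit 2725), [nat_lit 7, nat_lit 6, nat_lit 4, nat_lit 7, nat_lit 3, nat_lit 2, nat_lit 3, nat_lit 4, nat_lit 7, nat_lit 3, nat_lit 2, nat_lit 3, nat_lit 1], [nat_lit 24, nat_lit 15, nat_lit 0, nat_lit 37, nat_lit 18, nat_lit 15, nat_lit 27], (nat_lit 6286)), ((nat_lit 2855), [nat_lit 7, nat_lit 4, nat_lit 7, nat_lit 5, nat_lit 0, nat_lit 1, nat_lit 2, nat_lit 3, nat_lit 4, nat_lit 8, nat_lit 1, nat_lit 2, nat_lit 3, nat_lit 0, nat_lit 1], [nat_lit 24, nat_lit 1, nat_lit 25,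 nat_lit 18, nat_lit 26], (nat_lit 11040)), ((nat_lit 2893), [nat_lit 4, nat_lit 8, nat_lit 8, nat_lit 3, nat_lit 4, nat_lit 8, nat_lit 2, nat_lit 3, nat_lit 4, nat_lit 2, nat_lit 3, nat_lit 0, nat_lit 1], [nat_lit 24, nat_lit 2, nat_lit 0, nat_lit 32, nat_lit 27, nat_lit 17, nat_lit 26], (nat_lit 5331)), ((nat_lit 2699), [nat_lit 1, nat_lit 2, nat_lit 3, nat_lit 4, nat_lit 7, nat_lit 4, nat_lit 2, nat_lit 3, nat_lit 1], [nat_lit 26, nat_lit 24, nat_lit 0, nat_lit 17, nat_lit 25, nat_lit 15, nat_lit 26], (nat_lit 882)), ((nat_lit 2737), [nat_lit 8, nat_lit 5, nat_lit 1, nat_lit 2, nat_lit 3, nat_lit 4, nat_lit 8, nat_lit 2, nat_lit 3, nat_lit 1], [nat_lit 26, nat_lit 24, nat_lit 0, nat_lit 34, nat_lit 11, nat_lit 17, nat_lit 27], (nat_lit 1513)), ((nat_lit 2771), [nat_lit 6, nat_lit 7, nat_lit 3, nat_lit 2, nat_lit 3, nat_lit 1], [nat_lit 1, nat_lit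 5, nat_lit 33, nat_lit 33, nat_lit 11], (nat_lit 170)), ((nat_lit 3029), [nat_lit 5, nat_lit 7, nat_lit 3, nat_lit 2, nat_lit 3, nat_lit 1], [nat_lit 16, nat_lit 5, nat_lit 2, nat_lit 24, nat_lit 11, nat_lit 27], (nat_lit 171)), ((nat_lit 3017), [nat_lit 1, nat_lit 2, nat_lit 3, nat_lit 4, nat_lit 8, nat_lit 4, nat_lit 8, nat_lit 4, nat_lit 3, nat_lit 2, nat_lit 3, nat_lit 0, nat_lit 1], [nat_lit 26, nat_lit 2, nat_lit 0, nat_lit 15, nat_lit 18], (nat_lit 5061)), ((nat_lit 3061), [nat_lit 4, nat_lit 7, nat_lit 3, nat_lit 4, nat_lit 7, nat_lit 5, nat_lit 1, nat_lit 2, nat_lit 3, nat_lit 4, nat_lit 7, nat_lit 4, nat_lit 2, nat_lit 3, nat_lit 1], [nat_lit 11, nat_lit 2, nat_lit 0, nat_lit 35, nat_lit 33, nat_lit 11, nat_lit 26], (nat_lit 14247)), ((nat_lit 2715), [nat_lit 3, nat_lit 4, nat_lit 1, nat_lit 2, nat_lit 3, nat_lit 0, nat_lit 1, nat_lit 2,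 nat_lit 3, nat_lit 4, nat_lit 7, nat_lit 4, nat_lit 3, nat_lit 2, nat_lit 3, nat_lit 1], [nat_lit 0, nat_lit 2, nat_lit 24, nat_lit 11, nat_lit 27], (nat_lit 16018)), ((nat_lit 3059), [nat_lit 6, nat_lit 7, nat_lit 3, nat_lit 4, nat_lit 8, nat_lit 4, nat_lit 2, nat_lit 3, nat_lit 0, nat_lit 1], [nat_lit 5, nat_lit 2, nat_lit 0, nat_lit 33, nat_lit 35], (nat_lit 1202)), ((nat_lit 2723), [nat_lit 8, nat_lit 6, nat_lit 4, nat_lit 7, nat_lit 3, nat_lit 4, nat_lit 7, nat_lit 2, nat_lit 3, nat_lit 4, nat_lit 8, nat_lit 2, nat_lit 3, nat_lit 1], [nat_lit 1, nat_lit 1, nat_lit 32, nat_lit 32, nat_lit 11, nat_lit 26], (nat_lit 10602)), ((nat_lit 2833), [nat_lit 7, nat_lit 4, nat_lit 7, nat_lit 0, nat_lit 1, nat_lit 2, nat_lit 3, nat_lit 4, nat_lit 3, nat_lit 2, nat_lit 3, nat_lit 1], [nat_lit 10, nat_lit 0, nat_lit 17], (nat_lit 3648)), ((nat_lit 2659), [nat_lit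 3, nat_lit 0, nat_lit 1, nat_lit 2, nat_lit 3, nat_lit 4, nat_lit 7, nat_lit 3, nat_lit 4, nat_lit 8, nat_lit 2, nat_lit 3, nat_lit 1], [nat_lit 14, nat_lit 15, nat_lit 0, nat_lit 36, nat_lit 33, nat_lit 11, nat_lit 26], (nat_lit 7000)), ((nat_lit 3019), [nat_lit 7, nat_lit 4, nat_lit 8, nat_lit 2, nat_lit 3, nat_lit 1], [nat_lit 1, nat_lit 5, nat_lit 32, nat_lit 18, nat_lit 15, nat_lit 26], (nat_lit 185)), ((nat_lit 2857), [nat_lit 7, nat_lit 3, nat_lit 2, nat_lit 3, nat_lit 4, nat_lit 7, nat_lit 7, nat_lit 1, nat_lit 2, nat_lit 3, nat_lit 4, nat_lit 7, nat_lit 2, nat_lit 3, nat_lit 1], [nat_lit 15, nat_lit 1, nat_lit 33, nat_lit 36, nat_lit 11, nat_lit 26], (nat_lit 14584)), ((nat_lit 3013), [nat_lit 8, nat_lit 0, nat_lit 1, nat_lit 2, nat_lit 3, nat_lit 4, nat_lit 8, nat_lit 1, nat_lit 2, nat_lit 3, nat_lit 4, nat_lit 3, nat_lit 2, nat_lit 3, nat_lit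 1], [nat_lit 16, nat_lit 5, nat_lit 0, nat_lit 17, nat_lit 33], (nat_lit 12539)), ((nat_lit 2727), [nat_lit 7, nat_lit 2, nat_lit 3, nat_lit 1, nat_lit 2, nat_lit 3, nat_lit 4, nat_lit 7, nat_lit 4, nat_lit 3, nat_lit 2, nat_lit 3, nat_lit 1], [nat_lit 16, nat_lit 5, nat_lit 0, nat_lit 34, nat_lit 32, nat_lit 16, nat_lit 26], (nat_lit 5981)), ((nat_lit 2769), [nat_lit 8, nat_lit 3, nat_lit 4, nat_lit 8, nat_lit 4, nat_lit 3, nat_lit 2, nat_lit 3, nat_lit 4, nat_lit 8, nat_lit 3, nat_lit 4, nat_lit 2, nat_lit 3, nat_lit 1], [nat_lit 25, nat_lit 16, nat_lit 0, nat_lit 18, nat_lit 16, nat_lit 11], (nat_lit 14058)), ((nat_lit 2941), [nat_lit 3, nat_lit 2, nat_lit 3, nat_lit 4, nat_lit 7, nat_lit 4, nat_lit 7, nat_lit 3, nat_lit 4, nat_lit 2, nat_lit 3, nat_lit 1], [nat_lit 1, nat_lit 1, nat_lit 37, nat_lit 37, nat_lit 16], (nat_lit 4207)), ((nat_lit 3083),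 [nat_lit 8, nat_lit 3, nat_lit 4, nat_lit 8, nat_lit 3, nat_lit 1, nat_lit 2, nat_lit 3, nat_lit 4, nat_lit 8, nat_lit 4, nat_lit 3, nat_lit 2, nat_lit 3, nat_lit 1], [nat_lit 15, nat_lit 0, nat_lit 35, nat_lit 27, nat_lit 15], (nat_lit 12894)), ((nat_lit 2983), [nat_lit 6, nat_lit 0, nat_lit 1, nat_lit 2, nat_lit 3, nat_lit 1, nat_lit 2, nat_lit 3, nat_lit 4, nat_lit 8, nat_lit 3, nat_lit 4, nat_lit 2, nat_lit 3, nat_lit 1], [nat_lit 25, nat_lit 2, nat_lit 0, nat_lit 37, nat_lit 16, nat_lit 26], (nat_lit 13938)), ((nat_lit 2987), [nat_lit 8, nat_lit 5, nat_lit 2, nat_lit 3, nat_lit 4, nat_lit 8, nat_lit 3, nat_lit 2, nat_lit 3, nat_lit 1], [nat_lit 14, nat_lit 35, nat_lit 33, nat_lit 11, nat_lit 26], (nat_lit 1345)), ((nat_lit 3039), [nat_lit 6, nat_lit 2, nat_lit 3, nat_lit 4, nat_lit 8, nat_lit 0, nat_lit 1, nat_lit 2, nat_lit 3, nat_lit 4, nat_lit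 7, nat_lit 2, nat_lit 3, nat_lit 1], [nat_lit 5, nat_lit 2, nat_lit 15, nat_lit 17, nat_lit 11, nat_lit 26], (nat_lit 10646)), ((nat_lit 2621), [nat_lit 7, nat_lit 3, nat_lit 4, nat_lit 8, nat_lit 1, nat_lit 2, nat_lit 3, nat_lit 0, nat_lit 1], [nat_lit 5, nat_lit 37, nat_lit 33], (nat_lit 623)), ((nat_lit 2947), [nat_lit 8, nat_lit 2, nat_lit 3, nat_lit 4, nat_lit 8, nat_lit 1, nat_lit 2, nat_lit 3, nat_lit 4, nat_lit 7, nat_lit 3, nat_lit 4, nat_lit 2, nat_lit 3, nat_lit 1], [nat_lit 5, nat_lit 2, nat_lit 25, nat_lit 15], (nat_lit 14128))] (nat_lit 0) m6_5_1) = 0 := by decide +kernel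
theorem e6_5_2 : dt.run q (fun c => c.edges (SP THn.T THn.Rl (nat_lit 15)) (nat_lit 4429) THn.T.n (nat_lit 6) (nat_lit 5)
  [((nat_lit 2785), [nat_lit 2, nat_lit 3, nat_lit 4, nat_lit 8, nat_lit 0, nat_lit 1, nat_lit 2, nat_lit 3, nat_lit 4, nat_lit 7, nat_lit 4, nat_lit 3, nat_lit 2, nat_lit 3, nat_lit 1], [nat_lit 10, nat_lit 10, nat_lit 0, nat_lit 34, nat_lit 17, nat_lit 26], (nat_lit 12949)), ((nat_lit 3005), [nat_lit 7, nat_lit 4, nat_lit 7, nat_lit 2, nat_lit 3, nat_lit 1, nat_lit 2, nat_lit 3, nat_lit 4, nat_lit 7, nat_lit 3, nat_lit 4, nat_lit 3, nat_lit 2, nat_lit 3, nat_lit 1], [nat_lit 17, nat_lit 24, nat_lit 0, nat_lit 26, nat_lit 16, nat_lit 11], (nat_lit 15943)), ((nat_lit 2697), [nat_lit 2, nat_lit 3, nat_lit 1, nat_lit 2, nat_lit 3, nat_lit 4, nat_lit 8, nat_lit 4, nat_lit 8, nat_lit 3, nat_lit 4, nat_lit 2, nat_lit 3, nat_lit 1], [nat_lit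 24, nat_lit 2, nat_lit 37, nat_lit 32], (nat_lit 10163)), ((nat_lit 2669), [nat_lit 5, nat_lit 8, nat_lit 3, nat_lit 4, nat_lit 7, nat_lit 2, nat_lit 3, nat_lit 4, nat_lit 2, nat_lit 3, nat_lit 1], [nat_lit 16, nat_lit 5, nat_lit 2, nat_lit 27, nat_lit 25, nat_lit 26], (nat_lit 2486)), ((nat_lit 2713), [nat_lit 7, nat_lit 4, nat_lit 3, nat_lit 0, nat_lit 1, nat_lit 2, nat_lit 3, nat_lit 4, nat_lit 7, nat_lit 4, nat_lit 3, nat_lit 2, nat_lit 3, nat_lit 1], [nat_lit 5, nat_lit 0, nat_lit 36, nat_lit 18, nat_lit 26], (nat_lit 9132)), ((nat_lit 3047), [nat_lit 7, nat_lit 5, nat_lit 4, nat_lit 3, nat_lit 1, nat_lit 2, nat_lit 3, nat_lit 4, nat_lit 7, nat_lit 3, nat_lit 4, nat_lit 3, nat_lit 2, nat_lit 3, nat_lit 1], [nat_lit 5, nat_lit 18, nat_lit 36, nat_lit 27], (nat_lit 12762)), ((nat_lit 2749), [nat_lit 7, nat_lit 7, nat_lit 4, nat_lit 7, nat_lit 3,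 nat_lit 4, nat_lit 7, nat_lit 6, nat_lit 1, nat_lit 2, nat_lit 3, nat_lit 4, nat_lit 7, nat_lit 2, nat_lit 3, nat_lit 1], [nat_lit 11, nat_lit 5, nat_lit 2, nat_lit 37, nat_lit 11, nat_lit 17], (nat_lit 16787)), ((nat_lit 2639), [nat_lit 3, nat_lit 4, nat_lit 7, nat_lit 2, nat_lit 3, nat_lit 0, nat_lit 1, nat_lit 2, nat_lit 3, nat_lit 4, nat_lit 8, nat_lit 3, nat_lit 2, nat_lit 3, nat_lit 0, nat_lit 1], [nat_lit 24, nat_lit 0, nat_lit 24, nat_lit 37, nat_lit 15, nat_lit 26], (nat_lit 14964)), ((nat_lit 2961), [nat_lit 6, nat_lit 7, nat_lit 1, nat_lit 2, nat_lit 3, nat_lit 4, nat_lit 3, nat_lit 1, nat_lit 2, nat_lit 3, nat_lit 0, nat_lit 1], [nat_lit 1, nat_lit 18, nat_lit 18, nat_lit 27], (nat_lit 2764)), ((nat_lit 2733), [nat_lit 2, nat_lit 3, nat_lit 4, nat_lit 8, nat_lit 1, nat_lit 2, nat_lit 3, nat_lit 4, nat_lit 7, nat_lit 2, nat_lit 3, nat_lit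 1], [nat_lit 15, nat_lit 0, nat_lit 17, nat_lit 15, nat_lit 27], (nat_lit 4422)), ((nat_lit 2777), [nat_lit 3, nat_lit 4, nat_lit 8, nat_lit 4, nat_lit 3, nat_lit 0, nat_lit 1], [nat_lit 14, nat_lit 15, nat_lit 0, nat_lit 36, nat_lit 32, nat_lit 11, nat_lit 27], (nat_lit 262)), ((nat_lit 2897), [nat_lit 7, nat_lit 5, nat_lit 4, nat_lit 8, nat_lit 2, nat_lit 3, nat_lit 0, nat_lit 1, nat_lit 2, nat_lit 3, nat_lit 4, nat_lit 8, nat_lit 3, nat_lit 2, nat_lit 3, nat_lit 1], [nat_lit 0, nat_lit 26, nat_lit 16, nat_lit 11], (nat_lit 16115)), ((nat_lit 2853), [nat_lit 3, nat_lit 4, nat_lit 7, nat_lit 5, nat_lit 1, nat_lit 2, nat_lit 3, nat_lit 4, nat_lit 8, nat_lit 4, nat_lit 2, nat_lit 3, nat_lit 1], [nat_lit 16, nat_lit 0, nat_lit 36, nat_lit 33, nat_lit 24, nat_lit 26], (nat_lit 6752)), ((nat_lit 2933), [nat_lit 7, nat_lit 7, nat_lit 4, nat_lit 7, nat_lit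 3, nat_lit 2, nat_lit 3, nat_lit 4, nat_lit 8, nat_lit 3, nat_lit 2, nat_lit 3, nat_lit 0, nat_lit 1], [nat_lit 5, nat_lit 0, nat_lit 37, nat_lit 24], (nat_lit 7863)), ((nat_lit 2875), [nat_lit 6, nat_lit 3, nat_lit 4, nat_lit 7, nat_lit 2, nat_lit 3, nat_lit 4, nat_lit 8, nat_lit 3, nat_lit 2, nat_lit 3, nat_lit 1], [nat_lit 24, nat_lit 1, nat_lit 24, nat_lit 18], (nat_lit 3893)), ((nat_lit 3065), [nat_lit 7, nat_lit 5, nat_lit 2, nat_lit 3, nat_lit 4, nat_lit 7, nat_lit 2, nat_lit 3, nat_lit 4, nat_lit 7, nat_lit 2, nat_lit 3, nat_lit 1], [nat_lit 24, nat_lit 2, nat_lit 37, nat_lit 37, nat_lit 16], (nat_lit 7160)), ((nat_lit 3031), [nat_lit 4, nat_lit 7, nat_lit 7, nat_lit 3, nat_lit 4, nat_lit 8, nat_lit 2, nat_lit 3, nat_lit 4, nat_lit 8, nat_lit 4, nat_lit 2, nat_lit 3, nat_lit 1], [nat_lit 1, nat_lit 25, nat_lit 36, nat_lit 11, nat_lit 27], (nat_lit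 10333)), ((nat_lit 2799), [nat_lit 3, nat_lit 4, nat_lit 8, nat_lit 8, nat_lit 1, nat_lit 2, nat_lit 3, nat_lit 4, nat_lit 8, nat_lit 2, nat_lit 3, nat_lit 1], [nat_lit 10, nat_lit 10, nat_lit 0, nat_lit 17, nat_lit 25, nat_lit 15, nat_lit 27], (nat_lit 4319)), ((nat_lit 3003), [nat_lit 7, nat_lit 1, nat_lit 2, nat_lit 3, nat_lit 0, nat_lit 1, nat_lit 2, nat_lit 3, nat_lit 4, nat_lit 8, nat_lit 3, nat_lit 2, nat_lit 3, nat_lit 1], [nat_lit 2, nat_lit 24, nat_lit 15, nat_lit 26], (nat_lit 9205)), ((nat_lit 2671), [nat_lit 6, nat_lit 4, nat_lit 8, nat_lit 3, nat_lit 4, nat_lit 7, nat_lit 2, nat_lit 3, nat_lit 1, nat_lit 2, nat_lit 3, nat_lit 4, nat_lit 3, nat_lit 2, nat_lit 3, nat_lit 1], [nat_lit 5, nat_lit 14, nat_lit 24, nat_lit 37, nat_lit 11], (nat_lit 15747)), ((nat_lit 2895), [nat_lit 4, nat_lit 8, nat_lit 5, nat_lit 3, nat_lit 2, nat_lit 3, nat_lit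 4, nat_lit 7, nat_lit 4, nat_lit 3, nat_lit 2, nat_lit 3, nat_lit 0, nat_lit 1], [nat_lit 25, nat_lit 1, nat_lit 15, nat_lit 27], (nat_lit 7763)), ((nat_lit 2741), [nat_lit 6, nat_lit 8, nat_lit 4, nat_lit 7, nat_lit 3, nat_lit 0, nat_lit 1, nat_lit 2, nat_lit 3, nat_lit 4, nat_lit 7, nat_lit 3, nat_lit 2, nat_lit 3, nat_lit 1], [nat_lit 26, nat_lit 2, nat_lit 0, nat_lit 25, nat_lit 15, nat_lit 26], (nat_lit 13348)), ((nat_lit 2879), [nat_lit 4, nat_lit 7, nat_lit 1, nat_lit 2, nat_lit 3, nat_lit 4, nat_lit 3, nat_lit 2, nat_lit 3, nat_lit 0, nat_lit 1], [nat_lit 5, nat_lit 2, nat_lit 0, nat_lit 18, nat_lit 35, nat_lit 15, nat_lit 26], (nat_lit 1857)), ((nat_lit 3025), [nat_lit 4, nat_lit 7, nat_lit 0, nat_lit 1, nat_lit 2, nat_lit 3, nat_lit 4, nat_lit 7, nat_lit 1, nat_lit 2, nat_lit 3, nat_lit 4, nat_lit 2, nat_lit 3, nat_lit 1], [nat_lit 15, nat_lit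 2, nat_lit 17, nat_lit 34, nat_lit 15], (nat_lit 13674)), ((nat_lit 2691), [nat_lit 8, nat_lit 6, nat_lit 4, nat_lit 3, nat_lit 1, nat_lit 2, nat_lit 3, nat_lit 4, nat_lit 8, nat_lit 4, nat_lit 3, nat_lit 2, nat_lit 3, nat_lit 1], [nat_lit 5, nat_lit 14, nat_lit 36, nat_lit 26], (nat_lit 9075)), ((nat_lit 2633), [nat_lit 5, nat_lit 8, nat_lit 4, nat_lit 7, nat_lit 2, nat_lit 3, nat_lit 1, nat_lit 2, nat_lit 3, nat_lit 4, nat_lit 8, nat_lit 3, nat_lit 2, nat_lit 3, nat_lit 0, nat_lit 1], [nat_lit 24, nat_lit 15, nat_lit 0, nat_lit 33, nat_lit 34], (nat_lit 15026)), ((nat_lit 3063), [nat_lit 4, nat_lit 8, nat_lit 4, nat_lit 8, nat_lit 3, nat_lit 2, nat_lit 3, nat_lit 4, nat_lit 8, nat_lit 3, nat_lit 2, nat_lit 3, nat_lit 0, nat_lit 1], [nat_lit 26, nat_lit 2, nat_lit 0, nat_lit 34, nat_lit 32, nat_lit 11, nat_lit 27], (nat_lit 7854)), ((nat_lit 2667),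 [nat_lit 7, nat_lit 5, nat_lit 4, nat_lit 3, nat_lit 2, nat_lit 3, nat_lit 4, nat_lit 7, nat_lit 3, nat_lit 4, nat_lit 3, nat_lit 2, nat_lit 3, nat_lit 1], [nat_lit 25, nat_lit 16, nat_lit 0, nat_lit 34, nat_lit 17, nat_lit 33], (nat_lit 9025)), ((nat_lit 2845), [nat_lit 5, nat_lit 3, nat_lit 1, nat_lit 2, nat_lit 3, nat_lit 4, nat_lit 8, nat_lit 0, nat_lit 1, nat_lit 2, nat_lit 3, nat_lit 4, nat_lit 3, nat_lit 2, nat_lit 3, nat_lit 1], [nat_lit 24, nat_lit 1, nat_lit 35, nat_lit 32, nat_lit 11, nat_lit 26], (nat_lit 15694)), ((nat_lit 2665), [nat_lit 8, nat_lit 2, nat_lit 3, nat_lit 4, nat_lit 8, nat_lit 6, nat_lit 1, nat_lit 2, nat_lit 3, nat_lit 4, nat_lit 8, nat_lit 2, nat_lit 3, nat_lit 0, nat_lit 1], [nat_lit 1, nat_lit 36, nat_lit 25, nat_lit 11], (nat_lit 12040)), ((nat_lit 2949), [nat_lit 7, nat_lit 4, nat_lit 7, nat_lit 1, nat_lit 2, nat_lit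 3, nat_lit 4, nat_lit 8, nat_lit 3, nat_lit 4, nat_lit 2, nat_lit 3, nat_lit 0, nat_lit 1], [nat_lit 5, nat_lit 34, nat_lit 37, nat_lit 11, nat_lit 27], (nat_lit 8225)), ((nat_lit 2797), [nat_lit 7, nat_lit 3, nat_lit 4, nat_lit 7, nat_lit 2, nat_lit 3, nat_lit 4, nat_lit 7, nat_lit 3, nat_lit 2, nat_lit 3, nat_lit 1], [nat_lit 16, nat_lit 0, nat_lit 35, nat_lit 36, nat_lit 27], (nat_lit 3985)), ((nat_lit 2823), [nat_lit 5, nat_lit 7, nat_lit 4, nat_lit 8, nat_lit 3, nat_lit 2, nat_lit 3, nat_lit 4, nat_lit 7, nat_lit 2, nat_lit 3, nat_lit 4, nat_lit 2, nat_lit 3, nat_lit 1], [nat_lit 24, nat_lit 1, nat_lit 16, nat_lit 18, nat_lit 26], (nat_lit 13883)), ((nat_lit 2721), [nat_lit 5, nat_lit 7, nat_lit 4, nat_lit 8, nat_lit 2, nat_lit 3, nat_lit 0, nat_lit 1, nat_lit 2, nat_lit 3, nat_lit 4, nat_lit 8, nat_lit 3, nat_lit 2, nat_lit 3, nat_lit 1], [nat_lit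 5, nat_lit 0, nat_lit 34, nat_lit 16, nat_lit 27], (nat_lit 16119)), ((nat_lit 2685), [nat_lit 3, nat_lit 4, nat_lit 8, nat_lit 1, nat_lit 2, nat_lit 3, nat_lit 4, nat_lit 8, nat_lit 3, nat_lit 4, nat_lit 2, nat_lit 3, nat_lit 1], [nat_lit 10, nat_lit 10, nat_lit 0, nat_lit 16, nat_lit 24, nat_lit 27], (nat_lit 6603)), ((nat_lit 2905), [nat_lit 6, nat_lit 7, nat_lit 3, nat_lit 4, nat_lit 2, nat_lit 3, nat_lit 1], [nat_lit 16, nat_lit 5, nat_lit 2, nat_lit 17, nat_lit 34, nat_lit 15, nat_lit 27], (nat_lit 313)), ((nat_lit 2825), [nat_lit 3, nat_lit 4, nat_lit 8, nat_lit 4, nat_lit 2, nat_lit 3, nat_lit 1], [nat_lit 15, nat_lit 2, nat_lit 37, nat_lit 17], (nat_lit 315)), ((nat_lit 3015), [nat_lit 8, nat_lit 5, nat_lit 3, nat_lit 2, nat_lit 3, nat_lit 4, nat_lit 8, nat_lit 3, nat_lit 4, nat_lit 3, nat_lit 2, nat_lit 3, nat_lit 0, nat_lit 1], [nat_lit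 11, nat_lit 5, nat_lit 2, nat_lit 18, nat_lit 15, nat_lit 27], (nat_lit 7668)), ((nat_lit 2841), [nat_lit 3, nat_lit 4, nat_lit 8, nat_lit 2, nat_lit 3, nat_lit 4, nat_lit 8, nat_lit 1, nat_lit 2, nat_lit 3, nat_lit 4, nat_lit 2, nat_lit 3, nat_lit 0, nat_lit 1], [nat_lit 24, nat_lit 0, nat_lit 25, nat_lit 16, nat_lit 16, nat_lit 27], (nat_lit 11725)), ((nat_lit 2959), [nat_lit 7, nat_lit 5, nat_lit 1, nat_lit 2, nat_lit 3, nat_lit 4, nat_lit 7, nat_lit 3, nat_lit 2, nat_lit 3, nat_lit 0, nat_lit 1], [nat_lit 24, nat_lit 2, nat_lit 0, nat_lit 33, nat_lit 36, nat_lit 27], (nat_lit 3286)), ((nat_lit 2975), [nat_lit 7, nat_lit 4, nat_lit 7, nat_lit 2, nat_lit 3, nat_lit 4, nat_lit 7, nat_lit 4, nat_lit 3, nat_lit 2, nat_lit 3, nat_lit 0, nat_lit 1], [nat_lit 5, nat_lit 0, nat_lit 36, nat_lit 24, nat_lit 15], (nat_lit 5086)), ((nat_lit 2679), [nat_lit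 7, nat_lit 2, nat_lit 3, nat_lit 4, nat_lit 7, nat_lit 2, nat_lit 3, nat_lit 4, nat_lit 7, nat_lit 4, nat_lit 2, nat_lit 3, nat_lit 1], [nat_lit 5, nat_lit 2, nat_lit 0, nat_lit 24, nat_lit 18, nat_lit 16, nat_lit 27], (nat_lit 6826)), ((nat_lit 3079), [nat_lit 4, nat_lit 8, nat_lit 2, nat_lit 3, nat_lit 4, nat_lit 8, nat_lit 5, nat_lit 2, nat_lit 3, nat_lit 4, nat_lit 8, nat_lit 2, nat_lit 3, nat_lit 1], [nat_lit 5, nat_lit 0, nat_lit 32, nat_lit 32], (nat_lit 10478)), ((nat_lit 2837), [nat_lit 7, nat_lit 4, nat_lit 8, nat_lit 3, nat_lit 4, nat_lit 7, nat_lit 3, nat_lit 4, nat_lit 2, nat_lit 3, nat_lit 1], [nat_lit 18, nat_lit 15, nat_lit 0, nat_lit 34, nat_lit 25], (nat_lit 2538)), ((nat_lit 2965), [nat_lit 8, nat_lit 5, nat_lit 4, nat_lit 7, nat_lit 4, nat_lit 3, nat_lit 0, nat_lit 1], [nat_lit 17, nat_lit 2, nat_lit 0, nat_lit 15, nat_lit 32, nat_lit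 11, nat_lit 26], (nat_lit 458)), ((nat_lit 2937), [nat_lit 3, nat_lit 2, nat_lit 3, nat_lit 4, nat_lit 7, nat_lit 4, nat_lit 7, nat_lit 3, nat_lit 2, nat_lit 3, nat_lit 1], [nat_lit 16, nat_lit 5, nat_lit 0, nat_lit 25, nat_lit 33, nat_lit 15, nat_lit 26], (nat_lit 2423)), ((nat_lit 3053), [nat_lit 7, nat_lit 5, nat_lit 4, nat_lit 8, nat_lit 4, nat_lit 3, nat_lit 1, nat_lit 2, nat_lit 3, nat_lit 4, nat_lit 8, nat_lit 3, nat_lit 4, nat_lit 2, nat_lit 3, nat_lit 1], [nat_lit 16, nat_lit 0, nat_lit 16, nat_lit 17, nat_lit 15, nat_lit 26], (nat_lit 16594)), ((nat_lit 3051), [nat_lit 6, nat_lit 7, nat_lit 4, nat_lit 7, nat_lit 3, nat_lit 2, nat_lit 3, nat_lit 1, nat_lit 2, nat_lit 3, nat_lit 4, nat_lit 3, nat_lit 2, nat_lit 3, nat_lit 1], [nat_lit 25, nat_lit 2, nat_lit 0, nat_lit 25, nat_lit 35, nat_lit 27], (nat_lit 12486)), ((nat_lit 2693), [nat_lit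 3, nat_lit 1, nat_lit 2, nat_lit 3, nat_lit 4, nat_lit 7, nat_lit 0, nat_lit 1, nat_lit 2, nat_lit 3, nat_lit 4, nat_lit 8, nat_lit 2, nat_lit 3, nat_lit 1], [nat_lit 15, nat_lit 0, nat_lit 33, nat_lit 16, nat_lit 11, nat_lit 26], (nat_lit 14263)), ((nat_lit 3011), [nat_lit 6, nat_lit 7, nat_lit 2, nat_lit 3, nat_lit 4, nat_lit 7, nat_lit 1, nat_lit 2, nat_lit 3, nat_lit 4, nat_lit 8, nat_lit 2, nat_lit 3, nat_lit 1], [nat_lit 26, nat_lit 2, nat_lit 0, nat_lit 37, nat_lit 24, nat_lit 15], (nat_lit 10452)), ((nat_lit 2867), [nat_lit 8, nat_lit 1, nat_lit 2, nat_lit 3, nat_lit 4, nat_lit 8, nat_lit 2, nat_lit 3, nat_lit 4, nat_lit 7, nat_lit 3, nat_lit 4, nat_lit 2, nat_lit 3, nat_lit 1], [nat_lit 37, nat_lit 18, nat_lit 15], (nat_lit 14172)), ((nat_lit 2701), [nat_lit 7, nat_lit 4, nat_lit 3, nat_lit 2, nat_lit 3, nat_lit 1, nat_lit 2, nat_lit 3, nat_lit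 4, nat_lit 8, nat_lit 4, nat_lit 3, nat_lit 2, nat_lit 3, nat_lit 0, nat_lit 1], [nat_lit 10, nat_lit 10, nat_lit 0, nat_lit 33, nat_lit 15, nat_lit 26], (nat_lit 14925)), ((nat_lit 3037), [nat_lit 8, nat_lit 6, nat_lit 3, nat_lit 4, nat_lit 8, nat_lit 2, nat_lit 3, nat_lit 1], [nat_lit 26, nat_lit 2, nat_lit 37, nat_lit 32, nat_lit 11], (nat_lit 544)), ((nat_lit 3045), [nat_lit 6, nat_lit 7, nat_lit 3, nat_lit 4, nat_lit 2, nat_lit 3, nat_lit 0, nat_lit 1], [nat_lit 24, nat_lit 15, nat_lit 0, nat_lit 16, nat_lit 25, nat_lit 27], (nat_lit 415)), ((nat_lit 2995), [nat_lit 7, nat_lit 4, nat_lit 7, nat_lit 2, nat_lit 3, nat_lit 4, nat_lit 7, nat_lit 4, nat_lit 1, nat_lit 2, nat_lit 3, nat_lit 0, nat_lit 1], [nat_lit 24, nat_lit 16, nat_lit 0, nat_lit 34, nat_lit 25, nat_lit 11], (nat_lit 4776)), ((nat_lit 2653), [nat_lit 1, nat_lit 2, nat_lit 3, nat_lit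 4, nat_lit 7, nat_lit 3, nat_lit 4, nat_lit 1, nat_lit 2, nat_lit 3, nat_lit 0, nat_lit 1], [nat_lit 16, nat_lit 5, nat_lit 0, nat_lit 37, nat_lit 24, nat_lit 26], (nat_lit 2917)), ((nat_lit 2883), [nat_lit 8, nat_lit 8, nat_lit 4, nat_lit 8, nat_lit 1, nat_lit 2, nat_lit 3, nat_lit 4, nat_lit 8, nat_lit 2, nat_lit 3, nat_lit 4, nat_lit 3, nat_lit 2, nat_lit 3, nat_lit 1], [nat_lit 16, nat_lit 2, nat_lit 34, nat_lit 15, nat_lit 11, nat_lit 27], (nat_lit 15827)), ((nat_lit 2661), [nat_lit 8, nat_lit 8, nat_lit 1, nat_lit 2, nat_lit 3, nat_lit 4, nat_lit 7, nat_lit 3, nat_lit 2, nat_lit 3, nat_lit 0, nat_lit 1], [nat_lit 11, nat_lit 2, nat_lit 0, nat_lit 36, nat_lit 18, nat_lit 26], (nat_lit 3290)), ((nat_lit 3009), [nat_lit 7, nat_lit 3, nat_lit 4, nat_lit 7, nat_lit 2, nat_lit 3, nat_lit 4, nat_lit 7, nat_lit 1, nat_lit 2, nat_lit 3, nat_lit 4, nat_lit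 2, nat_lit 3, nat_lit 1], [nat_lit 34, nat_lit 15, nat_lit 11, nat_lit 26], (nat_lit 13712)), ((nat_lit 2815), [nat_lit 2, nat_lit 3, nat_lit 4, nat_lit 8, nat_lit 8, nat_lit 1, nat_lit 2, nat_lit 3, nat_lit 4, nat_lit 7, nat_lit 2, nat_lit 3, nat_lit 1], [nat_lit 24, nat_lit 2, nat_lit 24, nat_lit 17, nat_lit 11, nat_lit 26], (nat_lit 7080)), ((nat_lit 3057), [nat_lit 5, nat_lit 2, nat_lit 3, nat_lit 4, nat_lit 7, nat_lit 1, nat_lit 2, nat_lit 3, nat_lit 4, nat_lit 8, nat_lit 2, nat_lit 3, nat_lit 1], [nat_lit 5, nat_lit 16, nat_lit 2, nat_lit 27, nat_lit 24, nat_lit 26], (nat_lit 6895)), ((nat_lit 2963), [nat_lit 8, nat_lit 1, nat_lit 2, nat_lit 3, nat_lit 4, nat_lit 7, nat_lit 5, nat_lit 0, nat_lit 1, nat_lit 2, nat_lit 3, nat_lit 4, nat_lit 8, nat_lit 2, nat_lit 3, nat_lit 1], [nat_lit 1, nat_lit 14, nat_lit 37, nat_lit 11, nat_lit 15], (nat_lit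 16677)), ((nat_lit 2931), [nat_lit 4, nat_lit 7, nat_lit 2, nat_lit 3, nat_lit 4, nat_lit 8, nat_lit 3, nat_lit 2, nat_lit 3, nat_lit 1], [nat_lit 16, nat_lit 5, nat_lit 2, nat_lit 17, nat_lit 33], (nat_lit 1350)), ((nat_lit 2739), [nat_lit 7, nat_lit 5, nat_lit 2, nat_lit 3, nat_lit 4, nat_lit 8, nat_lit 0, nat_lit 1, nat_lit 2, nat_lit 3, nat_lit 4, nat_lit 3, nat_lit 2, nat_lit 3, nat_lit 1], [nat_lit 25, nat_lit 14, nat_lit 0, nat_lit 25, nat_lit 35, nat_lit 11, nat_lit 26], (nat_lit 12446)), ((nat_lit 2651), [nat_lit 6, nat_lit 7, nat_lit 4, nat_lit 7, nat_lit 1, nat_lit 2, nat_lit 3, nat_lit 4, nat_lit 7, nat_lit 2, nat_lit 3, nat_lit 0, nat_lit 1], [nat_lit 2, nat_lit 0, nat_lit 35, nat_lit 17], (nat_lit 5625)), ((nat_lit 2681), [nat_lit 3, nat_lit 4, nat_lit 8, nat_lit 2, nat_lit 3, nat_lit 4, nat_lit 8, nat_lit 3, nat_lit 4, nat_lit 2, nat_lit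 3, nat_lit 1], [nat_lit 5, nat_lit 16, nat_lit 2, nat_lit 15, nat_lit 11, nat_lit 15, nat_lit 27], (nat_lit 4158)), ((nat_lit 2759), [nat_lit 5, nat_lit 8, nat_lit 3, nat_lit 2, nat_lit 3, nat_lit 4, nat_lit 8, nat_lit 3, nat_lit 4, nat_lit 2, nat_lit 3, nat_lit 1], [nat_lit 17, nat_lit 24, nat_lit 0, nat_lit 37, nat_lit 24, nat_lit 27], (nat_lit 4153)), ((nat_lit 2901), [nat_lit 3, nat_lit 4, nat_lit 7, nat_lit 3, nat_lit 4, nat_lit 8, nat_lit 4, nat_lit 2, nat_lit 3, nat_lit 0, nat_lit 1], [nat_lit 0, nat_lit 2, nat_lit 26, nat_lit 36], (nat_lit 2063)), ((nat_lit 2663), [nat_lit 4, nat_lit 7, nat_lit 7, nat_lit 4, nat_lit 2, nat_lit 3, nat_lit 2, nat_lit 3, nat_lit 4, nat_lit 7, nat_lit 3, nat_lit 4, nat_lit 2, nat_lit 3, nat_lit 1], [nat_lit 25, nat_lit 2, nat_lit 0, nat_lit 24, nat_lit 16, nat_lit 26], (nat_lit 14136)), ((nat_lit 2935), [nat_lit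 4, nat_lit 7, nat_lit 6, nat_lit 4, nat_lit 3, nat_lit 2, nat_lit 3, nat_lit 4, nat_lit 8, nat_lit 4, nat_lit 3, nat_lit 2, nat_lit 3, nat_lit 1], [nat_lit 18, nat_lit 35, nat_lit 27], (nat_lit 9092)), ((nat_lit 2847), [nat_lit 8, nat_lit 3, nat_lit 4, nat_lit 7, nat_lit 1, nat_lit 2, nat_lit 3, nat_lit 4, nat_lit 2, nat_lit 3, nat_lit 0, nat_lit 1], [nat_lit 2, nat_lit 0, nat_lit 36, nat_lit 25, nat_lit 11, nat_lit 27], (nat_lit 3360)), ((nat_lit 2881), [nat_lit 8, nat_lit 3, nat_lit 2, nat_lit 3, nat_lit 4, nat_lit 8, nat_lit 1, nat_lit 2, nat_lit 3, nat_lit 4, nat_lit 8, nat_lit 3, nat_lit 2, nat_lit 3, nat_lit 1], [nat_lit 15, nat_lit 18, nat_lit 16, nat_lit 26], (nat_lit 13193)), ((nat_lit 2927), [nat_lit 8, nat_lit 4, nat_lit 7, nat_lit 1, nat_lit 2, nat_lit 3, nat_lit 4, nat_lit 1, nat_lit 2, nat_lit 3, nat_lit 0, nat_lit 1], [nat_lit 2, nat_lit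 35, nat_lit 26], (nat_lit 2884)), ((nat_lit 2981), [nat_lit 8, nat_lit 4, nat_lit 8, nat_lit 6, nat_lit 2, nat_lit 3, nat_lit 2, nat_lit 3, nat_lit 4, nat_lit 7, nat_lit 3, nat_lit 4, nat_lit 2, nat_lit 3, nat_lit 1], [nat_lit 15, nat_lit 5, nat_lit 33, nat_lit 16, nat_lit 11, nat_lit 27], (nat_lit 14138)), ((nat_lit 2791), [nat_lit 8, nat_lit 5, nat_lit 4, nat_lit 7, nat_lit 3, nat_lit 2, nat_lit 3, nat_lit 1], [nat_lit 5, nat_lit 14, nat_lit 36, nat_lit 18, nat_lit 15, nat_lit 27], (nat_lit 498)), ((nat_lit 2735), [nat_lit 6, nat_lit 7, nat_lit 4, nat_lit 7, nat_lit 3, nat_lit 4, nat_lit 7, nat_lit 1, nat_lit 2, nat_lit 3, nat_lit 4, nat_lit 3, nat_lit 2, nat_lit 3, nat_lit 1], [nat_lit 5, nat_lit 0, nat_lit 37, nat_lit 24, nat_lit 11], (nat_lit 12587)), ((nat_lit 3075), [nat_lit 5, nat_lit 8, nat_lit 2, nat_lit 3, nat_lit 4, nat_lit 2, nat_lit 3,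 nat_lit 1], [nat_lit 15, nat_lit 0, nat_lit 37, nat_lit 15, nat_lit 11], (nat_lit 510)), ((nat_lit 2925), [nat_lit 6, nat_lit 7, nat_lit 2, nat_lit 3, nat_lit 4, nat_lit 2, nat_lit 3, nat_lit 1], [nat_lit 15, nat_lit 5, nat_lit 34, nat_lit 17, nat_lit 33, nat_lit 26], (nat_lit 512)), ((nat_lit 2761), [nat_lit 5, nat_lit 2, nat_lit 3, nat_lit 1, nat_lit 2, nat_lit 3, nat_lit 4, nat_lit 8, nat_lit 2, nat_lit 3, nat_lit 4, nat_lit 2, nat_lit 3, nat_lit 1], [nat_lit 1, nat_lit 14, nat_lit 24, nat_lit 18, nat_lit 16, nat_lit 26], (nat_lit 9840)), ((nat_lit 2807), [nat_lit 8, nat_lit 8, nat_lit 2, nat_lit 3, nat_lit 4, nat_lit 8, nat_lit 2, nat_lit 3, nat_lit 4, nat_lit 2, nat_lit 3, nat_lit 0, nat_lit 1], [nat_lit 26, nat_lit 2, nat_lit 0, nat_lit 24, nat_lit 24, nat_lit 11], (nat_lit 5321)), ((nat_lit 2703), [nat_lit 5, nat_lit 4, nat_lit 7, nat_lit 2,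 nat_lit 3, nat_lit 4, nat_lit 7, nat_lit 2, nat_lit 3, nat_lit 4, nat_lit 8, nat_lit 2, nat_lit 3, nat_lit 0, nat_lit 1], [nat_lit 26, nat_lit 2, nat_lit 36, nat_lit 33, nat_lit 11, nat_lit 26], (nat_lit 12174)), ((nat_lit 2969), [nat_lit 6, nat_lit 7, nat_lit 4, nat_lit 7, nat_lit 3, nat_lit 2, nat_lit 3, nat_lit 4, nat_lit 8, nat_lit 2, nat_lit 3, nat_lit 4, nat_lit 2, nat_lit 3, nat_lit 1], [nat_lit 24, nat_lit 15, nat_lit 0, nat_lit 15, nat_lit 18, nat_lit 11], (nat_lit 13763)), ((nat_lit 2817), [nat_lit 8, nat_lit 5, nat_lit 2, nat_lit 3, nat_lit 1, nat_lit 2, nat_lit 3, nat_lit 4, nat_lit 7, nat_lit 2, nat_lit 3, nat_lit 4, nat_lit 2, nat_lit 3, nat_lit 1], [nat_lit 17, nat_lit 2, nat_lit 0, nat_lit 27, nat_lit 15, nat_lit 11], (nat_lit 13829)), ((nat_lit 2973), [nat_lit 8, nat_lit 4, nat_lit 7, nat_lit 0, nat_lit 1, nat_lit 2, nat_lit 3, nat_lit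 4, nat_lit 7, nat_lit 1, nat_lit 2, nat_lit 3, nat_lit 0, nat_lit 1], [nat_lit 2, nat_lit 0, nat_lit 16, nat_lit 32, nat_lit 15, nat_lit 26], (nat_lit 7497)), ((nat_lit 2801), [nat_lit 3, nat_lit 1, nat_lit 2, nat_lit 3, nat_lit 4, nat_lit 7, nat_lit 3, nat_lit 4, nat_lit 8, nat_lit 2, nat_lit 3, nat_lit 0, nat_lit 1], [nat_lit 25, nat_lit 1, nat_lit 25, nat_lit 15, nat_lit 27], (nat_lit 5576)), ((nat_lit 2909), [nat_lit 8, nat_lit 4, nat_lit 8, nat_lit 3, nat_lit 2, nat_lit 3, nat_lit 4, nat_lit 8, nat_lit 3, nat_lit 4, nat_lit 3, nat_lit 2, nat_lit 3, nat_lit 1], [nat_lit 0, nat_lit 33, nat_lit 11, nat_lit 16, nat_lit 26], (nat_lit 8975)), ((nat_lit 3069), [nat_lit 5, nat_lit 3, nat_lit 4, nat_lit 7, nat_lit 4, nat_lit 2, nat_lit 3, nat_lit 1], [nat_lit 11, nat_lit 16, nat_lit 27], (nat_lit 534))] m6_5_1 m6_5_2) = 0 := by decide +kernel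
theorem e6_5_3 : dt.run q (fun c => c.edges (SP THn.T THn.Rl (nat_lit 15)) (nat_lit 4429) THn.T.n (nat_lit 6) (nat_lit 5)
  [((nat_lit 2863), [nat_lit 8, nat_lit 2, nat_lit 3, nat_lit 4, nat_lit 8, nat_lit 2, nat_lit 3, nat_lit 1, nat_lit 2, nat_lit 3, nat_lit 4, nat_lit 3, nat_lit 2, nat_lit 3, nat_lit 1], [nat_lit 14, nat_lit 0, nat_lit 35, nat_lit 17, nat_lit 16], (nat_lit 12492)), ((nat_lit 2673), [nat_lit 5, nat_lit 4, nat_lit 3, nat_lit 1, nat_lit 2, nat_lit 3, nat_lit 4, nat_lit 7, nat_lit 3, nat_lit 4, nat_lit 3, nat_lit 2, nat_lit 3, nat_lit 1], [nat_lit 15, nat_lit 1, nat_lit 17, nat_lit 34, nat_lit 26], (nat_lit 9001)), ((nat_lit 2809), [nat_lit 6, nat_lit 7, nat_lit 3, nat_lit 0, nat_lit 1, nat_lit 2, nat_lit 3, nat_lit 4, nat_lit 7, nat_lit 3, nat_lit 4, nat_lit 2, nat_lit 3, nat_lit 1], [nat_lit 2, nat_lit 36, nat_lit 27], (nat_lit 10174)),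 ((nat_lit 2997), [nat_lit 8, nat_lit 2, nat_lit 3, nat_lit 4, nat_lit 8, nat_lit 4, nat_lit 3, nat_lit 2, nat_lit 3, nat_lit 0, nat_lit 1], [nat_lit 14, nat_lit 0, nat_lit 24, nat_lit 18, nat_lit 26], (nat_lit 1896)), ((nat_lit 2917), [nat_lit 3, nat_lit 4, nat_lit 7, nat_lit 2, nat_lit 3, nat_lit 4, nat_lit 7, nat_lit 4, nat_lit 3, nat_lit 2, nat_lit 3, nat_lit 0, nat_lit 1], [nat_lit 17, nat_lit 2, nat_lit 0, nat_lit 37, nat_lit 33, nat_lit 11, nat_lit 27], (nat_lit 5085)), ((nat_lit 2977), [nat_lit 8, nat_lit 5, nat_lit 4, nat_lit 8, nat_lit 3, nat_lit 4, nat_lit 8, nat_lit 2, nat_lit 3, nat_lit 4, nat_lit 7, nat_lit 2, nat_lit 3, nat_lit 1], [nat_lit 25, nat_lit 16, nat_lit 0, nat_lit 27, nat_lit 24, nat_lit 11, nat_lit 26], (nat_lit 10797)), ((nat_lit 2683), [nat_lit 7, nat_lit 3, nat_lit 4, nat_lit 7, nat_lit 2, nat_lit 3, nat_lit 4, nat_lit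 8, nat_lit 3, nat_lit 2, nat_lit 3, nat_lit 1], [nat_lit 14, nat_lit 0, nat_lit 15, nat_lit 32, nat_lit 15, nat_lit 26], (nat_lit 3896)), ((nat_lit 3077), [nat_lit 8, nat_lit 8, nat_lit 4, nat_lit 7, nat_lit 2, nat_lit 3, nat_lit 4, nat_lit 2, nat_lit 3, nat_lit 0, nat_lit 1], [nat_lit 10, nat_lit 10, nat_lit 0, nat_lit 35, nat_lit 16, nat_lit 16, nat_lit 26], (nat_lit 2015)), ((nat_lit 2859), [nat_lit 3, nat_lit 4, nat_lit 7, nat_lit 4, nat_lit 7, nat_lit 6, nat_lit 0, nat_lit 1, nat_lit 2, nat_lit 3, nat_lit 4, nat_lit 7, nat_lit 2, nat_lit 3, nat_lit 1], [nat_lit 26, nat_lit 2, nat_lit 36, nat_lit 16, nat_lit 26], (nat_lit 14432)), ((nat_lit 2861), [nat_lit 7, nat_lit 3, nat_lit 4, nat_lit 7, nat_lit 0, nat_lit 1, nat_lit 2, nat_lit 3, nat_lit 4, nat_lit 8, nat_lit 3, nat_lit 2, nat_lit 3, nat_lit 0, nat_lit 1], [nat_lit 24, nat_lit 15, nat_lit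 0, nat_lit 18, nat_lit 16, nat_lit 26], (nat_lit 11408)), ((nat_lit 2915), [nat_lit 6, nat_lit 3, nat_lit 2, nat_lit 3, nat_lit 1, nat_lit 2, nat_lit 3, nat_lit 4, nat_lit 7, nat_lit 2, nat_lit 3, nat_lit 4, nat_lit 2, nat_lit 3, nat_lit 1], [nat_lit 1, nat_lit 5, nat_lit 32, nat_lit 18, nat_lit 15, nat_lit 27], (nat_lit 13822)), ((nat_lit 2991), [nat_lit 7, nat_lit 4, nat_lit 3, nat_lit 2, nat_lit 3, nat_lit 1, nat_lit 2, nat_lit 3, nat_lit 4, nat_lit 8, nat_lit 4, nat_lit 3, nat_lit 2, nat_lit 3, nat_lit 1], [nat_lit 14, nat_lit 15, nat_lit 0, nat_lit 34, nat_lit 25, nat_lit 11, nat_lit 27], (nat_lit 12865)), ((nat_lit 2911), [nat_lit 1, nat_lit 2, nat_lit 3, nat_lit 0, nat_lit 1, nat_lit 2, nat_lit 3, nat_lit 4, nat_lit 7, nat_lit 4, nat_lit 7, nat_lit 3, nat_lit 4, nat_lit 2, nat_lit 3, nat_lit 1], [nat_lit 15, nat_lit 2, nat_lit 18, nat_lit 18,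 nat_lit 27], (nat_lit 16644)), ((nat_lit 2753), [nat_lit 6, nat_lit 7, nat_lit 2, nat_lit 3, nat_lit 4, nat_lit 7, nat_lit 1, nat_lit 2, nat_lit 3, nat_lit 4, nat_lit 7, nat_lit 2, nat_lit 3, nat_lit 1], [nat_lit 16, nat_lit 5, nat_lit 2, nat_lit 18, nat_lit 15, nat_lit 11, nat_lit 26], (nat_lit 10721)), ((nat_lit 2811), [nat_lit 5, nat_lit 8, nat_lit 4, nat_lit 7, nat_lit 3, nat_lit 1, nat_lit 2, nat_lit 3, nat_lit 4, nat_lit 7, nat_lit 3, nat_lit 2, nat_lit 3, nat_lit 0, nat_lit 1], [nat_lit 24, nat_lit 1, nat_lit 24, nat_lit 15], (nat_lit 11593)), ((nat_lit 2743), [nat_lit 7, nat_lit 3, nat_lit 4, nat_lit 8, nat_lit 3, nat_lit 2, nat_lit 3, nat_lit 0, nat_lit 1], [nat_lit 5, nat_lit 0, nat_lit 25, nat_lit 37, nat_lit 26], (nat_lit 669)), ((nat_lit 2939), [nat_lit 7, nat_lit 6, nat_lit 4, nat_lit 3, nat_lit 1, nat_lit 2, nat_lit 3, nat_lit 4, nat_lit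 7, nat_lit 4, nat_lit 3, nat_lit 2, nat_lit 3, nat_lit 1], [nat_lit 25, nat_lit 1, nat_lit 25, nat_lit 36, nat_lit 11], (nat_lit 9156)), ((nat_lit 2705), [nat_lit 4, nat_lit 7, nat_lit 3, nat_lit 1, nat_lit 2, nat_lit 3, nat_lit 4, nat_lit 7, nat_lit 2, nat_lit 3, nat_lit 4, nat_lit 2, nat_lit 3, nat_lit 1], [nat_lit 16, nat_lit 5, nat_lit 2, nat_lit 34, nat_lit 34, nat_lit 15, nat_lit 26], (nat_lit 9950)), ((nat_lit 2789), [nat_lit 4, nat_lit 7, nat_lit 3, nat_lit 4, nat_lit 7, nat_lit 6, nat_lit 2, nat_lit 3, nat_lit 4, nat_lit 7, nat_lit 3, nat_lit 2, nat_lit 3, nat_lit 0, nat_lit 1], [nat_lit 15, nat_lit 2, nat_lit 37, nat_lit 34, nat_lit 11, nat_lit 26], (nat_lit 11637)), ((nat_lit 2779), [nat_lit 5, nat_lit 7, nat_lit 4, nat_lit 8, nat_lit 3, nat_lit 4, nat_lit 7, nat_lit 2, nat_lit 3, nat_lit 4, nat_lit 7, nat_lit 2, nat_lit 3, nat_lit 1], [nat_lit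 2, nat_lit 0, nat_lit 33, nat_lit 36, nat_lit 11, nat_lit 27], (nat_lit 10851)), ((nat_lit 3055), [nat_lit 7, nat_lit 4, nat_lit 7, nat_lit 0, nat_lit 1, nat_lit 2, nat_lit 3, nat_lit 4, nat_lit 8, nat_lit 3, nat_lit 2, nat_lit 3, nat_lit 0, nat_lit 1], [nat_lit 24, nat_lit 0, nat_lit 27, nat_lit 17, nat_lit 26], (nat_lit 7795)), ((nat_lit 2745), [nat_lit 3, nat_lit 2, nat_lit 3, nat_lit 4, nat_lit 7, nat_lit 5, nat_lit 1, nat_lit 2, nat_lit 3, nat_lit 4, nat_lit 8, nat_lit 3, nat_lit 2, nat_lit 3, nat_lit 0, nat_lit 1], [nat_lit 24, nat_lit 2, nat_lit 0, nat_lit 15, nat_lit 11, nat_lit 15, nat_lit 27], (nat_lit 15037)), ((nat_lit 2923), [nat_lit 6, nat_lit 2, nat_lit 3, nat_lit 4, nat_lit 8, nat_lit 4, nat_lit 3, nat_lit 1, nat_lit 2, nat_lit 3, nat_lit 0, nat_lit 1], [nat_lit 15, nat_lit 24, nat_lit 11, nat_lit 27], (nat_lit 2793)), ((nat_lit 2831),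 [nat_lit 7, nat_lit 1, nat_lit 2, nat_lit 3, nat_lit 4, nat_lit 8, nat_lit 3, nat_lit 4, nat_lit 3, nat_lit 1, nat_lit 2, nat_lit 3, nat_lit 0, nat_lit 1], [nat_lit 0, nat_lit 2, nat_lit 15, nat_lit 18, nat_lit 16, nat_lit 26], (nat_lit 7228)), ((nat_lit 3001), [nat_lit 3, nat_lit 1, nat_lit 2, nat_lit 3, nat_lit 4, nat_lit 8, nat_lit 2, nat_lit 3, nat_lit 4, nat_lit 8, nat_lit 2, nat_lit 3, nat_lit 4, nat_lit 2, nat_lit 3, nat_lit 1], [nat_lit 24, nat_lit 2, nat_lit 24, nat_lit 35], (nat_lit 16483)), ((nat_lit 2955), [nat_lit 7, nat_lit 4, nat_lit 7, nat_lit 3, nat_lit 4, nat_lit 7, nat_lit 1, nat_lit 2, nat_lit 3, nat_lit 4, nat_lit 7, nat_lit 2, nat_lit 3, nat_lit 1], [nat_lit 26, nat_lit 24, nat_lit 0, nat_lit 36, nat_lit 15], (nat_lit 10734)), ((nat_lit 2677), [nat_lit 8, nat_lit 8, nat_lit 4, nat_lit 7, nat_lit 1, nat_lit 2, nat_lit 3, nat_lit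 2, nat_lit 3, nat_lit 4, nat_lit 8, nat_lit 3, nat_lit 4, nat_lit 2, nat_lit 3, nat_lit 1], [nat_lit 10, nat_lit 10, nat_lit 0, nat_lit 37, nat_lit 18, nat_lit 26], (nat_lit 16604)), ((nat_lit 2649), [nat_lit 2, nat_lit 3, nat_lit 4, nat_lit 8, nat_lit 5, nat_lit 3, nat_lit 2, nat_lit 3, nat_lit 4, nat_lit 7, nat_lit 2, nat_lit 3, nat_lit 4, nat_lit 2, nat_lit 3, nat_lit 1], [nat_lit 24, nat_lit 2, nat_lit 0, nat_lit 26, nat_lit 24, nat_lit 26], (nat_lit 16492)), ((nat_lit 2647), [nat_lit 7, nat_lit 4, nat_lit 8, nat_lit 8, nat_lit 0, nat_lit 1, nat_lit 2, nat_lit 3, nat_lit 4, nat_lit 8, nat_lit 2, nat_lit 3, nat_lit 0, nat_lit 1], [nat_lit 15, nat_lit 1, nat_lit 27, nat_lit 15, nat_lit 11, nat_lit 27], (nat_lit 8370)), ((nat_lit 2645), [nat_lit 5, nat_lit 7, nat_lit 4, nat_lit 8, nat_lit 2, nat_lit 3, nat_lit 1, nat_lit 2, nat_lit 3, nat_lit 4, nat_lit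 8, nat_lit 3, nat_lit 2, nat_lit 3, nat_lit 1], [nat_lit 10, nat_lit 10, nat_lit 0, nat_lit 11, nat_lit 18], (nat_lit 13135)), ((nat_lit 2781), [nat_lit 7, nat_lit 4, nat_lit 7, nat_lit 5, nat_lit 2, nat_lit 3, nat_lit 4, nat_lit 7, nat_lit 2, nat_lit 3, nat_lit 0, nat_lit 1], [nat_lit 15, nat_lit 2, nat_lit 26, nat_lit 24, nat_lit 26], (nat_lit 3584)), ((nat_lit 2849), [nat_lit 8, nat_lit 4, nat_lit 3, nat_lit 2, nat_lit 3, nat_lit 4, nat_lit 7, nat_lit 3, nat_lit 4, nat_lit 3, nat_lit 2, nat_lit 3, nat_lit 1], [nat_lit 26, nat_lit 2, nat_lit 0, nat_lit 11], (nat_lit 5907)), ((nat_lit 2919), [nat_lit 4, nat_lit 7, nat_lit 5, nat_lit 1, nat_lit 2, nat_lit 3, nat_lit 4, nat_lit 8, nat_lit 3, nat_lit 2, nat_lit 3, nat_lit 0, nat_lit 1], [nat_lit 15, nat_lit 1, nat_lit 34, nat_lit 32, nat_lit 11], (nat_lit 5118)), ((nat_lit 2643), [nat_lit 4, nat_lit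 8, nat_lit 8, nat_lit 1, nat_lit 2, nat_lit 3, nat_lit 4, nat_lit 8, nat_lit 3, nat_lit 2, nat_lit 3, nat_lit 0, nat_lit 1], [nat_lit 5, nat_lit 2, nat_lit 0, nat_lit 34, nat_lit 34, nat_lit 11, nat_lit 26], (nat_lit 5122)), ((nat_lit 2657), [nat_lit 8, nat_lit 8, nat_lit 3, nat_lit 4, nat_lit 8, nat_lit 2, nat_lit 3, nat_lit 4, nat_lit 8, nat_lit 2, nat_lit 3, nat_lit 1], [nat_lit 25, nat_lit 14, nat_lit 0, nat_lit 34, nat_lit 32, nat_lit 27], (nat_lit 4361)), ((nat_lit 2757), [nat_lit 8, nat_lit 4, nat_lit 7, nat_lit 1, nat_lit 2, nat_lit 3, nat_lit 4, nat_lit 7, nat_lit 2, nat_lit 3, nat_lit 4, nat_lit 2, nat_lit 3, nat_lit 0, nat_lit 1], [nat_lit 5, nat_lit 2, nat_lit 0, nat_lit 37, nat_lit 17, nat_lit 11], (nat_lit 11846)), ((nat_lit 2843), [nat_lit 6, nat_lit 4, nat_lit 8, nat_lit 2, nat_lit 3, nat_lit 4, nat_lit 8, nat_lit 1, nat_lit 2, nat_lit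 3, nat_lit 4, nat_lit 2, nat_lit 3, nat_lit 1], [nat_lit 5, nat_lit 16, nat_lit 2, nat_lit 25, nat_lit 16, nat_lit 16, nat_lit 27], (nat_lit 9742)), ((nat_lit 2641), [nat_lit 3, nat_lit 4, nat_lit 8, nat_lit 8, nat_lit 1, nat_lit 2, nat_lit 3, nat_lit 4, nat_lit 7, nat_lit 2, nat_lit 3, nat_lit 0, nat_lit 1], [nat_lit 25, nat_lit 2, nat_lit 0, nat_lit 15, nat_lit 17], (nat_lit 5613)), ((nat_lit 2839), [nat_lit 4, nat_lit 7, nat_lit 4, nat_lit 7, nat_lit 3, nat_lit 4, nat_lit 2, nat_lit 3, nat_lit 0, nat_lit 1], [nat_lit 25, nat_lit 0, nat_lit 33, nat_lit 27], (nat_lit 1190)), ((nat_lit 2707), [nat_lit 4, nat_lit 8, nat_lit 5, nat_lit 3, nat_lit 2, nat_lit 3, nat_lit 4, nat_lit 8, nat_lit 3, nat_lit 4, nat_lit 3, nat_lit 2, nat_lit 3, nat_lit 1], [nat_lit 25, nat_lit 2, nat_lit 0, nat_lit 37, nat_lit 32], (nat_lit 8972)), ((nat_lit 2803), [nat_lit 5,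 nat_lit 7, nat_lit 4, nat_lit 8, nat_lit 1, nat_lit 2, nat_lit 3, nat_lit 4, nat_lit 7, nat_lit 1, nat_lit 2, nat_lit 3, nat_lit 0, nat_lit 1], [nat_lit 24, nat_lit 1, nat_lit 25, nat_lit 36, nat_lit 11], (nat_lit 7510)), ((nat_lit 2637), [nat_lit 1, nat_lit 2, nat_lit 3, nat_lit 4, nat_lit 8, nat_lit 8, nat_lit 2, nat_lit 3, nat_lit 4, nat_lit 8, nat_lit 3, nat_lit 2, nat_lit 3, nat_lit 1], [nat_lit 24, nat_lit 1, nat_lit 37, nat_lit 37, nat_lit 27], (nat_lit 9404)), ((nat_lit 2767), [nat_lit 7, nat_lit 7, nat_lit 2, nat_lit 3, nat_lit 4, nat_lit 7, nat_lit 3, nat_lit 1, nat_lit 2, nat_lit 3, nat_lit 4, nat_lit 8, nat_lit 3, nat_lit 2, nat_lit 3, nat_lit 1], [nat_lit 25, nat_lit 0, nat_lit 17, nat_lit 17, nat_lit 27], (nat_lit 16216)), ((nat_lit 3023), [nat_lit 8, nat_lit 6, nat_lit 4, nat_lit 3, nat_lit 0, nat_lit 1, nat_lit 2, nat_lit 3, nat_lit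 4, nat_lit 8, nat_lit 4, nat_lit 3, nat_lit 2, nat_lit 3, nat_lit 1], [nat_lit 18, nat_lit 15, nat_lit 0, nat_lit 35, nat_lit 17], (nat_lit 12845)), ((nat_lit 2889), [nat_lit 6, nat_lit 8, nat_lit 4, nat_lit 7, nat_lit 3, nat_lit 4, nat_lit 8, nat_lit 2, nat_lit 3, nat_lit 0, nat_lit 1], [nat_lit 11, nat_lit 5, nat_lit 2, nat_lit 32, nat_lit 34, nat_lit 27], (nat_lit 2128)), ((nat_lit 2729), [nat_lit 4, nat_lit 8, nat_lit 4, nat_lit 8, nat_lit 3, nat_lit 4, nat_lit 8, nat_lit 1, nat_lit 2, nat_lit 3, nat_lit 4, nat_lit 3, nat_lit 2, nat_lit 3, nat_lit 1], [nat_lit 10, nat_lit 10, nat_lit 0, nat_lit 15, nat_lit 35, nat_lit 11, nat_lit 26], (nat_lit 12568)), ((nat_lit 2755), [nat_lit 3, nat_lit 2, nat_lit 3, nat_lit 4, nat_lit 8, nat_lit 2, nat_lit 3, nat_lit 4, nat_lit 8, nat_lit 2, nat_lit 3, nat_lit 4, nat_lit 2, nat_lit 3, nat_lit 1], [nat_lit 1,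 nat_lit 1, nat_lit 25, nat_lit 36, nat_lit 11], (nat_lit 13775)), ((nat_lit 2689), [nat_lit 7, nat_lit 2, nat_lit 3, nat_lit 4, nat_lit 7, nat_lit 0, nat_lit 1, nat_lit 2, nat_lit 3, nat_lit 4, nat_lit 2, nat_lit 3, nat_lit 1], [nat_lit 15, nat_lit 5, nat_lit 17, nat_lit 36, nat_lit 15, nat_lit 26], (nat_lit 6361)), ((nat_lit 2835), [nat_lit 8, nat_lit 4, nat_lit 8, nat_lit 5, nat_lit 2, nat_lit 3, nat_lit 1, nat_lit 2, nat_lit 3, nat_lit 4, nat_lit 7, nat_lit 3, nat_lit 2, nat_lit 3, nat_lit 0, nat_lit 1], [nat_lit 17, nat_lit 24, nat_lit 0, nat_lit 17, nat_lit 17], (nat_lit 15112)), ((nat_lit 3081), [nat_lit 7, nat_lit 2, nat_lit 3, nat_lit 4, nat_lit 7, nat_lit 1, nat_lit 2, nat_lit 3, nat_lit 4, nat_lit 7, nat_lit 4, nat_lit 3, nat_lit 2, nat_lit 3, nat_lit 1], [nat_lit 26, nat_lit 2, nat_lit 36, nat_lit 24, nat_lit 15, nat_lit 26], (nat_lit 13004)),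 ((nat_lit 3049), [nat_lit 8, nat_lit 4, nat_lit 8, nat_lit 6, nat_lit 2, nat_lit 3, nat_lit 4, nat_lit 8, nat_lit 2, nat_lit 3, nat_lit 1], [nat_lit 5, nat_lit 2, nat_lit 34, nat_lit 17, nat_lit 27], (nat_lit 2623)), ((nat_lit 3027), [nat_lit 7, nat_lit 5, nat_lit 4, nat_lit 2, nat_lit 3, nat_lit 0, nat_lit 1, nat_lit 2, nat_lit 3, nat_lit 4, nat_lit 7, nat_lit 4, nat_lit 3, nat_lit 2, nat_lit 3, nat_lit 1], [nat_lit 15, nat_lit 5, nat_lit 36, nat_lit 16], (nat_lit 16029)), ((nat_lit 2819), [nat_lit 5, nat_lit 8, nat_lit 4, nat_lit 7, nat_lit 3, nat_lit 0, nat_lit 1, nat_lit 2, nat_lit 3, nat_lit 4, nat_lit 7, nat_lit 4, nat_lit 3, nat_lit 2, nat_lit 3, nat_lit 1], [nat_lit 24, nat_lit 0, nat_lit 24, nat_lit 36, nat_lit 11], (nat_lit 16049)), ((nat_lit 2793), [nat_lit 7, nat_lit 4, nat_lit 7, nat_lit 1, nat_lit 2, nat_lit 3, nat_lit 4, nat_lit 8, nat_lit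 3, nat_lit 2, nat_lit 3, nat_lit 0, nat_lit 1], [nat_lit 5, nat_lit 16, nat_lit 2, nat_lit 18, nat_lit 16, nat_lit 11, nat_lit 27], (nat_lit 5127)), ((nat_lit 3007), [nat_lit 7, nat_lit 4, nat_lit 8, nat_lit 8, nat_lit 3, nat_lit 4, nat_lit 7, nat_lit 1, nat_lit 2, nat_lit 3, nat_lit 4, nat_lit 7, nat_lit 2, nat_lit 3, nat_lit 1], [nat_lit 2, nat_lit 0, nat_lit 18, nat_lit 36, nat_lit 11], (nat_lit 14568)), ((nat_lit 2805), [nat_lit 3, nat_lit 0, nat_lit 1, nat_lit 2, nat_lit 3, nat_lit 4, nat_lit 8, nat_lit 2, nat_lit 3, nat_lit 4, nat_lit 8, nat_lit 3, nat_lit 2, nat_lit 3, nat_lit 1], [nat_lit 1, nat_lit 14, nat_lit 35, nat_lit 17, nat_lit 16, nat_lit 27], (nat_lit 13239)), ((nat_lit 2695), [nat_lit 7, nat_lit 7, nat_lit 2, nat_lit 3, nat_lit 4, nat_lit 7, nat_lit 1, nat_lit 2, nat_lit 3, nat_lit 4, nat_lit 8, nat_lit 2, nat_lit 3, nat_lit 1], [nat_lit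 2, nat_lit 0, nat_lit 18, nat_lit 26], (nat_lit 10454)), ((nat_lit 3067), [nat_lit 6, nat_lit 7, nat_lit 3, nat_lit 4, nat_lit 8, nat_lit 1, nat_lit 2, nat_lit 3, nat_lit 4, nat_lit 3, nat_lit 2, nat_lit 3, nat_lit 1], [nat_lit 10, nat_lit 10, nat_lit 0, nat_lit 17, nat_lit 11, nat_lit 17], (nat_lit 5769)), ((nat_lit 2979), [nat_lit 8, nat_lit 8, nat_lit 3, nat_lit 4, nat_lit 8, nat_lit 2, nat_lit 3, nat_lit 4, nat_lit 8, nat_lit 2, nat_lit 3, nat_lit 4, nat_lit 2, nat_lit 3, nat_lit 0, nat_lit 1], [nat_lit 10, nat_lit 10, nat_lit 0, nat_lit 36, nat_lit 16], (nat_lit 15318)), ((nat_lit 2765), [nat_lit 8, nat_lit 1, nat_lit 2, nat_lit 3, nat_lit 4, nat_lit 7, nat_lit 5, nat_lit 2, nat_lit 3, nat_lit 4, nat_lit 8, nat_lit 3, nat_lit 2, nat_lit 3, nat_lit 0, nat_lit 1], [nat_lit 5, nat_lit 0, nat_lit 33, nat_lit 35, nat_lit 11], (nat_lit 15060)), ((nat_lit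 2971), [nat_lit 3, nat_lit 2, nat_lit 3, nat_lit 4, nat_lit 7, nat_lit 5, nat_lit 1, nat_lit 2, nat_lit 3, nat_lit 4, nat_lit 7, nat_lit 2, nat_lit 3, nat_lit 1], [nat_lit 24, nat_lit 35, nat_lit 26], (nat_lit 10686)), ((nat_lit 2635), [nat_lit 3, nat_lit 4, nat_lit 8, nat_lit 8, nat_lit 1, nat_lit 2, nat_lit 3, nat_lit 4, nat_lit 7, nat_lit 3, nat_lit 2, nat_lit 3, nat_lit 1], [nat_lit 10, nat_lit 10, nat_lit 0, nat_lit 11, nat_lit 17], (nat_lit 6246))] m6_5_2 m6_5_3) = 0 := by decide +kernel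
theorem e6_5_4 : reachX THn.T (nat_lit 3447748111870004950) (S6.map Prod.snd) [nat_lit 0, nat_lit 1, nat_lit 0, nat_lit 2, nat_lit 0, nat_lit 2, nat_lit 0, nat_lit 2, nat_lit 1] m6_5_3 = m6_5_4 := by decide +kernel
theorem e6_6_1 : dt.run q (fun c => c.edges (SP THn.T THn.Rl (nat_lit 15)) (nat_lit 4429) THn.T.n (nat_lit 6) (nat_lit 6)
  [((nat_lit 2588), [nat_lit 5, nat_lit 8], [nat_lit 10, nat_lit 10, nat_lit 0, nat_lit 15, nat_lit 15, nat_lit 15], (nat_lit 13)), ((nat_lit 2589), [nat_lit 7], [], (nat_lit 4)), ((nat_lit 3092), [nat_lit 8, nat_lit 6, nat_lit 3, nat_lit 4, nat_lit 8, nat_lit 1, nat_lit 2, nat_lit 3, nat_lit 0, nat_lit 1], [nat_lit 14, nat_lit 37, nat_lit 34, nat_lit 11, nat_lit 26], (nat_lit 1054)), ((nat_lit 3091), [nat_lit 6, nat_lit 8, nat_lit 3], [nat_lit 2, nat_lit 0, nat_lit 37, nat_lit 32, nat_lit 11], (nat_lit 30)), ((nat_lit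 3088), [nat_lit 8, nat_lit 8, nat_lit 3, nat_lit 2, nat_lit 3, nat_lit 4, nat_lit 7, nat_lit 1, nat_lit 2, nat_lit 3, nat_lit 0, nat_lit 1], [nat_lit 10, nat_lit 10, nat_lit 0, nat_lit 25, nat_lit 15, nat_lit 11, nat_lit 27], (nat_lit 3062)), ((nat_lit 3093), [nat_lit 5, nat_lit 8, nat_lit 4, nat_lit 1, nat_lit 2, nat_lit 3, nat_lit 0, nat_lit 1], [nat_lit 34, nat_lit 17, nat_lit 33, nat_lit 26], (nat_lit 375)), ((nat_lit 3085), [nat_lit 5, nat_lit 7, nat_lit 2, nat_lit 3, nat_lit 4, nat_lit 8, nat_lit 1, nat_lit 2, nat_lit 3, nat_lit 0, nat_lit 1], [nat_lit 16, nat_lit 2, nat_lit 35, nat_lit 17, nat_lit 16, nat_lit 27], (nat_lit 1802)), ((nat_lit 3087), [nat_lit 8, nat_lit 2, nat_lit 3, nat_lit 4, nat_lit 7, nat_lit 1, nat_lit 2, nat_lit 3, nat_lit 0, nat_lit 1], [nat_lit 2, nat_lit 15, nat_lit 35, nat_lit 11], (nat_lit 1068)), ((nat_lit 3101), [nat_lit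 2, nat_lit 3, nat_lit 1, nat_lit 2, nat_lit 3, nat_lit 4, nat_lit 7, nat_lit 3, nat_lit 2, nat_lit 3, nat_lit 1], [nat_lit 25, nat_lit 0, nat_lit 27, nat_lit 24, nat_lit 11, nat_lit 26], (nat_lit 2369)), ((nat_lit 3086), [nat_lit 8, nat_lit 4, nat_lit 8, nat_lit 4, nat_lit 3], [nat_lit 10, nat_lit 10, nat_lit 0, nat_lit 34, nat_lit 25, nat_lit 11, nat_lit 26], (nat_lit 111)), ((nat_lit 3104), [nat_lit 2, nat_lit 3, nat_lit 0, nat_lit 1, nat_lit 2, nat_lit 3, nat_lit 4, nat_lit 8, nat_lit 2, nat_lit 3, nat_lit 4, nat_lit 8, nat_lit 3, nat_lit 2, nat_lit 3, nat_lit 1], [nat_lit 5, nat_lit 24, nat_lit 36, nat_lit 11, nat_lit 26], (nat_lit 16259)), ((nat_lit 3102), [nat_lit 8, nat_lit 1, nat_lit 2, nat_lit 3, nat_lit 4, nat_lit 8, nat_lit 2, nat_lit 3, nat_lit 4, nat_lit 8, nat_lit 2, nat_lit 3, nat_lit 4, nat_lit 2, nat_lit 3, nat_lit 0, nat_lit 1], [nat_lit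 25, nat_lit 0, nat_lit 11, nat_lit 36, nat_lit 27], (nat_lit 16996)), ((nat_lit 3094), [nat_lit 4, nat_lit 8, nat_lit 1, nat_lit 2, nat_lit 3, nat_lit 4, nat_lit 1, nat_lit 2, nat_lit 3, nat_lit 0, nat_lit 1], [nat_lit 1, nat_lit 5, nat_lit 26, nat_lit 15, nat_lit 15], (nat_lit 1719)), ((nat_lit 3106), [nat_lit 7, nat_lit 6, nat_lit 2, nat_lit 3, nat_lit 4, nat_lit 7, nat_lit 3, nat_lit 0, nat_lit 1, nat_lit 2, nat_lit 3, nat_lit 4, nat_lit 3, nat_lit 2, nat_lit 3, nat_lit 1], [nat_lit 17, nat_lit 24, nat_lit 0, nat_lit 26, nat_lit 16, nat_lit 11, nat_lit 27], (nat_lit 15677)), ((nat_lit 3105), [nat_lit 5, nat_lit 8, nat_lit 3, nat_lit 4, nat_lit 7, nat_lit 2, nat_lit 3, nat_lit 4, nat_lit 8, nat_lit 2, nat_lit 3, nat_lit 4, nat_lit 2, nat_lit 3, nat_lit 0, nat_lit 1], [nat_lit 25, nat_lit 2, nat_lit 0, nat_lit 34, nat_lit 11, nat_lit 17, nat_lit 26],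 (nat_lit 15325)), ((nat_lit 3103), [nat_lit 3, nat_lit 2, nat_lit 3, nat_lit 4, nat_lit 7, nat_lit 4, nat_lit 7, nat_lit 2, nat_lit 3, nat_lit 4, nat_lit 3, nat_lit 2, nat_lit 3, nat_lit 1], [nat_lit 24, nat_lit 16, nat_lit 0, nat_lit 24], (nat_lit 8934))] (nat_lit 0) m6_6_1) = 0 := by decide +kernel
theorem e6_6_2 : reachX THn.T (nat_lit 4435448161288755118) (S6.map Prod.snd) [nat_lit 0, nat_lit 1, nat_lit 0, nat_lit 2, nat_lit 0, nat_lit 2, nat_lit 0, nat_lit 2, nat_lit 1] m6_6_1 = m6_6_2 := by decide +kernel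
theorem e6_8_1 : dt.run q (fun c => c.edges (SP THn.T THn.Rl (nat_lit 15)) (nat_lit 4429) THn.T.n (nat_lit 6) (nat_lit 8)
  [((nat_lit 3527), [nat_lit 6, nat_lit 3, nat_lit 0, nat_lit 1, nat_lit 2, nat_lit 3, nat_lit 4, nat_lit 7, nat_lit 3, nat_lit 2, nat_lit 3, nat_lit 1], [nat_lit 10, nat_lit 10, nat_lit 0, nat_lit 36, nat_lit 16, nat_lit 11, nat_lit 26], (nat_lit 3912)), ((nat_lit 3507), [nat_lit 7, nat_lit 4, nat_lit 8, nat_lit 5, nat_lit 3, nat_lit 1, nat_lit 2, nat_lit 3, nat_lit 4, nat_lit 7, nat_lit 3, nat_lit 4, nat_lit 2, nat_lit 3, nat_lit 0, nat_lit 1], [nat_lit 24, nat_lit 1, nat_lit 26, nat_lit 36, nat_lit 26], (nat_lit 15373)), ((nat_lit 3511), [nat_lit 8, nat_lit 3, nat_lit 4, nat_lit 7, nat_lit 5, nat_lit 1, nat_lit 2, nat_lit 3, nat_lit 4, nat_lit 8, nat_lit 2, nat_lit 3, nat_lit 1], [nat_lit 5, nat_lit 25, nat_lit 37, nat_lit 11],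 (nat_lit 6879)), ((nat_lit 3499), [nat_lit 5, nat_lit 3, nat_lit 2, nat_lit 3, nat_lit 4, nat_lit 8, nat_lit 3, nat_lit 2, nat_lit 3, nat_lit 1], [nat_lit 1, nat_lit 1, nat_lit 32, nat_lit 36, nat_lit 16], (nat_lit 1341)), ((nat_lit 3523), [nat_lit 6, nat_lit 8, nat_lit 3, nat_lit 4, nat_lit 8, nat_lit 3, nat_lit 4, nat_lit 7, nat_lit 2, nat_lit 3, nat_lit 1], [nat_lit 15, nat_lit 0, nat_lit 15, nat_lit 24], (nat_lit 2673)), ((nat_lit 3515), [nat_lit 8, nat_lit 2, nat_lit 3, nat_lit 1, nat_lit 2, nat_lit 3, nat_lit 4, nat_lit 7, nat_lit 2, nat_lit 3, nat_lit 4, nat_lit 7, nat_lit 2, nat_lit 3, nat_lit 1], [nat_lit 25, nat_lit 2, nat_lit 0, nat_lit 32, nat_lit 37, nat_lit 15], (nat_lit 14627)), ((nat_lit 3505), [nat_lit 3, nat_lit 4, nat_lit 8, nat_lit 5, nat_lit 3, nat_lit 2, nat_lit 3, nat_lit 4, nat_lit 8, nat_lit 3, nat_lit 4, nat_lit 2, nat_lit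 3, nat_lit 0, nat_lit 1], [nat_lit 1, nat_lit 5, nat_lit 37, nat_lit 37, nat_lit 11], (nat_lit 11877)), ((nat_lit 3513), [nat_lit 8, nat_lit 6, nat_lit 1, nat_lit 2, nat_lit 3, nat_lit 4, nat_lit 8, nat_lit 1, nat_lit 2, nat_lit 3, nat_lit 4, nat_lit 2, nat_lit 3, nat_lit 0, nat_lit 1], [nat_lit 15, nat_lit 0, nat_lit 15, nat_lit 18, nat_lit 11, nat_lit 27], (nat_lit 11713)), ((nat_lit 3503), [nat_lit 3, nat_lit 4, nat_lit 8, nat_lit 0, nat_lit 1, nat_lit 2, nat_lit 3, nat_lit 4, nat_lit 8, nat_lit 3, nat_lit 2, nat_lit 3, nat_lit 0, nat_lit 1], [nat_lit 14, nat_lit 17, nat_lit 25, nat_lit 15, nat_lit 26], (nat_lit 7787)), ((nat_lit 3531), [nat_lit 7, nat_lit 4, nat_lit 8, nat_lit 5, nat_lit 3, nat_lit 1, nat_lit 2, nat_lit 3, nat_lit 4, nat_lit 7, nat_lit 4, nat_lit 3, nat_lit 2, nat_lit 3, nat_lit 1], [nat_lit 17, nat_lit 24, nat_lit 0, nat_lit 25,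 nat_lit 11], (nat_lit 12987)), ((nat_lit 3525), [nat_lit 1, nat_lit 2, nat_lit 3, nat_lit 4, nat_lit 7, nat_lit 4, nat_lit 7, nat_lit 3, nat_lit 1, nat_lit 2, nat_lit 3, nat_lit 0, nat_lit 1], [nat_lit 17, nat_lit 24, nat_lit 0, nat_lit 36, nat_lit 24], (nat_lit 4668)), ((nat_lit 3521), [nat_lit 8, nat_lit 1, nat_lit 2, nat_lit 3, nat_lit 4, nat_lit 8, nat_lit 1, nat_lit 2, nat_lit 3, nat_lit 4, nat_lit 7, nat_lit 2, nat_lit 3, nat_lit 0, nat_lit 1], [nat_lit 37, nat_lit 32, nat_lit 27], (nat_lit 12251)), ((nat_lit 3529), [nat_lit 8, nat_lit 8, nat_lit 3, nat_lit 4, nat_lit 7, nat_lit 1, nat_lit 2, nat_lit 3, nat_lit 4, nat_lit 7, nat_lit 2, nat_lit 3, nat_lit 1], [nat_lit 24, nat_lit 36, nat_lit 11], (nat_lit 7092)), ((nat_lit 3509), [nat_lit 5, nat_lit 3, nat_lit 2, nat_lit 3, nat_lit 0, nat_lit 1, nat_lit 2, nat_lit 3, nat_lit 4, nat_lit 7, nat_lit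 3, nat_lit 4, nat_lit 3, nat_lit 2, nat_lit 3, nat_lit 1], [nat_lit 24, nat_lit 16, nat_lit 0, nat_lit 37, nat_lit 32, nat_lit 11, nat_lit 26], (nat_lit 15898)), ((nat_lit 3517), [nat_lit 5, nat_lit 4, nat_lit 7, nat_lit 2, nat_lit 3, nat_lit 4, nat_lit 3, nat_lit 2, nat_lit 3, nat_lit 0, nat_lit 1], [nat_lit 24, nat_lit 16, nat_lit 0, nat_lit 34, nat_lit 17, nat_lit 11, nat_lit 26], (nat_lit 1873)), ((nat_lit 3519), [nat_lit 8, nat_lit 5, nat_lit 3, nat_lit 1, nat_lit 2, nat_lit 3, nat_lit 4, nat_lit 8, nat_lit 2, nat_lit 3, nat_lit 4, nat_lit 3, nat_lit 2, nat_lit 3, nat_lit 1], [nat_lit 15, nat_lit 0, nat_lit 34, nat_lit 32, nat_lit 11, nat_lit 26], (nat_lit 12612)), ((nat_lit 3501), [nat_lit 6, nat_lit 7, nat_lit 4, nat_lit 8, nat_lit 5, nat_lit 3, nat_lit 2, nat_lit 3, nat_lit 4, nat_lit 7, nat_lit 3, nat_lit 2, nat_lit 3, nat_lit 1], [nat_lit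 11, nat_lit 2, nat_lit 0, nat_lit 25, nat_lit 18, nat_lit 26], (nat_lit 9588))] (nat_lit 0) m6_8_1) = 0 := by decide +kernel
theorem e6_8_2 : reachX THn.T (nat_lit 268913139446550990) (S6.map Prod.snd) [nat_lit 0, nat_lit 1, nat_lit 0, nat_lit 2, nat_lit 0, nat_lit 2, nat_lit 0, nat_lit 2, nat_lit 1] m6_8_1 = m6_8_2 := by decide +kernel
theorem e6_9_1 : dt.run q (fun c => c.edges (SP THn.T THn.Rl (nat_lit 15)) (nat_lit 4429) THn.T.n (nat_lit 6) (nat_lit 9)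
  [((nat_lit 3816), [nat_lit 4, nat_lit 7, nat_lit 1, nat_lit 2, nat_lit 3, nat_lit 4, nat_lit 7, nat_lit 3, nat_lit 4, nat_lit 3, nat_lit 2, nat_lit 3, nat_lit 1], [nat_lit 33, nat_lit 34, nat_lit 26], (nat_lit 5898)), ((nat_lit 3820), [nat_lit 3, nat_lit 4, nat_lit 7, nat_lit 4, nat_lit 3], [nat_lit 5, nat_lit 16, nat_lit 2, nat_lit 26, nat_lit 24, nat_lit 26], (nat_lit 113)), ((nat_lit 3824), [nat_lit 6, nat_lit 4, nat_lit 7, nat_lit 4, nat_lit 3], [nat_lit 16, nat_lit 18, nat_lit 11], (nat_lit 114)), ((nat_lit 3818), [nat_lit 5, nat_lit 7, nat_lit 4, nat_lit 3], [nat_lit 10, nat_lit 10, nat_lit 0, nat_lit 11, nat_lit 16, nat_lit 27], (nat_lit 60)), ((nat_lit 3812), [nat_lit 5, nat_lit 8, nat_lit 4, nat_lit 8, nat_lit 5, nat_lit 3, nat_lit 2, nat_lit 3, nat_lit 4, nat_lit 7, nat_lit 3, nat_lit 2, nat_lit 3, nat_lit 1], [nat_lit 18, nat_lit 15, nat_lit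 0, nat_lit 37, nat_lit 34, nat_lit 24, nat_lit 26], (nat_lit 9333)), ((nat_lit 3834), [nat_lit 8, nat_lit 3, nat_lit 4, nat_lit 8, nat_lit 2, nat_lit 3, nat_lit 4, nat_lit 8, nat_lit 3, nat_lit 1, nat_lit 2, nat_lit 3, nat_lit 0, nat_lit 1], [nat_lit 16, nat_lit 5, nat_lit 2, nat_lit 11, nat_lit 15], (nat_lit 7292)), ((nat_lit 3830), [nat_lit 8, nat_lit 3, nat_lit 4, nat_lit 8, nat_lit 6, nat_lit 0, nat_lit 1, nat_lit 2, nat_lit 3, nat_lit 4, nat_lit 8, nat_lit 2, nat_lit 3, nat_lit 1], [nat_lit 10, nat_lit 10, nat_lit 0, nat_lit 15, nat_lit 32, nat_lit 11, nat_lit 27], (nat_lit 10388)), ((nat_lit 3842), [nat_lit 4, nat_lit 8, nat_lit 2, nat_lit 3, nat_lit 4, nat_lit 8, nat_lit 2, nat_lit 3, nat_lit 4, nat_lit 8, nat_lit 2, nat_lit 3, nat_lit 1], [nat_lit 26, nat_lit 2, nat_lit 24, nat_lit 18, nat_lit 18, nat_lit 26], (nat_lit 6939)), ((nat_lit 3822),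 [nat_lit 8, nat_lit 5, nat_lit 3, nat_lit 2, nat_lit 3, nat_lit 4, nat_lit 8, nat_lit 4, nat_lit 1, nat_lit 2, nat_lit 3, nat_lit 0, nat_lit 1], [nat_lit 5, nat_lit 34, nat_lit 25, nat_lit 11], (nat_lit 4744)), ((nat_lit 3814), [nat_lit 6, nat_lit 0, nat_lit 1, nat_lit 2, nat_lit 3, nat_lit 4, nat_lit 7, nat_lit 2, nat_lit 3, nat_lit 1], [nat_lit 16, nat_lit 16, nat_lit 11, nat_lit 27], (nat_lit 1567)), ((nat_lit 3832), [nat_lit 5, nat_lit 8, nat_lit 2, nat_lit 3, nat_lit 4, nat_lit 7, nat_lit 3, nat_lit 1, nat_lit 2, nat_lit 3, nat_lit 0, nat_lit 1], [nat_lit 32, nat_lit 11, nat_lit 26], (nat_lit 2848)), ((nat_lit 3826), [nat_lit 4, nat_lit 7, nat_lit 4, nat_lit 7, nat_lit 3, nat_lit 4, nat_lit 7, nat_lit 3, nat_lit 1, nat_lit 2, nat_lit 3, nat_lit 0, nat_lit 1], [nat_lit 10, nat_lit 10, nat_lit 0, nat_lit 27, nat_lit 24, nat_lit 11, nat_lit 27],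 (nat_lit 4664)), ((nat_lit 3840), [nat_lit 3, nat_lit 2, nat_lit 3, nat_lit 4, nat_lit 7, nat_lit 6, nat_lit 1, nat_lit 2, nat_lit 3, nat_lit 4, nat_lit 7, nat_lit 3, nat_lit 2, nat_lit 3, nat_lit 0, nat_lit 1], [nat_lit 24, nat_lit 2, nat_lit 0, nat_lit 17, nat_lit 17, nat_lit 15], (nat_lit 15146)), ((nat_lit 3858), [nat_lit 4, nat_lit 8, nat_lit 2, nat_lit 3, nat_lit 4, nat_lit 8, nat_lit 2, nat_lit 3, nat_lit 4, nat_lit 7, nat_lit 2, nat_lit 3, nat_lit 1], [nat_lit 0, nat_lit 26, nat_lit 16, nat_lit 11, nat_lit 27], (nat_lit 7129)), ((nat_lit 3848), [nat_lit 5, nat_lit 2, nat_lit 3, nat_lit 4, nat_lit 8, nat_lit 1, nat_lit 2, nat_lit 3, nat_lit 4, nat_lit 7, nat_lit 2, nat_lit 3, nat_lit 1], [nat_lit 25, nat_lit 14, nat_lit 0, nat_lit 11, nat_lit 26], (nat_lit 7068)), ((nat_lit 3846), [nat_lit 5, nat_lit 3, nat_lit 4, nat_lit 7, nat_lit 1, nat_lit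 2, nat_lit 3, nat_lit 4, nat_lit 8, nat_lit 3, nat_lit 1, nat_lit 2, nat_lit 3, nat_lit 0, nat_lit 1], [nat_lit 25, nat_lit 0, nat_lit 27], (nat_lit 10960)), ((nat_lit 3856), [nat_lit 8, nat_lit 3, nat_lit 4, nat_lit 2, nat_lit 3, nat_lit 1, nat_lit 2, nat_lit 3, nat_lit 4, nat_lit 7, nat_lit 4, nat_lit 7, nat_lit 3, nat_lit 2, nat_lit 3, nat_lit 0, nat_lit 1], [nat_lit 25, nat_lit 0, nat_lit 27, nat_lit 24], (nat_lit 16982)), ((nat_lit 3852), [nat_lit 8, nat_lit 6, nat_lit 1, nat_lit 2, nat_lit 3, nat_lit 4, nat_lit 8, nat_lit 1, nat_lit 2, nat_lit 3, nat_lit 4, nat_lit 7, nat_lit 2, nat_lit 3, nat_lit 0, nat_lit 1], [nat_lit 0, nat_lit 15, nat_lit 35], (nat_lit 15574)), ((nat_lit 3844), [nat_lit 3, nat_lit 4, nat_lit 7, nat_lit 1, nat_lit 2, nat_lit 3, nat_lit 4, nat_lit 3, nat_lit 1, nat_lit 2, nat_lit 3, nat_lit 0, nat_lit 1], [nat_lit 14, nat_lit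 0, nat_lit 16, nat_lit 25, nat_lit 26], (nat_lit 4528)), ((nat_lit 3850), [nat_lit 4, nat_lit 7, nat_lit 6, nat_lit 3, nat_lit 4, nat_lit 7, nat_lit 2, nat_lit 3, nat_lit 4, nat_lit 3, nat_lit 2, nat_lit 3, nat_lit 1], [nat_lit 0, nat_lit 26, nat_lit 34, nat_lit 32], (nat_lit 5847)), ((nat_lit 3810), [nat_lit 4, nat_lit 7, nat_lit 1, nat_lit 2, nat_lit 3, nat_lit 0, nat_lit 1, nat_lit 2, nat_lit 3, nat_lit 4, nat_lit 8, nat_lit 4, nat_lit 3, nat_lit 2, nat_lit 3, nat_lit 1], [nat_lit 24, nat_lit 1, nat_lit 37, nat_lit 34, nat_lit 24, nat_lit 27], (nat_lit 15977)), ((nat_lit 3828), [nat_lit 8, nat_lit 5, nat_lit 4, nat_lit 7, nat_lit 2, nat_lit 3, nat_lit 4, nat_lit 7, nat_lit 2, nat_lit 3, nat_lit 0, nat_lit 1], [nat_lit 18, nat_lit 15, nat_lit 0, nat_lit 37, nat_lit 34, nat_lit 24, nat_lit 27], (nat_lit 3605)), ((nat_lit 3854), [nat_lit 4, nat_lit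 8, nat_lit 2, nat_lit 3, nat_lit 4, nat_lit 8, nat_lit 8, nat_lit 2, nat_lit 3, nat_lit 4, nat_lit 7, nat_lit 2, nat_lit 3, nat_lit 0, nat_lit 1], [nat_lit 1, nat_lit 24, nat_lit 0, nat_lit 25, nat_lit 15, nat_lit 26], (nat_lit 12354)), ((nat_lit 3836), [nat_lit 6, nat_lit 7, nat_lit 0, nat_lit 1, nat_lit 2, nat_lit 3, nat_lit 4, nat_lit 8, nat_lit 2, nat_lit 3, nat_lit 1], [nat_lit 10, nat_lit 10, nat_lit 0, nat_lit 33, nat_lit 18], (nat_lit 2607)), ((nat_lit 3838), [nat_lit 7, nat_lit 5, nat_lit 0, nat_lit 1, nat_lit 2, nat_lit 3, nat_lit 4, nat_lit 8, nat_lit 2, nat_lit 3, nat_lit 1], [nat_lit 24, nat_lit 37, nat_lit 17, nat_lit 27], (nat_lit 2602))] (nat_lit 0) m6_9_1) = 0 := by decide +kernel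
theorem e6_9_2 : reachX THn.T (nat_lit 411668760973024092) (S6.map Prod.snd) [nat_lit 0, nat_lit 1, nat_lit 0, nat_lit 2, nat_lit 0, nat_lit 2, nat_lit 0, nat_lit 2, nat_lit 1] m6_9_1 = m6_9_2 := by decide +kernel
theorem e6_10_1 : dt.run q (fun c => c.edges (SP THn.T THn.Rl (nat_lit 15)) (nat_lit 4429) THn.T.n (nat_lit 6) (nat_lit 10)
  [((nat_lit 4282), [nat_lit 1], [nat_lit 11, nat_lit 2, nat_lit 0, nat_lit 34, nat_lit 17], (nat_lit 1)), ((nat_lit 4276), [nat_lit 3], [nat_lit 26, nat_lit 34, nat_lit 32, nat_lit 27], (nat_lit 2)), ((nat_lit 4274), [nat_lit 4, nat_lit 3], [nat_lit 10, nat_lit 10, nat_lit 0, nat_lit 25, nat_lit 33, nat_lit 15, nat_lit 26], (nat_lit 9)), ((nat_lit 4290), [nat_lit 4, nat_lit 7, nat_lit 1, nat_lit 2, nat_lit 3, nat_lit 0, nat_lit 1], [nat_lit 36, nat_lit 33, nat_lit 27], (nat_lit 231)), ((nat_lit 4308), [nat_lit 7, nat_lit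 3, nat_lit 4, nat_lit 7, nat_lit 4, nat_lit 3, nat_lit 1, nat_lit 2, nat_lit 3, nat_lit 0, nat_lit 1], [nat_lit 34, nat_lit 15, nat_lit 27], (nat_lit 1680)), ((nat_lit 3906), [nat_lit 5, nat_lit 8, nat_lit 4, nat_lit 7, nat_lit 3], [nat_lit 25, nat_lit 2, nat_lit 0, nat_lit 27, nat_lit 15, nat_lit 27], (nat_lit 127)), ((nat_lit 4272), [nat_lit 6, nat_lit 7, nat_lit 4, nat_lit 8, nat_lit 3], [nat_lit 15, nat_lit 5, nat_lit 37, nat_lit 33, nat_lit 11, nat_lit 27], (nat_lit 123)), ((nat_lit 4298), [nat_lit 6, nat_lit 7, nat_lit 3, nat_lit 2, nat_lit 3, nat_lit 4, nat_lit 1, nat_lit 2, nat_lit 3, nat_lit 0, nat_lit 1], [nat_lit 5, nat_lit 0, nat_lit 16, nat_lit 17, nat_lit 15], (nat_lit 1727)), ((nat_lit 4306), [nat_lit 6, nat_lit 7, nat_lit 3, nat_lit 2, nat_lit 3, nat_lit 4, nat_lit 7, nat_lit 3, nat_lit 2, nat_lit 3, nat_lit 1], [nat_lit 16, nat_lit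 5, nat_lit 0, nat_lit 36, nat_lit 24, nat_lit 27], (nat_lit 2389)), ((nat_lit 4342), [nat_lit 7, nat_lit 1, nat_lit 2, nat_lit 3, nat_lit 4, nat_lit 2, nat_lit 3, nat_lit 1], [nat_lit 16, nat_lit 18, nat_lit 15], (nat_lit 507)), ((nat_lit 4300), [nat_lit 4, nat_lit 8, nat_lit 5, nat_lit 3, nat_lit 2, nat_lit 3, nat_lit 1, nat_lit 2, nat_lit 3, nat_lit 4, nat_lit 8, nat_lit 3, nat_lit 2, nat_lit 3, nat_lit 1], [nat_lit 37, nat_lit 32, nat_lit 27], (nat_lit 13104)), ((nat_lit 3908), [nat_lit 8, nat_lit 2, nat_lit 3, nat_lit 4, nat_lit 1, nat_lit 2, nat_lit 3, nat_lit 0, nat_lit 1], [nat_lit 0, nat_lit 33, nat_lit 18, nat_lit 11], (nat_lit 601)), ((nat_lit 4302), [nat_lit 6, nat_lit 7, nat_lit 1, nat_lit 2, nat_lit 3, nat_lit 0, nat_lit 1], [nat_lit 36, nat_lit 33, nat_lit 24, nat_lit 27], (nat_lit 232)), ((nat_lit 4286), [nat_lit 7, nat_lit 4, nat_lit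 7, nat_lit 3], [nat_lit 10, nat_lit 10, nat_lit 0, nat_lit 27, nat_lit 17], (nat_lit 68)), ((nat_lit 4316), [nat_lit 5, nat_lit 7, nat_lit 4, nat_lit 7, nat_lit 2, nat_lit 3, nat_lit 4, nat_lit 8, nat_lit 1, nat_lit 2, nat_lit 3, nat_lit 4, nat_lit 2, nat_lit 3, nat_lit 0, nat_lit 1], [nat_lit 0, nat_lit 37, nat_lit 27], (nat_lit 15274)), ((nat_lit 4328), [nat_lit 6, nat_lit 4, nat_lit 7, nat_lit 3, nat_lit 4, nat_lit 8, nat_lit 3, nat_lit 1, nat_lit 2, nat_lit 3, nat_lit 0, nat_lit 1], [nat_lit 15, nat_lit 5, nat_lit 16], (nat_lit 2834)), ((nat_lit 4292), [nat_lit 7, nat_lit 6, nat_lit 4, nat_lit 8, nat_lit 3], [nat_lit 5, nat_lit 34, nat_lit 34, nat_lit 11], (nat_lit 117)), ((nat_lit 4294), [nat_lit 8, nat_lit 5, nat_lit 4, nat_lit 8, nat_lit 3], [nat_lit 36, nat_lit 32, nat_lit 11], (nat_lit 118)), ((nat_lit 4288), [nat_lit 8, nat_lit 5, nat_lit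 4, nat_lit 7, nat_lit 3], [nat_lit 10, nat_lit 10, nat_lit 0, nat_lit 33, nat_lit 33, nat_lit 27], (nat_lit 126)), ((nat_lit 4296), [nat_lit 5, nat_lit 7, nat_lit 3, nat_lit 2, nat_lit 3, nat_lit 4, nat_lit 7, nat_lit 1, nat_lit 2, nat_lit 3, nat_lit 0, nat_lit 1], [nat_lit 10, nat_lit 10, nat_lit 0, nat_lit 35, nat_lit 33, nat_lit 11, nat_lit 27], (nat_lit 3064)), ((nat_lit 4280), [nat_lit 6, nat_lit 7, nat_lit 3, nat_lit 4, nat_lit 8, nat_lit 3, nat_lit 4, nat_lit 1, nat_lit 2, nat_lit 3, nat_lit 0, nat_lit 1], [nat_lit 34, nat_lit 34, nat_lit 26], (nat_lit 2914)), ((nat_lit 4338), [nat_lit 3, nat_lit 2, nat_lit 3, nat_lit 4, nat_lit 8, nat_lit 0, nat_lit 1, nat_lit 2, nat_lit 3, nat_lit 4, nat_lit 7, nat_lit 3, nat_lit 2, nat_lit 3, nat_lit 1], [nat_lit 17, nat_lit 2, nat_lit 0, nat_lit 17, nat_lit 17], (nat_lit 13359)), ((nat_lit 4324), [nat_lit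 6, nat_lit 7, nat_lit 6, nat_lit 3, nat_lit 4, nat_lit 7, nat_lit 3, nat_lit 1, nat_lit 2, nat_lit 3, nat_lit 4, nat_lit 7, nat_lit 3, nat_lit 2, nat_lit 3, nat_lit 1], [nat_lit 1, nat_lit 5, nat_lit 35, nat_lit 16, nat_lit 16, nat_lit 26], (nat_lit 16342)), ((nat_lit 4312), [nat_lit 7, nat_lit 5, nat_lit 3, nat_lit 4, nat_lit 8, nat_lit 1, nat_lit 2, nat_lit 3, nat_lit 4, nat_lit 3, nat_lit 2, nat_lit 3, nat_lit 1], [nat_lit 5, nat_lit 2, nat_lit 17, nat_lit 34, nat_lit 11, nat_lit 27], (nat_lit 5766)), ((nat_lit 4278), [nat_lit 5, nat_lit 4, nat_lit 8, nat_lit 3, nat_lit 2, nat_lit 3, nat_lit 4, nat_lit 7, nat_lit 1, nat_lit 2, nat_lit 3, nat_lit 4, nat_lit 2, nat_lit 3, nat_lit 1], [nat_lit 37, nat_lit 34, nat_lit 11], (nat_lit 13693)), ((nat_lit 4332), [nat_lit 5, nat_lit 1, nat_lit 2, nat_lit 3, nat_lit 4, nat_lit 8, nat_lit 2, nat_lit 3, nat_lit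 4, nat_lit 7, nat_lit 2, nat_lit 3, nat_lit 1], [nat_lit 14, nat_lit 15, nat_lit 0, nat_lit 37, nat_lit 32, nat_lit 11, nat_lit 27], (nat_lit 7120)), ((nat_lit 4284), [nat_lit 4, nat_lit 8, nat_lit 1, nat_lit 2, nat_lit 3, nat_lit 4, nat_lit 7, nat_lit 3, nat_lit 2, nat_lit 3, nat_lit 1], [nat_lit 15, nat_lit 15, nat_lit 11], (nat_lit 2376)), ((nat_lit 4330), [nat_lit 6, nat_lit 7, nat_lit 4, nat_lit 8, nat_lit 3, nat_lit 1, nat_lit 2, nat_lit 3, nat_lit 0, nat_lit 1], [nat_lit 35, nat_lit 17], (nat_lit 996)), ((nat_lit 4326), [nat_lit 7, nat_lit 3, nat_lit 4, nat_lit 8, nat_lit 8, nat_lit 1, nat_lit 2, nat_lit 3, nat_lit 4, nat_lit 7, nat_lit 3, nat_lit 2, nat_lit 3, nat_lit 1], [nat_lit 26, nat_lit 2, nat_lit 37, nat_lit 34, nat_lit 24], (nat_lit 9575)), ((nat_lit 4318), [nat_lit 7, nat_lit 4, nat_lit 8, nat_lit 6, nat_lit 0, nat_lit 1, nat_lit 2,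 nat_lit 3, nat_lit 4, nat_lit 8, nat_lit 2, nat_lit 3, nat_lit 1], [nat_lit 5, nat_lit 16, nat_lit 2, nat_lit 35, nat_lit 32, nat_lit 27], (nat_lit 6834)), ((nat_lit 4322), [nat_lit 8, nat_lit 4, nat_lit 3, nat_lit 1, nat_lit 2, nat_lit 3, nat_lit 4, nat_lit 8, nat_lit 4, nat_lit 8, nat_lit 2, nat_lit 3, nat_lit 1], [nat_lit 25, nat_lit 14, nat_lit 0, nat_lit 35, nat_lit 15, nat_lit 26], (nat_lit 7018)), ((nat_lit 4314), [nat_lit 4, nat_lit 7, nat_lit 3, nat_lit 2, nat_lit 3, nat_lit 1, nat_lit 2, nat_lit 3, nat_lit 4, nat_lit 8, nat_lit 3, nat_lit 4, nat_lit 2, nat_lit 3, nat_lit 1], [nat_lit 0, nat_lit 17, nat_lit 34], (nat_lit 13957)), ((nat_lit 4336), [nat_lit 8, nat_lit 2, nat_lit 3, nat_lit 1, nat_lit 2, nat_lit 3, nat_lit 4, nat_lit 7, nat_lit 2, nat_lit 3, nat_lit 4, nat_lit 8, nat_lit 2, nat_lit 3, nat_lit 1], [nat_lit 14, nat_lit 17, nat_lit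 34, nat_lit 26], (nat_lit 14399)), ((nat_lit 4340), [nat_lit 4, nat_lit 7, nat_lit 4, nat_lit 7, nat_lit 1, nat_lit 2, nat_lit 3, nat_lit 4, nat_lit 8, nat_lit 2, nat_lit 3, nat_lit 4, nat_lit 2, nat_lit 3, nat_lit 0, nat_lit 1], [nat_lit 5, nat_lit 37, nat_lit 18], (nat_lit 15308)), ((nat_lit 4346), [nat_lit 8, nat_lit 4, nat_lit 7, nat_lit 1, nat_lit 2, nat_lit 3, nat_lit 4, nat_lit 7, nat_lit 4, nat_lit 2, nat_lit 3, nat_lit 0, nat_lit 1], [nat_lit 0, nat_lit 36, nat_lit 11, nat_lit 26], (nat_lit 5461)), ((nat_lit 4334), [nat_lit 6, nat_lit 8, nat_lit 4, nat_lit 8, nat_lit 3, nat_lit 1, nat_lit 2, nat_lit 3, nat_lit 4, nat_lit 7, nat_lit 3, nat_lit 2, nat_lit 3, nat_lit 0, nat_lit 1], [nat_lit 0, nat_lit 2, nat_lit 17, nat_lit 25, nat_lit 15, nat_lit 26], (nat_lit 11585)), ((nat_lit 4348), [nat_lit 4, nat_lit 7, nat_lit 4, nat_lit 7, nat_lit 3,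 nat_lit 4, nat_lit 7, nat_lit 5, nat_lit 2, nat_lit 3, nat_lit 4, nat_lit 8, nat_lit 2, nat_lit 3, nat_lit 1], [nat_lit 1, nat_lit 24, nat_lit 0, nat_lit 33, nat_lit 24, nat_lit 11, nat_lit 26], (nat_lit 14360)), ((nat_lit 4304), [nat_lit 8, nat_lit 5, nat_lit 3, nat_lit 2, nat_lit 3, nat_lit 4, nat_lit 8, nat_lit 0, nat_lit 1, nat_lit 2, nat_lit 3, nat_lit 4, nat_lit 3, nat_lit 2, nat_lit 3, nat_lit 1], [nat_lit 25, nat_lit 37, nat_lit 17], (nat_lit 15701)), ((nat_lit 4350), [nat_lit 8, nat_lit 8, nat_lit 3, nat_lit 4, nat_lit 7, nat_lit 3, nat_lit 2, nat_lit 3, nat_lit 1], [nat_lit 1, nat_lit 36, nat_lit 32], (nat_lit 822)), ((nat_lit 4354), [nat_lit 8, nat_lit 4, nat_lit 7, nat_lit 3, nat_lit 4, nat_lit 8, nat_lit 2, nat_lit 3, nat_lit 4, nat_lit 2, nat_lit 3, nat_lit 1], [nat_lit 10, nat_lit 0, nat_lit 18, nat_lit 36, nat_lit 26], (nat_lit 4084)),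 ((nat_lit 4352), [nat_lit 5, nat_lit 4, nat_lit 8, nat_lit 3, nat_lit 4, nat_lit 8, nat_lit 1, nat_lit 2, nat_lit 3, nat_lit 4, nat_lit 7, nat_lit 2, nat_lit 3, nat_lit 1], [nat_lit 15, nat_lit 0, nat_lit 36, nat_lit 33], (nat_lit 10706)), ((nat_lit 4344), [nat_lit 7, nat_lit 3, nat_lit 4, nat_lit 8, nat_lit 2, nat_lit 3, nat_lit 4, nat_lit 3, nat_lit 2, nat_lit 3, nat_lit 1], [nat_lit 0, nat_lit 2, nat_lit 35, nat_lit 35, nat_lit 27], (nat_lit 2234)), ((nat_lit 4320), [nat_lit 2, nat_lit 3, nat_lit 4, nat_lit 7, nat_lit 1, nat_lit 2, nat_lit 3, nat_lit 4, nat_lit 8, nat_lit 2, nat_lit 3, nat_lit 0, nat_lit 1], [nat_lit 26, nat_lit 2, nat_lit 34, nat_lit 16, nat_lit 11, nat_lit 27], (nat_lit 5507)), ((nat_lit 4310), [nat_lit 4, nat_lit 7, nat_lit 4, nat_lit 7, nat_lit 3, nat_lit 4, nat_lit 7, nat_lit 0, nat_lit 1, nat_lit 2, nat_lit 3, nat_lit 4, nat_lit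 2, nat_lit 3, nat_lit 0, nat_lit 1], [nat_lit 15, nat_lit 5, nat_lit 33], (nat_lit 15232)), ((nat_lit 4356), [nat_lit 6, nat_lit 8, nat_lit 0, nat_lit 1, nat_lit 2, nat_lit 3, nat_lit 4, nat_lit 8, nat_lit 2, nat_lit 3, nat_lit 1], [nat_lit 15, nat_lit 0, nat_lit 27, nat_lit 25, nat_lit 27], (nat_lit 2604))] (nat_lit 0) m6_10_1) = 0 := by decide +kernel
theorem e6_10_2 : reachX THn.T (nat_lit 923394777717218088) (S6.map Prod.snd) [nat_lit 0, nat_lit 1, nat_lit 0, nat_lit 2, nat_lit 0, nat_lit 2, nat_lit 0, nat_lit 2, nat_lit 1] m6_10_1 = m6_10_2 := by decide +kernel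
theorem pc6 : partChk THn.T.n (nat_lit 860) [(nat_lit 0), m6_1_2, (nat_lit 0), m6_3_2, m6_4_2, m6_5_4, m6_6_2, (nat_lit 0), m6_8_2, m6_9_2, m6_10_2] (nth [] aL (nat_lit 6)) = true ∧ nth 0 PL (nat_lit 6) = (nat_lit 6) := by decide +kernel
theorem st7c : dt.run q (fun c => sumL (c.sgen (nat_lit 4429) (nat_lit 7)) S7) = 0 := by decide +kernel
theorem e7_3_1 : dt.run q (fun c => c.edges (SP THn.T THn.Rl (nat_lit 15)) (nat_lit 4429) THn.T.n (nat_lit 7) (nat_lit 3)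
  [((nat_lit 3108), [], [], (nat_lit 0))] (nat_lit 0) m7_3_1) = 0 := by decide +kernel
theorem e7_3_2 : reachX THn.T (nat_lit 1050578755247931475) (S7.map Prod.snd) [nat_lit 1, nat_lit 0, nat_lit 2, nat_lit 0, nat_lit 1, nat_lit 0, nat_lit 2, nat_lit 0, nat_lit 1, nat_lit 0, nat_lit 2, nat_lit 0, nat_lit 2, nat_lit 0, nat_lit 1, nat_lit 2, nat_lit 1] m7_3_1 = m7_3_2 := by decide +kernel
theorem e7_5_1 : dt.run q (fun c => c.edges (SP THn.T THn.Rl (nat_lit 15)) (nat_lit 4429) THn.T.n (nat_lit 7) (nat_lit 5)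
  [((nat_lit 3111), [nat_lit 6, nat_lit 7], [nat_lit 17, nat_lit 2, nat_lit 0, nat_lit 27, nat_lit 25, nat_lit 27], (nat_lit 14)), ((nat_lit 3113), [nat_lit 8], [nat_lit 2, nat_lit 37, nat_lit 34], (nat_lit 3)), ((nat_lit 3125), [nat_lit 8, nat_lit 4, nat_lit 8, nat_lit 3, nat_lit 2, nat_lit 3, nat_lit 4, nat_lit 8, nat_lit 3, nat_lit 2, nat_lit 3, nat_lit 0, nat_lit 1], [nat_lit 15, nat_lit 0, nat_lit 15, nat_lit 32, nat_lit 15, nat_lit 26], (nat_lit 5134)), ((nat_lit 3121), [nat_lit 6, nat_lit 3, nat_lit 1, nat_lit 2, nat_lit 3, nat_lit 4, nat_lit 7, nat_lit 4, nat_lit 1, nat_lit 2, nat_lit 3, nat_lit 0, nat_lit 1], [nat_lit 5, nat_lit 16, nat_lit 2, nat_lit 37, nat_lit 15, nat_lit 27], (nat_lit 4766)), ((nat_lit 3123), [nat_lit 8, nat_lit 4, nat_lit 8, nat_lit 2, nat_lit 3, nat_lit 0, nat_lit 1, nat_lit 2, nat_lit 3, nat_lit 4, nat_lit 8, nat_lit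 3, nat_lit 2, nat_lit 3, nat_lit 0, nat_lit 1], [nat_lit 14, nat_lit 25, nat_lit 36], (nat_lit 14963)), ((nat_lit 3127), [nat_lit 8, nat_lit 4, nat_lit 1, nat_lit 2, nat_lit 3, nat_lit 0, nat_lit 1], [nat_lit 10, nat_lit 10, nat_lit 0, nat_lit 37, nat_lit 17, nat_lit 11], (nat_lit 226))] (nat_lit 0) m7_5_1) = 0 := by decide +kernel

end H16.THc
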