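import Cfsg.Agent.H16.D.THc.D

/-! Generated by tools/h16 (computation kit). -/

set_option maxRecDepth 100000
set_option maxHeartbeats 0

namespace H16.THc

open H26 (jn)
open DC
theorem e7_5_2 : reachX THn.T (nat_lit 853679470818503076) (S7.map Prod.snd) [nat_lit 0, nat_lit 1, nat_lit 0, nat_lit 2, nat_lit 0, nat_lit 1, nat_lit 0, nat_lit 2, nat_lit 0, nat_lit 1, nat_lit 0, nat_lit 2, nat_lit 0, nat_lit 1, nat_lit 0, nat_lit 2, nat_lit 0, nat_lit 1, nat_lit 2, nat_lit 0] m7_5_1 = m7_5_2 := by decide +kernel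
theorem e7_7_1 : dt.run q (fun c => c.edges (SP THn.T THn.Rl (nat_lit 15)) (nat_lit 4429) THn.T.n (nat_lit 7) (nat_lit 7)
  [((nat_lit 3129), [nat_lit 5, nat_lit 8, nat_lit 3, nat_lit 2, nat_lit 3, nat_lit 1, nat_lit 2, nat_lit 3, nat_lit 0, nat_lit 1], [nat_lit 10, nat_lit 10, nat_lit 0, nat_lit 18, nat_lit 35, nat_lit 15, nat_lit 26], (nat_lit 949))] (nat_lit 0) m7_7_1) = 0 := by decide +kernel
theorem e7_7_2 : reachX THn.T (nat_lit 264937957268619043) (S7.map Prod.snd) [nat_lit 1, nat_lit 0, nat_lit 2, nat_lit 0, nat_lit 1, nat_lit 0, nat_lit 2, nat_lit 0, nat_lit 1, nat_lit 0, nat_lit 2, nat_lit 0, nat_lit 1] m7_7_1 = m7_7_2 := by decide +kernel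
theorem e7_8_1 : dt.run q (fun c => c.edges (SP THn.T THn.Rl (nat_lit 15)) (nat_lit 4429) THn.T.n (nat_lit 7) (nat_lit 8)
  [((nat_lit 3533), [nat_lit 3, nat_lit 2, nat_lit 3, nat_lit 4, nat_lit 1, nat_lit 2, nat_lit 3, nat_lit 0, nat_lit 1], [nat_lit 10, nat_lit 10, nat_lit 0, nat_lit 37, nat_lit 11, nat_lit 15], (nat_lit 600)), ((nat_lit 3535), [nat_lit 8, nat_lit 4, nat_lit 7, nat_lit 3, nat_lit 2, nat_lit 3, nat_lit 4, nat_lit 3, nat_lit 2, nat_lit 3, nat_lit 0, nat_lit 1], [nat_lit 25, nat_lit 2, nat_lit 0, nat_lit 25, nat_lit 18, nat_lit 27], (nat_lit 3140)), ((nat_lit 3537), [nat_lit 5, nat_lit 4, nat_lit 7, nat_lit 1, nat_lit 2, nat_lit 3, nat_lit 4, nat_lit 8, nat_lit 3, nat_lit 2, nat_lit 3, nat_lit 1], [nat_lit 33, nat_lit 34], (nat_lit 3859)), ((nat_lit 3541), [nat_lit 8, nat_lit 1, nat_lit 2, nat_lit 3, nat_lit 4, nat_lit 8, nat_lit 5, nat_lit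 1, nat_lit 2, nat_lit 3, nat_lit 4, nat_lit 8, nat_lit 3, nat_lit 2, nat_lit 3, nat_lit 1], [nat_lit 2, nat_lit 0, nat_lit 16, nat_lit 18, nat_lit 15, nat_lit 26], (nat_lit 16224)), ((nat_lit 3539), [nat_lit 5, nat_lit 7, nat_lit 3, nat_lit 2, nat_lit 3, nat_lit 1, nat_lit 2, nat_lit 3, nat_lit 0, nat_lit 1], [nat_lit 17, nat_lit 34, nat_lit 27], (nat_lit 951))] (nat_lit 0) m7_8_1) = 0 := by decide +kernel
theorem e7_8_2 : reachX THn.T (nat_lit 249237747624992844) (S7.map Prod.snd) [nat_lit 0, nat_lit 1, nat_lit 0, nat_lit 2, nat_lit 0, nat_lit 1, nat_lit 0, nat_lit 2, nat_lit 0, nat_lit 1, nat_lit 0, nat_lit 2, nat_lit 0, nat_lit 1, nat_lit 2, nat_lit 0, nat_lit 2, nat_lit 1] m7_8_1 = m7_8_2 := by decide +kernel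
theorem pc7 : partChk THn.T.n (nat_lit 860) [(nat_lit 0), (nat_lit 0), (nat_lit 0), m7_3_2, (nat_lit 0), m7_5_2, (nat_lit 0), m7_7_2, m7_8_2, (nat_lit 0), (nat_lit 0)] (nth [] aL (nat_lit 7)) = true ∧ nth 0 PL (nat_lit 7) = (nat_lit 7) := by decide +kernel
theorem st8c : dt.run q (fun c => sumL (c.sgen (nat_lit 4429) (nat_lit 8)) S8) = 0 := by decide +kernel
theorem e8_3_1 : dt.run q (fun c => c.edges (SP THn.T THn.Rl (nat_lit 15)) (nat_lit 4429) THn.T.n (nat_lit 8) (nat_lit 3)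
  [((nat_lit 3131), [], [], (nat_lit 0)), ((nat_lit 3559), [nat_lit 8, nat_lit 4, nat_lit 8, nat_lit 5, nat_lit 0, nat_lit 1, nat_lit 2, nat_lit 3, nat_lit 4, nat_lit 8, nat_lit 2, nat_lit 3, nat_lit 1], [nat_lit 25, nat_lit 1, nat_lit 27, nat_lit 37, nat_lit 26], (nat_lit 6836)), ((nat_lit 3557), [nat_lit 4, nat_lit 7, nat_lit 3, nat_lit 2, nat_lit 3, nat_lit 4, nat_lit 7, nat_lit 2, nat_lit 3, nat_lit 4, nat_lit 2, nat_lit 3, nat_lit 1], [nat_lit 2, nat_lit 0, nat_lit 18, nat_lit 35, nat_lit 11, nat_lit 26], (nat_lit 6524)), ((nat_lit 3578), [nat_lit 2, nat_lit 3, nat_lit 4, nat_lit 8, nat_lit 2, nat_lit 3, nat_lit 4, nat_lit 8, nat_lit 2, nat_lit 3, nat_lit 4, nat_lit 8, nat_lit 2, nat_lit 3, nat_lit 1], [nat_lit 16, nat_lit 5, nat_lit 0, nat_lit 18, nat_lit 35, nat_lit 15, nat_lit 26], (nat_lit 14373)), ((nat_lit 3576), [nat_lit 3, nat_lit 2, nat_lit 3,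 nat_lit 4, nat_lit 7, nat_lit 3, nat_lit 1, nat_lit 2, nat_lit 3, nat_lit 4, nat_lit 3, nat_lit 2, nat_lit 3, nat_lit 1], [nat_lit 5, nat_lit 2, nat_lit 32, nat_lit 36, nat_lit 16], (nat_lit 8792))] (nat_lit 0) m8_3_1) = 0 := by decide +kernel
theorem e8_3_2 : reachX THn.T (nat_lit 3358980229032085643) (S8.map Prod.snd) [nat_lit 1, nat_lit 0, nat_lit 1, nat_lit 0, nat_lit 1, nat_lit 0, nat_lit 1, nat_lit 0, nat_lit 1, nat_lit 0, nat_lit 0] m8_3_1 = m8_3_2 := by decide +kernel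
theorem e8_4_1 : dt.run q (fun c => c.edges (SP THn.T THn.Rl (nat_lit 15)) (nat_lit 4429) THn.T.n (nat_lit 8) (nat_lit 4)
  [((nat_lit 3561), [nat_lit 8, nat_lit 4, nat_lit 8, nat_lit 6, nat_lit 1, nat_lit 2, nat_lit 3, nat_lit 4, nat_lit 8, nat_lit 1, nat_lit 2, nat_lit 3, nat_lit 0, nat_lit 1], [nat_lit 5, nat_lit 2, nat_lit 0, nat_lit 32, nat_lit 36, nat_lit 16, nat_lit 26], (nat_lit 7445))] (nat_lit 0) m8_4_1) = 0 := by decide +kernel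
theorem e8_4_2 : reachX THn.T (nat_lit 403169426682014968) (S8.map Prod.snd) [nat_lit 0, nat_lit 1, nat_lit 0, nat_lit 1, nat_lit 0, nat_lit 1, nat_lit 0, nat_lit 1, nat_lit 0, nat_lit 1, nat_lit 0] m8_4_1 = m8_4_2 := by decide +kernel
theorem e8_5_1 : dt.run q (fun c => c.edges (SP THn.T THn.Rl (nat_lit 15)) (nat_lit 4429) THn.T.n (nat_lit 8) (nat_lit 5)
  [((nat_lit 3135), [nat_lit 5, nat_lit 7], [nat_lit 15, nat_lit 0, nat_lit 24, nat_lit 17, nat_lit 11], (nat_lit 15)), ((nat_lit 3137), [nat_lit 8], [nat_lit 16, nat_lit 5, nat_lit 0, nat_lit 35, nat_lit 16, nat_lit 16], (nat_lit 3)), ((nat_lit 3380), [nat_lit 3, nat_lit 1, nat_lit 2, nat_lit 3, nat_lit 4, nat_lit 3, nat_lit 2, nat_lit 3, nat_lit 0, nat_lit 1], [nat_lit 15, nat_lit 2, nat_lit 34, nat_lit 32, nat_lit 11], (nat_lit 1081)), ((nat_lit 3458), [nat_lit 7, nat_lit 4, nat_lit 7, nat_lit 5, nat_lit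 3, nat_lit 2, nat_lit 3, nat_lit 1, nat_lit 2, nat_lit 3, nat_lit 4, nat_lit 7, nat_lit 3, nat_lit 2, nat_lit 3, nat_lit 1], [nat_lit 26, nat_lit 24, nat_lit 0, nat_lit 25, nat_lit 35], (nat_lit 16226)), ((nat_lit 3142), [nat_lit 3, nat_lit 0, nat_lit 1, nat_lit 2, nat_lit 3, nat_lit 4, nat_lit 7, nat_lit 1, nat_lit 2, nat_lit 3, nat_lit 0, nat_lit 1], [nat_lit 24, nat_lit 2, nat_lit 37, nat_lit 11, nat_lit 17, nat_lit 26], (nat_lit 3041)), ((nat_lit 3210), [nat_lit 8, nat_lit 3, nat_lit 2, nat_lit 3, nat_lit 4, nat_lit 8, nat_lit 4, nat_lit 1, nat_lit 2, nat_lit 3, nat_lit 0, nat_lit 1], [nat_lit 10, nat_lit 10, nat_lit 0, nat_lit 27, nat_lit 37, nat_lit 26], (nat_lit 2940)), ((nat_lit 3180), [nat_lit 4, nat_lit 7, nat_lit 4, nat_lit 7, nat_lit 3, nat_lit 1, nat_lit 2, nat_lit 3, nat_lit 4, nat_lit 8, nat_lit 4, nat_lit 3, nat_lit 2, nat_lit 3, nat_lit 1],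 [nat_lit 5, nat_lit 14, nat_lit 17, nat_lit 33, nat_lit 26], (nat_lit 12903)), ((nat_lit 3390), [nat_lit 8, nat_lit 4, nat_lit 3, nat_lit 2, nat_lit 3, nat_lit 1, nat_lit 2, nat_lit 3, nat_lit 4, nat_lit 7, nat_lit 4, nat_lit 7, nat_lit 3, nat_lit 2, nat_lit 3, nat_lit 1], [nat_lit 24, nat_lit 0, nat_lit 15, nat_lit 32, nat_lit 15, nat_lit 27], (nat_lit 16405)), ((nat_lit 3386), [nat_lit 8, nat_lit 6, nat_lit 4, nat_lit 7, nat_lit 3, nat_lit 1, nat_lit 2, nat_lit 3, nat_lit 4, nat_lit 3, nat_lit 2, nat_lit 3, nat_lit 0, nat_lit 1], [nat_lit 14, nat_lit 0, nat_lit 16, nat_lit 37], (nat_lit 7588)), ((nat_lit 3196), [nat_lit 7, nat_lit 4, nat_lit 7, nat_lit 2, nat_lit 3, nat_lit 1, nat_lit 2, nat_lit 3, nat_lit 4, nat_lit 3, nat_lit 2, nat_lit 3, nat_lit 0, nat_lit 1], [nat_lit 2, nat_lit 37, nat_lit 11, nat_lit 27], (nat_lit 7574)), ((nat_lit 3314), [nat_lit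 8, nat_lit 4, nat_lit 8, nat_lit 3, nat_lit 1, nat_lit 2, nat_lit 3, nat_lit 4, nat_lit 7, nat_lit 4, nat_lit 3, nat_lit 2, nat_lit 3, nat_lit 1], [nat_lit 15, nat_lit 2, nat_lit 25, nat_lit 16, nat_lit 16, nat_lit 26], (nat_lit 9166)), ((nat_lit 3152), [nat_lit 8, nat_lit 5, nat_lit 2, nat_lit 3, nat_lit 1, nat_lit 2, nat_lit 3, nat_lit 4, nat_lit 7, nat_lit 4, nat_lit 3, nat_lit 2, nat_lit 3, nat_lit 0, nat_lit 1], [nat_lit 1, nat_lit 24, nat_lit 0, nat_lit 37, nat_lit 15, nat_lit 11, nat_lit 26], (nat_lit 11359)), ((nat_lit 3462), [nat_lit 7, nat_lit 7, nat_lit 4, nat_lit 7, nat_lit 3, nat_lit 0, nat_lit 1, nat_lit 2, nat_lit 3, nat_lit 4, nat_lit 8, nat_lit 3, nat_lit 2, nat_lit 3, nat_lit 1], [nat_lit 11, nat_lit 5, nat_lit 2, nat_lit 18, nat_lit 27], (nat_lit 13073)), ((nat_lit 3446), [nat_lit 6, nat_lit 7, nat_lit 4, nat_lit 3, nat_lit 0, nat_lit 1],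 [nat_lit 1, nat_lit 5, nat_lit 37, nat_lit 32, nat_lit 27], (nat_lit 153)), ((nat_lit 3392), [nat_lit 5, nat_lit 7, nat_lit 2, nat_lit 3, nat_lit 1, nat_lit 2, nat_lit 3, nat_lit 4, nat_lit 7, nat_lit 3, nat_lit 2, nat_lit 3, nat_lit 0, nat_lit 1], [nat_lit 26, nat_lit 2, nat_lit 33, nat_lit 24, nat_lit 11, nat_lit 27], (nat_lit 7935)), ((nat_lit 3316), [nat_lit 5, nat_lit 7, nat_lit 4, nat_lit 2, nat_lit 3, nat_lit 0, nat_lit 1, nat_lit 2, nat_lit 3, nat_lit 4, nat_lit 7, nat_lit 4, nat_lit 3, nat_lit 2, nat_lit 3, nat_lit 1], [nat_lit 24, nat_lit 2, nat_lit 0, nat_lit 15, nat_lit 24, nat_lit 26], (nat_lit 16031)), ((nat_lit 3250), [nat_lit 8, nat_lit 5, nat_lit 4, nat_lit 7, nat_lit 1, nat_lit 2, nat_lit 3, nat_lit 0, nat_lit 1], [nat_lit 14, nat_lit 25, nat_lit 15, nat_lit 26], (nat_lit 638)), ((nat_lit 3172), [nat_lit 8, nat_lit 4, nat_lit 7, nat_lit 0,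 nat_lit 1, nat_lit 2, nat_lit 3, nat_lit 4, nat_lit 2, nat_lit 3, nat_lit 1], [nat_lit 1, nat_lit 36, nat_lit 25, nat_lit 11, nat_lit 26], (nat_lit 2432)), ((nat_lit 3244), [nat_lit 5, nat_lit 7, nat_lit 4, nat_lit 1, nat_lit 2, nat_lit 3, nat_lit 0, nat_lit 1], [nat_lit 24, nat_lit 37, nat_lit 15, nat_lit 26], (nat_lit 378)), ((nat_lit 3452), [nat_lit 7, nat_lit 4, nat_lit 8, nat_lit 3, nat_lit 0, nat_lit 1, nat_lit 2, nat_lit 3, nat_lit 4, nat_lit 7, nat_lit 3, nat_lit 2, nat_lit 3, nat_lit 1], [nat_lit 24, nat_lit 15, nat_lit 0, nat_lit 25, nat_lit 33, nat_lit 15], (nat_lit 9463)), ((nat_lit 3242), [nat_lit 3, nat_lit 1, nat_lit 2, nat_lit 3, nat_lit 4, nat_lit 8, nat_lit 4, nat_lit 8, nat_lit 1, nat_lit 2, nat_lit 3, nat_lit 4, nat_lit 3, nat_lit 2, nat_lit 3, nat_lit 1], [nat_lit 10, nat_lit 0, nat_lit 37, nat_lit 32, nat_lit 27], (nat_lit 15795)), ((nat_lit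 3456), [nat_lit 6, nat_lit 4, nat_lit 8, nat_lit 3, nat_lit 1, nat_lit 2, nat_lit 3, nat_lit 4, nat_lit 3, nat_lit 2, nat_lit 3, nat_lit 1], [nat_lit 25, nat_lit 16, nat_lit 0, nat_lit 18, nat_lit 16, nat_lit 11], (nat_lit 3658)), ((nat_lit 3190), [nat_lit 8, nat_lit 4, nat_lit 7, nat_lit 6, nat_lit 2, nat_lit 3, nat_lit 1, nat_lit 2, nat_lit 3, nat_lit 4, nat_lit 8, nat_lit 3, nat_lit 2, nat_lit 3, nat_lit 1], [nat_lit 24, nat_lit 15, nat_lit 0, nat_lit 24, nat_lit 15, nat_lit 27], (nat_lit 13115)), ((nat_lit 3494), [nat_lit 8, nat_lit 6, nat_lit 4, nat_lit 7, nat_lit 3, nat_lit 2, nat_lit 3, nat_lit 4, nat_lit 7, nat_lit 3, nat_lit 2, nat_lit 3, nat_lit 0, nat_lit 1], [nat_lit 2, nat_lit 16, nat_lit 27], (nat_lit 7991)), ((nat_lit 3432), [nat_lit 7, nat_lit 4, nat_lit 1, nat_lit 2, nat_lit 3, nat_lit 0, nat_lit 1], [nat_lit 26, nat_lit 17, nat_lit 15], (nat_lit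 227)), ((nat_lit 3236), [nat_lit 7, nat_lit 4, nat_lit 7, nat_lit 5, nat_lit 3, nat_lit 1, nat_lit 2, nat_lit 3, nat_lit 4, nat_lit 8, nat_lit 3, nat_lit 2, nat_lit 3, nat_lit 0, nat_lit 1], [nat_lit 11, nat_lit 5, nat_lit 2, nat_lit 34, nat_lit 25, nat_lit 11, nat_lit 27], (nat_lit 11432)), ((nat_lit 3260), [nat_lit 7, nat_lit 4, nat_lit 1, nat_lit 2, nat_lit 3, nat_lit 2, nat_lit 3, nat_lit 4, nat_lit 7, nat_lit 3, nat_lit 4, nat_lit 2, nat_lit 3, nat_lit 1], [nat_lit 24, nat_lit 15, nat_lit 0, nat_lit 24, nat_lit 36, nat_lit 16, nat_lit 27], (nat_lit 10207)), ((nat_lit 3470), [nat_lit 8, nat_lit 5, nat_lit 4, nat_lit 8, nat_lit 1, nat_lit 2, nat_lit 3, nat_lit 0, nat_lit 1, nat_lit 2, nat_lit 3, nat_lit 4, nat_lit 3, nat_lit 2, nat_lit 3, nat_lit 1], [nat_lit 1, nat_lit 36, nat_lit 16, nat_lit 11], (nat_lit 15657)), ((nat_lit 3282), [nat_lit 8, nat_lit 4,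 nat_lit 8, nat_lit 2, nat_lit 3, nat_lit 4, nat_lit 8, nat_lit 4, nat_lit 3, nat_lit 1, nat_lit 2, nat_lit 3, nat_lit 0, nat_lit 1], [nat_lit 14, nat_lit 15, nat_lit 0, nat_lit 37, nat_lit 24, nat_lit 11], (nat_lit 7253)), ((nat_lit 3186), [nat_lit 6, nat_lit 0, nat_lit 1, nat_lit 2, nat_lit 3, nat_lit 4, nat_lit 8, nat_lit 1, nat_lit 2, nat_lit 3, nat_lit 4, nat_lit 8, nat_lit 2, nat_lit 3, nat_lit 0, nat_lit 1], [nat_lit 18, nat_lit 15, nat_lit 0], (nat_lit 15452)), ((nat_lit 3436), [nat_lit 8, nat_lit 4, nat_lit 7, nat_lit 5, nat_lit 0, nat_lit 1, nat_lit 2, nat_lit 3, nat_lit 4, nat_lit 8, nat_lit 2, nat_lit 3, nat_lit 1], [nat_lit 24, nat_lit 37, nat_lit 17, nat_lit 26], (nat_lit 6839)), ((nat_lit 3302), [nat_lit 8, nat_lit 3, nat_lit 4, nat_lit 7, nat_lit 3, nat_lit 2, nat_lit 3, nat_lit 0, nat_lit 1], [nat_lit 16, nat_lit 5, nat_lit 2, nat_lit 16, nat_lit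 16], (nat_lit 681)), ((nat_lit 3294), [nat_lit 7, nat_lit 4, nat_lit 8, nat_lit 3, nat_lit 0, nat_lit 1, nat_lit 2, nat_lit 3, nat_lit 4, nat_lit 8, nat_lit 3, nat_lit 2, nat_lit 3, nat_lit 1], [nat_lit 11, nat_lit 5, nat_lit 2, nat_lit 33, nat_lit 36, nat_lit 11, nat_lit 26], (nat_lit 9222)), ((nat_lit 3194), [nat_lit 8, nat_lit 3, nat_lit 4, nat_lit 8, nat_lit 0, nat_lit 1, nat_lit 2, nat_lit 3, nat_lit 4, nat_lit 8, nat_lit 3, nat_lit 1, nat_lit 2, nat_lit 3, nat_lit 0, nat_lit 1], [nat_lit 0, nat_lit 32, nat_lit 32, nat_lit 27], (nat_lit 14710)), ((nat_lit 3384), [nat_lit 4, nat_lit 2, nat_lit 3, nat_lit 0, nat_lit 1, nat_lit 2, nat_lit 3, nat_lit 4, nat_lit 7, nat_lit 4, nat_lit 2, nat_lit 3, nat_lit 1], [nat_lit 5, nat_lit 27, nat_lit 24, nat_lit 11, nat_lit 26], (nat_lit 6791)), ((nat_lit 3336), [nat_lit 6, nat_lit 7, nat_lit 4, nat_lit 8, nat_lit 2,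 nat_lit 3, nat_lit 4, nat_lit 8, nat_lit 2, nat_lit 3, nat_lit 4, nat_lit 3, nat_lit 2, nat_lit 3, nat_lit 1], [nat_lit 18, nat_lit 15, nat_lit 0, nat_lit 37], (nat_lit 12642)), ((nat_lit 3252), [nat_lit 3, nat_lit 2, nat_lit 3, nat_lit 4, nat_lit 8, nat_lit 2, nat_lit 3, nat_lit 4, nat_lit 8, nat_lit 2, nat_lit 3, nat_lit 4, nat_lit 7, nat_lit 2, nat_lit 3, nat_lit 1], [nat_lit 26, nat_lit 2, nat_lit 24, nat_lit 36], (nat_lit 16813)), ((nat_lit 3428), [nat_lit 4, nat_lit 2, nat_lit 3, nat_lit 1, nat_lit 2, nat_lit 3, nat_lit 4, nat_lit 8, nat_lit 4, nat_lit 3, nat_lit 2, nat_lit 3, nat_lit 1], [nat_lit 25, nat_lit 0, nat_lit 33, nat_lit 11, nat_lit 26], (nat_lit 5927)), ((nat_lit 3408), [nat_lit 7, nat_lit 7, nat_lit 4, nat_lit 7, nat_lit 2, nat_lit 3, nat_lit 0, nat_lit 1, nat_lit 2, nat_lit 3, nat_lit 4, nat_lit 7, nat_lit 3, nat_lit 2, nat_lit 3, nat_lit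 0, nat_lit 1], [nat_lit 25, nat_lit 0, nat_lit 34, nat_lit 17, nat_lit 11], (nat_lit 16938)), ((nat_lit 3146), [nat_lit 8, nat_lit 4, nat_lit 7, nat_lit 3, nat_lit 0, nat_lit 1, nat_lit 2, nat_lit 3, nat_lit 4, nat_lit 7, nat_lit 3, nat_lit 2, nat_lit 3, nat_lit 1], [nat_lit 0, nat_lit 2, nat_lit 25, nat_lit 11, nat_lit 26], (nat_lit 9468)), ((nat_lit 3454), [nat_lit 7, nat_lit 4, nat_lit 7, nat_lit 3, nat_lit 0, nat_lit 1, nat_lit 2, nat_lit 3, nat_lit 4, nat_lit 8, nat_lit 3, nat_lit 2, nat_lit 3, nat_lit 0, nat_lit 1], [nat_lit 10, nat_lit 0, nat_lit 35, nat_lit 36, nat_lit 11, nat_lit 26], (nat_lit 11387)), ((nat_lit 3266), [nat_lit 8, nat_lit 5, nat_lit 3, nat_lit 1, nat_lit 2, nat_lit 3, nat_lit 4, nat_lit 7, nat_lit 0, nat_lit 1, nat_lit 2, nat_lit 3, nat_lit 4, nat_lit 2, nat_lit 3, nat_lit 1], [nat_lit 14, nat_lit 15, nat_lit 0, nat_lit 26, nat_lit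 15], (nat_lit 16415)), ((nat_lit 3212), [nat_lit 7, nat_lit 0, nat_lit 1, nat_lit 2, nat_lit 3, nat_lit 4, nat_lit 8, nat_lit 3, nat_lit 4, nat_lit 1, nat_lit 2, nat_lit 3, nat_lit 0, nat_lit 1], [nat_lit 15, nat_lit 1, nat_lit 15, nat_lit 35, nat_lit 11, nat_lit 27], (nat_lit 7366)), ((nat_lit 3490), [nat_lit 5, nat_lit 8, nat_lit 4, nat_lit 7, nat_lit 1, nat_lit 2, nat_lit 3, nat_lit 4, nat_lit 7, nat_lit 4, nat_lit 2, nat_lit 3, nat_lit 0, nat_lit 1], [nat_lit 5, nat_lit 2, nat_lit 25, nat_lit 36, nat_lit 11], (nat_lit 8338)), ((nat_lit 3158), [nat_lit 8, nat_lit 4, nat_lit 7, nat_lit 0, nat_lit 1, nat_lit 2, nat_lit 3, nat_lit 4, nat_lit 7, nat_lit 2, nat_lit 3, nat_lit 1], [nat_lit 24, nat_lit 1, nat_lit 15, nat_lit 11, nat_lit 26], (nat_lit 4413)), ((nat_lit 3248), [nat_lit 8, nat_lit 5, nat_lit 4, nat_lit 8, nat_lit 3, nat_lit 4, nat_lit 8, nat_lit 2,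 nat_lit 3, nat_lit 4, nat_lit 7, nat_lit 2, nat_lit 3, nat_lit 0, nat_lit 1], [nat_lit 15, nat_lit 5, nat_lit 18, nat_lit 35], (nat_lit 12342)), ((nat_lit 3444), [nat_lit 3, nat_lit 4, nat_lit 8, nat_lit 2, nat_lit 3, nat_lit 4, nat_lit 7, nat_lit 2, nat_lit 3, nat_lit 4, nat_lit 7, nat_lit 3, nat_lit 2, nat_lit 3, nat_lit 1], [nat_lit 24, nat_lit 0, nat_lit 34, nat_lit 25, nat_lit 11, nat_lit 26], (nat_lit 13555)), ((nat_lit 3306), [nat_lit 7, nat_lit 5, nat_lit 2, nat_lit 3, nat_lit 4, nat_lit 7, nat_lit 0, nat_lit 1, nat_lit 2, nat_lit 3, nat_lit 4, nat_lit 3, nat_lit 2, nat_lit 3, nat_lit 1], [nat_lit 25, nat_lit 2, nat_lit 0, nat_lit 24, nat_lit 37, nat_lit 17, nat_lit 27], (nat_lit 12461)), ((nat_lit 3482), [nat_lit 7, nat_lit 5, nat_lit 3, nat_lit 4, nat_lit 7, nat_lit 1, nat_lit 2, nat_lit 3, nat_lit 4, nat_lit 7, nat_lit 2, nat_lit 3, nat_lit 1], [nat_lit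 1, nat_lit 14, nat_lit 16, nat_lit 24, nat_lit 27], (nat_lit 7088)), ((nat_lit 3420), [nat_lit 6, nat_lit 4, nat_lit 7, nat_lit 0, nat_lit 1, nat_lit 2, nat_lit 3, nat_lit 4, nat_lit 8, nat_lit 3, nat_lit 2, nat_lit 3, nat_lit 0, nat_lit 1], [nat_lit 24, nat_lit 0, nat_lit 16, nat_lit 16, nat_lit 11], (nat_lit 7792)), ((nat_lit 3370), [nat_lit 7, nat_lit 0, nat_lit 1, nat_lit 2, nat_lit 3, nat_lit 4, nat_lit 8, nat_lit 3, nat_lit 4, nat_lit 3, nat_lit 2, nat_lit 3, nat_lit 1], [nat_lit 26, nat_lit 24, nat_lit 0, nat_lit 15, nat_lit 18, nat_lit 11, nat_lit 27], (nat_lit 5858)), ((nat_lit 3396), [nat_lit 6, nat_lit 8, nat_lit 1, nat_lit 2, nat_lit 3, nat_lit 4, nat_lit 8, nat_lit 3, nat_lit 4, nat_lit 7, nat_lit 2, nat_lit 3, nat_lit 0, nat_lit 1], [nat_lit 15, nat_lit 0, nat_lit 33, nat_lit 24], (nat_lit 8425)), ((nat_lit 3198), [nat_lit 5, nat_lit 7, nat_lit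 1, nat_lit 2, nat_lit 3, nat_lit 4, nat_lit 7, nat_lit 3, nat_lit 4, nat_lit 1, nat_lit 2, nat_lit 3, nat_lit 0, nat_lit 1], [nat_lit 24, nat_lit 15, nat_lit 0, nat_lit 34, nat_lit 34, nat_lit 15, nat_lit 26], (nat_lit 7391)), ((nat_lit 3148), [nat_lit 7, nat_lit 4, nat_lit 8, nat_lit 2, nat_lit 3, nat_lit 1, nat_lit 2, nat_lit 3, nat_lit 4, nat_lit 7, nat_lit 3, nat_lit 4, nat_lit 3, nat_lit 2, nat_lit 3, nat_lit 1], [nat_lit 25, nat_lit 2, nat_lit 0, nat_lit 33, nat_lit 11, nat_lit 16, nat_lit 26], (nat_lit 15942)), ((nat_lit 3464), [nat_lit 4, nat_lit 7, nat_lit 3, nat_lit 4, nat_lit 7, nat_lit 0, nat_lit 1, nat_lit 2, nat_lit 3, nat_lit 4, nat_lit 8, nat_lit 3, nat_lit 2, nat_lit 3, nat_lit 1], [nat_lit 0, nat_lit 2, nat_lit 15, nat_lit 32, nat_lit 27], (nat_lit 13100)), ((nat_lit 3324), [nat_lit 5, nat_lit 8, nat_lit 4, nat_lit 1, nat_lit 2, nat_lit 3,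 nat_lit 2, nat_lit 3, nat_lit 4, nat_lit 8, nat_lit 3, nat_lit 4, nat_lit 2, nat_lit 3, nat_lit 1], [nat_lit 2, nat_lit 0, nat_lit 18, nat_lit 35, nat_lit 15, nat_lit 26], (nat_lit 14007)), ((nat_lit 3218), [nat_lit 4, nat_lit 8, nat_lit 4, nat_lit 8, nat_lit 1, nat_lit 2, nat_lit 3, nat_lit 4, nat_lit 1, nat_lit 2, nat_lit 3, nat_lit 0, nat_lit 1], [nat_lit 5, nat_lit 0, nat_lit 25, nat_lit 33, nat_lit 15, nat_lit 26], (nat_lit 4684)), ((nat_lit 3426), [nat_lit 2, nat_lit 3, nat_lit 0, nat_lit 1, nat_lit 2, nat_lit 3, nat_lit 4, nat_lit 8, nat_lit 3, nat_lit 4, nat_lit 2, nat_lit 3, nat_lit 1], [nat_lit 14, nat_lit 15, nat_lit 0, nat_lit 26, nat_lit 36, nat_lit 26], (nat_lit 6569)), ((nat_lit 3168), [nat_lit 6, nat_lit 4, nat_lit 8, nat_lit 2, nat_lit 3, nat_lit 4, nat_lit 8, nat_lit 1, nat_lit 2, nat_lit 3, nat_lit 4, nat_lit 8, nat_lit 2, nat_lit 3, nat_lit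 0, nat_lit 1], [nat_lit 16, nat_lit 5, nat_lit 2, nat_lit 32, nat_lit 24, nat_lit 26], (nat_lit 15459)), ((nat_lit 3416), [nat_lit 8, nat_lit 5, nat_lit 4, nat_lit 7, nat_lit 3, nat_lit 4, nat_lit 7, nat_lit 3, nat_lit 2, nat_lit 3, nat_lit 1], [nat_lit 2, nat_lit 0, nat_lit 32], (nat_lit 2416)), ((nat_lit 3448), [nat_lit 2, nat_lit 3, nat_lit 4, nat_lit 7, nat_lit 2, nat_lit 3, nat_lit 4, nat_lit 7, nat_lit 5, nat_lit 2, nat_lit 3, nat_lit 4, nat_lit 7, nat_lit 4, nat_lit 2, nat_lit 3, nat_lit 1], [nat_lit 24, nat_lit 15, nat_lit 0, nat_lit 32, nat_lit 16, nat_lit 27], (nat_lit 17188)), ((nat_lit 3496), [nat_lit 8, nat_lit 1, nat_lit 2, nat_lit 3, nat_lit 4, nat_lit 7, nat_lit 0, nat_lit 1, nat_lit 2, nat_lit 3, nat_lit 4, nat_lit 2, nat_lit 3, nat_lit 0, nat_lit 1], [nat_lit 25, nat_lit 14, nat_lit 0, nat_lit 35, nat_lit 36, nat_lit 11, nat_lit 26], (nat_lit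 11695)), ((nat_lit 3192), [nat_lit 4, nat_lit 8, nat_lit 3, nat_lit 4, nat_lit 8, nat_lit 3, nat_lit 0, nat_lit 1, nat_lit 2, nat_lit 3, nat_lit 4, nat_lit 7, nat_lit 3, nat_lit 2, nat_lit 3, nat_lit 0, nat_lit 1], [nat_lit 18, nat_lit 15, nat_lit 0, nat_lit 35], (nat_lit 16946)), ((nat_lit 3422), [nat_lit 6, nat_lit 7, nat_lit 3, nat_lit 2, nat_lit 3, nat_lit 4, nat_lit 8, nat_lit 3, nat_lit 2, nat_lit 3, nat_lit 0, nat_lit 1], [nat_lit 16, nat_lit 5, nat_lit 0, nat_lit 35, nat_lit 36], (nat_lit 3240)), ((nat_lit 3176), [nat_lit 8, nat_lit 4, nat_lit 7, nat_lit 7, nat_lit 3, nat_lit 2, nat_lit 3, nat_lit 4, nat_lit 8, nat_lit 3, nat_lit 4, nat_lit 2, nat_lit 3, nat_lit 0, nat_lit 1], [nat_lit 24, nat_lit 1, nat_lit 24, nat_lit 24, nat_lit 11], (nat_lit 11888)), ((nat_lit 3492), [nat_lit 0, nat_lit 1, nat_lit 2, nat_lit 3, nat_lit 4, nat_lit 8, nat_lit 5, nat_lit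 2, nat_lit 3, nat_lit 4, nat_lit 8, nat_lit 2, nat_lit 3, nat_lit 1], [nat_lit 1, nat_lit 1, nat_lit 25, nat_lit 36, nat_lit 15], (nat_lit 10476)), ((nat_lit 3480), [nat_lit 6, nat_lit 8, nat_lit 4, nat_lit 7, nat_lit 3, nat_lit 4, nat_lit 7, nat_lit 2, nat_lit 3, nat_lit 4, nat_lit 8, nat_lit 2, nat_lit 3, nat_lit 1], [nat_lit 5, nat_lit 2, nat_lit 0, nat_lit 24, nat_lit 11, nat_lit 26], (nat_lit 10606)), ((nat_lit 3334), [nat_lit 8, nat_lit 3, nat_lit 4, nat_lit 7, nat_lit 3, nat_lit 2, nat_lit 3, nat_lit 4, nat_lit 8, nat_lit 3, nat_lit 2, nat_lit 3, nat_lit 0, nat_lit 1], [nat_lit 0, nat_lit 2, nat_lit 27], (nat_lit 7859)), ((nat_lit 3166), [nat_lit 2, nat_lit 3, nat_lit 4, nat_lit 8, nat_lit 1, nat_lit 2, nat_lit 3, nat_lit 4, nat_lit 8, nat_lit 3, nat_lit 2, nat_lit 3, nat_lit 0, nat_lit 1], [nat_lit 5, nat_lit 2, nat_lit 34, nat_lit 17, nat_lit 11, nat_lit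 26], (nat_lit 7824)), ((nat_lit 3484), [nat_lit 7, nat_lit 3, nat_lit 4, nat_lit 8, nat_lit 8, nat_lit 1, nat_lit 2, nat_lit 3, nat_lit 4, nat_lit 7, nat_lit 2, nat_lit 3, nat_lit 0, nat_lit 1], [nat_lit 16, nat_lit 5, nat_lit 0, nat_lit 33, nat_lit 34], (nat_lit 8584)), ((nat_lit 3286), [nat_lit 4, nat_lit 7, nat_lit 3, nat_lit 4, nat_lit 7, nat_lit 5, nat_lit 1, nat_lit 2, nat_lit 3, nat_lit 4, nat_lit 8, nat_lit 4, nat_lit 2, nat_lit 3, nat_lit 1], [nat_lit 24, nat_lit 15, nat_lit 0, nat_lit 26, nat_lit 15, nat_lit 15], (nat_lit 14202)), ((nat_lit 3170), [nat_lit 8, nat_lit 3, nat_lit 4, nat_lit 7, nat_lit 3, nat_lit 1, nat_lit 2, nat_lit 3, nat_lit 4, nat_lit 8, nat_lit 3, nat_lit 2, nat_lit 3, nat_lit 0, nat_lit 1], [nat_lit 24, nat_lit 16, nat_lit 0, nat_lit 24, nat_lit 17], (nat_lit 11444)), ((nat_lit 3208), [nat_lit 7, nat_lit 3, nat_lit 4, nat_lit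 8, nat_lit 8, nat_lit 3, nat_lit 1, nat_lit 2, nat_lit 3, nat_lit 4, nat_lit 7, nat_lit 3, nat_lit 2, nat_lit 3, nat_lit 0, nat_lit 1], [nat_lit 5, nat_lit 2, nat_lit 0, nat_lit 33, nat_lit 25], (nat_lit 15143)), ((nat_lit 3394), [nat_lit 3, nat_lit 4, nat_lit 8, nat_lit 3, nat_lit 2, nat_lit 3, nat_lit 4, nat_lit 7, nat_lit 2, nat_lit 3, nat_lit 4, nat_lit 3, nat_lit 2, nat_lit 3, nat_lit 1], [nat_lit 24, nat_lit 0, nat_lit 37, nat_lit 34, nat_lit 25, nat_lit 27], (nat_lit 12660)), ((nat_lit 3232), [nat_lit 7, nat_lit 2, nat_lit 3, nat_lit 4, nat_lit 7, nat_lit 1, nat_lit 2, nat_lit 3, nat_lit 4, nat_lit 7, nat_lit 2, nat_lit 3, nat_lit 1], [nat_lit 5, nat_lit 2, nat_lit 0, nat_lit 34, nat_lit 17, nat_lit 11, nat_lit 27], (nat_lit 7087)), ((nat_lit 3476), [nat_lit 7, nat_lit 1, nat_lit 2, nat_lit 3, nat_lit 4, nat_lit 8, nat_lit 2, nat_lit 3, nat_lit 4, nat_lit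 7, nat_lit 2, nat_lit 3, nat_lit 0, nat_lit 1], [nat_lit 17, nat_lit 2, nat_lit 0, nat_lit 35, nat_lit 33, nat_lit 11, nat_lit 26], (nat_lit 8616)), ((nat_lit 3440), [nat_lit 8, nat_lit 8, nat_lit 4, nat_lit 7, nat_lit 3, nat_lit 4, nat_lit 8, nat_lit 1, nat_lit 2, nat_lit 3, nat_lit 0, nat_lit 1], [nat_lit 5, nat_lit 0, nat_lit 26, nat_lit 15, nat_lit 15, nat_lit 26], (nat_lit 3034)), ((nat_lit 3438), [nat_lit 2, nat_lit 3, nat_lit 4, nat_lit 7, nat_lit 1, nat_lit 2, nat_lit 3, nat_lit 4, nat_lit 8, nat_lit 4, nat_lit 2, nat_lit 3, nat_lit 1], [nat_lit 24, nat_lit 16, nat_lit 0, nat_lit 17, nat_lit 34, nat_lit 11], (nat_lit 6761)), ((nat_lit 3280), [nat_lit 8, nat_lit 4, nat_lit 7, nat_lit 3, nat_lit 2, nat_lit 3, nat_lit 1], [nat_lit 15, nat_lit 2, nat_lit 15], (nat_lit 304)), ((nat_lit 3406), [nat_lit 4, nat_lit 8, nat_lit 3, nat_lit 4, nat_lit 7, nat_lit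 2, nat_lit 3, nat_lit 4, nat_lit 8, nat_lit 4, nat_lit 2, nat_lit 3, nat_lit 1], [nat_lit 1, nat_lit 5, nat_lit 11, nat_lit 15, nat_lit 26], (nat_lit 6782)), ((nat_lit 3376), [nat_lit 8, nat_lit 8, nat_lit 4, nat_lit 8, nat_lit 3, nat_lit 4, nat_lit 8, nat_lit 2, nat_lit 3, nat_lit 4, nat_lit 7, nat_lit 3, nat_lit 2, nat_lit 3, nat_lit 1], [nat_lit 24, nat_lit 0, nat_lit 16, nat_lit 16, nat_lit 26], (nat_lit 13538)), ((nat_lit 3182), [nat_lit 8, nat_lit 3, nat_lit 4, nat_lit 7, nat_lit 3, nat_lit 4, nat_lit 8, nat_lit 2, nat_lit 3, nat_lit 4, nat_lit 8, nat_lit 3, nat_lit 2, nat_lit 3, nat_lit 1], [nat_lit 10, nat_lit 10, nat_lit 0, nat_lit 37, nat_lit 33, nat_lit 11], (nat_lit 13265)), ((nat_lit 3488), [nat_lit 7, nat_lit 4, nat_lit 8, nat_lit 0, nat_lit 1, nat_lit 2, nat_lit 3, nat_lit 4, nat_lit 7, nat_lit 3, nat_lit 2, nat_lit 3, nat_lit 1], [nat_lit 17,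 nat_lit 2, nat_lit 0, nat_lit 33, nat_lit 18, nat_lit 26], (nat_lit 6198)), ((nat_lit 3360), [nat_lit 8, nat_lit 4, nat_lit 8, nat_lit 6, nat_lit 0, nat_lit 1, nat_lit 2, nat_lit 3, nat_lit 4, nat_lit 8, nat_lit 2, nat_lit 3, nat_lit 1], [nat_lit 5, nat_lit 2, nat_lit 0, nat_lit 27, nat_lit 15], (nat_lit 6833)), ((nat_lit 3418), [nat_lit 5, nat_lit 8, nat_lit 4, nat_lit 7, nat_lit 3, nat_lit 2, nat_lit 3, nat_lit 4, nat_lit 8, nat_lit 3, nat_lit 4, nat_lit 2, nat_lit 3, nat_lit 0, nat_lit 1], [nat_lit 14, nat_lit 26, nat_lit 34, nat_lit 32, nat_lit 27], (nat_lit 11885)), ((nat_lit 3156), [nat_lit 8, nat_lit 6, nat_lit 0, nat_lit 1, nat_lit 2, nat_lit 3, nat_lit 4, nat_lit 8, nat_lit 3, nat_lit 2, nat_lit 3, nat_lit 1], [nat_lit 5, nat_lit 0, nat_lit 34, nat_lit 24, nat_lit 15, nat_lit 26], (nat_lit 3826))] (nat_lit 0) m8_5_1) = 0 := by decide +kernel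
theorem e8_5_2 : dt.run q (fun c => c.edges (SP THn.T THn.Rl (nat_lit 15)) (nat_lit 4429) THn.T.n (nat_lit 8) (nat_lit 5)
  [((nat_lit 3164), [nat_lit 7, nat_lit 6, nat_lit 3, nat_lit 4, nat_lit 8, nat_lit 2, nat_lit 3, nat_lit 4, nat_lit 7, nat_lit 2, nat_lit 3, nat_lit 1], [nat_lit 15, nat_lit 1, nat_lit 37, nat_lit 34, nat_lit 26], (nat_lit 4470)), ((nat_lit 3222), [nat_lit 6, nat_lit 3, nat_lit 4, nat_lit 8, nat_lit 2, nat_lit 3, nat_lit 4, nat_lit 7, nat_lit 3, nat_lit 2, nat_lit 3, nat_lit 0, nat_lit 1], [nat_lit 0, nat_lit 11, nat_lit 27], (nat_lit 5231)), ((nat_lit 3348), [nat_lit 5, nat_lit 2, nat_lit 3, nat_lit 4, nat_lit 8, nat_lit 2, nat_lit 3, nat_lit 1, nat_lit 2, nat_lit 3, nat_lit 4, nat_lit 3, nat_lit 2, nat_lit 3, nat_lit 1], [nat_lit 11, nat_lit 2, nat_lit 0, nat_lit 25, nat_lit 35, nat_lit 11, nat_lit 27], (nat_lit 12491)), ((nat_lit 3378),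 [nat_lit 2, nat_lit 3, nat_lit 4, nat_lit 8, nat_lit 4, nat_lit 8, nat_lit 1, nat_lit 2, nat_lit 3, nat_lit 4, nat_lit 2, nat_lit 3, nat_lit 0, nat_lit 1], [nat_lit 25, nat_lit 2, nat_lit 0, nat_lit 15, nat_lit 15, nat_lit 27], (nat_lit 8088)), ((nat_lit 3160), [nat_lit 4, nat_lit 7, nat_lit 5, nat_lit 1, nat_lit 2, nat_lit 3, nat_lit 4, nat_lit 8, nat_lit 1, nat_lit 2, nat_lit 3, nat_lit 4, nat_lit 7, nat_lit 3, nat_lit 2, nat_lit 3, nat_lit 1], [nat_lit 25, nat_lit 2, nat_lit 0, nat_lit 37, nat_lit 17, nat_lit 26], (nat_lit 17146)), ((nat_lit 3270), [nat_lit 7, nat_lit 5, nat_lit 2, nat_lit 3, nat_lit 2, nat_lit 3, nat_lit 4, nat_lit 8, nat_lit 3, nat_lit 4, nat_lit 2, nat_lit 3, nat_lit 1], [nat_lit 18, nat_lit 15, nat_lit 0, nat_lit 16, nat_lit 16, nat_lit 11], (nat_lit 6616)), ((nat_lit 3214), [nat_lit 6, nat_lit 4, nat_lit 3, nat_lit 2, nat_lit 3, nat_lit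 4, nat_lit 8, nat_lit 3, nat_lit 1, nat_lit 2, nat_lit 3, nat_lit 4, nat_lit 3, nat_lit 2, nat_lit 3, nat_lit 0, nat_lit 1], [nat_lit 16, nat_lit 0, nat_lit 24, nat_lit 18, nat_lit 18, nat_lit 27], (nat_lit 16857)), ((nat_lit 3346), [nat_lit 6, nat_lit 7, nat_lit 3, nat_lit 2, nat_lit 3, nat_lit 4, nat_lit 8, nat_lit 2, nat_lit 3, nat_lit 4, nat_lit 2, nat_lit 3, nat_lit 1], [nat_lit 17, nat_lit 24, nat_lit 0, nat_lit 33, nat_lit 33, nat_lit 26], (nat_lit 6449)), ((nat_lit 3296), [nat_lit 6, nat_lit 8, nat_lit 2, nat_lit 3, nat_lit 4, nat_lit 7, nat_lit 1, nat_lit 2, nat_lit 3, nat_lit 4, nat_lit 7, nat_lit 4, nat_lit 2, nat_lit 3, nat_lit 0, nat_lit 1], [nat_lit 0, nat_lit 2, nat_lit 34, nat_lit 11], (nat_lit 15414)), ((nat_lit 3202), [nat_lit 7, nat_lit 3, nat_lit 4, nat_lit 7, nat_lit 1, nat_lit 2, nat_lit 3, nat_lit 4, nat_lit 7, nat_lit 2, nat_lit 3, nat_lit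 4, nat_lit 2, nat_lit 3, nat_lit 1], [nat_lit 5, nat_lit 33, nat_lit 37, nat_lit 11], (nat_lit 13857)), ((nat_lit 3154), [nat_lit 4, nat_lit 2, nat_lit 3, nat_lit 1, nat_lit 2, nat_lit 3, nat_lit 4, nat_lit 7, nat_lit 3, nat_lit 4, nat_lit 8, nat_lit 3, nat_lit 4, nat_lit 2, nat_lit 3, nat_lit 0, nat_lit 1], [nat_lit 15, nat_lit 2, nat_lit 27, nat_lit 36, nat_lit 11, nat_lit 27], (nat_lit 17007)), ((nat_lit 3216), [nat_lit 7, nat_lit 5, nat_lit 0, nat_lit 1, nat_lit 2, nat_lit 3, nat_lit 4, nat_lit 7, nat_lit 4, nat_lit 3, nat_lit 1, nat_lit 2, nat_lit 3, nat_lit 0, nat_lit 1], [nat_lit 1, nat_lit 5, nat_lit 18, nat_lit 25], (nat_lit 10936)), ((nat_lit 3228), [nat_lit 2, nat_lit 3, nat_lit 0, nat_lit 1, nat_lit 2, nat_lit 3, nat_lit 4, nat_lit 8, nat_lit 3, nat_lit 4, nat_lit 7, nat_lit 2, nat_lit 3, nat_lit 1], [nat_lit 25, nat_lit 2, nat_lit 0, nat_lit 32,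 nat_lit 34, nat_lit 11], (nat_lit 10878)), ((nat_lit 3472), [nat_lit 6, nat_lit 4, nat_lit 8, nat_lit 3, nat_lit 2, nat_lit 3, nat_lit 4, nat_lit 8, nat_lit 3, nat_lit 4, nat_lit 3, nat_lit 2, nat_lit 3, nat_lit 0, nat_lit 1], [nat_lit 24, nat_lit 15, nat_lit 0, nat_lit 36, nat_lit 24, nat_lit 15], (nat_lit 11265)), ((nat_lit 3246), [nat_lit 5, nat_lit 4, nat_lit 8, nat_lit 3, nat_lit 4, nat_lit 7, nat_lit 0, nat_lit 1, nat_lit 2, nat_lit 3, nat_lit 4, nat_lit 2, nat_lit 3, nat_lit 0, nat_lit 1], [nat_lit 14, nat_lit 0, nat_lit 18, nat_lit 36, nat_lit 27], (nat_lit 11703)), ((nat_lit 3326), [nat_lit 6, nat_lit 7, nat_lit 4, nat_lit 8, nat_lit 1, nat_lit 2, nat_lit 3, nat_lit 4, nat_lit 8, nat_lit 2, nat_lit 3, nat_lit 4, nat_lit 3, nat_lit 2, nat_lit 3, nat_lit 1], [nat_lit 32], (nat_lit 15828)), ((nat_lit 3234), [nat_lit 6, nat_lit 4, nat_lit 7, nat_lit 2,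 nat_lit 3, nat_lit 4, nat_lit 8, nat_lit 1, nat_lit 2, nat_lit 3, nat_lit 4, nat_lit 2, nat_lit 3, nat_lit 0, nat_lit 1], [nat_lit 24, nat_lit 16, nat_lit 0, nat_lit 24, nat_lit 15, nat_lit 27], (nat_lit 11731)), ((nat_lit 3254), [nat_lit 8, nat_lit 4, nat_lit 7, nat_lit 1, nat_lit 2, nat_lit 3, nat_lit 4, nat_lit 8, nat_lit 4, nat_lit 1, nat_lit 2, nat_lit 3, nat_lit 0, nat_lit 1], [nat_lit 15, nat_lit 5, nat_lit 24, nat_lit 24, nat_lit 27], (nat_lit 7407)), ((nat_lit 3350), [nat_lit 8, nat_lit 4, nat_lit 8, nat_lit 8, nat_lit 2, nat_lit 3, nat_lit 4, nat_lit 8, nat_lit 2, nat_lit 3, nat_lit 4, nat_lit 8, nat_lit 2, nat_lit 3, nat_lit 0, nat_lit 1], [nat_lit 2, nat_lit 27, nat_lit 37, nat_lit 26], (nat_lit 15525)), ((nat_lit 3318), [nat_lit 6, nat_lit 4, nat_lit 7, nat_lit 3, nat_lit 4, nat_lit 7, nat_lit 0, nat_lit 1, nat_lit 2, nat_lit 3, nat_lit 4, nat_lit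 7, nat_lit 2, nat_lit 3, nat_lit 1], [nat_lit 24, nat_lit 2, nat_lit 0, nat_lit 37, nat_lit 18, nat_lit 15, nat_lit 26], (nat_lit 14503)), ((nat_lit 3372), [nat_lit 4, nat_lit 7, nat_lit 3, nat_lit 2, nat_lit 3, nat_lit 4, nat_lit 7, nat_lit 2, nat_lit 3, nat_lit 4, nat_lit 7, nat_lit 2, nat_lit 3, nat_lit 1], [nat_lit 14, nat_lit 0, nat_lit 26], (nat_lit 10829)), ((nat_lit 3206), [nat_lit 3, nat_lit 4, nat_lit 8, nat_lit 2, nat_lit 3, nat_lit 2, nat_lit 3, nat_lit 4, nat_lit 7, nat_lit 3, nat_lit 4, nat_lit 3, nat_lit 2, nat_lit 3, nat_lit 1], [nat_lit 5, nat_lit 2, nat_lit 15, nat_lit 24, nat_lit 11], (nat_lit 12793)), ((nat_lit 3272), [nat_lit 3, nat_lit 4, nat_lit 7, nat_lit 3, nat_lit 2, nat_lit 3, nat_lit 4, nat_lit 8, nat_lit 4, nat_lit 3, nat_lit 2, nat_lit 3, nat_lit 1], [nat_lit 14, nat_lit 15, nat_lit 0, nat_lit 17, nat_lit 34, nat_lit 11, nat_lit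 26], (nat_lit 5956)), ((nat_lit 3274), [nat_lit 3, nat_lit 4, nat_lit 8, nat_lit 3, nat_lit 2, nat_lit 3, nat_lit 4, nat_lit 7, nat_lit 2, nat_lit 3, nat_lit 4, nat_lit 8, nat_lit 2, nat_lit 3, nat_lit 1], [nat_lit 25, nat_lit 16, nat_lit 0, nat_lit 36, nat_lit 25, nat_lit 11, nat_lit 26], (nat_lit 14421)), ((nat_lit 3262), [nat_lit 5, nat_lit 8, nat_lit 4, nat_lit 7, nat_lit 3, nat_lit 4, nat_lit 7, nat_lit 2, nat_lit 3, nat_lit 4, nat_lit 7, nat_lit 2, nat_lit 3, nat_lit 0, nat_lit 1], [nat_lit 16, nat_lit 0, nat_lit 18, nat_lit 18], (nat_lit 12370)), ((nat_lit 3308), [nat_lit 5, nat_lit 7, nat_lit 0, nat_lit 1, nat_lit 2, nat_lit 3, nat_lit 4, nat_lit 7, nat_lit 2, nat_lit 3, nat_lit 4, nat_lit 8, nat_lit 2, nat_lit 3, nat_lit 1], [nat_lit 16, nat_lit 2, nat_lit 34, nat_lit 25, nat_lit 11, nat_lit 27], (nat_lit 14395)), ((nat_lit 3368), [nat_lit 8, nat_lit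 4, nat_lit 7, nat_lit 3, nat_lit 4, nat_lit 7, nat_lit 1, nat_lit 2, nat_lit 3, nat_lit 4, nat_lit 2, nat_lit 3, nat_lit 1], [nat_lit 10, nat_lit 10, nat_lit 0, nat_lit 15, nat_lit 17, nat_lit 11, nat_lit 26], (nat_lit 6418)), ((nat_lit 3382), [nat_lit 8, nat_lit 3, nat_lit 4, nat_lit 7, nat_lit 2, nat_lit 3, nat_lit 4, nat_lit 3, nat_lit 2, nat_lit 3, nat_lit 1], [nat_lit 5, nat_lit 0, nat_lit 33, nat_lit 26], (nat_lit 2241)), ((nat_lit 3412), [nat_lit 8, nat_lit 1, nat_lit 2, nat_lit 3, nat_lit 4, nat_lit 7, nat_lit 4, nat_lit 2, nat_lit 3, nat_lit 1], [nat_lit 15, nat_lit 1, nat_lit 33, nat_lit 37, nat_lit 11, nat_lit 26], (nat_lit 1496)), ((nat_lit 3188), [nat_lit 3, nat_lit 2, nat_lit 3, nat_lit 4, nat_lit 8, nat_lit 3, nat_lit 4, nat_lit 7, nat_lit 2, nat_lit 3, nat_lit 4, nat_lit 7, nat_lit 3, nat_lit 2, nat_lit 3, nat_lit 1], [nat_lit 16, nat_lit 5,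 nat_lit 2, nat_lit 35, nat_lit 36, nat_lit 11], (nat_lit 16401)), ((nat_lit 3342), [nat_lit 8, nat_lit 4, nat_lit 7, nat_lit 1, nat_lit 2, nat_lit 3, nat_lit 4, nat_lit 7, nat_lit 2, nat_lit 3, nat_lit 4, nat_lit 7, nat_lit 2, nat_lit 3, nat_lit 1], [nat_lit 2, nat_lit 25, nat_lit 35, nat_lit 26], (nat_lit 14637)), ((nat_lit 3374), [nat_lit 5, nat_lit 8, nat_lit 4, nat_lit 3, nat_lit 1, nat_lit 2, nat_lit 3, nat_lit 0, nat_lit 1], [nat_lit 15, nat_lit 1, nat_lit 37, nat_lit 17], (nat_lit 585)), ((nat_lit 3478), [nat_lit 7, nat_lit 5, nat_lit 3, nat_lit 4, nat_lit 8, nat_lit 3, nat_lit 4, nat_lit 3, nat_lit 1, nat_lit 2, nat_lit 3, nat_lit 0, nat_lit 1], [nat_lit 25, nat_lit 16, nat_lit 0, nat_lit 25, nat_lit 16, nat_lit 16], (nat_lit 4543)), ((nat_lit 3402), [nat_lit 3, nat_lit 0, nat_lit 1, nat_lit 2, nat_lit 3, nat_lit 4, nat_lit 8, nat_lit 4, nat_lit 8,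 nat_lit 1, nat_lit 2, nat_lit 3, nat_lit 4, nat_lit 2, nat_lit 3, nat_lit 0, nat_lit 1], [nat_lit 16, nat_lit 2, nat_lit 17, nat_lit 36, nat_lit 15, nat_lit 26], (nat_lit 16993)), ((nat_lit 3352), [nat_lit 7, nat_lit 5, nat_lit 4, nat_lit 3, nat_lit 2, nat_lit 3, nat_lit 4, nat_lit 7, nat_lit 2, nat_lit 3, nat_lit 4, nat_lit 2, nat_lit 3, nat_lit 1], [nat_lit 16, nat_lit 5, nat_lit 2, nat_lit 32, nat_lit 18, nat_lit 26], (nat_lit 9965)), ((nat_lit 3332), [nat_lit 4, nat_lit 7, nat_lit 2, nat_lit 3, nat_lit 1, nat_lit 2, nat_lit 3, nat_lit 4, nat_lit 8, nat_lit 2, nat_lit 3, nat_lit 4, nat_lit 3, nat_lit 2, nat_lit 3, nat_lit 1], [nat_lit 24, nat_lit 2, nat_lit 33, nat_lit 18, nat_lit 11], (nat_lit 15820)), ((nat_lit 3474), [nat_lit 7, nat_lit 1, nat_lit 2, nat_lit 3, nat_lit 4, nat_lit 8, nat_lit 8, nat_lit 2, nat_lit 3, nat_lit 4, nat_lit 8, nat_lit 2, nat_lit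 3, nat_lit 0, nat_lit 1], [nat_lit 11, nat_lit 2, nat_lit 0, nat_lit 33, nat_lit 16], (nat_lit 12159)), ((nat_lit 3226), [nat_lit 7, nat_lit 4, nat_lit 7, nat_lit 5, nat_lit 3, nat_lit 4, nat_lit 7, nat_lit 3, nat_lit 1, nat_lit 2, nat_lit 3, nat_lit 0, nat_lit 1], [nat_lit 1, nat_lit 5, nat_lit 17, nat_lit 16, nat_lit 27], (nat_lit 4653)), ((nat_lit 3414), [nat_lit 3, nat_lit 4, nat_lit 8, nat_lit 4, nat_lit 8, nat_lit 2, nat_lit 3, nat_lit 1, nat_lit 2, nat_lit 3, nat_lit 4, nat_lit 8, nat_lit 3, nat_lit 2, nat_lit 3, nat_lit 1], [nat_lit 16, nat_lit 5, nat_lit 2, nat_lit 25, nat_lit 16, nat_lit 16, nat_lit 27], (nat_lit 16197)), ((nat_lit 3322), [nat_lit 7, nat_lit 4, nat_lit 7, nat_lit 6, nat_lit 1, nat_lit 2, nat_lit 3, nat_lit 4, nat_lit 7, nat_lit 3, nat_lit 2, nat_lit 3, nat_lit 0, nat_lit 1], [nat_lit 16, nat_lit 5, nat_lit 0, nat_lit 34, nat_lit 24,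 nat_lit 15, nat_lit 26], (nat_lit 7952)), ((nat_lit 3320), [nat_lit 7, nat_lit 5, nat_lit 4, nat_lit 8, nat_lit 3, nat_lit 1, nat_lit 2, nat_lit 3, nat_lit 0, nat_lit 1], [nat_lit 1, nat_lit 14, nat_lit 17, nat_lit 25, nat_lit 15, nat_lit 26], (nat_lit 992)), ((nat_lit 3362), [nat_lit 4, nat_lit 8, nat_lit 2, nat_lit 3, nat_lit 4, nat_lit 7, nat_lit 1, nat_lit 2, nat_lit 3, nat_lit 4, nat_lit 3, nat_lit 2, nat_lit 3, nat_lit 0, nat_lit 1], [nat_lit 14, nat_lit 16, nat_lit 37, nat_lit 27], (nat_lit 11203)), ((nat_lit 3398), [nat_lit 7, nat_lit 2, nat_lit 3, nat_lit 4, nat_lit 7, nat_lit 2, nat_lit 3, nat_lit 4, nat_lit 7, nat_lit 3, nat_lit 4, nat_lit 2, nat_lit 3, nat_lit 1], [nat_lit 14, nat_lit 0, nat_lit 24, nat_lit 37, nat_lit 17, nat_lit 27], (nat_lit 10267)), ((nat_lit 3290), [nat_lit 6, nat_lit 7, nat_lit 4, nat_lit 7, nat_lit 3, nat_lit 4, nat_lit 8,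 nat_lit 3, nat_lit 2, nat_lit 3, nat_lit 0, nat_lit 1], [nat_lit 0, nat_lit 27, nat_lit 18, nat_lit 27], (nat_lit 3270)), ((nat_lit 3388), [nat_lit 4, nat_lit 8, nat_lit 1, nat_lit 2, nat_lit 3, nat_lit 4, nat_lit 7, nat_lit 1, nat_lit 2, nat_lit 3, nat_lit 4, nat_lit 7, nat_lit 3, nat_lit 2, nat_lit 3, nat_lit 0, nat_lit 1], [nat_lit 18, nat_lit 15, nat_lit 0, nat_lit 25, nat_lit 35], (nat_lit 16968)), ((nat_lit 3430), [nat_lit 5, nat_lit 3, nat_lit 2, nat_lit 3, nat_lit 4, nat_lit 8, nat_lit 2, nat_lit 3, nat_lit 4, nat_lit 2, nat_lit 3, nat_lit 1], [nat_lit 5, nat_lit 0, nat_lit 33, nat_lit 33, nat_lit 11, nat_lit 27], (nat_lit 4062)), ((nat_lit 3238), [nat_lit 7, nat_lit 7, nat_lit 4, nat_lit 8, nat_lit 3, nat_lit 4, nat_lit 8, nat_lit 2, nat_lit 3, nat_lit 4, nat_lit 8, nat_lit 2, nat_lit 3, nat_lit 1], [nat_lit 0, nat_lit 2, nat_lit 34, nat_lit 34], (nat_lit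 10525)), ((nat_lit 3178), [nat_lit 7, nat_lit 4, nat_lit 7, nat_lit 1, nat_lit 2, nat_lit 3, nat_lit 4, nat_lit 8, nat_lit 2, nat_lit 3, nat_lit 0, nat_lit 1], [nat_lit 25, nat_lit 16, nat_lit 0, nat_lit 36, nat_lit 25], (nat_lit 3503)), ((nat_lit 3184), [nat_lit 8, nat_lit 3, nat_lit 4, nat_lit 7, nat_lit 3, nat_lit 4, nat_lit 8, nat_lit 2, nat_lit 3, nat_lit 1], [nat_lit 2, nat_lit 26, nat_lit 34, nat_lit 11, nat_lit 26], (nat_lit 1552)), ((nat_lit 3366), [nat_lit 6, nat_lit 7, nat_lit 2, nat_lit 3, nat_lit 4, nat_lit 8, nat_lit 4, nat_lit 3, nat_lit 2, nat_lit 3, nat_lit 0, nat_lit 1], [nat_lit 16, nat_lit 5, nat_lit 0, nat_lit 17, nat_lit 33, nat_lit 26], (nat_lit 3192)), ((nat_lit 3292), [nat_lit 4, nat_lit 8, nat_lit 1, nat_lit 2, nat_lit 3, nat_lit 4, nat_lit 8, nat_lit 3, nat_lit 4, nat_lit 1, nat_lit 2, nat_lit 3, nat_lit 0, nat_lit 1], [nat_lit 2,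 nat_lit 0, nat_lit 27, nat_lit 24, nat_lit 11, nat_lit 27], (nat_lit 7370)), ((nat_lit 3284), [nat_lit 8, nat_lit 3, nat_lit 4, nat_lit 8, nat_lit 3, nat_lit 4, nat_lit 7, nat_lit 2, nat_lit 3, nat_lit 0, nat_lit 1], [nat_lit 17, nat_lit 24, nat_lit 0, nat_lit 36, nat_lit 24, nat_lit 15], (nat_lit 2167)), ((nat_lit 3460), [nat_lit 8, nat_lit 6, nat_lit 2, nat_lit 3, nat_lit 4, nat_lit 8, nat_lit 3, nat_lit 4, nat_lit 2, nat_lit 3, nat_lit 1], [nat_lit 1, nat_lit 5, nat_lit 37, nat_lit 15, nat_lit 11], (nat_lit 2504)), ((nat_lit 3404), [nat_lit 8, nat_lit 5, nat_lit 4, nat_lit 8, nat_lit 2, nat_lit 3, nat_lit 4, nat_lit 7, nat_lit 2, nat_lit 3, nat_lit 1], [nat_lit 25, nat_lit 1, nat_lit 35, nat_lit 36, nat_lit 11, nat_lit 26], (nat_lit 2712)), ((nat_lit 3240), [nat_lit 1, nat_lit 2, nat_lit 3, nat_lit 4, nat_lit 7, nat_lit 1, nat_lit 2, nat_lit 3, nat_lit 4,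 nat_lit 2, nat_lit 3, nat_lit 0, nat_lit 1], [nat_lit 5, nat_lit 16, nat_lit 2, nat_lit 16, nat_lit 16, nat_lit 11, nat_lit 26], (nat_lit 5296)), ((nat_lit 3340), [nat_lit 1, nat_lit 2, nat_lit 3, nat_lit 4, nat_lit 8, nat_lit 4, nat_lit 3, nat_lit 2, nat_lit 3, nat_lit 1], [nat_lit 14, nat_lit 0, nat_lit 26, nat_lit 36, nat_lit 27], (nat_lit 1312)), ((nat_lit 3442), [nat_lit 7, nat_lit 1, nat_lit 2, nat_lit 3, nat_lit 4, nat_lit 7, nat_lit 2, nat_lit 3, nat_lit 4, nat_lit 7, nat_lit 4, nat_lit 2, nat_lit 3, nat_lit 1], [nat_lit 25, nat_lit 16, nat_lit 0, nat_lit 37, nat_lit 24, nat_lit 11], (nat_lit 10379)), ((nat_lit 3150), [nat_lit 8, nat_lit 8, nat_lit 2, nat_lit 3, nat_lit 1, nat_lit 2, nat_lit 3, nat_lit 4, nat_lit 7, nat_lit 3, nat_lit 4, nat_lit 2, nat_lit 3, nat_lit 0, nat_lit 1], [nat_lit 25, nat_lit 2, nat_lit 0, nat_lit 33, nat_lit 33, nat_lit 11,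 nat_lit 26], (nat_lit 11917)), ((nat_lit 3354), [nat_lit 7, nat_lit 7, nat_lit 3, nat_lit 4, nat_lit 7, nat_lit 0, nat_lit 1, nat_lit 2, nat_lit 3, nat_lit 4, nat_lit 2, nat_lit 3, nat_lit 0, nat_lit 1], [nat_lit 24, nat_lit 2, nat_lit 0, nat_lit 15], (nat_lit 8060)), ((nat_lit 3410), [nat_lit 3, nat_lit 4, nat_lit 7, nat_lit 6, nat_lit 1, nat_lit 2, nat_lit 3, nat_lit 4, nat_lit 7, nat_lit 2, nat_lit 3, nat_lit 1], [nat_lit 1, nat_lit 36, nat_lit 33, nat_lit 26], (nat_lit 4416)), ((nat_lit 3424), [nat_lit 3, nat_lit 4, nat_lit 7, nat_lit 1, nat_lit 2, nat_lit 3, nat_lit 4, nat_lit 7, nat_lit 4, nat_lit 2, nat_lit 3, nat_lit 0, nat_lit 1], [nat_lit 24, nat_lit 15, nat_lit 0, nat_lit 27, nat_lit 24, nat_lit 11, nat_lit 27], (nat_lit 5460)), ((nat_lit 3278), [nat_lit 3, nat_lit 4, nat_lit 7, nat_lit 5, nat_lit 1, nat_lit 2, nat_lit 3, nat_lit 4, nat_lit 8, nat_lit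 2, nat_lit 3, nat_lit 1], [nat_lit 17, nat_lit 24, nat_lit 0, nat_lit 33, nat_lit 36, nat_lit 26], (nat_lit 4305)), ((nat_lit 3344), [nat_lit 4, nat_lit 8, nat_lit 8, nat_lit 4, nat_lit 7, nat_lit 0, nat_lit 1, nat_lit 2, nat_lit 3, nat_lit 4, nat_lit 7, nat_lit 1, nat_lit 2, nat_lit 3, nat_lit 0, nat_lit 1], [nat_lit 25, nat_lit 14, nat_lit 0, nat_lit 15, nat_lit 18, nat_lit 26], (nat_lit 14757)), ((nat_lit 3230), [nat_lit 6, nat_lit 4, nat_lit 8, nat_lit 1, nat_lit 2, nat_lit 3, nat_lit 4, nat_lit 3, nat_lit 1, nat_lit 2, nat_lit 3, nat_lit 0, nat_lit 1], [nat_lit 24, nat_lit 16, nat_lit 0, nat_lit 34, nat_lit 11, nat_lit 17, nat_lit 27], (nat_lit 4524)), ((nat_lit 3400), [nat_lit 3, nat_lit 4, nat_lit 7, nat_lit 7, nat_lit 2, nat_lit 3, nat_lit 4, nat_lit 8, nat_lit 2, nat_lit 3, nat_lit 4, nat_lit 8, nat_lit 4, nat_lit 2, nat_lit 3, nat_lit 1], [nat_lit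 2, nat_lit 0, nat_lit 37, nat_lit 17, nat_lit 11, nat_lit 26], (nat_lit 16659)), ((nat_lit 3258), [nat_lit 2, nat_lit 3, nat_lit 4, nat_lit 8, nat_lit 2, nat_lit 3, nat_lit 4, nat_lit 8, nat_lit 4, nat_lit 2, nat_lit 3, nat_lit 1], [nat_lit 5, nat_lit 34, nat_lit 34, nat_lit 15, nat_lit 27], (nat_lit 4236)), ((nat_lit 3312), [nat_lit 4, nat_lit 8, nat_lit 5, nat_lit 3, nat_lit 2, nat_lit 3, nat_lit 4, nat_lit 8, nat_lit 2, nat_lit 3, nat_lit 4, nat_lit 3, nat_lit 2, nat_lit 3, nat_lit 1], [nat_lit 17, nat_lit 24, nat_lit 0, nat_lit 16, nat_lit 18, nat_lit 15], (nat_lit 12626)), ((nat_lit 3288), [nat_lit 8, nat_lit 0, nat_lit 1, nat_lit 2, nat_lit 3, nat_lit 2, nat_lit 3, nat_lit 4, nat_lit 7, nat_lit 3, nat_lit 4, nat_lit 3, nat_lit 2, nat_lit 3, nat_lit 1], [nat_lit 15, nat_lit 1, nat_lit 37, nat_lit 34, nat_lit 24], (nat_lit 12776)), ((nat_lit 3328), [nat_lit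 8, nat_lit 5, nat_lit 4, nat_lit 7, nat_lit 3, nat_lit 4, nat_lit 7, nat_lit 2, nat_lit 3, nat_lit 0, nat_lit 1], [nat_lit 5, nat_lit 16, nat_lit 2, nat_lit 37, nat_lit 16], (nat_lit 2178)), ((nat_lit 3220), [nat_lit 8, nat_lit 4, nat_lit 8, nat_lit 1, nat_lit 2, nat_lit 3, nat_lit 4, nat_lit 3, nat_lit 2, nat_lit 3, nat_lit 0, nat_lit 1], [nat_lit 5, nat_lit 14, nat_lit 17, nat_lit 36, nat_lit 15], (nat_lit 3125)), ((nat_lit 3450), [nat_lit 6, nat_lit 4, nat_lit 7, nat_lit 0, nat_lit 1, nat_lit 2, nat_lit 3, nat_lit 4, nat_lit 1, nat_lit 2, nat_lit 3, nat_lit 0, nat_lit 1], [nat_lit 26, nat_lit 2, nat_lit 37, nat_lit 11, nat_lit 15], (nat_lit 4677)), ((nat_lit 3330), [nat_lit 8, nat_lit 3, nat_lit 4, nat_lit 8, nat_lit 5, nat_lit 0, nat_lit 1, nat_lit 2, nat_lit 3, nat_lit 4, nat_lit 8, nat_lit 2, nat_lit 3, nat_lit 0, nat_lit 1], [nat_lit 25, nat_lit 2, nat_lit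 0, nat_lit 34, nat_lit 24, nat_lit 17], (nat_lit 12017)), ((nat_lit 3434), [nat_lit 3, nat_lit 4, nat_lit 7, nat_lit 5, nat_lit 1, nat_lit 2, nat_lit 3, nat_lit 4, nat_lit 7, nat_lit 3, nat_lit 1, nat_lit 2, nat_lit 3, nat_lit 0, nat_lit 1], [nat_lit 2, nat_lit 0, nat_lit 24, nat_lit 36, nat_lit 16], (nat_lit 10981)), ((nat_lit 3468), [nat_lit 7, nat_lit 5, nat_lit 1, nat_lit 2, nat_lit 3, nat_lit 4, nat_lit 8, nat_lit 3, nat_lit 4, nat_lit 1, nat_lit 2, nat_lit 3, nat_lit 0, nat_lit 1], [nat_lit 15, nat_lit 1, nat_lit 26, nat_lit 24, nat_lit 27], (nat_lit 7369)), ((nat_lit 3356), [nat_lit 5, nat_lit 7, nat_lit 1, nat_lit 2, nat_lit 3, nat_lit 4, nat_lit 7, nat_lit 0, nat_lit 1, nat_lit 2, nat_lit 3, nat_lit 4, nat_lit 2, nat_lit 3, nat_lit 1], [nat_lit 18, nat_lit 15, nat_lit 0, nat_lit 16, nat_lit 18, nat_lit 15], (nat_lit 13620)), ((nat_lit 3304), [nat_lit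 2, nat_lit 3, nat_lit 4, nat_lit 7, nat_lit 6, nat_lit 2, nat_lit 3, nat_lit 4, nat_lit 7, nat_lit 2, nat_lit 3, nat_lit 4, nat_lit 2, nat_lit 3, nat_lit 0, nat_lit 1], [nat_lit 25, nat_lit 2, nat_lit 0, nat_lit 35, nat_lit 17, nat_lit 26], (nat_lit 15328)), ((nat_lit 3298), [nat_lit 1, nat_lit 2, nat_lit 3, nat_lit 1, nat_lit 2, nat_lit 3, nat_lit 4, nat_lit 7, nat_lit 3, nat_lit 4, nat_lit 8, nat_lit 2, nat_lit 3, nat_lit 1], [nat_lit 17, nat_lit 2, nat_lit 0, nat_lit 35, nat_lit 17], (nat_lit 10619)), ((nat_lit 3310), [nat_lit 6, nat_lit 3, nat_lit 2, nat_lit 3, nat_lit 4, nat_lit 7, nat_lit 1, nat_lit 2, nat_lit 3, nat_lit 4, nat_lit 8, nat_lit 3, nat_lit 2, nat_lit 3, nat_lit 0, nat_lit 1], [nat_lit 16, nat_lit 2, nat_lit 17, nat_lit 17, nat_lit 11, nat_lit 26], (nat_lit 15044)), ((nat_lit 3364), [nat_lit 4, nat_lit 7, nat_lit 7, nat_lit 3, nat_lit 2,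 nat_lit 3, nat_lit 4, nat_lit 7, nat_lit 3, nat_lit 1, nat_lit 2, nat_lit 3, nat_lit 4, nat_lit 3, nat_lit 2, nat_lit 3, nat_lit 1], [nat_lit 1, nat_lit 24, nat_lit 36], (nat_lit 17085)), ((nat_lit 3224), [nat_lit 6, nat_lit 1, nat_lit 2, nat_lit 3, nat_lit 4, nat_lit 8, nat_lit 1, nat_lit 2, nat_lit 3, nat_lit 4, nat_lit 8, nat_lit 2, nat_lit 3, nat_lit 0, nat_lit 1], [nat_lit 25, nat_lit 14, nat_lit 0, nat_lit 25, nat_lit 11], (nat_lit 12056)), ((nat_lit 3338), [nat_lit 6, nat_lit 7, nat_lit 4, nat_lit 8, nat_lit 0, nat_lit 1, nat_lit 2, nat_lit 3, nat_lit 4, nat_lit 8, nat_lit 1, nat_lit 2, nat_lit 3, nat_lit 0, nat_lit 1], [nat_lit 15, nat_lit 5, nat_lit 37, nat_lit 24], (nat_lit 11046)), ((nat_lit 3486), [nat_lit 7, nat_lit 2, nat_lit 3, nat_lit 4, nat_lit 8, nat_lit 2, nat_lit 3, nat_lit 4, nat_lit 8, nat_lit 4, nat_lit 2, nat_lit 3, nat_lit 1], [nat_lit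 24, nat_lit 16, nat_lit 0, nat_lit 15, nat_lit 11, nat_lit 15, nat_lit 27], (nat_lit 6770)), ((nat_lit 3256), [nat_lit 3, nat_lit 4, nat_lit 7, nat_lit 2, nat_lit 3, nat_lit 1, nat_lit 2, nat_lit 3, nat_lit 4, nat_lit 8, nat_lit 4, nat_lit 3, nat_lit 2, nat_lit 3, nat_lit 1], [nat_lit 10, nat_lit 10, nat_lit 0, nat_lit 37, nat_lit 15, nat_lit 11, nat_lit 27], (nat_lit 12886))] m8_5_1 m8_5_2) = 0 := by decide +kernel
theorem e8_5_3 : dt.run q (fun c => c.edges (SP THn.T THn.Rl (nat_lit 15)) (nat_lit 4429) THn.T.n (nat_lit 8) (nat_lit 5)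
  [((nat_lit 3204), [nat_lit 6, nat_lit 4, nat_lit 7, nat_lit 4, nat_lit 7, nat_lit 3, nat_lit 4, nat_lit 7, nat_lit 2, nat_lit 3, nat_lit 4, nat_lit 8, nat_lit 2, nat_lit 3, nat_lit 1], [nat_lit 5, nat_lit 36, nat_lit 33, nat_lit 26], (nat_lit 14462)), ((nat_lit 3466), [nat_lit 7, nat_lit 3, nat_lit 4, nat_lit 7, nat_lit 1, nat_lit 2, nat_lit 3, nat_lit 4, nat_lit 7, nat_lit 4, nat_lit 3, nat_lit 2, nat_lit 3, nat_lit 1], [nat_lit 1, nat_lit 15, nat_lit 27, nat_lit 16, nat_lit 26], (nat_lit 9173)), ((nat_lit 3358), [nat_lit 6, nat_lit 7, nat_lit 3, nat_lit 4, nat_lit 7, nat_lit 3, nat_lit 2, nat_lit 3, nat_lit 4, nat_lit 7, nat_lit 3, nat_lit 2, nat_lit 3, nat_lit 1], [nat_lit 5, nat_lit 14, nat_lit 17, nat_lit 34, nat_lit 11], (nat_lit 9609)), ((nat_lit 3264), [nat_lit 2, nat_lit 3, nat_lit 4, nat_lit 8, nat_lit 4, nat_lit 3, nat_lit 1, nat_lit 2, nat_lit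 3, nat_lit 0, nat_lit 1], [nat_lit 0, nat_lit 2, nat_lit 36, nat_lit 16, nat_lit 27], (nat_lit 1668)), ((nat_lit 3300), [nat_lit 5, nat_lit 8, nat_lit 4, nat_lit 7, nat_lit 3, nat_lit 4, nat_lit 7, nat_lit 3, nat_lit 1, nat_lit 2, nat_lit 3, nat_lit 0, nat_lit 1], [nat_lit 24, nat_lit 2, nat_lit 17, nat_lit 11, nat_lit 17], (nat_lit 4663)), ((nat_lit 3174), [nat_lit 3, nat_lit 4, nat_lit 8, nat_lit 8, nat_lit 1, nat_lit 2, nat_lit 3, nat_lit 4, nat_lit 8, nat_lit 2, nat_lit 3, nat_lit 0, nat_lit 1], [nat_lit 15, nat_lit 0, nat_lit 36, nat_lit 25], (nat_lit 5504)), ((nat_lit 3200), [nat_lit 6, nat_lit 7, nat_lit 4, nat_lit 8, nat_lit 0, nat_lit 1, nat_lit 2, nat_lit 3, nat_lit 4, nat_lit 8, nat_lit 4, nat_lit 1, nat_lit 2, nat_lit 3, nat_lit 0, nat_lit 1], [nat_lit 16, nat_lit 5, nat_lit 2, nat_lit 33, nat_lit 25, nat_lit 27], (nat_lit 14741)), ((nat_lit 3144),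 [nat_lit 7, nat_lit 4, nat_lit 8, nat_lit 2, nat_lit 3, nat_lit 1, nat_lit 2, nat_lit 3, nat_lit 4, nat_lit 7, nat_lit 3, nat_lit 4, nat_lit 2, nat_lit 3, nat_lit 0, nat_lit 1], [nat_lit 5, nat_lit 36, nat_lit 18, nat_lit 15, nat_lit 27], (nat_lit 15365)), ((nat_lit 3276), [nat_lit 7, nat_lit 7, nat_lit 4, nat_lit 7, nat_lit 3, nat_lit 4, nat_lit 8, nat_lit 2, nat_lit 3, nat_lit 0, nat_lit 1], [nat_lit 18, nat_lit 15, nat_lit 0, nat_lit 35, nat_lit 11], (nat_lit 2134)), ((nat_lit 3162), [nat_lit 8, nat_lit 1, nat_lit 2, nat_lit 3, nat_lit 4, nat_lit 7, nat_lit 2, nat_lit 3, nat_lit 4, nat_lit 3, nat_lit 2, nat_lit 3, nat_lit 0, nat_lit 1], [nat_lit 17, nat_lit 2, nat_lit 0, nat_lit 15, nat_lit 35, nat_lit 27], (nat_lit 7642)), ((nat_lit 3268), [nat_lit 7, nat_lit 6, nat_lit 1, nat_lit 2, nat_lit 3, nat_lit 1, nat_lit 2, nat_lit 3, nat_lit 4, nat_lit 8, nat_lit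 3, nat_lit 4, nat_lit 2, nat_lit 3, nat_lit 1], [nat_lit 2, nat_lit 0, nat_lit 17, nat_lit 36, nat_lit 27], (nat_lit 13946))] m8_5_2 m8_5_3) = 0 := by decide +kernel
theorem e8_5_4 : reachX THn.T (nat_lit 3626065593014151499) (S8.map Prod.snd) [nat_lit 0, nat_lit 1, nat_lit 0, nat_lit 1, nat_lit 0, nat_lit 1, nat_lit 0, nat_lit 1, nat_lit 0, nat_lit 1, nat_lit 0] m8_5_3 = m8_5_4 := by decide +kernel
theorem e8_6_1 : dt.run q (fun c => c.edges (SP THn.T THn.Rl (nat_lit 15)) (nat_lit 4429) THn.T.n (nat_lit 8) (nat_lit 6)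
  [((nat_lit 3522), [nat_lit 6, nat_lit 4, nat_lit 3, nat_lit 0, nat_lit 1, nat_lit 2, nat_lit 3, nat_lit 4, nat_lit 7, nat_lit 4, nat_lit 3, nat_lit 2, nat_lit 3, nat_lit 1], [nat_lit 16, nat_lit 5, nat_lit 2, nat_lit 15, nat_lit 17, nat_lit 11], (nat_lit 9129)), ((nat_lit 3516), [nat_lit 7, nat_lit 4, nat_lit 7, nat_lit 6, nat_lit 3, nat_lit 1, nat_lit 2, nat_lit 3, nat_lit 4, nat_lit 8, nat_lit 3, nat_lit 2, nat_lit 3, nat_lit 0, nat_lit 1], [nat_lit 14, nat_lit 15, nat_lit 0, nat_lit 15, nat_lit 11, nat_lit 26], (nat_lit 11429)), ((nat_lit 3524), [nat_lit 5, nat_lit 4, nat_lit 3, nat_lit 2, nat_lit 3, nat_lit 4, nat_lit 7, nat_lit 2, nat_lit 3, nat_lit 4, nat_lit 3, nat_lit 2, nat_lit 3, nat_lit 1], [nat_lit 10, nat_lit 0, nat_lit 33, nat_lit 16, nat_lit 11, nat_lit 26], (nat_lit 8912)), ((nat_lit 3528), [nat_lit 2, nat_lit 3, nat_lit 4, nat_lit 7, nat_lit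 4, nat_lit 7, nat_lit 6, nat_lit 1, nat_lit 2, nat_lit 3, nat_lit 4, nat_lit 7, nat_lit 2, nat_lit 3, nat_lit 0, nat_lit 1], [nat_lit 1, nat_lit 1, nat_lit 33, nat_lit 33, nat_lit 26], (nat_lit 15569)), ((nat_lit 3530), [nat_lit 2, nat_lit 3, nat_lit 4, nat_lit 8, nat_lit 6, nat_lit 1, nat_lit 2, nat_lit 3, nat_lit 4, nat_lit 8, nat_lit 2, nat_lit 3, nat_lit 1], [nat_lit 16, nat_lit 0, nat_lit 26, nat_lit 24], (nat_lit 6871)), ((nat_lit 3502), [nat_lit 8, nat_lit 8, nat_lit 2, nat_lit 3, nat_lit 4, nat_lit 8, nat_lit 3, nat_lit 2, nat_lit 3, nat_lit 1], [nat_lit 24, nat_lit 0, nat_lit 37, nat_lit 24, nat_lit 15, nat_lit 27], (nat_lit 1349)), ((nat_lit 3526), [nat_lit 6, nat_lit 4, nat_lit 8, nat_lit 0, nat_lit 1, nat_lit 2, nat_lit 3, nat_lit 4, nat_lit 7, nat_lit 2, nat_lit 3, nat_lit 1], [nat_lit 0, nat_lit 15, nat_lit 35, nat_lit 11], (nat_lit 4406)), ((nat_lit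 3506), [nat_lit 5, nat_lit 4, nat_lit 2, nat_lit 3, nat_lit 1, nat_lit 2, nat_lit 3, nat_lit 4, nat_lit 7, nat_lit 3, nat_lit 4, nat_lit 3, nat_lit 2, nat_lit 3, nat_lit 1], [nat_lit 25, nat_lit 14, nat_lit 0, nat_lit 11, nat_lit 17, nat_lit 26], (nat_lit 12753)), ((nat_lit 3518), [nat_lit 3, nat_lit 4, nat_lit 7, nat_lit 3, nat_lit 4, nat_lit 8, nat_lit 4, nat_lit 1, nat_lit 2, nat_lit 3, nat_lit 0, nat_lit 1], [nat_lit 1, nat_lit 24, nat_lit 0, nat_lit 16, nat_lit 26], (nat_lit 2949)), ((nat_lit 3500), [nat_lit 3, nat_lit 1, nat_lit 2, nat_lit 3, nat_lit 4, nat_lit 7, nat_lit 4, nat_lit 7, nat_lit 3, nat_lit 4, nat_lit 2, nat_lit 3, nat_lit 1], [nat_lit 2, nat_lit 0, nat_lit 33, nat_lit 18, nat_lit 26], (nat_lit 6726)), ((nat_lit 3498), [nat_lit 4, nat_lit 8, nat_lit 8, nat_lit 3, nat_lit 1, nat_lit 2, nat_lit 3, nat_lit 4, nat_lit 7, nat_lit 3, nat_lit 4,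 nat_lit 2, nat_lit 3, nat_lit 0, nat_lit 1], [nat_lit 25, nat_lit 0, nat_lit 17, nat_lit 34], (nat_lit 11928)), ((nat_lit 3512), [nat_lit 1, nat_lit 2, nat_lit 3, nat_lit 4, nat_lit 8, nat_lit 4, nat_lit 8, nat_lit 1, nat_lit 2, nat_lit 3, nat_lit 4, nat_lit 2, nat_lit 3, nat_lit 0, nat_lit 1], [nat_lit 26, nat_lit 2, nat_lit 0, nat_lit 18, nat_lit 25, nat_lit 27], (nat_lit 11754)), ((nat_lit 3504), [nat_lit 8, nat_lit 3, nat_lit 4, nat_lit 7, nat_lit 2, nat_lit 3, nat_lit 4, nat_lit 3, nat_lit 2, nat_lit 3, nat_lit 0, nat_lit 1], [nat_lit 24, nat_lit 0, nat_lit 24, nat_lit 18, nat_lit 27], (nat_lit 3153)), ((nat_lit 3520), [nat_lit 4, nat_lit 7, nat_lit 1, nat_lit 2, nat_lit 3, nat_lit 2, nat_lit 3, nat_lit 4, nat_lit 8, nat_lit 3, nat_lit 4, nat_lit 7, nat_lit 2, nat_lit 3, nat_lit 1], [nat_lit 24, nat_lit 1, nat_lit 33, nat_lit 35, nat_lit 11, nat_lit 26],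 (nat_lit 14683)), ((nat_lit 3508), [nat_lit 4, nat_lit 3, nat_lit 2, nat_lit 3, nat_lit 4, nat_lit 8, nat_lit 4, nat_lit 8, nat_lit 3, nat_lit 4, nat_lit 2, nat_lit 3, nat_lit 1], [nat_lit 5, nat_lit 2, nat_lit 34, nat_lit 11, nat_lit 26], (nat_lit 6650)), ((nat_lit 3510), [nat_lit 7, nat_lit 4, nat_lit 8, nat_lit 0, nat_lit 1, nat_lit 2, nat_lit 3, nat_lit 4, nat_lit 8, nat_lit 3, nat_lit 2, nat_lit 3, nat_lit 0, nat_lit 1], [nat_lit 2, nat_lit 0, nat_lit 25, nat_lit 35], (nat_lit 7789)), ((nat_lit 3514), [nat_lit 8, nat_lit 0, nat_lit 1, nat_lit 2, nat_lit 3, nat_lit 4, nat_lit 8, nat_lit 2, nat_lit 3, nat_lit 4, nat_lit 7, nat_lit 2, nat_lit 3, nat_lit 1], [nat_lit 25, nat_lit 16, nat_lit 0, nat_lit 16, nat_lit 16, nat_lit 11], (nat_lit 10763))] (nat_lit 0) m8_6_1) = 0 := by decide +kernel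
theorem e8_6_2 : reachX THn.T (nat_lit 3423944014846649361) (S8.map Prod.snd) [nat_lit 0, nat_lit 1, nat_lit 0, nat_lit 1, nat_lit 0, nat_lit 1, nat_lit 0, nat_lit 1, nat_lit 0, nat_lit 1, nat_lit 0] m8_6_1 = m8_6_2 := by decide +kernel
theorem e8_7_1 : dt.run q (fun c => c.edges (SP THn.T THn.Rl (nat_lit 15)) (nat_lit 4429) THn.T.n (nat_lit 8) (nat_lit 7)
  [((nat_lit 3532), [nat_lit 3, nat_lit 2, nat_lit 3, nat_lit 4, nat_lit 1, nat_lit 2, nat_lit 3, nat_lit 0, nat_lit 1], [nat_lit 17, nat_lit 36, nat_lit 15, nat_lit 27], (nat_lit 600)), ((nat_lit 3540), [nat_lit 3, nat_lit 2, nat_lit 3, nat_lit 1, nat_lit 2, nat_lit 3, nat_lit 0, nat_lit 1], [nat_lit 34, nat_lit 24, nat_lit 26], (nat_lit 357)), ((nat_lit 3538), [nat_lit 6, nat_lit 7, nat_lit 3, nat_lit 2, nat_lit 3, nat_lit 1, nat_lit 2, nat_lit 3, nat_lit 0, nat_lit 1], [nat_lit 25, nat_lit 1, nat_lit 34,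 nat_lit 17, nat_lit 26], (nat_lit 950)), ((nat_lit 3536), [nat_lit 3, nat_lit 0, nat_lit 1, nat_lit 2, nat_lit 3, nat_lit 4, nat_lit 8, nat_lit 2, nat_lit 3, nat_lit 4, nat_lit 7, nat_lit 2, nat_lit 3, nat_lit 1], [nat_lit 25, nat_lit 14, nat_lit 0, nat_lit 32, nat_lit 18], (nat_lit 10760)), ((nat_lit 3534), [nat_lit 8, nat_lit 3, nat_lit 4, nat_lit 8, nat_lit 5, nat_lit 2, nat_lit 3, nat_lit 1, nat_lit 2, nat_lit 3, nat_lit 4, nat_lit 8, nat_lit 3, nat_lit 2, nat_lit 3, nat_lit 1], [nat_lit 2, nat_lit 0, nat_lit 36, nat_lit 32, nat_lit 26], (nat_lit 16183))] (nat_lit 0) m8_7_1) = 0 := by decide +kernel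
theorem e8_7_2 : reachX THn.T (nat_lit 4327588307996718545) (S8.map Prod.snd) [nat_lit 1, nat_lit 0, nat_lit 1, nat_lit 0, nat_lit 1, nat_lit 0, nat_lit 0, nat_lit 1] m8_7_1 = m8_7_2 := by decide +kernel
theorem e8_8_1 : dt.run q (fun c => c.edges (SP THn.T THn.Rl (nat_lit 15)) (nat_lit 4429) THn.T.n (nat_lit 8) (nat_lit 8)
  [((nat_lit 3543), [nat_lit 8, nat_lit 4, nat_lit 7, nat_lit 1, nat_lit 2, nat_lit 3, nat_lit 0, nat_lit 1], [nat_lit 10, nat_lit 10, nat_lit 0, nat_lit 24, nat_lit 18, nat_lit 16, nat_lit 27], (nat_lit 387)), ((nat_lit 3544), [nat_lit 8, nat_lit 4, nat_lit 7, nat_lit 4, nat_lit 1, nat_lit 2, nat_lit 3, nat_lit 0, nat_lit 1], [nat_lit 15, nat_lit 5, nat_lit 16, nat_lit 25], (nat_lit 617)), ((nat_lit 3546), [nat_lit 6, nat_lit 4, nat_lit 8, nat_lit 4, nat_lit 3], [nat_lit 37, nat_lit 11, nat_lit 17, nat_lit 27], (nat_lit 109)), ((nat_lit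 3549), [nat_lit 8, nat_lit 4, nat_lit 8, nat_lit 3, nat_lit 2, nat_lit 3, nat_lit 4, nat_lit 7, nat_lit 4, nat_lit 3, nat_lit 2, nat_lit 3, nat_lit 1], [nat_lit 24, nat_lit 16, nat_lit 0, nat_lit 24, nat_lit 15, nat_lit 26], (nat_lit 6005)), ((nat_lit 3556), [nat_lit 5, nat_lit 8, nat_lit 4, nat_lit 7, nat_lit 3, nat_lit 2, nat_lit 3, nat_lit 4, nat_lit 7, nat_lit 3, nat_lit 2, nat_lit 3, nat_lit 0, nat_lit 1], [nat_lit 24, nat_lit 0, nat_lit 35, nat_lit 15, nat_lit 27], (nat_lit 7993)), ((nat_lit 3564), [nat_lit 7, nat_lit 4, nat_lit 8, nat_lit 3, nat_lit 0, nat_lit 1, nat_lit 2, nat_lit 3, nat_lit 4, nat_lit 3, nat_lit 2, nat_lit 3, nat_lit 1], [nat_lit 24, nat_lit 15, nat_lit 0, nat_lit 35, nat_lit 27], (nat_lit 5696)), ((nat_lit 3570), [nat_lit 2, nat_lit 3, nat_lit 4, nat_lit 7, nat_lit 2, nat_lit 3, nat_lit 4, nat_lit 2, nat_lit 3, nat_lit 0, nat_lit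 1], [nat_lit 24, nat_lit 2, nat_lit 0, nat_lit 24, nat_lit 37, nat_lit 15, nat_lit 26], (nat_lit 2007)), ((nat_lit 3568), [nat_lit 7, nat_lit 4, nat_lit 7, nat_lit 3, nat_lit 4, nat_lit 8, nat_lit 3, nat_lit 1, nat_lit 2, nat_lit 3, nat_lit 0, nat_lit 1], [nat_lit 17, nat_lit 24, nat_lit 0, nat_lit 25, nat_lit 15, nat_lit 27], (nat_lit 2837)), ((nat_lit 3567), [nat_lit 6, nat_lit 7, nat_lit 4, nat_lit 8, nat_lit 2, nat_lit 3, nat_lit 4, nat_lit 8, nat_lit 1, nat_lit 2, nat_lit 3, nat_lit 4, nat_lit 2, nat_lit 3, nat_lit 0, nat_lit 1], [nat_lit 18, nat_lit 16, nat_lit 26], (nat_lit 15262)), ((nat_lit 3542), [nat_lit 8, nat_lit 3, nat_lit 1, nat_lit 2, nat_lit 3, nat_lit 4, nat_lit 8, nat_lit 3, nat_lit 2, nat_lit 3, nat_lit 0, nat_lit 1], [nat_lit 35, nat_lit 33, nat_lit 11, nat_lit 26], (nat_lit 3222)), ((nat_lit 3554), [nat_lit 0, nat_lit 1, nat_lit 2, nat_lit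 3, nat_lit 4, nat_lit 8, nat_lit 1, nat_lit 2, nat_lit 3, nat_lit 4, nat_lit 7, nat_lit 2, nat_lit 3, nat_lit 0, nat_lit 1], [nat_lit 24, nat_lit 0, nat_lit 17, nat_lit 34, nat_lit 11, nat_lit 26], (nat_lit 12248)), ((nat_lit 3565), [nat_lit 7, nat_lit 7, nat_lit 4, nat_lit 7, nat_lit 1, nat_lit 2, nat_lit 3, nat_lit 4, nat_lit 7, nat_lit 1, nat_lit 2, nat_lit 3, nat_lit 4, nat_lit 2, nat_lit 3, nat_lit 1], [nat_lit 5, nat_lit 14, nat_lit 32, nat_lit 37, nat_lit 15, nat_lit 27], (nat_lit 16455)), ((nat_lit 3555), [nat_lit 5, nat_lit 1, nat_lit 2, nat_lit 3, nat_lit 4, nat_lit 8, nat_lit 1, nat_lit 2, nat_lit 3, nat_lit 4, nat_lit 7, nat_lit 2, nat_lit 3, nat_lit 1], [nat_lit 26, nat_lit 2, nat_lit 0, nat_lit 27, nat_lit 24, nat_lit 15, nat_lit 27], (nat_lit 10693)), ((nat_lit 3566), [nat_lit 8, nat_lit 5, nat_lit 4, nat_lit 7, nat_lit 4, nat_lit 3, nat_lit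 2, nat_lit 3, nat_lit 4, nat_lit 7, nat_lit 3, nat_lit 4, nat_lit 2, nat_lit 3, nat_lit 1], [nat_lit 35, nat_lit 11, nat_lit 27], (nat_lit 14157)), ((nat_lit 3553), [nat_lit 5, nat_lit 7, nat_lit 4, nat_lit 3, nat_lit 1, nat_lit 2, nat_lit 3, nat_lit 0, nat_lit 1], [nat_lit 18, nat_lit 36, nat_lit 11, nat_lit 27], (nat_lit 588)), ((nat_lit 3552), [nat_lit 8, nat_lit 5, nat_lit 3, nat_lit 4, nat_lit 8, nat_lit 2, nat_lit 3, nat_lit 1, nat_lit 2, nat_lit 3, nat_lit 4, nat_lit 3, nat_lit 2, nat_lit 3, nat_lit 1], [nat_lit 10, nat_lit 0, nat_lit 15, nat_lit 32, nat_lit 15, nat_lit 27], (nat_lit 12495)), ((nat_lit 3569), [nat_lit 2, nat_lit 3, nat_lit 4, nat_lit 7, nat_lit 2, nat_lit 3, nat_lit 1, nat_lit 2, nat_lit 3, nat_lit 4, nat_lit 3, nat_lit 2, nat_lit 3, nat_lit 1], [nat_lit 24, nat_lit 15, nat_lit 0, nat_lit 36, nat_lit 18, nat_lit 15], (nat_lit 8765)),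 ((nat_lit 3580), [nat_lit 5, nat_lit 1, nat_lit 2, nat_lit 3, nat_lit 4, nat_lit 7, nat_lit 1, nat_lit 2, nat_lit 3, nat_lit 4, nat_lit 7, nat_lit 2, nat_lit 3, nat_lit 0, nat_lit 1], [nat_lit 15, nat_lit 5, nat_lit 11, nat_lit 37, nat_lit 26], (nat_lit 12282)), ((nat_lit 3572), [nat_lit 8, nat_lit 6, nat_lit 4, nat_lit 7, nat_lit 3, nat_lit 2, nat_lit 3, nat_lit 4, nat_lit 8, nat_lit 3, nat_lit 4, nat_lit 2, nat_lit 3, nat_lit 1], [nat_lit 25, nat_lit 0, nat_lit 34, nat_lit 11, nat_lit 26], (nat_lit 10141)), ((nat_lit 3548), [nat_lit 6, nat_lit 3, nat_lit 4, nat_lit 2, nat_lit 3, nat_lit 1, nat_lit 2, nat_lit 3, nat_lit 4, nat_lit 7, nat_lit 4, nat_lit 3, nat_lit 2, nat_lit 3, nat_lit 1], [nat_lit 14, nat_lit 15, nat_lit 0, nat_lit 18, nat_lit 15, nat_lit 11], (nat_lit 12962)), ((nat_lit 3547), [nat_lit 8, nat_lit 3, nat_lit 2, nat_lit 3, nat_lit 1, nat_lit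 2, nat_lit 3, nat_lit 0, nat_lit 1], [nat_lit 10, nat_lit 10, nat_lit 0, nat_lit 15, nat_lit 11, nat_lit 15], (nat_lit 570)), ((nat_lit 3551), [nat_lit 7, nat_lit 3, nat_lit 4, nat_lit 7, nat_lit 3, nat_lit 1, nat_lit 2, nat_lit 3, nat_lit 0, nat_lit 1], [nat_lit 34, nat_lit 25, nat_lit 27], (nat_lit 1002)), ((nat_lit 3563), [nat_lit 6, nat_lit 0, nat_lit 1, nat_lit 2, nat_lit 3, nat_lit 4, nat_lit 7, nat_lit 1, nat_lit 2, nat_lit 3, nat_lit 4, nat_lit 3, nat_lit 2, nat_lit 3, nat_lit 0, nat_lit 1], [nat_lit 24, nat_lit 2, nat_lit 0, nat_lit 37, nat_lit 25, nat_lit 26], (nat_lit 14830)), ((nat_lit 3545), [nat_lit 4, nat_lit 7, nat_lit 4, nat_lit 7, nat_lit 3, nat_lit 4, nat_lit 7, nat_lit 4, nat_lit 2, nat_lit 3, nat_lit 1], [nat_lit 14, nat_lit 0, nat_lit 18, nat_lit 15, nat_lit 11], (nat_lit 2597)), ((nat_lit 3571), [nat_lit 8, nat_lit 6, nat_lit 4, nat_lit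 7, nat_lit 3, nat_lit 4, nat_lit 8, nat_lit 2, nat_lit 3, nat_lit 0, nat_lit 1], [nat_lit 18, nat_lit 15, nat_lit 0, nat_lit 32], (nat_lit 2124)), ((nat_lit 3583), [nat_lit 8, nat_lit 4, nat_lit 3, nat_lit 2, nat_lit 3, nat_lit 4, nat_lit 8, nat_lit 3, nat_lit 4, nat_lit 3, nat_lit 2, nat_lit 3, nat_lit 0, nat_lit 1], [nat_lit 24, nat_lit 15, nat_lit 0, nat_lit 33, nat_lit 33, nat_lit 11], (nat_lit 7667)), ((nat_lit 3581), [nat_lit 5, nat_lit 7, nat_lit 2, nat_lit 3, nat_lit 4, nat_lit 7, nat_lit 2, nat_lit 3, nat_lit 1], [nat_lit 5, nat_lit 14, nat_lit 25, nat_lit 11, nat_lit 27], (nat_lit 931)), ((nat_lit 3584), [nat_lit 3, nat_lit 4, nat_lit 8, nat_lit 2, nat_lit 3, nat_lit 4, nat_lit 8, nat_lit 1, nat_lit 2, nat_lit 3, nat_lit 4, nat_lit 2, nat_lit 3, nat_lit 1], [nat_lit 15, nat_lit 1, nat_lit 33, nat_lit 35, nat_lit 27], (nat_lit 9741)), ((nat_lit 3582),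 [nat_lit 7, nat_lit 4, nat_lit 8, nat_lit 6, nat_lit 3, nat_lit 4, nat_lit 8, nat_lit 2, nat_lit 3, nat_lit 4, nat_lit 2, nat_lit 3, nat_lit 1], [nat_lit 17, nat_lit 24, nat_lit 0, nat_lit 32, nat_lit 32, nat_lit 11], (nat_lit 6465)), ((nat_lit 3550), [nat_lit 8, nat_lit 0, nat_lit 1, nat_lit 2, nat_lit 3, nat_lit 4, nat_lit 7, nat_lit 2, nat_lit 3, nat_lit 4, nat_lit 7, nat_lit 3, nat_lit 2, nat_lit 3, nat_lit 0, nat_lit 1], [nat_lit 1, nat_lit 25, nat_lit 35], (nat_lit 15185)), ((nat_lit 3573), [nat_lit 8, nat_lit 0, nat_lit 1, nat_lit 2, nat_lit 3, nat_lit 1, nat_lit 2, nat_lit 3, nat_lit 4, nat_lit 8, nat_lit 3, nat_lit 4, nat_lit 2, nat_lit 3, nat_lit 1], [nat_lit 26, nat_lit 2, nat_lit 33, nat_lit 35, nat_lit 11, nat_lit 26], (nat_lit 13940)), ((nat_lit 3575), [nat_lit 8, nat_lit 3, nat_lit 4, nat_lit 8, nat_lit 2, nat_lit 3, nat_lit 1, nat_lit 2, nat_lit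 3, nat_lit 4, nat_lit 3, nat_lit 2, nat_lit 3, nat_lit 1], [nat_lit 25, nat_lit 0, nat_lit 35, nat_lit 35, nat_lit 11], (nat_lit 8755)), ((nat_lit 3574), [nat_lit 6, nat_lit 0, nat_lit 1, nat_lit 2, nat_lit 3, nat_lit 4, nat_lit 7, nat_lit 0, nat_lit 1, nat_lit 2, nat_lit 3, nat_lit 4, nat_lit 2, nat_lit 3, nat_lit 1], [nat_lit 5, nat_lit 16, nat_lit 2, nat_lit 27, nat_lit 24, nat_lit 11], (nat_lit 13608))] (nat_lit 0) m8_8_1) = 0 := by decide +kernel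
theorem e8_8_2 : reachX THn.T (nat_lit 3292967468774889702) (S8.map Prod.snd) [nat_lit 0, nat_lit 1, nat_lit 0, nat_lit 1, nat_lit 0, nat_lit 1, nat_lit 0, nat_lit 1, nat_lit 0, nat_lit 1, nat_lit 0] m8_8_1 = m8_8_2 := by decide +kernel
theorem e8_9_1 : dt.run q (fun c => c.edges (SP THn.T THn.Rl (nat_lit 15)) (nat_lit 4429) THn.T.n (nat_lit 8) (nat_lit 9)
  [((nat_lit 3862), [nat_lit 4, nat_lit 8, nat_lit 3], [nat_lit 34, nat_lit 32], (nat_lit 29)), ((nat_lit 3860), [nat_lit 7, nat_lit 7, nat_lit 4, nat_lit 7, nat_lit 3, nat_lit 4, nat_lit 8, nat_lit 3, nat_lit 1, nat_lit 2, nat_lit 3, nat_lit 0, nat_lit 1], [nat_lit 26, nat_lit 16, nat_lit 11, nat_lit 26], (nat_lit 4624)), ((nat_lit 3876), [nat_lit 7, nat_lit 3, nat_lit 4, nat_lit 8, nat_lit 3, nat_lit 1, nat_lit 2, nat_lit 3, nat_lit 4, nat_lit 3, nat_lit 2, nat_lit 3, nat_lit 1], [nat_lit 25, nat_lit 14,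 nat_lit 0, nat_lit 37, nat_lit 37, nat_lit 11, nat_lit 27], (nat_lit 5738)), ((nat_lit 3870), [nat_lit 4, nat_lit 8, nat_lit 8, nat_lit 0, nat_lit 1, nat_lit 2, nat_lit 3, nat_lit 4, nat_lit 7, nat_lit 3, nat_lit 2, nat_lit 3, nat_lit 0, nat_lit 1], [nat_lit 25, nat_lit 1, nat_lit 36, nat_lit 11, nat_lit 26], (nat_lit 7923)), ((nat_lit 3866), [nat_lit 6, nat_lit 4, nat_lit 8, nat_lit 2, nat_lit 3, nat_lit 4, nat_lit 8, nat_lit 1, nat_lit 2, nat_lit 3, nat_lit 4, nat_lit 2, nat_lit 3, nat_lit 1], [nat_lit 15, nat_lit 0, nat_lit 37], (nat_lit 9742)), ((nat_lit 3874), [nat_lit 5, nat_lit 2, nat_lit 3, nat_lit 4, nat_lit 8, nat_lit 2, nat_lit 3, nat_lit 4, nat_lit 3, nat_lit 2, nat_lit 3, nat_lit 1], [nat_lit 24, nat_lit 15, nat_lit 0, nat_lit 37, nat_lit 11, nat_lit 15, nat_lit 27], (nat_lit 3712)), ((nat_lit 3872), [nat_lit 4, nat_lit 7, nat_lit 0, nat_lit 1,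 nat_lit 2, nat_lit 3, nat_lit 4, nat_lit 7, nat_lit 2, nat_lit 3, nat_lit 4, nat_lit 3, nat_lit 2, nat_lit 3, nat_lit 0, nat_lit 1], [nat_lit 16, nat_lit 5, nat_lit 2, nat_lit 33, nat_lit 36], (nat_lit 14854)), ((nat_lit 3868), [nat_lit 3, nat_lit 4, nat_lit 8, nat_lit 4, nat_lit 8, nat_lit 2, nat_lit 3, nat_lit 2, nat_lit 3, nat_lit 4, nat_lit 7, nat_lit 3, nat_lit 4, nat_lit 2, nat_lit 3, nat_lit 1], [nat_lit 17, nat_lit 2, nat_lit 0, nat_lit 18, nat_lit 35], (nat_lit 16643)), ((nat_lit 3864), [nat_lit 0, nat_lit 1, nat_lit 2, nat_lit 3, nat_lit 4, nat_lit 8, nat_lit 4, nat_lit 8, nat_lit 3, nat_lit 4, nat_lit 3, nat_lit 2, nat_lit 3, nat_lit 0, nat_lit 1], [nat_lit 5, nat_lit 0, nat_lit 37, nat_lit 18], (nat_lit 11270))] (nat_lit 0) m8_9_1) = 0 := by decide +kernel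
theorem e8_9_2 : reachX THn.T (nat_lit 2431317370292879876) (S8.map Prod.snd) [nat_lit 0, nat_lit 1, nat_lit 0, nat_lit 1, nat_lit 0, nat_lit 1, nat_lit 0, nat_lit 1, nat_lit 0, nat_lit 1, nat_lit 0] m8_9_1 = m8_9_2 := by decide +kernel
theorem e8_10_1 : dt.run q (fun c => c.edges (SP THn.T THn.Rl (nat_lit 15)) (nat_lit 4429) THn.T.n (nat_lit 8) (nat_lit 10)
  [((nat_lit 4358), [nat_lit 7, nat_lit 5, nat_lit 4, nat_lit 8, nat_lit 3], [nat_lit 5, nat_lit 36, nat_lit 15, nat_lit 27], (nat_lit 119)), ((nat_lit 4360), [nat_lit 6, nat_lit 4, nat_lit 8, nat_lit 1, nat_lit 2, nat_lit 3, nat_lit 4, nat_lit 7, nat_lit 2, nat_lit 3, nat_lit 1], [nat_lit 26, nat_lit 36, nat_lit 27], (nat_lit 2689)), ((nat_lit 4368), [nat_lit 3, nat_lit 4, nat_lit 8, nat_lit 6, nat_lit 3, nat_lit 2, nat_lit 3, nat_lit 4, nat_lit 7, nat_lit 3, nat_lit 2, nat_lit 3, nat_lit 1], [nat_lit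 15, nat_lit 1, nat_lit 15, nat_lit 32, nat_lit 11, nat_lit 27], (nat_lit 6259)), ((nat_lit 4372), [nat_lit 3, nat_lit 0, nat_lit 1, nat_lit 2, nat_lit 3, nat_lit 4, nat_lit 7, nat_lit 3, nat_lit 4, nat_lit 8, nat_lit 3, nat_lit 4, nat_lit 2, nat_lit 3, nat_lit 0, nat_lit 1], [nat_lit 24, nat_lit 0, nat_lit 15, nat_lit 32, nat_lit 11, nat_lit 27], (nat_lit 15344)), ((nat_lit 4364), [nat_lit 4, nat_lit 7, nat_lit 3, nat_lit 4, nat_lit 8, nat_lit 2, nat_lit 3, nat_lit 4, nat_lit 3, nat_lit 2, nat_lit 3, nat_lit 1], [nat_lit 24, nat_lit 2, nat_lit 37, nat_lit 16], (nat_lit 3717)), ((nat_lit 4370), [nat_lit 4, nat_lit 8, nat_lit 1, nat_lit 2, nat_lit 3, nat_lit 4, nat_lit 8, nat_lit 2, nat_lit 3, nat_lit 4, nat_lit 7, nat_lit 2, nat_lit 3, nat_lit 1], [nat_lit 24, nat_lit 0, nat_lit 17, nat_lit 16, nat_lit 27], (nat_lit 10768)), ((nat_lit 4362), [nat_lit 6, nat_lit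 1, nat_lit 2, nat_lit 3, nat_lit 4, nat_lit 8, nat_lit 2, nat_lit 3, nat_lit 0, nat_lit 1], [nat_lit 25, nat_lit 14, nat_lit 0, nat_lit 25, nat_lit 15, nat_lit 11], (nat_lit 1213)), ((nat_lit 4374), [nat_lit 4, nat_lit 8, nat_lit 8, nat_lit 1, nat_lit 2, nat_lit 3, nat_lit 4, nat_lit 7, nat_lit 3, nat_lit 2, nat_lit 3, nat_lit 1], [nat_lit 5, nat_lit 2, nat_lit 15, nat_lit 18], (nat_lit 3946)), ((nat_lit 4366), [nat_lit 5, nat_lit 4, nat_lit 8, nat_lit 4, nat_lit 8, nat_lit 0, nat_lit 1, nat_lit 2, nat_lit 3, nat_lit 4, nat_lit 8, nat_lit 2, nat_lit 3, nat_lit 0, nat_lit 1], [nat_lit 16, nat_lit 0, nat_lit 15, nat_lit 18, nat_lit 16], (nat_lit 12031))] (nat_lit 0) m8_10_1) = 0 := by decide +kernel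
theorem e8_10_2 : reachX THn.T (nat_lit 4017430814705811942) (S8.map Prod.snd) [nat_lit 0, nat_lit 1, nat_lit 0, nat_lit 1, nat_lit 0, nat_lit 1, nat_lit 0, nat_lit 1, nat_lit 0, nat_lit 1, nat_lit 0] m8_10_1 = m8_10_2 := by decide +kernel
theorem pc8 : partChk THn.T.n (nat_lit 860) [(nat_lit 0), (nat_lit 0), (nat_lit 0), m8_3_2, m8_4_2, m8_5_4, m8_6_2, m8_7_2, m8_8_2, m8_9_2, m8_10_2] (nth [] aL (nat_lit 8)) = true ∧ nth 0 PL (nat_lit 8) = (nat_lit 8) := by decide +kernel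
theorem st9c : dt.run q (fun c => sumL (c.sgen (nat_lit 4429) (nat_lit 9)) S9) = 0 := by decide +kernel
theorem e9_2_1 : dt.run q (fun c => c.edges (SP THn.T THn.Rl (nat_lit 15)) (nat_lit 4429) THn.T.n (nat_lit 9) (nat_lit 2)
  [((nat_lit 3878), [nat_lit 8, nat_lit 4, nat_lit 7, nat_lit 5, nat_lit 0, nat_lit 1, nat_lit 2, nat_lit 3, nat_lit 4, nat_lit 7, nat_lit 4, nat_lit 2, nat_lit 3, nat_lit 1], [nat_lit 5, nat_lit 0, nat_lit 24, nat_lit 18, nat_lit 18, nat_lit 27], (nat_lit 10357))] (nat_lit 0) m9_2_1) = 0 := by decide +kernel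
theorem e9_2_2 : reachX THn.T (nat_lit 3332361711811746021) (S9.map Prod.snd) [nat_lit 0, nat_lit 2, nat_lit 0, nat_lit 2, nat_lit 2, nat_lit 0, nat_lit 2, nat_lit 2] m9_2_1 = m9_2_2 := by decide +kernel
theorem e9_3_1 : dt.run q (fun c => c.edges (SP THn.T THn.Rl (nat_lit 15)) (nat_lit 4429) THn.T.n (nat_lit 9) (nat_lit 3)
  [((nat_lit 3882), [nat_lit 5, nat_lit 0, nat_lit 1, nat_lit 2, nat_lit 3, nat_lit 4, nat_lit 8, nat_lit 1, nat_lit 2, nat_lit 3, nat_lit 4, nat_lit 7, nat_lit 2, nat_lit 3, nat_lit 0, nat_lit 1], [nat_lit 17, nat_lit 24, nat_lit 0, nat_lit 37, nat_lit 34, nat_lit 11, nat_lit 27], (nat_lit 15571)), ((nat_lit 3880), [nat_lit 8, nat_lit 5, nat_lit 4, nat_lit 8, nat_lit 3, nat_lit 2, nat_lit 3, nat_lit 1], [nat_lit 5, nat_lit 14, nat_lit 32, nat_lit 18, nat_lit 26], (nat_lit 485))] (nat_lit 0) m9_3_1) = 0 := by decide +kernel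
theorem e9_3_2 : reachX THn.T (nat_lit 3338560899173737337) (S9.map Prod.snd) [nat_lit 0, nat_lit 1, nat_lit 2, nat_lit 0, nat_lit 2, nat_lit 1, nat_lit 0, nat_lit 2, nat_lit 2, nat_lit 0, nat_lit 2] m9_3_1 = m9_3_2 := by decide +kernel
theorem e9_4_1 : dt.run q (fun c => c.edges (SP THn.T THn.Rl (nat_lit 15)) (nat_lit 4429) THn.T.n (nat_lit 9) (nat_lit 4)
  [((nat_lit 3589), [nat_lit 5, nat_lit 8], [nat_lit 14, nat_lit 15, nat_lit 0, nat_lit 27, nat_lit 16, nat_lit 27], (nat_lit 13)), ((nat_lit 3596), [nat_lit 8, nat_lit 4, nat_lit 8, nat_lit 1, nat_lit 2, nat_lit 3, nat_lit 0, nat_lit 1], [nat_lit 26, nat_lit 24, nat_lit 11, nat_lit 26], (nat_lit 382)), ((nat_lit 3884), [nat_lit 8, nat_lit 1, nat_lit 2, nat_lit 3, nat_lit 4, nat_lit 3, nat_lit 2, nat_lit 3, nat_lit 1], [nat_lit 24, nat_lit 2, nat_lit 0, nat_lit 27, nat_lit 18, nat_lit 26], (nat_lit 759)),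 ((nat_lit 3888), [nat_lit 8, nat_lit 8, nat_lit 0, nat_lit 1, nat_lit 2, nat_lit 3, nat_lit 4, nat_lit 7, nat_lit 3, nat_lit 2, nat_lit 3, nat_lit 0, nat_lit 1], [nat_lit 24, nat_lit 1, nat_lit 37, nat_lit 15, nat_lit 11, nat_lit 26], (nat_lit 5183)), ((nat_lit 3886), [nat_lit 7, nat_lit 5, nat_lit 4, nat_lit 8, nat_lit 2, nat_lit 3, nat_lit 4, nat_lit 7, nat_lit 2, nat_lit 3, nat_lit 4, nat_lit 2, nat_lit 3, nat_lit 1], [nat_lit 26, nat_lit 2, nat_lit 37, nat_lit 37, nat_lit 16], (nat_lit 9988)), ((nat_lit 3893), [nat_lit 5, nat_lit 8, nat_lit 4, nat_lit 3, nat_lit 2, nat_lit 3, nat_lit 4, nat_lit 8, nat_lit 4, nat_lit 3, nat_lit 2, nat_lit 3, nat_lit 1], [nat_lit 25, nat_lit 14, nat_lit 0, nat_lit 34, nat_lit 37], (nat_lit 5948)), ((nat_lit 3891), [nat_lit 4, nat_lit 8, nat_lit 8, nat_lit 3, nat_lit 4, nat_lit 8, nat_lit 2, nat_lit 3, nat_lit 4, nat_lit 8,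 nat_lit 3, nat_lit 2, nat_lit 3, nat_lit 1], [nat_lit 24, nat_lit 15, nat_lit 0, nat_lit 34, nat_lit 27], (nat_lit 9397))] (nat_lit 0) m9_4_1) = 0 := by decide +kernel
theorem e9_4_2 : reachX THn.T (nat_lit 3527770521791090812) (S9.map Prod.snd) [nat_lit 0, nat_lit 2, nat_lit 1, nat_lit 0, nat_lit 2, nat_lit 1, nat_lit 0, nat_lit 2, nat_lit 2, nat_lit 0] m9_4_1 = m9_4_2 := by decide +kernel
theorem e9_5_1 : dt.run q (fun c => c.edges (SP THn.T THn.Rl (nat_lit 15)) (nat_lit 4429) THn.T.n (nat_lit 9) (nat_lit 5)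
  [((nat_lit 3586), [], [], (nat_lit 0)), ((nat_lit 3591), [nat_lit 6, nat_lit 7], [nat_lit 24, nat_lit 0, nat_lit 32, nat_lit 32, nat_lit 27], (nat_lit 14)), ((nat_lit 3598), [nat_lit 8, nat_lit 1, nat_lit 2, nat_lit 3, nat_lit 4, nat_lit 7, nat_lit 3, nat_lit 2, nat_lit 3, nat_lit 1], [nat_lit 33, nat_lit 11, nat_lit 16], (nat_lit 1370)), ((nat_lit 3600), [nat_lit 8, nat_lit 5, nat_lit 4, nat_lit 8, nat_lit 1, nat_lit 2, nat_lit 3, nat_lit 4, nat_lit 7, nat_lit 2, nat_lit 3, nat_lit 1], [nat_lit 32, nat_lit 24, nat_lit 11], (nat_lit 4429)), ((nat_lit 3602), [nat_lit 4, nat_lit 7, nat_lit 4, nat_lit 3, nat_lit 1, nat_lit 2, nat_lit 3, nat_lit 4, nat_lit 7, nat_lit 4, nat_lit 2, nat_lit 3, nat_lit 1], [nat_lit 25, nat_lit 1, nat_lit 34, nat_lit 15, nat_lit 11, nat_lit 26], (nat_lit 6802)), ((nat_lit 3604), [nat_lit 6, nat_lit 8, nat_lit 4, nat_lit 8, nat_lit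 1, nat_lit 2, nat_lit 3, nat_lit 0, nat_lit 1], [nat_lit 10, nat_lit 10, nat_lit 0, nat_lit 37, nat_lit 24, nat_lit 26], (nat_lit 628)), ((nat_lit 3606), [nat_lit 4, nat_lit 7, nat_lit 1, nat_lit 2, nat_lit 3, nat_lit 4, nat_lit 8, nat_lit 1, nat_lit 2, nat_lit 3, nat_lit 0, nat_lit 1], [nat_lit 16, nat_lit 5, nat_lit 0, nat_lit 15, nat_lit 15, nat_lit 15], (nat_lit 2987)), ((nat_lit 3608), [nat_lit 7, nat_lit 4, nat_lit 8, nat_lit 3, nat_lit 4, nat_lit 7, nat_lit 3, nat_lit 4, nat_lit 1, nat_lit 2, nat_lit 3, nat_lit 0, nat_lit 1], [nat_lit 16, nat_lit 2, nat_lit 35, nat_lit 36, nat_lit 26], (nat_lit 4729)), ((nat_lit 3610), [nat_lit 4, nat_lit 7, nat_lit 1, nat_lit 2, nat_lit 3, nat_lit 4, nat_lit 1, nat_lit 2, nat_lit 3, nat_lit 0, nat_lit 1], [nat_lit 10, nat_lit 10, nat_lit 0, nat_lit 36, nat_lit 32, nat_lit 27], (nat_lit 1722)), ((nat_lit 3612), [nat_lit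 8, nat_lit 3, nat_lit 1, nat_lit 2, nat_lit 3, nat_lit 4, nat_lit 7, nat_lit 3, nat_lit 4, nat_lit 3, nat_lit 2, nat_lit 3, nat_lit 1], [nat_lit 1, nat_lit 5, nat_lit 17, nat_lit 37, nat_lit 11], (nat_lit 5894)), ((nat_lit 3614), [nat_lit 7, nat_lit 2, nat_lit 3, nat_lit 4, nat_lit 7, nat_lit 5, nat_lit 2, nat_lit 3, nat_lit 4, nat_lit 8, nat_lit 2, nat_lit 3, nat_lit 0, nat_lit 1], [nat_lit 26, nat_lit 2, nat_lit 0, nat_lit 37, nat_lit 34, nat_lit 11, nat_lit 27], (nat_lit 8442)), ((nat_lit 3616), [nat_lit 5, nat_lit 1, nat_lit 2, nat_lit 3, nat_lit 4, nat_lit 8, nat_lit 3, nat_lit 4, nat_lit 3, nat_lit 2, nat_lit 3, nat_lit 1], [nat_lit 24, nat_lit 15, nat_lit 0, nat_lit 24, nat_lit 15, nat_lit 26], (nat_lit 3734)), ((nat_lit 3618), [nat_lit 3, nat_lit 1, nat_lit 2, nat_lit 3, nat_lit 4, nat_lit 7, nat_lit 3, nat_lit 4, nat_lit 8, nat_lit 3, nat_lit 1, nat_lit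 2, nat_lit 3, nat_lit 0, nat_lit 1], [nat_lit 25, nat_lit 14, nat_lit 0, nat_lit 34, nat_lit 32, nat_lit 27], (nat_lit 10966)), ((nat_lit 3795), [nat_lit 8, nat_lit 6, nat_lit 2, nat_lit 3, nat_lit 1, nat_lit 2, nat_lit 3, nat_lit 4, nat_lit 7, nat_lit 4, nat_lit 3, nat_lit 2, nat_lit 3, nat_lit 1], [nat_lit 0, nat_lit 2, nat_lit 15, nat_lit 15, nat_lit 15, nat_lit 27], (nat_lit 9151)), ((nat_lit 3729), [nat_lit 7, nat_lit 4, nat_lit 8, nat_lit 4, nat_lit 1, nat_lit 2, nat_lit 3, nat_lit 0, nat_lit 1], [nat_lit 36, nat_lit 32, nat_lit 11], (nat_lit 613)), ((nat_lit 3721), [nat_lit 4, nat_lit 8, nat_lit 4, nat_lit 8, nat_lit 0, nat_lit 1, nat_lit 2, nat_lit 3, nat_lit 4, nat_lit 8, nat_lit 2, nat_lit 3, nat_lit 1], [nat_lit 26, nat_lit 2, nat_lit 34, nat_lit 34, nat_lit 11], (nat_lit 6845)), ((nat_lit 3709), [nat_lit 7, nat_lit 6, nat_lit 1, nat_lit 2, nat_lit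 3, nat_lit 4, nat_lit 7, nat_lit 2, nat_lit 3, nat_lit 4, nat_lit 8, nat_lit 2, nat_lit 3, nat_lit 1], [nat_lit 5, nat_lit 0, nat_lit 34, nat_lit 24, nat_lit 26], (nat_lit 10547)), ((nat_lit 3663), [nat_lit 3, nat_lit 4, nat_lit 8, nat_lit 4, nat_lit 3, nat_lit 2, nat_lit 3, nat_lit 4, nat_lit 8, nat_lit 2, nat_lit 3, nat_lit 4, nat_lit 2, nat_lit 3, nat_lit 1], [nat_lit 1, nat_lit 1, nat_lit 35, nat_lit 16, nat_lit 16, nat_lit 27], (nat_lit 13747)), ((nat_lit 3781), [nat_lit 4, nat_lit 8, nat_lit 5, nat_lit 2, nat_lit 3, nat_lit 2, nat_lit 3, nat_lit 4, nat_lit 7, nat_lit 3, nat_lit 4, nat_lit 2, nat_lit 3, nat_lit 1], [nat_lit 16, nat_lit 0, nat_lit 16, nat_lit 37], (nat_lit 10218)), ((nat_lit 3725), [nat_lit 6, nat_lit 8, nat_lit 4, nat_lit 8, nat_lit 3, nat_lit 2, nat_lit 3, nat_lit 1], [nat_lit 18, nat_lit 15, nat_lit 0, nat_lit 34, nat_lit 34, nat_lit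 15, nat_lit 26], (nat_lit 488)), ((nat_lit 3731), [nat_lit 5, nat_lit 7, nat_lit 3, nat_lit 4, nat_lit 8, nat_lit 3, nat_lit 2, nat_lit 3, nat_lit 1], [nat_lit 26, nat_lit 2, nat_lit 0, nat_lit 17, nat_lit 15, nat_lit 11, nat_lit 26], (nat_lit 809)), ((nat_lit 3767), [nat_lit 3, nat_lit 2, nat_lit 3, nat_lit 4, nat_lit 8, nat_lit 2, nat_lit 3, nat_lit 4, nat_lit 8, nat_lit 3, nat_lit 2, nat_lit 3, nat_lit 1], [nat_lit 24, nat_lit 16, nat_lit 0, nat_lit 24, nat_lit 36, nat_lit 16, nat_lit 27], (nat_lit 6139)), ((nat_lit 3691), [nat_lit 3, nat_lit 4, nat_lit 8, nat_lit 8, nat_lit 2, nat_lit 3, nat_lit 4, nat_lit 7, nat_lit 2, nat_lit 3, nat_lit 0, nat_lit 1], [nat_lit 11, nat_lit 2, nat_lit 0, nat_lit 34, nat_lit 32, nat_lit 27], (nat_lit 3598)), ((nat_lit 3711), [nat_lit 4, nat_lit 3, nat_lit 0, nat_lit 1, nat_lit 2, nat_lit 3, nat_lit 4, nat_lit 7, nat_lit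 4, nat_lit 7, nat_lit 3, nat_lit 4, nat_lit 3, nat_lit 2, nat_lit 3, nat_lit 1], [nat_lit 16, nat_lit 2, nat_lit 33, nat_lit 11, nat_lit 16], (nat_lit 15972)), ((nat_lit 3793), [nat_lit 5, nat_lit 4, nat_lit 7, nat_lit 3, nat_lit 4, nat_lit 7, nat_lit 2, nat_lit 3, nat_lit 4, nat_lit 2, nat_lit 3, nat_lit 1], [nat_lit 5, nat_lit 16, nat_lit 16, nat_lit 26], (nat_lit 4115)), ((nat_lit 3685), [nat_lit 2, nat_lit 3, nat_lit 4, nat_lit 7, nat_lit 3, nat_lit 4, nat_lit 1, nat_lit 2, nat_lit 3, nat_lit 0, nat_lit 1], [nat_lit 1, nat_lit 14, nat_lit 37, nat_lit 17, nat_lit 11, nat_lit 26], (nat_lit 1750)), ((nat_lit 3679), [nat_lit 5, nat_lit 4, nat_lit 8, nat_lit 4, nat_lit 1, nat_lit 2, nat_lit 3, nat_lit 0, nat_lit 1], [nat_lit 27, nat_lit 17], (nat_lit 611)), ((nat_lit 3779), [nat_lit 8, nat_lit 5, nat_lit 4, nat_lit 8, nat_lit 4, nat_lit 1, nat_lit 2, nat_lit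 3, nat_lit 0, nat_lit 1], [nat_lit 15, nat_lit 5, nat_lit 27, nat_lit 16, nat_lit 26], (nat_lit 1038)), ((nat_lit 3737), [nat_lit 5, nat_lit 7, nat_lit 2, nat_lit 3, nat_lit 4, nat_lit 7, nat_lit 2, nat_lit 3, nat_lit 1], [nat_lit 25, nat_lit 0, nat_lit 18, nat_lit 15, nat_lit 26], (nat_lit 931)), ((nat_lit 3785), [nat_lit 4, nat_lit 8, nat_lit 2, nat_lit 3, nat_lit 4, nat_lit 7, nat_lit 6, nat_lit 2, nat_lit 3, nat_lit 4, nat_lit 7, nat_lit 4, nat_lit 2, nat_lit 3, nat_lit 1], [nat_lit 24, nat_lit 15, nat_lit 0, nat_lit 36, nat_lit 33, nat_lit 24, nat_lit 27], (nat_lit 14249)), ((nat_lit 3743), [nat_lit 4, nat_lit 8, nat_lit 4, nat_lit 3, nat_lit 2, nat_lit 3, nat_lit 4, nat_lit 8, nat_lit 2, nat_lit 3, nat_lit 4, nat_lit 2, nat_lit 3, nat_lit 1], [nat_lit 1, nat_lit 5, nat_lit 35, nat_lit 36, nat_lit 11, nat_lit 27], (nat_lit 9859)), ((nat_lit 3703), [nat_lit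 8, nat_lit 6, nat_lit 4, nat_lit 8, nat_lit 3, nat_lit 4, nat_lit 8, nat_lit 2, nat_lit 3, nat_lit 4, nat_lit 8, nat_lit 3, nat_lit 2, nat_lit 3, nat_lit 1], [nat_lit 5, nat_lit 2, nat_lit 0, nat_lit 36, nat_lit 33, nat_lit 27], (nat_lit 13259)), ((nat_lit 3773), [nat_lit 7, nat_lit 4, nat_lit 8, nat_lit 1, nat_lit 2, nat_lit 3, nat_lit 4, nat_lit 8, nat_lit 3, nat_lit 2, nat_lit 3, nat_lit 1], [nat_lit 10, nat_lit 10, nat_lit 0, nat_lit 17, nat_lit 37, nat_lit 26], (nat_lit 3855)), ((nat_lit 3671), [nat_lit 6, nat_lit 3, nat_lit 0, nat_lit 1, nat_lit 2, nat_lit 3, nat_lit 4, nat_lit 7, nat_lit 3, nat_lit 4, nat_lit 3, nat_lit 2, nat_lit 3, nat_lit 0, nat_lit 1], [nat_lit 25, nat_lit 1, nat_lit 35, nat_lit 36], (nat_lit 11274)), ((nat_lit 3749), [nat_lit 7, nat_lit 2, nat_lit 3, nat_lit 4, nat_lit 8, nat_lit 2, nat_lit 3, nat_lit 4, nat_lit 8, nat_lit 2, nat_lit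 3, nat_lit 0, nat_lit 1], [nat_lit 24, nat_lit 2, nat_lit 26, nat_lit 15, nat_lit 26], (nat_lit 5539)), ((nat_lit 3723), [nat_lit 8, nat_lit 8, nat_lit 4, nat_lit 7, nat_lit 1, nat_lit 2, nat_lit 3, nat_lit 4, nat_lit 7, nat_lit 2, nat_lit 3, nat_lit 0, nat_lit 1], [nat_lit 1, nat_lit 14, nat_lit 35, nat_lit 35, nat_lit 11, nat_lit 27], (nat_lit 5623)), ((nat_lit 3649), [nat_lit 2, nat_lit 3, nat_lit 4, nat_lit 7, nat_lit 1, nat_lit 2, nat_lit 3, nat_lit 4, nat_lit 7, nat_lit 4, nat_lit 2, nat_lit 3, nat_lit 0, nat_lit 1], [nat_lit 24, nat_lit 2, nat_lit 0, nat_lit 37, nat_lit 25, nat_lit 27], (nat_lit 8335)), ((nat_lit 3681), [nat_lit 4, nat_lit 7, nat_lit 6, nat_lit 3, nat_lit 2, nat_lit 3, nat_lit 4, nat_lit 8, nat_lit 3, nat_lit 2, nat_lit 3, nat_lit 0, nat_lit 1], [nat_lit 0, nat_lit 2, nat_lit 24, nat_lit 15], (nat_lit 5128)), ((nat_lit 3659), [nat_lit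 8, nat_lit 1, nat_lit 2, nat_lit 3, nat_lit 4, nat_lit 7, nat_lit 3, nat_lit 4, nat_lit 3, nat_lit 2, nat_lit 3, nat_lit 1], [nat_lit 10, nat_lit 10, nat_lit 0, nat_lit 35, nat_lit 11], (nat_lit 3751)), ((nat_lit 3695), [nat_lit 4, nat_lit 7, nat_lit 4, nat_lit 7, nat_lit 2, nat_lit 3, nat_lit 4, nat_lit 7, nat_lit 4, nat_lit 1, nat_lit 2, nat_lit 3, nat_lit 0, nat_lit 1], [nat_lit 1, nat_lit 24, nat_lit 0, nat_lit 17, nat_lit 17, nat_lit 11], (nat_lit 7424)), ((nat_lit 3633), [nat_lit 8, nat_lit 5, nat_lit 4, nat_lit 8, nat_lit 1, nat_lit 2, nat_lit 3, nat_lit 4, nat_lit 7, nat_lit 1, nat_lit 2, nat_lit 3, nat_lit 0, nat_lit 1], [nat_lit 1, nat_lit 1, nat_lit 36, nat_lit 15, nat_lit 27], (nat_lit 7506)), ((nat_lit 3643), [nat_lit 6, nat_lit 8, nat_lit 4, nat_lit 8, nat_lit 1, nat_lit 2, nat_lit 3, nat_lit 4, nat_lit 2, nat_lit 3, nat_lit 1], [nat_lit 25, nat_lit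 14, nat_lit 0, nat_lit 27, nat_lit 36, nat_lit 26], (nat_lit 2443)), ((nat_lit 3739), [nat_lit 3, nat_lit 2, nat_lit 3, nat_lit 0, nat_lit 1, nat_lit 2, nat_lit 3, nat_lit 4, nat_lit 8, nat_lit 4, nat_lit 3, nat_lit 2, nat_lit 3, nat_lit 1], [nat_lit 14, nat_lit 15, nat_lit 0, nat_lit 36, nat_lit 36, nat_lit 17, nat_lit 27], (nat_lit 9044)), ((nat_lit 3655), [nat_lit 5, nat_lit 3, nat_lit 4, nat_lit 8, nat_lit 1, nat_lit 2, nat_lit 3, nat_lit 4, nat_lit 3, nat_lit 1, nat_lit 2, nat_lit 3, nat_lit 0, nat_lit 1], [nat_lit 2, nat_lit 0, nat_lit 26, nat_lit 16, nat_lit 11, nat_lit 27], (nat_lit 7218)), ((nat_lit 3791), [nat_lit 5, nat_lit 2, nat_lit 3, nat_lit 4, nat_lit 7, nat_lit 2, nat_lit 3, nat_lit 4, nat_lit 3, nat_lit 2, nat_lit 3, nat_lit 0, nat_lit 1], [nat_lit 2, nat_lit 33, nat_lit 25, nat_lit 26], (nat_lit 4998)), ((nat_lit 3735), [nat_lit 7, nat_lit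 2, nat_lit 3, nat_lit 4, nat_lit 7, nat_lit 5, nat_lit 2, nat_lit 3, nat_lit 4, nat_lit 7, nat_lit 2, nat_lit 3, nat_lit 0, nat_lit 1], [nat_lit 1, nat_lit 24, nat_lit 0, nat_lit 34, nat_lit 37, nat_lit 11, nat_lit 26], (nat_lit 8610)), ((nat_lit 3693), [nat_lit 7, nat_lit 2, nat_lit 3, nat_lit 4, nat_lit 8, nat_lit 6, nat_lit 2, nat_lit 3, nat_lit 4, nat_lit 8, nat_lit 2, nat_lit 3, nat_lit 0, nat_lit 1], [nat_lit 5, nat_lit 2, nat_lit 37, nat_lit 17], (nat_lit 8429)), ((nat_lit 3697), [nat_lit 6, nat_lit 7, nat_lit 3, nat_lit 0, nat_lit 1, nat_lit 2, nat_lit 3, nat_lit 4, nat_lit 7, nat_lit 1, nat_lit 2, nat_lit 3, nat_lit 0, nat_lit 1], [nat_lit 1, nat_lit 33, nat_lit 11, nat_lit 26], (nat_lit 7486)), ((nat_lit 3777), [nat_lit 2, nat_lit 3, nat_lit 0, nat_lit 1, nat_lit 2, nat_lit 3, nat_lit 4, nat_lit 7, nat_lit 2, nat_lit 3, nat_lit 4, nat_lit 8, nat_lit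 2, nat_lit 3, nat_lit 1], [nat_lit 0, nat_lit 17, nat_lit 11, nat_lit 17, nat_lit 27], (nat_lit 14385)), ((nat_lit 3733), [nat_lit 7, nat_lit 5, nat_lit 1, nat_lit 2, nat_lit 3, nat_lit 4, nat_lit 7, nat_lit 2, nat_lit 3, nat_lit 4, nat_lit 8, nat_lit 2, nat_lit 3, nat_lit 0, nat_lit 1], [nat_lit 25, nat_lit 16, nat_lit 0, nat_lit 11, nat_lit 37, nat_lit 26], (nat_lit 12166)), ((nat_lit 3673), [nat_lit 7, nat_lit 4, nat_lit 8, nat_lit 3, nat_lit 4, nat_lit 7, nat_lit 1, nat_lit 2, nat_lit 3, nat_lit 4, nat_lit 2, nat_lit 3, nat_lit 1], [nat_lit 25, nat_lit 0, nat_lit 35, nat_lit 32, nat_lit 27], (nat_lit 6415)), ((nat_lit 3803), [nat_lit 3, nat_lit 4, nat_lit 7, nat_lit 5, nat_lit 1, nat_lit 2, nat_lit 3, nat_lit 4, nat_lit 7, nat_lit 3, nat_lit 2, nat_lit 3, nat_lit 0, nat_lit 1], [nat_lit 17, nat_lit 2, nat_lit 0, nat_lit 36, nat_lit 17, nat_lit 27], (nat_lit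 7953)), ((nat_lit 3653), [nat_lit 7, nat_lit 2, nat_lit 3, nat_lit 4, nat_lit 7, nat_lit 2, nat_lit 3, nat_lit 4, nat_lit 8, nat_lit 3, nat_lit 2, nat_lit 3, nat_lit 1], [nat_lit 5, nat_lit 0, nat_lit 18, nat_lit 35, nat_lit 15, nat_lit 26], (nat_lit 6156)), ((nat_lit 3727), [nat_lit 8, nat_lit 3, nat_lit 4, nat_lit 7, nat_lit 2, nat_lit 3, nat_lit 4, nat_lit 7, nat_lit 4, nat_lit 2, nat_lit 3, nat_lit 1], [nat_lit 24, nat_lit 16, nat_lit 0, nat_lit 25, nat_lit 18], (nat_lit 4280)), ((nat_lit 3641), [nat_lit 6, nat_lit 7, nat_lit 3, nat_lit 0, nat_lit 1, nat_lit 2, nat_lit 3, nat_lit 4, nat_lit 7, nat_lit 3, nat_lit 2, nat_lit 3, nat_lit 0, nat_lit 1], [nat_lit 14, nat_lit 15, nat_lit 0, nat_lit 37], (nat_lit 7913)), ((nat_lit 3687), [nat_lit 4, nat_lit 7, nat_lit 3, nat_lit 4, nat_lit 3, nat_lit 1, nat_lit 2, nat_lit 3, nat_lit 0, nat_lit 1], [nat_lit 5, nat_lit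 2, nat_lit 25, nat_lit 18, nat_lit 18], (nat_lit 972)), ((nat_lit 3713), [nat_lit 7, nat_lit 5, nat_lit 3, nat_lit 2, nat_lit 3, nat_lit 4, nat_lit 8, nat_lit 3, nat_lit 2, nat_lit 3, nat_lit 1], [nat_lit 24, nat_lit 1, nat_lit 18, nat_lit 26], (nat_lit 2323)), ((nat_lit 3637), [nat_lit 8, nat_lit 4, nat_lit 7, nat_lit 3, nat_lit 4, nat_lit 8, nat_lit 8, nat_lit 1, nat_lit 2, nat_lit 3, nat_lit 4, nat_lit 8, nat_lit 3, nat_lit 2, nat_lit 3, nat_lit 1], [nat_lit 11, nat_lit 2, nat_lit 0, nat_lit 33, nat_lit 24, nat_lit 11, nat_lit 26], (nat_lit 16256)), ((nat_lit 3741), [nat_lit 7, nat_lit 2, nat_lit 3, nat_lit 4, nat_lit 7, nat_lit 0, nat_lit 1, nat_lit 2, nat_lit 3, nat_lit 4, nat_lit 8, nat_lit 2, nat_lit 3, nat_lit 1], [nat_lit 24, nat_lit 0, nat_lit 26, nat_lit 34, nat_lit 32, nat_lit 27], (nat_lit 10406)), ((nat_lit 3719), [nat_lit 7, nat_lit 4, nat_lit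 3, nat_lit 0, nat_lit 1, nat_lit 2, nat_lit 3, nat_lit 4, nat_lit 7, nat_lit 2, nat_lit 3, nat_lit 4, nat_lit 2, nat_lit 3, nat_lit 1], [nat_lit 15, nat_lit 0, nat_lit 27, nat_lit 36, nat_lit 11, nat_lit 26], (nat_lit 13808)), ((nat_lit 3783), [nat_lit 6, nat_lit 7, nat_lit 4, nat_lit 8, nat_lit 2, nat_lit 3, nat_lit 4, nat_lit 7, nat_lit 2, nat_lit 3, nat_lit 1], [nat_lit 10, nat_lit 0, nat_lit 24, nat_lit 18, nat_lit 16, nat_lit 27], (nat_lit 2715)), ((nat_lit 3657), [nat_lit 8, nat_lit 8, nat_lit 4, nat_lit 7, nat_lit 0, nat_lit 1, nat_lit 2, nat_lit 3, nat_lit 4, nat_lit 2, nat_lit 3, nat_lit 0, nat_lit 1], [nat_lit 25, nat_lit 14, nat_lit 0, nat_lit 35, nat_lit 17, nat_lit 16], (nat_lit 5276)), ((nat_lit 3623), [nat_lit 4, nat_lit 7, nat_lit 1, nat_lit 2, nat_lit 3, nat_lit 4, nat_lit 7, nat_lit 1, nat_lit 2, nat_lit 3, nat_lit 0, nat_lit 1], [nat_lit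 17, nat_lit 24, nat_lit 0, nat_lit 25, nat_lit 37, nat_lit 11, nat_lit 27], (nat_lit 3056)), ((nat_lit 3635), [nat_lit 3, nat_lit 2, nat_lit 3, nat_lit 4, nat_lit 8, nat_lit 2, nat_lit 3, nat_lit 4, nat_lit 8, nat_lit 2, nat_lit 3, nat_lit 4, nat_lit 8, nat_lit 2, nat_lit 3, nat_lit 1], [nat_lit 25, nat_lit 0, nat_lit 32, nat_lit 35, nat_lit 27], (nat_lit 16722)), ((nat_lit 3705), [nat_lit 6, nat_lit 7, nat_lit 2, nat_lit 3, nat_lit 4, nat_lit 8, nat_lit 1, nat_lit 2, nat_lit 3, nat_lit 4, nat_lit 8, nat_lit 3, nat_lit 2, nat_lit 3, nat_lit 1], [nat_lit 1, nat_lit 11, nat_lit 37], (nat_lit 13199)), ((nat_lit 3753), [nat_lit 8, nat_lit 6, nat_lit 4, nat_lit 8, nat_lit 3, nat_lit 4, nat_lit 8, nat_lit 2, nat_lit 3, nat_lit 4, nat_lit 7, nat_lit 2, nat_lit 3, nat_lit 1], [nat_lit 16, nat_lit 5, nat_lit 0, nat_lit 26, nat_lit 24, nat_lit 11, nat_lit 27], (nat_lit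 10795)), ((nat_lit 3717), [nat_lit 7, nat_lit 4, nat_lit 8, nat_lit 3, nat_lit 4, nat_lit 8, nat_lit 1, nat_lit 2, nat_lit 3, nat_lit 0, nat_lit 1], [nat_lit 5, nat_lit 16, nat_lit 2, nat_lit 26, nat_lit 34, nat_lit 11], (nat_lit 1808)), ((nat_lit 3667), [nat_lit 6, nat_lit 3, nat_lit 4, nat_lit 2, nat_lit 3, nat_lit 1, nat_lit 2, nat_lit 3, nat_lit 4, nat_lit 7, nat_lit 4, nat_lit 3, nat_lit 2, nat_lit 3, nat_lit 1], [nat_lit 14, nat_lit 0, nat_lit 33, nat_lit 33], (nat_lit 12962)), ((nat_lit 3631), [nat_lit 7, nat_lit 4, nat_lit 7, nat_lit 7, nat_lit 2, nat_lit 3, nat_lit 1, nat_lit 2, nat_lit 3, nat_lit 4, nat_lit 8, nat_lit 3, nat_lit 4, nat_lit 2, nat_lit 3, nat_lit 1], [nat_lit 10, nat_lit 0, nat_lit 34, nat_lit 25, nat_lit 26], (nat_lit 16593)), ((nat_lit 3763), [nat_lit 6, nat_lit 3, nat_lit 4, nat_lit 7, nat_lit 2, nat_lit 3, nat_lit 4, nat_lit 8,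 nat_lit 4, nat_lit 2, nat_lit 3, nat_lit 0, nat_lit 1], [nat_lit 14, nat_lit 0, nat_lit 32, nat_lit 24, nat_lit 11, nat_lit 27], (nat_lit 5451)), ((nat_lit 3787), [nat_lit 5, nat_lit 3, nat_lit 4, nat_lit 8, nat_lit 0, nat_lit 1, nat_lit 2, nat_lit 3, nat_lit 4, nat_lit 3, nat_lit 2, nat_lit 3, nat_lit 0, nat_lit 1], [nat_lit 5, nat_lit 37, nat_lit 17, nat_lit 27], (nat_lit 7551)), ((nat_lit 3755), [nat_lit 8, nat_lit 6, nat_lit 3, nat_lit 2, nat_lit 3, nat_lit 4, nat_lit 7, nat_lit 3, nat_lit 1, nat_lit 2, nat_lit 3, nat_lit 4, nat_lit 3, nat_lit 2, nat_lit 3, nat_lit 1], [nat_lit 24, nat_lit 15, nat_lit 0, nat_lit 26, nat_lit 17, nat_lit 15, nat_lit 27], (nat_lit 15755)), ((nat_lit 3669), [nat_lit 4, nat_lit 8, nat_lit 0, nat_lit 1, nat_lit 2, nat_lit 3, nat_lit 4, nat_lit 7, nat_lit 3, nat_lit 2, nat_lit 3, nat_lit 1], [nat_lit 2, nat_lit 37, nat_lit 15,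 nat_lit 11, nat_lit 26], (nat_lit 3918)), ((nat_lit 3701), [nat_lit 7, nat_lit 4, nat_lit 7, nat_lit 6, nat_lit 3, nat_lit 4, nat_lit 7, nat_lit 4, nat_lit 1, nat_lit 2, nat_lit 3, nat_lit 0, nat_lit 1], [nat_lit 24, nat_lit 15, nat_lit 0, nat_lit 32, nat_lit 27], (nat_lit 4777)), ((nat_lit 3789), [nat_lit 6, nat_lit 4, nat_lit 8, nat_lit 2, nat_lit 3, nat_lit 4, nat_lit 7, nat_lit 2, nat_lit 3, nat_lit 4, nat_lit 7, nat_lit 3, nat_lit 2, nat_lit 3, nat_lit 1], [nat_lit 11, nat_lit 2, nat_lit 0, nat_lit 16, nat_lit 17, nat_lit 15, nat_lit 27], (nat_lit 13556)), ((nat_lit 3677), [nat_lit 4, nat_lit 7, nat_lit 4, nat_lit 7, nat_lit 3, nat_lit 4, nat_lit 7, nat_lit 1, nat_lit 2, nat_lit 3, nat_lit 4, nat_lit 7, nat_lit 2, nat_lit 3, nat_lit 1], [nat_lit 0, nat_lit 32, nat_lit 35, nat_lit 26], (nat_lit 14575)), ((nat_lit 3799), [nat_lit 3, nat_lit 4, nat_lit 8,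 nat_lit 2, nat_lit 3, nat_lit 4, nat_lit 7, nat_lit 4, nat_lit 3, nat_lit 2, nat_lit 3, nat_lit 1], [nat_lit 25, nat_lit 0, nat_lit 37, nat_lit 16, nat_lit 27], (nat_lit 3815)), ((nat_lit 3645), [nat_lit 8, nat_lit 4, nat_lit 8, nat_lit 0, nat_lit 1, nat_lit 2, nat_lit 3, nat_lit 4, nat_lit 7, nat_lit 2, nat_lit 3, nat_lit 1], [nat_lit 10, nat_lit 0, nat_lit 34, nat_lit 15, nat_lit 11], (nat_lit 4408)), ((nat_lit 3639), [nat_lit 8, nat_lit 5, nat_lit 4, nat_lit 8, nat_lit 2, nat_lit 3, nat_lit 1, nat_lit 2, nat_lit 3, nat_lit 4, nat_lit 8, nat_lit 3, nat_lit 2, nat_lit 3, nat_lit 1], [nat_lit 1, nat_lit 24, nat_lit 17, nat_lit 11], (nat_lit 13129)), ((nat_lit 3805), [nat_lit 6, nat_lit 4, nat_lit 7, nat_lit 4, nat_lit 7, nat_lit 3, nat_lit 4, nat_lit 7, nat_lit 1, nat_lit 2, nat_lit 3, nat_lit 0, nat_lit 1], [nat_lit 14, nat_lit 17, nat_lit 37, nat_lit 27],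 (nat_lit 4915)), ((nat_lit 3675), [nat_lit 3, nat_lit 4, nat_lit 7, nat_lit 0, nat_lit 1, nat_lit 2, nat_lit 3, nat_lit 4, nat_lit 8, nat_lit 2, nat_lit 3, nat_lit 0, nat_lit 1], [nat_lit 24, nat_lit 0, nat_lit 37, nat_lit 37, nat_lit 11, nat_lit 26], (nat_lit 5477)), ((nat_lit 3665), [nat_lit 7, nat_lit 6, nat_lit 3, nat_lit 2, nat_lit 3, nat_lit 4, nat_lit 8, nat_lit 3, nat_lit 2, nat_lit 3, nat_lit 1], [nat_lit 5, nat_lit 2, nat_lit 0, nat_lit 32, nat_lit 34, nat_lit 11, nat_lit 27], (nat_lit 2321)), ((nat_lit 3775), [nat_lit 8, nat_lit 8, nat_lit 0, nat_lit 1, nat_lit 2, nat_lit 3, nat_lit 4, nat_lit 8, nat_lit 3, nat_lit 2, nat_lit 3, nat_lit 0, nat_lit 1], [nat_lit 5, nat_lit 16, nat_lit 2, nat_lit 18, nat_lit 16, nat_lit 26], (nat_lit 5099)), ((nat_lit 3683), [nat_lit 7, nat_lit 5, nat_lit 3, nat_lit 2, nat_lit 3, nat_lit 1, nat_lit 2, nat_lit 3, nat_lit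 4, nat_lit 8, nat_lit 3, nat_lit 4, nat_lit 2, nat_lit 3, nat_lit 1], [nat_lit 15, nat_lit 2, nat_lit 17, nat_lit 25, nat_lit 15], (nat_lit 13956)), ((nat_lit 3761), [nat_lit 5, nat_lit 7, nat_lit 3, nat_lit 4, nat_lit 7, nat_lit 1, nat_lit 2, nat_lit 3, nat_lit 4, nat_lit 2, nat_lit 3, nat_lit 0, nat_lit 1], [nat_lit 26, nat_lit 2, nat_lit 0, nat_lit 17, nat_lit 34, nat_lit 11, nat_lit 27], (nat_lit 5308)), ((nat_lit 3629), [nat_lit 5, nat_lit 3, nat_lit 4, nat_lit 8, nat_lit 4, nat_lit 3, nat_lit 1, nat_lit 2, nat_lit 3, nat_lit 0, nat_lit 1], [nat_lit 26, nat_lit 2, nat_lit 25, nat_lit 16, nat_lit 27], (nat_lit 1670)), ((nat_lit 3689), [nat_lit 5, nat_lit 7, nat_lit 1, nat_lit 2, nat_lit 3, nat_lit 0, nat_lit 1, nat_lit 2, nat_lit 3, nat_lit 4, nat_lit 7, nat_lit 3, nat_lit 2, nat_lit 3, nat_lit 1], [nat_lit 24, nat_lit 0, nat_lit 11, nat_lit 37, nat_lit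 26], (nat_lit 13312)), ((nat_lit 3769), [nat_lit 5, nat_lit 4, nat_lit 7, nat_lit 3, nat_lit 4, nat_lit 7, nat_lit 3, nat_lit 2, nat_lit 3, nat_lit 1], [nat_lit 11, nat_lit 5, nat_lit 2, nat_lit 25, nat_lit 18, nat_lit 18], (nat_lit 1393)), ((nat_lit 3647), [nat_lit 8, nat_lit 2, nat_lit 3, nat_lit 4, nat_lit 7, nat_lit 5, nat_lit 1, nat_lit 2, nat_lit 3, nat_lit 4, nat_lit 8, nat_lit 2, nat_lit 3, nat_lit 1], [nat_lit 18, nat_lit 15, nat_lit 0, nat_lit 32, nat_lit 24, nat_lit 11], (nat_lit 10425)), ((nat_lit 3757), [nat_lit 4, nat_lit 8, nat_lit 3, nat_lit 4, nat_lit 8, nat_lit 1, nat_lit 2, nat_lit 3, nat_lit 4, nat_lit 8, nat_lit 3, nat_lit 2, nat_lit 3, nat_lit 1], [nat_lit 25, nat_lit 2, nat_lit 0, nat_lit 15, nat_lit 26], (nat_lit 9324))] (nat_lit 0) m9_5_1) = 0 := by decide +kernel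
theorem e9_5_2 : dt.run q (fun c => c.edges (SP THn.T THn.Rl (nat_lit 15)) (nat_lit 4429) THn.T.n (nat_lit 9) (nat_lit 5)
  [((nat_lit 3751), [nat_lit 6, nat_lit 7, nat_lit 4, nat_lit 7, nat_lit 0, nat_lit 1, nat_lit 2, nat_lit 3, nat_lit 4, nat_lit 8, nat_lit 3, nat_lit 2, nat_lit 3, nat_lit 1], [nat_lit 1, nat_lit 24, nat_lit 0, nat_lit 18, nat_lit 15, nat_lit 27], (nat_lit 9254)), ((nat_lit 3765), [nat_lit 8, nat_lit 5, nat_lit 3, nat_lit 4, nat_lit 7, nat_lit 3, nat_lit 2, nat_lit 3, nat_lit 4, nat_lit 7, nat_lit 3, nat_lit 2, nat_lit 3, nat_lit 1], [nat_lit 16, nat_lit 0, nat_lit 25, nat_lit 18, nat_lit 18], (nat_lit 9602)), ((nat_lit 3627), [nat_lit 4, nat_lit 7, nat_lit 4, nat_lit 7, nat_lit 3, nat_lit 1, nat_lit 2, nat_lit 3, nat_lit 0, nat_lit 1], [nat_lit 24, nat_lit 0, nat_lit 36, nat_lit 17], (nat_lit 1007)), ((nat_lit 3807), [nat_lit 2, nat_lit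 3, nat_lit 4, nat_lit 7, nat_lit 5, nat_lit 1, nat_lit 2, nat_lit 3, nat_lit 4, nat_lit 8, nat_lit 2, nat_lit 3, nat_lit 0, nat_lit 1], [nat_lit 15, nat_lit 0, nat_lit 27, nat_lit 17, nat_lit 26], (nat_lit 8393)), ((nat_lit 3625), [nat_lit 8, nat_lit 4, nat_lit 7, nat_lit 3, nat_lit 2, nat_lit 3, nat_lit 1], [nat_lit 26, nat_lit 2, nat_lit 0, nat_lit 16, nat_lit 27], (nat_lit 304)), ((nat_lit 3771), [nat_lit 5, nat_lit 8, nat_lit 4, nat_lit 7, nat_lit 3, nat_lit 1, nat_lit 2, nat_lit 3, nat_lit 0, nat_lit 1], [nat_lit 17, nat_lit 2, nat_lit 0, nat_lit 26, nat_lit 24, nat_lit 26], (nat_lit 1005)), ((nat_lit 3661), [nat_lit 5, nat_lit 8, nat_lit 3, nat_lit 4, nat_lit 8, nat_lit 0, nat_lit 1, nat_lit 2, nat_lit 3, nat_lit 4, nat_lit 7, nat_lit 2, nat_lit 3, nat_lit 0, nat_lit 1], [nat_lit 24, nat_lit 1, nat_lit 26, nat_lit 34], (nat_lit 12219)), ((nat_lit 3651),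 [nat_lit 3, nat_lit 4, nat_lit 7, nat_lit 3, nat_lit 0, nat_lit 1, nat_lit 2, nat_lit 3, nat_lit 4, nat_lit 7, nat_lit 3, nat_lit 4, nat_lit 2, nat_lit 3, nat_lit 1], [nat_lit 1, nat_lit 14, nat_lit 32, nat_lit 18, nat_lit 26], (nat_lit 14102)), ((nat_lit 3745), [nat_lit 5, nat_lit 8, nat_lit 4, nat_lit 8, nat_lit 3, nat_lit 4, nat_lit 8, nat_lit 1, nat_lit 2, nat_lit 3, nat_lit 0, nat_lit 1], [nat_lit 24, nat_lit 15, nat_lit 0, nat_lit 26, nat_lit 17, nat_lit 15, nat_lit 26], (nat_lit 3018)), ((nat_lit 3747), [nat_lit 3, nat_lit 4, nat_lit 7, nat_lit 2, nat_lit 3, nat_lit 4, nat_lit 7, nat_lit 4, nat_lit 3, nat_lit 2, nat_lit 3, nat_lit 1], [nat_lit 25, nat_lit 16, nat_lit 0, nat_lit 37, nat_lit 18, nat_lit 15, nat_lit 26], (nat_lit 3816)), ((nat_lit 3801), [nat_lit 4, nat_lit 8, nat_lit 3, nat_lit 2, nat_lit 3, nat_lit 4, nat_lit 7, nat_lit 4, nat_lit 3,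 nat_lit 2, nat_lit 3, nat_lit 1], [nat_lit 25, nat_lit 0, nat_lit 34, nat_lit 24, nat_lit 17, nat_lit 27], (nat_lit 3813)), ((nat_lit 3699), [nat_lit 8, nat_lit 8, nat_lit 4, nat_lit 7, nat_lit 2, nat_lit 3, nat_lit 0, nat_lit 1], [nat_lit 1, nat_lit 24, nat_lit 0, nat_lit 18, nat_lit 16, nat_lit 27], (nat_lit 448)), ((nat_lit 3797), [nat_lit 4, nat_lit 3, nat_lit 2, nat_lit 3, nat_lit 4, nat_lit 8, nat_lit 4, nat_lit 8, nat_lit 3, nat_lit 4, nat_lit 3, nat_lit 2, nat_lit 3, nat_lit 1], [nat_lit 11, nat_lit 2, nat_lit 0, nat_lit 35, nat_lit 15], (nat_lit 8983)), ((nat_lit 3715), [nat_lit 3, nat_lit 4, nat_lit 7, nat_lit 2, nat_lit 3, nat_lit 4, nat_lit 8, nat_lit 2, nat_lit 3, nat_lit 4, nat_lit 3, nat_lit 2, nat_lit 3, nat_lit 1], [nat_lit 5, nat_lit 2, nat_lit 18, nat_lit 35, nat_lit 26], (nat_lit 8891)), ((nat_lit 3707), [nat_lit 6, nat_lit 4, nat_lit 7,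 nat_lit 1, nat_lit 2, nat_lit 3, nat_lit 4, nat_lit 8, nat_lit 4, nat_lit 1, nat_lit 2, nat_lit 3, nat_lit 0, nat_lit 1], [nat_lit 5, nat_lit 16, nat_lit 2, nat_lit 26, nat_lit 34, nat_lit 27], (nat_lit 7406)), ((nat_lit 3759), [nat_lit 8, nat_lit 5, nat_lit 4, nat_lit 7, nat_lit 0, nat_lit 1, nat_lit 2, nat_lit 3, nat_lit 4, nat_lit 8, nat_lit 2, nat_lit 3, nat_lit 1], [nat_lit 11, nat_lit 5, nat_lit 2, nat_lit 37, nat_lit 37, nat_lit 11, nat_lit 27], (nat_lit 6862))] m9_5_1 m9_5_2) = 0 := by decide +kernel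
theorem e9_5_3 : reachX THn.T (nat_lit 1502327720722191525) (S9.map Prod.snd) [nat_lit 0, nat_lit 1, nat_lit 2, nat_lit 1, nat_lit 0, nat_lit 2, nat_lit 0, nat_lit 2, nat_lit 0, nat_lit 2, nat_lit 2] m9_5_2 = m9_5_3 := by decide +kernel
theorem e9_6_1 : dt.run q (fun c => c.edges (SP THn.T THn.Rl (nat_lit 15)) (nat_lit 4429) THn.T.n (nat_lit 9) (nat_lit 6)
  [((nat_lit 3845), [nat_lit 4, nat_lit 7, nat_lit 4, nat_lit 3, nat_lit 2, nat_lit 3, nat_lit 4, nat_lit 8, nat_lit 3, nat_lit 4, nat_lit 2, nat_lit 3, nat_lit 1], [nat_lit 1, nat_lit 25, nat_lit 37, nat_lit 17, nat_lit 27], (nat_lit 6626)), ((nat_lit 3855), [nat_lit 8, nat_lit 8, nat_lit 4, nat_lit 2, nat_lit 3, nat_lit 1, nat_lit 2, nat_lit 3, nat_lit 4, nat_lit 8, nat_lit 4, nat_lit 2, nat_lit 3, nat_lit 1], [nat_lit 10, nat_lit 0, nat_lit 32, nat_lit 24, nat_lit 27], (nat_lit 10301)), ((nat_lit 3833),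 [nat_lit 6, nat_lit 7, nat_lit 4, nat_lit 7, nat_lit 1, nat_lit 2, nat_lit 3, nat_lit 0, nat_lit 1], [nat_lit 26, nat_lit 2, nat_lit 18, nat_lit 18, nat_lit 26], (nat_lit 642)), ((nat_lit 3827), [nat_lit 5, nat_lit 4, nat_lit 7, nat_lit 3, nat_lit 4, nat_lit 2, nat_lit 3, nat_lit 1], [nat_lit 17, nat_lit 2, nat_lit 0, nat_lit 35, nat_lit 32, nat_lit 26], (nat_lit 521)), ((nat_lit 3847), [nat_lit 7, nat_lit 7, nat_lit 4, nat_lit 8, nat_lit 2, nat_lit 3, nat_lit 4, nat_lit 8, nat_lit 2, nat_lit 3, nat_lit 4, nat_lit 2, nat_lit 3, nat_lit 1], [nat_lit 15, nat_lit 0, nat_lit 25, nat_lit 37, nat_lit 17], (nat_lit 9892)), ((nat_lit 3815), [nat_lit 8, nat_lit 4, nat_lit 8, nat_lit 3, nat_lit 0, nat_lit 1, nat_lit 2, nat_lit 3, nat_lit 4, nat_lit 7, nat_lit 3, nat_lit 2, nat_lit 3, nat_lit 1], [nat_lit 1, nat_lit 1, nat_lit 24, nat_lit 24, nat_lit 11, nat_lit 27],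 (nat_lit 9462)), ((nat_lit 3849), [nat_lit 3, nat_lit 4, nat_lit 7, nat_lit 4, nat_lit 7, nat_lit 3, nat_lit 0, nat_lit 1, nat_lit 2, nat_lit 3, nat_lit 4, nat_lit 3, nat_lit 2, nat_lit 3, nat_lit 0, nat_lit 1], [nat_lit 25, nat_lit 1, nat_lit 35, nat_lit 35, nat_lit 11], (nat_lit 14783)), ((nat_lit 3821), [nat_lit 5, nat_lit 8, nat_lit 1, nat_lit 2, nat_lit 3, nat_lit 4, nat_lit 7, nat_lit 3, nat_lit 4, nat_lit 1, nat_lit 2, nat_lit 3, nat_lit 0, nat_lit 1], [nat_lit 15, nat_lit 1, nat_lit 26, nat_lit 24], (nat_lit 7388)), ((nat_lit 3831), [nat_lit 4, nat_lit 7, nat_lit 4, nat_lit 7, nat_lit 2, nat_lit 3, nat_lit 4, nat_lit 8, nat_lit 1, nat_lit 2, nat_lit 3, nat_lit 4, nat_lit 2, nat_lit 3, nat_lit 0, nat_lit 1], [nat_lit 24, nat_lit 16, nat_lit 0, nat_lit 17, nat_lit 17, nat_lit 11, nat_lit 27], (nat_lit 15272)), ((nat_lit 3813), [nat_lit 6, nat_lit 7, nat_lit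 4, nat_lit 8, nat_lit 2, nat_lit 3, nat_lit 4, nat_lit 8, nat_lit 1, nat_lit 2, nat_lit 3, nat_lit 4, nat_lit 3, nat_lit 2, nat_lit 3, nat_lit 1], [nat_lit 5, nat_lit 2, nat_lit 0, nat_lit 18, nat_lit 36, nat_lit 26], (nat_lit 15789)), ((nat_lit 3837), [nat_lit 3, nat_lit 4, nat_lit 7, nat_lit 1, nat_lit 2, nat_lit 3, nat_lit 4, nat_lit 2, nat_lit 3, nat_lit 1], [nat_lit 11, nat_lit 2, nat_lit 0, nat_lit 15, nat_lit 11, nat_lit 27], (nat_lit 1409)), ((nat_lit 3819), [nat_lit 3, nat_lit 2, nat_lit 3, nat_lit 4, nat_lit 8, nat_lit 4, nat_lit 1, nat_lit 2, nat_lit 3, nat_lit 0, nat_lit 1], [nat_lit 26, nat_lit 24, nat_lit 0, nat_lit 34, nat_lit 11, nat_lit 27], (nat_lit 1764)), ((nat_lit 3809), [nat_lit 4, nat_lit 8, nat_lit 5, nat_lit 3, nat_lit 0, nat_lit 1, nat_lit 2, nat_lit 3, nat_lit 4, nat_lit 7, nat_lit 3, nat_lit 4, nat_lit 3, nat_lit 2, nat_lit 3, nat_lit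 1], [nat_lit 24, nat_lit 1, nat_lit 35, nat_lit 33], (nat_lit 15914)), ((nat_lit 3853), [nat_lit 8, nat_lit 4, nat_lit 7, nat_lit 2, nat_lit 3, nat_lit 4, nat_lit 7, nat_lit 4, nat_lit 1, nat_lit 2, nat_lit 3, nat_lit 0, nat_lit 1], [nat_lit 24, nat_lit 2, nat_lit 0, nat_lit 24, nat_lit 35, nat_lit 26], (nat_lit 4775)), ((nat_lit 3851), [nat_lit 0, nat_lit 1, nat_lit 2, nat_lit 3, nat_lit 4, nat_lit 7, nat_lit 1, nat_lit 2, nat_lit 3, nat_lit 4, nat_lit 7, nat_lit 4, nat_lit 3, nat_lit 2, nat_lit 3, nat_lit 1], [nat_lit 5, nat_lit 2, nat_lit 0, nat_lit 11, nat_lit 36, nat_lit 27], (nat_lit 16096)), ((nat_lit 3811), [nat_lit 8, nat_lit 1, nat_lit 2, nat_lit 3, nat_lit 4, nat_lit 7, nat_lit 2, nat_lit 3, nat_lit 0, nat_lit 1], [nat_lit 24, nat_lit 16, nat_lit 0, nat_lit 33, nat_lit 15, nat_lit 11, nat_lit 27], (nat_lit 1242)), ((nat_lit 3829), [nat_lit 3, nat_lit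 4, nat_lit 2, nat_lit 3, nat_lit 1, nat_lit 2, nat_lit 3, nat_lit 4, nat_lit 8, nat_lit 4, nat_lit 8, nat_lit 4, nat_lit 3, nat_lit 2, nat_lit 3, nat_lit 1], [nat_lit 5, nat_lit 14, nat_lit 16, nat_lit 17, nat_lit 15, nat_lit 27], (nat_lit 16017)), ((nat_lit 3835), [nat_lit 5, nat_lit 0, nat_lit 1, nat_lit 2, nat_lit 3, nat_lit 4, nat_lit 8, nat_lit 1, nat_lit 2, nat_lit 3, nat_lit 4, nat_lit 2, nat_lit 3, nat_lit 0, nat_lit 1], [nat_lit 24, nat_lit 1, nat_lit 35, nat_lit 35], (nat_lit 11710)), ((nat_lit 3843), [nat_lit 4, nat_lit 8, nat_lit 0, nat_lit 1, nat_lit 2, nat_lit 3, nat_lit 4, nat_lit 7, nat_lit 3, nat_lit 4, nat_lit 2, nat_lit 3, nat_lit 1], [nat_lit 2, nat_lit 37, nat_lit 11], (nat_lit 6657)), ((nat_lit 3825), [nat_lit 3, nat_lit 4, nat_lit 8, nat_lit 2, nat_lit 3, nat_lit 4, nat_lit 8, nat_lit 2, nat_lit 3, nat_lit 4, nat_lit 8, nat_lit 3, nat_lit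 2, nat_lit 3, nat_lit 0, nat_lit 1], [nat_lit 11, nat_lit 5, nat_lit 2, nat_lit 36, nat_lit 25, nat_lit 11, nat_lit 27], (nat_lit 15061)), ((nat_lit 3839), [nat_lit 7, nat_lit 5, nat_lit 2, nat_lit 3, nat_lit 4, nat_lit 8, nat_lit 1, nat_lit 2, nat_lit 3, nat_lit 4, nat_lit 2, nat_lit 3, nat_lit 1], [nat_lit 25, nat_lit 2, nat_lit 0, nat_lit 17, nat_lit 11, nat_lit 17, nat_lit 27], (nat_lit 6378)), ((nat_lit 3823), [nat_lit 8, nat_lit 1, nat_lit 2, nat_lit 3, nat_lit 4, nat_lit 8, nat_lit 3, nat_lit 4, nat_lit 2, nat_lit 3, nat_lit 1], [nat_lit 10, nat_lit 10, nat_lit 0, nat_lit 18, nat_lit 16, nat_lit 27], (nat_lit 2496)), ((nat_lit 3857), [nat_lit 3, nat_lit 4, nat_lit 8, nat_lit 8, nat_lit 2, nat_lit 3, nat_lit 4, nat_lit 7, nat_lit 3, nat_lit 2, nat_lit 3, nat_lit 0, nat_lit 1], [nat_lit 17, nat_lit 2, nat_lit 0, nat_lit 32, nat_lit 18, nat_lit 15, nat_lit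 26], (nat_lit 5239)), ((nat_lit 3841), [nat_lit 7, nat_lit 5, nat_lit 0, nat_lit 1, nat_lit 2, nat_lit 3, nat_lit 4, nat_lit 8, nat_lit 2, nat_lit 3, nat_lit 0, nat_lit 1], [nat_lit 24, nat_lit 16, nat_lit 0, nat_lit 26, nat_lit 24, nat_lit 27], (nat_lit 3484)), ((nat_lit 3817), [nat_lit 5, nat_lit 7, nat_lit 2, nat_lit 3, nat_lit 4, nat_lit 7, nat_lit 3, nat_lit 0, nat_lit 1, nat_lit 2, nat_lit 3, nat_lit 4, nat_lit 3, nat_lit 2, nat_lit 3, nat_lit 1], [nat_lit 0, nat_lit 2, nat_lit 32, nat_lit 24], (nat_lit 15684))] (nat_lit 0) m9_6_1) = 0 := by decide +kernel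
theorem e9_6_2 : reachX THn.T (nat_lit 1647468255596814753) (S9.map Prod.snd) [nat_lit 0, nat_lit 1, nat_lit 2, nat_lit 1, nat_lit 0, nat_lit 2, nat_lit 0, nat_lit 2, nat_lit 2, nat_lit 0, nat_lit 2] m9_6_1 = m9_6_2 := by decide +kernel
theorem e9_8_1 : dt.run q (fun c => c.edges (SP THn.T THn.Rl (nat_lit 15)) (nat_lit 4429) THn.T.n (nat_lit 9) (nat_lit 8)
  [((nat_lit 3875), [nat_lit 3, nat_lit 1, nat_lit 2, nat_lit 3, nat_lit 4, nat_lit 7, nat_lit 4, nat_lit 2, nat_lit 3, nat_lit 1], [nat_lit 14, nat_lit 25, nat_lit 36, nat_lit 11, nat_lit 26], (nat_lit 1493)), ((nat_lit 3859), [nat_lit 6, nat_lit 8, nat_lit 3, nat_lit 4, nat_lit 8, nat_lit 3, nat_lit 4, nat_lit 1, nat_lit 2, nat_lit 3, nat_lit 0, nat_lit 1], [nat_lit 26, nat_lit 2, nat_lit 15, nat_lit 11, nat_lit 15], (nat_lit 2911)), ((nat_lit 3863), [nat_lit 4, nat_lit 8, nat_lit 8, nat_lit 4, nat_lit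 7, nat_lit 3, nat_lit 4, nat_lit 7, nat_lit 2, nat_lit 3, nat_lit 4, nat_lit 2, nat_lit 3, nat_lit 1], [nat_lit 25, nat_lit 2, nat_lit 0, nat_lit 17, nat_lit 33], (nat_lit 10015)), ((nat_lit 3861), [nat_lit 8, nat_lit 3, nat_lit 4, nat_lit 7, nat_lit 6, nat_lit 0, nat_lit 1, nat_lit 2, nat_lit 3, nat_lit 4, nat_lit 7, nat_lit 3, nat_lit 2, nat_lit 3, nat_lit 0, nat_lit 1], [nat_lit 26, nat_lit 2, nat_lit 0, nat_lit 35, nat_lit 27, nat_lit 15, nat_lit 26], (nat_lit 15101)), ((nat_lit 3871), [nat_lit 6, nat_lit 8, nat_lit 4, nat_lit 7, nat_lit 3, nat_lit 4, nat_lit 7, nat_lit 1, nat_lit 2, nat_lit 3, nat_lit 0, nat_lit 1], [nat_lit 14, nat_lit 16, nat_lit 16, nat_lit 26], (nat_lit 3094)), ((nat_lit 3873), [nat_lit 4, nat_lit 7, nat_lit 4, nat_lit 3, nat_lit 0, nat_lit 1, nat_lit 2, nat_lit 3, nat_lit 4, nat_lit 8, nat_lit 3, nat_lit 4, nat_lit 2, nat_lit 3, nat_lit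 1], [nat_lit 17, nat_lit 2, nat_lit 0, nat_lit 17, nat_lit 26], (nat_lit 13932)), ((nat_lit 3867), [nat_lit 7, nat_lit 7, nat_lit 2, nat_lit 3, nat_lit 2, nat_lit 3, nat_lit 4, nat_lit 7, nat_lit 3, nat_lit 4, nat_lit 2, nat_lit 3, nat_lit 1], [nat_lit 14, nat_lit 15, nat_lit 0, nat_lit 27, nat_lit 24, nat_lit 26], (nat_lit 6701)), ((nat_lit 3865), [nat_lit 5, nat_lit 4, nat_lit 8, nat_lit 2, nat_lit 3, nat_lit 0, nat_lit 1, nat_lit 2, nat_lit 3, nat_lit 4, nat_lit 3, nat_lit 2, nat_lit 3, nat_lit 1], [nat_lit 15, nat_lit 2, nat_lit 32, nat_lit 34, nat_lit 16, nat_lit 27], (nat_lit 8688)), ((nat_lit 3869), [nat_lit 5, nat_lit 1, nat_lit 2, nat_lit 3, nat_lit 4, nat_lit 8, nat_lit 4, nat_lit 3, nat_lit 2, nat_lit 3, nat_lit 1], [nat_lit 10, nat_lit 10, nat_lit 0, nat_lit 32, nat_lit 18, nat_lit 11], (nat_lit 2269))] (nat_lit 0) m9_8_1) = 0 := by decide +kernel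
theorem e9_8_2 : reachX THn.T (nat_lit 3525389641900012028) (S9.map Prod.snd) [nat_lit 0, nat_lit 1, nat_lit 2, nat_lit 0, nat_lit 2, nat_lit 1, nat_lit 0, nat_lit 2, nat_lit 0, nat_lit 2, nat_lit 2] m9_8_1 = m9_8_2 := by decide +kernel
theorem e9_9_1 : dt.run q (fun c => c.edges (SP THn.T THn.Rl (nat_lit 15)) (nat_lit 4429) THn.T.n (nat_lit 9) (nat_lit 9)
  [((nat_lit 3877), [nat_lit 2, nat_lit 3, nat_lit 4, nat_lit 8, nat_lit 3, nat_lit 0, nat_lit 1, nat_lit 2, nat_lit 3, nat_lit 4, nat_lit 7, nat_lit 4, nat_lit 3, nat_lit 2, nat_lit 3, nat_lit 1], [nat_lit 5, nat_lit 2, nat_lit 32, nat_lit 27, nat_lit 17, nat_lit 26], (nat_lit 16044)), ((nat_lit 3890), [nat_lit 2, nat_lit 3, nat_lit 4, nat_lit 7, nat_lit 6, nat_lit 1, nat_lit 2, nat_lit 3, nat_lit 4, nat_lit 7, nat_lit 2, nat_lit 3, nat_lit 0, nat_lit 1], [nat_lit 10, nat_lit 10, nat_lit 0, nat_lit 37, nat_lit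 11, nat_lit 15, nat_lit 26], (nat_lit 8556)), ((nat_lit 3895), [nat_lit 8, nat_lit 6, nat_lit 1, nat_lit 2, nat_lit 3, nat_lit 4, nat_lit 8, nat_lit 3, nat_lit 4, nat_lit 2, nat_lit 3, nat_lit 1], [nat_lit 5, nat_lit 25, nat_lit 11, nat_lit 26], (nat_lit 4131))] (nat_lit 0) m9_9_1) = 0 := by decide +kernel
theorem e9_9_2 : reachX THn.T (nat_lit 4253813910967348417) (S9.map Prod.snd) [nat_lit 0, nat_lit 1, nat_lit 2, nat_lit 1, nat_lit 0, nat_lit 2, nat_lit 0, nat_lit 2, nat_lit 0, nat_lit 2, nat_lit 2] m9_9_1 = m9_9_2 := by decide +kernel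
theorem e9_10_1 : dt.run q (fun c => c.edges (SP THn.T THn.Rl (nat_lit 15)) (nat_lit 4429) THn.T.n (nat_lit 9) (nat_lit 10)
  [((nat_lit 4376), [nat_lit 8, nat_lit 6, nat_lit 4, nat_lit 7, nat_lit 1, nat_lit 2, nat_lit 3, nat_lit 0, nat_lit 1], [nat_lit 10, nat_lit 10, nat_lit 0, nat_lit 35, nat_lit 27], (nat_lit 637)), ((nat_lit 4382), [nat_lit 7, nat_lit 7, nat_lit 4, nat_lit 7, nat_lit 0, nat_lit 1, nat_lit 2, nat_lit 3, nat_lit 4, nat_lit 2, nat_lit 3, nat_lit 1], [nat_lit 5, nat_lit 2, nat_lit 0, nat_lit 35, nat_lit 32, nat_lit 26], (nat_lit 4024)), ((nat_lit 3910), [nat_lit 8, nat_lit 5, nat_lit 4, nat_lit 8, nat_lit 1, nat_lit 2, nat_lit 3, nat_lit 4, nat_lit 2, nat_lit 3, nat_lit 1], [nat_lit 14, nat_lit 0, nat_lit 15, nat_lit 24, nat_lit 27], (nat_lit 2440)), ((nat_lit 4380), [nat_lit 8, nat_lit 5, nat_lit 1, nat_lit 2, nat_lit 3, nat_lit 4, nat_lit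 8, nat_lit 3, nat_lit 2, nat_lit 3, nat_lit 1], [nat_lit 11, nat_lit 5, nat_lit 2, nat_lit 32, nat_lit 24, nat_lit 26], (nat_lit 2313)), ((nat_lit 4378), [nat_lit 8, nat_lit 4, nat_lit 7, nat_lit 5, nat_lit 0, nat_lit 1, nat_lit 2, nat_lit 3, nat_lit 4, nat_lit 8, nat_lit 2, nat_lit 3, nat_lit 1], [nat_lit 35, nat_lit 15, nat_lit 26], (nat_lit 6839))] (nat_lit 0) m9_10_1) = 0 := by decide +kernel
theorem e9_10_2 : reachX THn.T (nat_lit 3999486949165934833) (S9.map Prod.snd) [nat_lit 0, nat_lit 1, nat_lit 2, nat_lit 1, nat_lit 2, nat_lit 0, nat_lit 2, nat_lit 2, nat_lit 0, nat_lit 2] m9_10_1 = m9_10_2 := by decide +kernel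
theorem pc9 : partChk THn.T.n (nat_lit 860) [(nat_lit 0), (nat_lit 0), m9_2_2, m9_3_2, m9_4_2, m9_5_3, m9_6_2, (nat_lit 0), m9_8_2, m9_9_2, m9_10_2] (nth [] aL (nat_lit 9)) = true ∧ nth 0 PL (nat_lit 9) = (nat_lit 9) := by decide +kernel
theorem st10c : dt.run q (fun c => sumL (c.sgen (nat_lit 4429) (nat_lit 10)) S10) = 0 := by decide +kernel
theorem e10_2_1 : dt.run q (fun c => c.edges (SP THn.T THn.Rl (nat_lit 15)) (nat_lit 4429) THn.T.n (nat_lit 10) (nat_lit 2)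
  [((nat_lit 3911), [nat_lit 8, nat_lit 2, nat_lit 3, nat_lit 4, nat_lit 7, nat_lit 3, nat_lit 4, nat_lit 8, nat_lit 1, nat_lit 2, nat_lit 3, nat_lit 0, nat_lit 1], [nat_lit 10, nat_lit 10, nat_lit 0, nat_lit 27, nat_lit 15, nat_lit 11], (nat_lit 4848))] (nat_lit 0) m10_2_1) = 0 := by decide +kernel
theorem e10_2_2 : reachX THn.T (nat_lit 1763735460981521991) (S10.map Prod.snd) [nat_lit 0, nat_lit 1, nat_lit 0, nat_lit 0, nat_lit 1, nat_lit 0, nat_lit 0, nat_lit 1, nat_lit 0, nat_lit 0, nat_lit 1] m10_2_1 = m10_2_2 := by decide +kernel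
theorem e10_3_1 : dt.run q (fun c => c.edges (SP THn.T THn.Rl (nat_lit 15)) (nat_lit 4429) THn.T.n (nat_lit 10) (nat_lit 3)
  [((nat_lit 3897), [], [], (nat_lit 0)), ((nat_lit 3919), [nat_lit 8, nat_lit 5, nat_lit 4, nat_lit 7, nat_lit 3, nat_lit 4, nat_lit 3, nat_lit 1, nat_lit 2, nat_lit 3, nat_lit 0, nat_lit 1], [nat_lit 32, nat_lit 36, nat_lit 16, nat_lit 27], (nat_lit 2789)), ((nat_lit 3921), [nat_lit 5, nat_lit 7, nat_lit 3, nat_lit 4, nat_lit 7, nat_lit 1, nat_lit 2, nat_lit 3, nat_lit 0, nat_lit 1], [nat_lit 35, nat_lit 17, nat_lit 16, nat_lit 26], (nat_lit 1077)), ((nat_lit 3923), [nat_lit 6, nat_lit 8, nat_lit 2, nat_lit 3, nat_lit 4, nat_lit 8, nat_lit 1, nat_lit 2, nat_lit 3, nat_lit 0, nat_lit 1], [nat_lit 10, nat_lit 10, nat_lit 0, nat_lit 15, nat_lit 32, nat_lit 27], (nat_lit 1798)), ((nat_lit 3925), [nat_lit 7, nat_lit 1, nat_lit 2, nat_lit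 3, nat_lit 4, nat_lit 8, nat_lit 2, nat_lit 3, nat_lit 4, nat_lit 8, nat_lit 2, nat_lit 3, nat_lit 0, nat_lit 1], [nat_lit 16, nat_lit 0, nat_lit 26, nat_lit 17, nat_lit 15, nat_lit 26], (nat_lit 8449)), ((nat_lit 4395), [nat_lit 7, nat_lit 7, nat_lit 4, nat_lit 7, nat_lit 0, nat_lit 1, nat_lit 2, nat_lit 3, nat_lit 4, nat_lit 7, nat_lit 3, nat_lit 2, nat_lit 3, nat_lit 1], [nat_lit 0, nat_lit 18, nat_lit 16, nat_lit 11, nat_lit 27], (nat_lit 9493))] (nat_lit 0) m10_3_1) = 0 := by decide +kernel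
theorem e10_3_2 : reachX THn.T (nat_lit 3130914541250135555) (S10.map Prod.snd) [nat_lit 0, nat_lit 1, nat_lit 0, nat_lit 1, nat_lit 0, nat_lit 1, nat_lit 0, nat_lit 1, nat_lit 0, nat_lit 1, nat_lit 0, nat_lit 0, nat_lit 1, nat_lit 0] m10_3_1 = m10_3_2 := by decide +kernel
theorem e10_4_1 : dt.run q (fun c => c.edges (SP THn.T THn.Rl (nat_lit 15)) (nat_lit 4429) THn.T.n (nat_lit 10) (nat_lit 4)
  [((nat_lit 3937), [nat_lit 3, nat_lit 2, nat_lit 3, nat_lit 4, nat_lit 7, nat_lit 1, nat_lit 2, nat_lit 3, nat_lit 0, nat_lit 1], [nat_lit 18, nat_lit 18, nat_lit 27], (nat_lit 1065)), ((nat_lit 3929), [nat_lit 5, nat_lit 8, nat_lit 3, nat_lit 4, nat_lit 1, nat_lit 2, nat_lit 3, nat_lit 0, nat_lit 1], [nat_lit 18, nat_lit 15, nat_lit 27], (nat_lit 605)), ((nat_lit 3935), [nat_lit 2, nat_lit 3, nat_lit 2, nat_lit 3, nat_lit 4, nat_lit 7, nat_lit 3, nat_lit 4, nat_lit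 8, nat_lit 4, nat_lit 3, nat_lit 2, nat_lit 3, nat_lit 1], [nat_lit 11, nat_lit 5, nat_lit 2, nat_lit 25, nat_lit 18, nat_lit 18], (nat_lit 9117)), ((nat_lit 3933), [nat_lit 7, nat_lit 7, nat_lit 2, nat_lit 3, nat_lit 2, nat_lit 3, nat_lit 4, nat_lit 8, nat_lit 3, nat_lit 4, nat_lit 2, nat_lit 3, nat_lit 1], [nat_lit 11, nat_lit 2, nat_lit 0, nat_lit 16, nat_lit 37], (nat_lit 6622)), ((nat_lit 3927), [nat_lit 8, nat_lit 5, nat_lit 4, nat_lit 7, nat_lit 4, nat_lit 3], [nat_lit 5, nat_lit 36, nat_lit 16, nat_lit 11, nat_lit 27], (nat_lit 220)), ((nat_lit 3931), [nat_lit 7, nat_lit 4, nat_lit 8, nat_lit 4, nat_lit 3], [nat_lit 10, nat_lit 10, nat_lit 0, nat_lit 34, nat_lit 37, nat_lit 27], (nat_lit 112)), ((nat_lit 3939), [nat_lit 2, nat_lit 3, nat_lit 4, nat_lit 7, nat_lit 5, nat_lit 2, nat_lit 3, nat_lit 4, nat_lit 7, nat_lit 2, nat_lit 3, nat_lit 4, nat_lit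 7, nat_lit 2, nat_lit 3, nat_lit 1], [nat_lit 5, nat_lit 2, nat_lit 16, nat_lit 24], (nat_lit 16824))] (nat_lit 0) m10_4_1) = 0 := by decide +kernel
theorem e10_4_2 : reachX THn.T (nat_lit 412185912818260769) (S10.map Prod.snd) [nat_lit 0, nat_lit 1, nat_lit 0, nat_lit 1, nat_lit 0, nat_lit 1, nat_lit 0, nat_lit 1, nat_lit 0, nat_lit 1, nat_lit 0, nat_lit 0, nat_lit 1, nat_lit 0] m10_4_1 = m10_4_2 := by decide +kernel
theorem e10_5_1 : dt.run q (fun c => c.edges (SP THn.T THn.Rl (nat_lit 15)) (nat_lit 4429) THn.T.n (nat_lit 10) (nat_lit 5)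
  [((nat_lit 3899), [nat_lit 5, nat_lit 8], [nat_lit 10, nat_lit 10, nat_lit 0, nat_lit 17, nat_lit 17, nat_lit 15, nat_lit 27], (nat_lit 13)), ((nat_lit 3901), [nat_lit 8], [nat_lit 33, nat_lit 11, nat_lit 16, nat_lit 26], (nat_lit 3)), ((nat_lit 3903), [nat_lit 6, nat_lit 8], [nat_lit 2, nat_lit 0, nat_lit 34, nat_lit 34], (nat_lit 12)), ((nat_lit 4059), [nat_lit 4, nat_lit 7, nat_lit 7, nat_lit 2, nat_lit 3, nat_lit 4, nat_lit 7, nat_lit 1, nat_lit 2, nat_lit 3, nat_lit 0, nat_lit 1], [nat_lit 16, nat_lit 0, nat_lit 37, nat_lit 37, nat_lit 27], (nat_lit 3076)), ((nat_lit 4125), [nat_lit 0, nat_lit 1, nat_lit 2, nat_lit 3, nat_lit 4, nat_lit 7, nat_lit 3, nat_lit 2, nat_lit 3, nat_lit 1], [nat_lit 5, nat_lit 2, nat_lit 34, nat_lit 17, nat_lit 33, nat_lit 27], (nat_lit 1366)), ((nat_lit 4023), [nat_lit 7, nat_lit 3, nat_lit 0, nat_lit 1, nat_lit 2, nat_lit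 3, nat_lit 4, nat_lit 3, nat_lit 2, nat_lit 3, nat_lit 1], [nat_lit 25, nat_lit 15, nat_lit 11, nat_lit 27], (nat_lit 2194)), ((nat_lit 4237), [nat_lit 5, nat_lit 7, nat_lit 2, nat_lit 3, nat_lit 4, nat_lit 7, nat_lit 6, nat_lit 2, nat_lit 3, nat_lit 4, nat_lit 7, nat_lit 2, nat_lit 3, nat_lit 1], [nat_lit 11, nat_lit 5, nat_lit 2, nat_lit 25, nat_lit 18, nat_lit 16, nat_lit 27], (nat_lit 10749)), ((nat_lit 4073), [nat_lit 4, nat_lit 3, nat_lit 1], [nat_lit 15, nat_lit 1, nat_lit 17, nat_lit 17], (nat_lit 20)), ((nat_lit 4249), [nat_lit 5, nat_lit 8, nat_lit 1, nat_lit 2, nat_lit 3, nat_lit 4, nat_lit 2, nat_lit 3, nat_lit 1], [nat_lit 25, nat_lit 2, nat_lit 0, nat_lit 24, nat_lit 36, nat_lit 26], (nat_lit 831)), ((nat_lit 4161), [nat_lit 8, nat_lit 6, nat_lit 1, nat_lit 2, nat_lit 3, nat_lit 4, nat_lit 8, nat_lit 2, nat_lit 3, nat_lit 4, nat_lit 8, nat_lit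 2, nat_lit 3, nat_lit 1], [nat_lit 15, nat_lit 0, nat_lit 27, nat_lit 15], (nat_lit 10501)), ((nat_lit 4269), [nat_lit 1, nat_lit 2, nat_lit 3, nat_lit 4, nat_lit 8, nat_lit 4, nat_lit 8, nat_lit 3, nat_lit 2, nat_lit 3, nat_lit 0, nat_lit 1], [nat_lit 25, nat_lit 0, nat_lit 27, nat_lit 15, nat_lit 11, nat_lit 27], (nat_lit 3273)), ((nat_lit 3951), [nat_lit 7, nat_lit 4, nat_lit 3], [nat_lit 10, nat_lit 10, nat_lit 0, nat_lit 15, nat_lit 15, nat_lit 11], (nat_lit 28)), ((nat_lit 4197), [nat_lit 4, nat_lit 7, nat_lit 0, nat_lit 1, nat_lit 2, nat_lit 3, nat_lit 4, nat_lit 7, nat_lit 4, nat_lit 3, nat_lit 1, nat_lit 2, nat_lit 3, nat_lit 0, nat_lit 1], [nat_lit 5, nat_lit 0, nat_lit 24, nat_lit 17, nat_lit 11, nat_lit 26], (nat_lit 10937)), ((nat_lit 4163), [nat_lit 6, nat_lit 4, nat_lit 8, nat_lit 2, nat_lit 3, nat_lit 4, nat_lit 8, nat_lit 1, nat_lit 2, nat_lit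 3, nat_lit 4, nat_lit 8, nat_lit 4, nat_lit 2, nat_lit 3, nat_lit 1], [nat_lit 1, nat_lit 5, nat_lit 36, nat_lit 32, nat_lit 11, nat_lit 27], (nat_lit 16649)), ((nat_lit 4069), [nat_lit 8, nat_lit 1, nat_lit 2, nat_lit 3, nat_lit 4, nat_lit 8, nat_lit 0, nat_lit 1, nat_lit 2, nat_lit 3, nat_lit 4, nat_lit 2, nat_lit 3, nat_lit 1], [nat_lit 1, nat_lit 5, nat_lit 17, nat_lit 27], (nat_lit 9689)), ((nat_lit 4199), [nat_lit 3, nat_lit 4, nat_lit 8, nat_lit 4, nat_lit 8, nat_lit 2, nat_lit 3, nat_lit 4, nat_lit 8, nat_lit 3, nat_lit 2, nat_lit 3, nat_lit 1], [nat_lit 18, nat_lit 15, nat_lit 0, nat_lit 15, nat_lit 32, nat_lit 11], (nat_lit 6149)), ((nat_lit 4009), [nat_lit 8, nat_lit 3, nat_lit 4, nat_lit 7, nat_lit 5, nat_lit 1, nat_lit 2, nat_lit 3, nat_lit 4, nat_lit 8, nat_lit 3, nat_lit 2, nat_lit 3, nat_lit 1], [nat_lit 27, nat_lit 36], (nat_lit 9318)), ((nat_lit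 4025), [nat_lit 6, nat_lit 7, nat_lit 3, nat_lit 2, nat_lit 3, nat_lit 4, nat_lit 8, nat_lit 3, nat_lit 4, nat_lit 2, nat_lit 3, nat_lit 1], [nat_lit 14, nat_lit 15, nat_lit 0, nat_lit 32, nat_lit 24], (nat_lit 4155)), ((nat_lit 4093), [nat_lit 1, nat_lit 2, nat_lit 3, nat_lit 0, nat_lit 1, nat_lit 2, nat_lit 3, nat_lit 4, nat_lit 3, nat_lit 2, nat_lit 3, nat_lit 1], [nat_lit 25, nat_lit 1, nat_lit 16, nat_lit 37, nat_lit 27], (nat_lit 3630)), ((nat_lit 4225), [nat_lit 5, nat_lit 8, nat_lit 3, nat_lit 4, nat_lit 3, nat_lit 2, nat_lit 3, nat_lit 0, nat_lit 1], [nat_lit 10, nat_lit 0, nat_lit 15, nat_lit 32, nat_lit 15, nat_lit 27], (nat_lit 651)), ((nat_lit 4183), [nat_lit 7, nat_lit 3, nat_lit 4, nat_lit 7, nat_lit 3, nat_lit 4, nat_lit 8, nat_lit 2, nat_lit 3, nat_lit 4, nat_lit 2, nat_lit 3, nat_lit 1], [nat_lit 18, nat_lit 15, nat_lit 0, nat_lit 16, nat_lit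 24, nat_lit 27], (nat_lit 6483)), ((nat_lit 4119), [nat_lit 8, nat_lit 3, nat_lit 2, nat_lit 3, nat_lit 4, nat_lit 0, nat_lit 1, nat_lit 2, nat_lit 3, nat_lit 2, nat_lit 3, nat_lit 4, nat_lit 8, nat_lit 4, nat_lit 3, nat_lit 1], [nat_lit 14, nat_lit 15, nat_lit 32, nat_lit 15], (nat_lit 16835)), ((nat_lit 4089), [nat_lit 7, nat_lit 4, nat_lit 8, nat_lit 2, nat_lit 3, nat_lit 4, nat_lit 8, nat_lit 1, nat_lit 2, nat_lit 3, nat_lit 0, nat_lit 1], [nat_lit 14, nat_lit 0, nat_lit 24, nat_lit 24, nat_lit 11, nat_lit 26], (nat_lit 3002)), ((nat_lit 4231), [nat_lit 5, nat_lit 3, nat_lit 4, nat_lit 7, nat_lit 2, nat_lit 3, nat_lit 4, nat_lit 3, nat_lit 2, nat_lit 3, nat_lit 0, nat_lit 1], [nat_lit 24, nat_lit 0, nat_lit 24, nat_lit 18, nat_lit 18, nat_lit 27], (nat_lit 3152)), ((nat_lit 4001), [nat_lit 3, nat_lit 4, nat_lit 7, nat_lit 4, nat_lit 3, nat_lit 2, nat_lit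 3, nat_lit 4, nat_lit 7, nat_lit 3, nat_lit 4, nat_lit 2, nat_lit 3, nat_lit 1], [nat_lit 24, nat_lit 15, nat_lit 0, nat_lit 16, nat_lit 27], (nat_lit 10227)), ((nat_lit 3945), [nat_lit 8, nat_lit 8, nat_lit 1, nat_lit 2, nat_lit 3, nat_lit 4, nat_lit 8, nat_lit 1, nat_lit 2, nat_lit 3, nat_lit 4, nat_lit 2, nat_lit 3, nat_lit 0, nat_lit 1], [nat_lit 1, nat_lit 14, nat_lit 15, nat_lit 35], (nat_lit 11718)), ((nat_lit 4239), [nat_lit 3, nat_lit 0, nat_lit 1, nat_lit 2, nat_lit 3, nat_lit 4, nat_lit 8, nat_lit 4, nat_lit 2, nat_lit 3, nat_lit 1], [nat_lit 24, nat_lit 16, nat_lit 0, nat_lit 36, nat_lit 11], (nat_lit 2541)), ((nat_lit 3963), [nat_lit 8, nat_lit 2, nat_lit 3, nat_lit 1, nat_lit 2, nat_lit 3, nat_lit 0, nat_lit 1], [nat_lit 2, nat_lit 24, nat_lit 17, nat_lit 11, nat_lit 26], (nat_lit 359)), ((nat_lit 3943), [nat_lit 6, nat_lit 3, nat_lit 1, nat_lit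 2, nat_lit 3, nat_lit 4, nat_lit 7, nat_lit 0, nat_lit 1, nat_lit 2, nat_lit 3, nat_lit 4, nat_lit 2, nat_lit 3, nat_lit 1], [nat_lit 5, nat_lit 0, nat_lit 37, nat_lit 37, nat_lit 16, nat_lit 26], (nat_lit 13611)), ((nat_lit 4145), [nat_lit 2, nat_lit 3, nat_lit 4, nat_lit 8, nat_lit 1, nat_lit 2, nat_lit 3, nat_lit 0, nat_lit 1], [nat_lit 15, nat_lit 2, nat_lit 11, nat_lit 37, nat_lit 27], (nat_lit 619)), ((nat_lit 4115), [nat_lit 3, nat_lit 2, nat_lit 3, nat_lit 4, nat_lit 1, nat_lit 2, nat_lit 3, nat_lit 0, nat_lit 1], [nat_lit 26, nat_lit 2, nat_lit 36, nat_lit 33, nat_lit 26], (nat_lit 600)), ((nat_lit 4107), [nat_lit 8, nat_lit 2, nat_lit 3, nat_lit 2, nat_lit 3, nat_lit 4, nat_lit 7, nat_lit 3, nat_lit 4, nat_lit 8, nat_lit 3, nat_lit 2, nat_lit 3, nat_lit 1], [nat_lit 24, nat_lit 16, nat_lit 0, nat_lit 36, nat_lit 24, nat_lit 26], (nat_lit 9435)), ((nat_lit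 4087), [nat_lit 4, nat_lit 7, nat_lit 4, nat_lit 7, nat_lit 1, nat_lit 2, nat_lit 3, nat_lit 0, nat_lit 1], [nat_lit 10, nat_lit 10, nat_lit 0, nat_lit 27, nat_lit 37, nat_lit 27], (nat_lit 641)), ((nat_lit 4079), [nat_lit 5, nat_lit 7, nat_lit 3, nat_lit 2, nat_lit 3, nat_lit 1, nat_lit 2, nat_lit 3, nat_lit 0, nat_lit 1], [nat_lit 15, nat_lit 5, nat_lit 24, nat_lit 16], (nat_lit 951)), ((nat_lit 4027), [nat_lit 6, nat_lit 8, nat_lit 3, nat_lit 4, nat_lit 7, nat_lit 3, nat_lit 1, nat_lit 2, nat_lit 3, nat_lit 0, nat_lit 1], [nat_lit 10, nat_lit 10, nat_lit 0, nat_lit 17, nat_lit 15, nat_lit 11], (nat_lit 1707)), ((nat_lit 4257), [nat_lit 8, nat_lit 4, nat_lit 8, nat_lit 3, nat_lit 4, nat_lit 8, nat_lit 5, nat_lit 2, nat_lit 3, nat_lit 4, nat_lit 8, nat_lit 3, nat_lit 2, nat_lit 3, nat_lit 1], [nat_lit 17, nat_lit 16, nat_lit 26], (nat_lit 13235)), ((nat_lit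 4215), [nat_lit 5, nat_lit 7, nat_lit 3, nat_lit 4, nat_lit 7, nat_lit 6, nat_lit 0, nat_lit 1, nat_lit 2, nat_lit 3, nat_lit 4, nat_lit 7, nat_lit 2, nat_lit 3, nat_lit 1], [nat_lit 5, nat_lit 2, nat_lit 25, nat_lit 26], (nat_lit 14482)), ((nat_lit 4201), [nat_lit 7, nat_lit 1, nat_lit 2, nat_lit 3, nat_lit 4, nat_lit 7, nat_lit 5, nat_lit 1, nat_lit 2, nat_lit 3, nat_lit 4, nat_lit 7, nat_lit 2, nat_lit 3, nat_lit 1], [nat_lit 15, nat_lit 0, nat_lit 32, nat_lit 35, nat_lit 26], (nat_lit 14526)), ((nat_lit 4137), [nat_lit 3, nat_lit 4, nat_lit 8, nat_lit 5, nat_lit 2, nat_lit 3, nat_lit 1, nat_lit 2, nat_lit 3, nat_lit 4, nat_lit 8, nat_lit 3, nat_lit 2, nat_lit 3, nat_lit 0, nat_lit 1], [nat_lit 25, nat_lit 14, nat_lit 0, nat_lit 17, nat_lit 34, nat_lit 26], (nat_lit 15008)), ((nat_lit 4011), [nat_lit 6, nat_lit 8, nat_lit 4, nat_lit 7, nat_lit 2, nat_lit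 3, nat_lit 4, nat_lit 8, nat_lit 2, nat_lit 3, nat_lit 1], [nat_lit 0, nat_lit 16, nat_lit 16, nat_lit 27], (nat_lit 2656)), ((nat_lit 4203), [nat_lit 7, nat_lit 7, nat_lit 3, nat_lit 1, nat_lit 2, nat_lit 3, nat_lit 4, nat_lit 7, nat_lit 2, nat_lit 3, nat_lit 4, nat_lit 8, nat_lit 2, nat_lit 3, nat_lit 1], [nat_lit 25, nat_lit 0, nat_lit 36, nat_lit 24, nat_lit 15], (nat_lit 14406)), ((nat_lit 4227), [nat_lit 7, nat_lit 7, nat_lit 4, nat_lit 7, nat_lit 2, nat_lit 3, nat_lit 1, nat_lit 2, nat_lit 3, nat_lit 4, nat_lit 3, nat_lit 2, nat_lit 3, nat_lit 1], [nat_lit 15, nat_lit 1, nat_lit 17, nat_lit 11, nat_lit 17, nat_lit 26], (nat_lit 8777)), ((nat_lit 4021), [nat_lit 6, nat_lit 2, nat_lit 3, nat_lit 4, nat_lit 8, nat_lit 4, nat_lit 3, nat_lit 1, nat_lit 2, nat_lit 3, nat_lit 0, nat_lit 1], [nat_lit 37, nat_lit 37, nat_lit 11, nat_lit 26], (nat_lit 2793)),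 ((nat_lit 4235), [nat_lit 7, nat_lit 3, nat_lit 4, nat_lit 7, nat_lit 0, nat_lit 1, nat_lit 2, nat_lit 3, nat_lit 4, nat_lit 2, nat_lit 3, nat_lit 0, nat_lit 1], [nat_lit 2, nat_lit 24, nat_lit 18, nat_lit 16], (nat_lit 5272)), ((nat_lit 4129), [nat_lit 7, nat_lit 4, nat_lit 3, nat_lit 0, nat_lit 1, nat_lit 2, nat_lit 3, nat_lit 4, nat_lit 7, nat_lit 3, nat_lit 4, nat_lit 8, nat_lit 2, nat_lit 3, nat_lit 1], [nat_lit 25, nat_lit 14, nat_lit 0, nat_lit 34, nat_lit 32, nat_lit 11], (nat_lit 14467)), ((nat_lit 4255), [nat_lit 5, nat_lit 8, nat_lit 1, nat_lit 2, nat_lit 3, nat_lit 4, nat_lit 8, nat_lit 2, nat_lit 3, nat_lit 4, nat_lit 8, nat_lit 2, nat_lit 3, nat_lit 0, nat_lit 1], [nat_lit 15, nat_lit 18, nat_lit 16, nat_lit 26], (nat_lit 12120)), ((nat_lit 4191), [nat_lit 5, nat_lit 8, nat_lit 4, nat_lit 3, nat_lit 2, nat_lit 3, nat_lit 1, nat_lit 2, nat_lit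 3, nat_lit 4, nat_lit 7, nat_lit 4, nat_lit 3, nat_lit 2, nat_lit 3, nat_lit 1], [nat_lit 14, nat_lit 35, nat_lit 17, nat_lit 16, nat_lit 26], (nat_lit 16062)), ((nat_lit 3975), [nat_lit 7, nat_lit 4, nat_lit 7, nat_lit 2, nat_lit 3, nat_lit 4, nat_lit 8, nat_lit 4, nat_lit 1, nat_lit 2, nat_lit 3, nat_lit 0, nat_lit 1], [nat_lit 24, nat_lit 2, nat_lit 0, nat_lit 26, nat_lit 24, nat_lit 11], (nat_lit 4751)), ((nat_lit 4005), [nat_lit 7, nat_lit 6, nat_lit 2, nat_lit 3, nat_lit 4, nat_lit 7, nat_lit 4, nat_lit 1, nat_lit 2, nat_lit 3, nat_lit 0, nat_lit 1], [nat_lit 14, nat_lit 0, nat_lit 34, nat_lit 17, nat_lit 33, nat_lit 26], (nat_lit 2963)), ((nat_lit 3989), [nat_lit 5, nat_lit 7, nat_lit 2, nat_lit 3, nat_lit 4, nat_lit 1, nat_lit 2, nat_lit 3, nat_lit 0, nat_lit 1], [nat_lit 5, nat_lit 14, nat_lit 26, nat_lit 36, nat_lit 27], (nat_lit 1022)), ((nat_lit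 3995), [nat_lit 7, nat_lit 4, nat_lit 8, nat_lit 2, nat_lit 3, nat_lit 0, nat_lit 1, nat_lit 2, nat_lit 3, nat_lit 4, nat_lit 8, nat_lit 3, nat_lit 2, nat_lit 3, nat_lit 1], [nat_lit 1, nat_lit 33, nat_lit 33], (nat_lit 13036)), ((nat_lit 3993), [nat_lit 3, nat_lit 4, nat_lit 7, nat_lit 4, nat_lit 7, nat_lit 1, nat_lit 2, nat_lit 3, nat_lit 0, nat_lit 1], [nat_lit 15, nat_lit 2, nat_lit 33, nat_lit 16, nat_lit 26], (nat_lit 1079)), ((nat_lit 3955), [nat_lit 3, nat_lit 4, nat_lit 7, nat_lit 1, nat_lit 2, nat_lit 3, nat_lit 0, nat_lit 1], [nat_lit 26, nat_lit 2, nat_lit 27, nat_lit 24, nat_lit 11], (nat_lit 384)), ((nat_lit 3965), [nat_lit 7, nat_lit 6, nat_lit 4, nat_lit 8, nat_lit 3], [nat_lit 16, nat_lit 5, nat_lit 2, nat_lit 27, nat_lit 36, nat_lit 11, nat_lit 27], (nat_lit 117)), ((nat_lit 3973), [nat_lit 2, nat_lit 3, nat_lit 1, nat_lit 2, nat_lit 3, nat_lit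 4, nat_lit 8, nat_lit 4, nat_lit 3, nat_lit 0, nat_lit 1], [nat_lit 37, nat_lit 26], (nat_lit 2189)), ((nat_lit 3957), [nat_lit 2, nat_lit 3, nat_lit 4, nat_lit 7, nat_lit 4, nat_lit 7, nat_lit 2, nat_lit 3, nat_lit 4, nat_lit 8, nat_lit 2, nat_lit 3, nat_lit 0, nat_lit 1], [nat_lit 1, nat_lit 1, nat_lit 25, nat_lit 35, nat_lit 11], (nat_lit 8510)), ((nat_lit 3961), [nat_lit 6, nat_lit 7, nat_lit 3, nat_lit 2, nat_lit 3, nat_lit 4, nat_lit 7, nat_lit 2, nat_lit 3, nat_lit 4, nat_lit 2, nat_lit 3, nat_lit 1], [nat_lit 10, nat_lit 0, nat_lit 25, nat_lit 37], (nat_lit 6525)), ((nat_lit 3967), [nat_lit 6, nat_lit 3, nat_lit 4, nat_lit 8, nat_lit 1, nat_lit 2, nat_lit 3, nat_lit 0, nat_lit 1], [nat_lit 16, nat_lit 5, nat_lit 2, nat_lit 34, nat_lit 27], (nat_lit 620)), ((nat_lit 3941), [nat_lit 8, nat_lit 5, nat_lit 4, nat_lit 7, nat_lit 3], [nat_lit 15, nat_lit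 5, nat_lit 33, nat_lit 37, nat_lit 27], (nat_lit 126)), ((nat_lit 3997), [nat_lit 6, nat_lit 7, nat_lit 3, nat_lit 4, nat_lit 8, nat_lit 1, nat_lit 2, nat_lit 3, nat_lit 0, nat_lit 1], [nat_lit 5, nat_lit 36], (nat_lit 1061)), ((nat_lit 3983), [nat_lit 5, nat_lit 3, nat_lit 4, nat_lit 8, nat_lit 4, nat_lit 1, nat_lit 2, nat_lit 3, nat_lit 0, nat_lit 1], [nat_lit 15, nat_lit 5, nat_lit 17, nat_lit 11, nat_lit 17, nat_lit 26], (nat_lit 1035)), ((nat_lit 4003), [nat_lit 6, nat_lit 7, nat_lit 3, nat_lit 4, nat_lit 7, nat_lit 0, nat_lit 1, nat_lit 2, nat_lit 3, nat_lit 4, nat_lit 7, nat_lit 2, nat_lit 3, nat_lit 1], [nat_lit 34, nat_lit 24], (nat_lit 10666)), ((nat_lit 4195), [nat_lit 7, nat_lit 6, nat_lit 4, nat_lit 8, nat_lit 3, nat_lit 4, nat_lit 8, nat_lit 1, nat_lit 2, nat_lit 3, nat_lit 0, nat_lit 1], [nat_lit 10, nat_lit 10, nat_lit 0, nat_lit 33, nat_lit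 24, nat_lit 26], (nat_lit 3015)), ((nat_lit 4205), [nat_lit 5, nat_lit 2, nat_lit 3, nat_lit 0, nat_lit 1, nat_lit 2, nat_lit 3, nat_lit 4, nat_lit 8, nat_lit 3, nat_lit 2, nat_lit 3, nat_lit 1], [nat_lit 5, nat_lit 0, nat_lit 33, nat_lit 15, nat_lit 27], (nat_lit 6018)), ((nat_lit 4085), [nat_lit 8, nat_lit 8, nat_lit 4, nat_lit 3, nat_lit 2, nat_lit 3, nat_lit 4, nat_lit 8, nat_lit 3, nat_lit 4, nat_lit 3, nat_lit 2, nat_lit 3, nat_lit 1], [nat_lit 5, nat_lit 15, nat_lit 24], (nat_lit 8970)), ((nat_lit 4155), [nat_lit 7, nat_lit 2, nat_lit 3, nat_lit 4, nat_lit 3, nat_lit 1, nat_lit 2, nat_lit 3, nat_lit 0, nat_lit 1], [nat_lit 0, nat_lit 32, nat_lit 32, nat_lit 26], (nat_lit 968)), ((nat_lit 4217), [nat_lit 8, nat_lit 3, nat_lit 4, nat_lit 8, nat_lit 3, nat_lit 4, nat_lit 7, nat_lit 2, nat_lit 3, nat_lit 4, nat_lit 7, nat_lit 2, nat_lit 3, nat_lit 1], [nat_lit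 14, nat_lit 15, nat_lit 0, nat_lit 17, nat_lit 33, nat_lit 26], (nat_lit 10844)), ((nat_lit 3971), [nat_lit 2, nat_lit 3, nat_lit 4, nat_lit 8, nat_lit 4, nat_lit 3, nat_lit 1, nat_lit 2, nat_lit 3, nat_lit 4, nat_lit 8, nat_lit 4, nat_lit 2, nat_lit 3, nat_lit 1], [nat_lit 17, nat_lit 24, nat_lit 0, nat_lit 15, nat_lit 18, nat_lit 16], (nat_lit 14199)), ((nat_lit 4039), [nat_lit 8, nat_lit 3, nat_lit 4, nat_lit 8, nat_lit 5, nat_lit 0, nat_lit 1, nat_lit 2, nat_lit 3, nat_lit 4, nat_lit 8, nat_lit 3, nat_lit 2, nat_lit 3, nat_lit 1], [nat_lit 5, nat_lit 2, nat_lit 34, nat_lit 11, nat_lit 17], (nat_lit 13078)), ((nat_lit 4031), [nat_lit 6, nat_lit 8, nat_lit 4, nat_lit 7, nat_lit 2, nat_lit 3, nat_lit 4, nat_lit 7, nat_lit 2, nat_lit 3, nat_lit 4, nat_lit 2, nat_lit 3, nat_lit 1], [nat_lit 11, nat_lit 2, nat_lit 0, nat_lit 36, nat_lit 33, nat_lit 11, nat_lit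 27], (nat_lit 10000)), ((nat_lit 4055), [nat_lit 8, nat_lit 8, nat_lit 3, nat_lit 4, nat_lit 8, nat_lit 3, nat_lit 1, nat_lit 2, nat_lit 3, nat_lit 4, nat_lit 3, nat_lit 2, nat_lit 3, nat_lit 1], [nat_lit 15, nat_lit 15, nat_lit 26], (nat_lit 8786)), ((nat_lit 4045), [nat_lit 6, nat_lit 8, nat_lit 4, nat_lit 7, nat_lit 3, nat_lit 1, nat_lit 2, nat_lit 3, nat_lit 4, nat_lit 8, nat_lit 3, nat_lit 2, nat_lit 3, nat_lit 1], [nat_lit 17, nat_lit 2, nat_lit 0, nat_lit 27, nat_lit 37, nat_lit 26], (nat_lit 9305)), ((nat_lit 4017), [nat_lit 5, nat_lit 7, nat_lit 3, nat_lit 4, nat_lit 7, nat_lit 7, nat_lit 1, nat_lit 2, nat_lit 3, nat_lit 4, nat_lit 7, nat_lit 2, nat_lit 3, nat_lit 1], [nat_lit 17, nat_lit 15, nat_lit 27], (nat_lit 10744)), ((nat_lit 4193), [nat_lit 2, nat_lit 3, nat_lit 4, nat_lit 7, nat_lit 3, nat_lit 4, nat_lit 8, nat_lit 4, nat_lit 3, nat_lit 2,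 nat_lit 3, nat_lit 0, nat_lit 1], [nat_lit 11, nat_lit 2, nat_lit 0, nat_lit 26, nat_lit 34, nat_lit 26], (nat_lit 5060)), ((nat_lit 4267), [nat_lit 4, nat_lit 8, nat_lit 2, nat_lit 3, nat_lit 4, nat_lit 8, nat_lit 4, nat_lit 3, nat_lit 2, nat_lit 3, nat_lit 0, nat_lit 1], [nat_lit 24, nat_lit 0, nat_lit 11, nat_lit 36], (nat_lit 3190)), ((nat_lit 4153), [nat_lit 8, nat_lit 3, nat_lit 2, nat_lit 3, nat_lit 4, nat_lit 8, nat_lit 2, nat_lit 3, nat_lit 4, nat_lit 3, nat_lit 2, nat_lit 3, nat_lit 1], [nat_lit 16, nat_lit 5, nat_lit 0, nat_lit 37, nat_lit 33, nat_lit 26], (nat_lit 5819)), ((nat_lit 4061), [nat_lit 4, nat_lit 7, nat_lit 7, nat_lit 0, nat_lit 1, nat_lit 2, nat_lit 3, nat_lit 4, nat_lit 7, nat_lit 3, nat_lit 1, nat_lit 2, nat_lit 3, nat_lit 0, nat_lit 1], [nat_lit 14, nat_lit 33, nat_lit 15, nat_lit 11, nat_lit 27], (nat_lit 10978)), ((nat_lit 4103),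 [nat_lit 8, nat_lit 0, nat_lit 1, nat_lit 2, nat_lit 3, nat_lit 4, nat_lit 7, nat_lit 3, nat_lit 4, nat_lit 1, nat_lit 2, nat_lit 3, nat_lit 0, nat_lit 1], [nat_lit 14, nat_lit 32, nat_lit 32, nat_lit 11, nat_lit 27], (nat_lit 7382)), ((nat_lit 4033), [nat_lit 4, nat_lit 8, nat_lit 2, nat_lit 3, nat_lit 4, nat_lit 8, nat_lit 8, nat_lit 2, nat_lit 3, nat_lit 4, nat_lit 8, nat_lit 2, nat_lit 3, nat_lit 1], [nat_lit 25, nat_lit 2, nat_lit 0, nat_lit 34, nat_lit 24], (nat_lit 10532)), ((nat_lit 4179), [nat_lit 6, nat_lit 2, nat_lit 3, nat_lit 4, nat_lit 7, nat_lit 2, nat_lit 3, nat_lit 4, nat_lit 7, nat_lit 2, nat_lit 3, nat_lit 4, nat_lit 8, nat_lit 2, nat_lit 3, nat_lit 1], [nat_lit 15, nat_lit 2, nat_lit 25, nat_lit 35, nat_lit 11, nat_lit 26], (nat_lit 16756)), ((nat_lit 4141), [nat_lit 8, nat_lit 3, nat_lit 1, nat_lit 2, nat_lit 3, nat_lit 4, nat_lit 8, nat_lit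 3, nat_lit 4, nat_lit 2, nat_lit 3, nat_lit 1], [nat_lit 25, nat_lit 1, nat_lit 37, nat_lit 15, nat_lit 26], (nat_lit 4129)), ((nat_lit 4175), [nat_lit 6, nat_lit 8, nat_lit 3, nat_lit 4, nat_lit 7, nat_lit 3, nat_lit 4, nat_lit 1, nat_lit 2, nat_lit 3, nat_lit 0, nat_lit 1], [nat_lit 15, nat_lit 5, nat_lit 37, nat_lit 34, nat_lit 25, nat_lit 27], (nat_lit 2925)), ((nat_lit 4127), [nat_lit 8, nat_lit 2, nat_lit 3, nat_lit 1, nat_lit 2, nat_lit 3, nat_lit 4, nat_lit 7, nat_lit 3, nat_lit 4, nat_lit 2, nat_lit 3, nat_lit 0, nat_lit 1], [nat_lit 15, nat_lit 5, nat_lit 24, nat_lit 37, nat_lit 17, nat_lit 27], (nat_lit 8262)), ((nat_lit 4057), [nat_lit 8, nat_lit 5, nat_lit 3, nat_lit 0, nat_lit 1, nat_lit 2, nat_lit 3, nat_lit 4, nat_lit 8, nat_lit 4, nat_lit 3, nat_lit 2, nat_lit 3, nat_lit 1], [nat_lit 10, nat_lit 10, nat_lit 0, nat_lit 36, nat_lit 17, nat_lit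 27], (nat_lit 9054)), ((nat_lit 4091), [nat_lit 4, nat_lit 7, nat_lit 3, nat_lit 2, nat_lit 3, nat_lit 4, nat_lit 7, nat_lit 2, nat_lit 3, nat_lit 4, nat_lit 8, nat_lit 2, nat_lit 3, nat_lit 1], [nat_lit 24, nat_lit 0, nat_lit 33, nat_lit 16, nat_lit 11, nat_lit 27], (nat_lit 10562)), ((nat_lit 4177), [nat_lit 6, nat_lit 8, nat_lit 2, nat_lit 3, nat_lit 4, nat_lit 7, nat_lit 3, nat_lit 4, nat_lit 1, nat_lit 2, nat_lit 3, nat_lit 0, nat_lit 1], [nat_lit 18, nat_lit 15, nat_lit 0, nat_lit 33, nat_lit 18, nat_lit 11, nat_lit 26], (nat_lit 4723)), ((nat_lit 3979), [nat_lit 8, nat_lit 4, nat_lit 7, nat_lit 2, nat_lit 3, nat_lit 4, nat_lit 8, nat_lit 1, nat_lit 2, nat_lit 3, nat_lit 0, nat_lit 1], [nat_lit 10, nat_lit 10, nat_lit 0, nat_lit 37, nat_lit 17, nat_lit 11, nat_lit 27], (nat_lit 3006)), ((nat_lit 4133), [nat_lit 7, nat_lit 3, nat_lit 4, nat_lit 8, nat_lit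 3, nat_lit 1, nat_lit 2, nat_lit 3, nat_lit 4, nat_lit 8, nat_lit 3, nat_lit 2, nat_lit 3, nat_lit 0, nat_lit 1], [nat_lit 15, nat_lit 0, nat_lit 34, nat_lit 11, nat_lit 17, nat_lit 27], (nat_lit 11436)), ((nat_lit 4139), [nat_lit 7, nat_lit 1, nat_lit 2, nat_lit 3, nat_lit 0, nat_lit 1, nat_lit 2, nat_lit 3, nat_lit 4, nat_lit 7, nat_lit 2, nat_lit 3, nat_lit 4, nat_lit 2, nat_lit 3, nat_lit 1], [nat_lit 2, nat_lit 0, nat_lit 17], (nat_lit 16502)), ((nat_lit 4253), [nat_lit 7, nat_lit 4, nat_lit 8, nat_lit 0, nat_lit 1, nat_lit 2, nat_lit 3, nat_lit 4, nat_lit 8, nat_lit 3, nat_lit 2, nat_lit 3, nat_lit 1], [nat_lit 1, nat_lit 24, nat_lit 0, nat_lit 17, nat_lit 37], (nat_lit 6036)), ((nat_lit 4247), [nat_lit 7, nat_lit 4, nat_lit 8, nat_lit 5, nat_lit 2, nat_lit 3, nat_lit 0, nat_lit 1, nat_lit 2, nat_lit 3, nat_lit 4, nat_lit 8, nat_lit 3, nat_lit 2, nat_lit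 3, nat_lit 1], [nat_lit 14, nat_lit 0, nat_lit 11, nat_lit 18, nat_lit 26], (nat_lit 16110)), ((nat_lit 3953), [nat_lit 6, nat_lit 8, nat_lit 4, nat_lit 8, nat_lit 4, nat_lit 3], [nat_lit 16, nat_lit 5, nat_lit 2, nat_lit 25, nat_lit 37, nat_lit 11, nat_lit 26], (nat_lit 218)), ((nat_lit 3987), [nat_lit 2, nat_lit 3, nat_lit 4, nat_lit 8, nat_lit 3, nat_lit 4, nat_lit 7, nat_lit 1, nat_lit 2, nat_lit 3, nat_lit 4, nat_lit 8, nat_lit 3, nat_lit 2, nat_lit 3, nat_lit 1], [nat_lit 24, nat_lit 0, nat_lit 27, nat_lit 36, nat_lit 11, nat_lit 27], (nat_lit 16257)), ((nat_lit 3985), [nat_lit 4, nat_lit 8, nat_lit 4, nat_lit 8, nat_lit 4, nat_lit 3], [nat_lit 16, nat_lit 5, nat_lit 2, nat_lit 35, nat_lit 17, nat_lit 16, nat_lit 26], (nat_lit 217)), ((nat_lit 4105), [nat_lit 1, nat_lit 2, nat_lit 3, nat_lit 4, nat_lit 7, nat_lit 5, nat_lit 0, nat_lit 1, nat_lit 2, nat_lit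 3, nat_lit 4, nat_lit 7, nat_lit 4, nat_lit 2, nat_lit 3, nat_lit 1], [nat_lit 2, nat_lit 26, nat_lit 17, nat_lit 15], (nat_lit 16663))] (nat_lit 0) m10_5_1) = 0 := by decide +kernel
theorem e10_5_2 : dt.run q (fun c => c.edges (SP THn.T THn.Rl (nat_lit 15)) (nat_lit 4429) THn.T.n (nat_lit 10) (nat_lit 5)
  [((nat_lit 3991), [nat_lit 4, nat_lit 7, nat_lit 3, nat_lit 4, nat_lit 7, nat_lit 1, nat_lit 2, nat_lit 3, nat_lit 4, nat_lit 7, nat_lit 4, nat_lit 2, nat_lit 3, nat_lit 1], [nat_lit 5, nat_lit 2, nat_lit 0, nat_lit 34, nat_lit 32], (nat_lit 10369)), ((nat_lit 4075), [nat_lit 4, nat_lit 8, nat_lit 3, nat_lit 4, nat_lit 8, nat_lit 2, nat_lit 3, nat_lit 0, nat_lit 1], [nat_lit 26, nat_lit 16, nat_lit 26], (nat_lit 733)), ((nat_lit 4097), [nat_lit 8, nat_lit 1, nat_lit 2, nat_lit 3, nat_lit 4, nat_lit 7, nat_lit 3, nat_lit 4, nat_lit 8, nat_lit 4, nat_lit 2,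 nat_lit 3, nat_lit 0, nat_lit 1], [nat_lit 25, nat_lit 2, nat_lit 0, nat_lit 27, nat_lit 16], (nat_lit 8330)), ((nat_lit 4189), [nat_lit 7, nat_lit 5, nat_lit 4, nat_lit 8, nat_lit 3, nat_lit 2, nat_lit 3, nat_lit 4, nat_lit 8, nat_lit 3, nat_lit 4, nat_lit 2, nat_lit 3, nat_lit 1], [nat_lit 16, nat_lit 5, nat_lit 2, nat_lit 17, nat_lit 11, nat_lit 27], (nat_lit 10131)), ((nat_lit 4151), [nat_lit 3, nat_lit 4, nat_lit 7, nat_lit 2, nat_lit 3, nat_lit 4, nat_lit 8, nat_lit 2, nat_lit 3, nat_lit 4, nat_lit 3, nat_lit 2, nat_lit 3, nat_lit 0, nat_lit 1], [nat_lit 5, nat_lit 2, nat_lit 25, nat_lit 37], (nat_lit 11221)), ((nat_lit 4071), [nat_lit 8, nat_lit 2, nat_lit 3, nat_lit 4, nat_lit 7, nat_lit 2, nat_lit 3, nat_lit 4, nat_lit 7, nat_lit 4, nat_lit 3, nat_lit 2, nat_lit 3, nat_lit 1], [nat_lit 1, nat_lit 5, nat_lit 11, nat_lit 37], (nat_lit 9194)), ((nat_lit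 4143), [nat_lit 8, nat_lit 4, nat_lit 7, nat_lit 0, nat_lit 1, nat_lit 2, nat_lit 3, nat_lit 4, nat_lit 1, nat_lit 2, nat_lit 3, nat_lit 0, nat_lit 1], [nat_lit 5, nat_lit 17, nat_lit 25, nat_lit 15, nat_lit 26], (nat_lit 4679)), ((nat_lit 4209), [nat_lit 6, nat_lit 8, nat_lit 4, nat_lit 2, nat_lit 3, nat_lit 0, nat_lit 1], [nat_lit 16, nat_lit 5, nat_lit 0, nat_lit 16, nat_lit 32, nat_lit 15, nat_lit 27], (nat_lit 247)), ((nat_lit 4265), [nat_lit 3, nat_lit 4, nat_lit 8, nat_lit 8, nat_lit 4, nat_lit 7, nat_lit 1, nat_lit 2, nat_lit 3, nat_lit 4, nat_lit 7, nat_lit 2, nat_lit 3, nat_lit 0, nat_lit 1], [nat_lit 25, nat_lit 1, nat_lit 18, nat_lit 35, nat_lit 11, nat_lit 26], (nat_lit 12299)), ((nat_lit 4029), [nat_lit 8, nat_lit 8, nat_lit 4, nat_lit 3, nat_lit 2, nat_lit 3, nat_lit 4, nat_lit 8, nat_lit 4, nat_lit 3, nat_lit 2, nat_lit 3, nat_lit 1], [nat_lit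 25, nat_lit 1, nat_lit 37, nat_lit 34, nat_lit 24], (nat_lit 5949)), ((nat_lit 4173), [nat_lit 7, nat_lit 3, nat_lit 4, nat_lit 8, nat_lit 6, nat_lit 0, nat_lit 1, nat_lit 2, nat_lit 3, nat_lit 4, nat_lit 8, nat_lit 2, nat_lit 3, nat_lit 0, nat_lit 1], [nat_lit 5, nat_lit 16, nat_lit 2, nat_lit 36, nat_lit 17], (nat_lit 12015)), ((nat_lit 4007), [nat_lit 6, nat_lit 7, nat_lit 3, nat_lit 4, nat_lit 7, nat_lit 1, nat_lit 2, nat_lit 3, nat_lit 4, nat_lit 7, nat_lit 2, nat_lit 3, nat_lit 1], [nat_lit 36, nat_lit 33, nat_lit 24, nat_lit 26], (nat_lit 7094)), ((nat_lit 4041), [nat_lit 7, nat_lit 7, nat_lit 4, nat_lit 8, nat_lit 0, nat_lit 1, nat_lit 2, nat_lit 3, nat_lit 4, nat_lit 1, nat_lit 2, nat_lit 3, nat_lit 0, nat_lit 1], [nat_lit 5, nat_lit 2, nat_lit 0, nat_lit 15, nat_lit 35, nat_lit 27], (nat_lit 7354)), ((nat_lit 4243), [nat_lit 6, nat_lit 7, nat_lit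 3, nat_lit 4, nat_lit 8, nat_lit 1, nat_lit 2, nat_lit 3, nat_lit 4, nat_lit 8, nat_lit 3, nat_lit 2, nat_lit 3, nat_lit 1], [nat_lit 11, nat_lit 5, nat_lit 2, nat_lit 36, nat_lit 36, nat_lit 17], (nat_lit 9328)), ((nat_lit 4111), [nat_lit 5, nat_lit 8, nat_lit 1, nat_lit 2, nat_lit 3, nat_lit 4, nat_lit 7, nat_lit 1, nat_lit 2, nat_lit 3, nat_lit 4, nat_lit 2, nat_lit 3, nat_lit 0, nat_lit 1], [nat_lit 16, nat_lit 5, nat_lit 2, nat_lit 37, nat_lit 32, nat_lit 11, nat_lit 27], (nat_lit 11762)), ((nat_lit 4251), [nat_lit 5, nat_lit 4, nat_lit 7, nat_lit 2, nat_lit 3, nat_lit 1, nat_lit 2, nat_lit 3, nat_lit 4, nat_lit 7, nat_lit 3, nat_lit 2, nat_lit 3, nat_lit 1], [nat_lit 26, nat_lit 34, nat_lit 26], (nat_lit 9514)), ((nat_lit 4221), [nat_lit 8, nat_lit 8, nat_lit 4, nat_lit 7, nat_lit 1, nat_lit 2, nat_lit 3, nat_lit 0, nat_lit 1], [nat_lit 10, nat_lit 10,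 nat_lit 0, nat_lit 24, nat_lit 35, nat_lit 26], (nat_lit 640)), ((nat_lit 4065), [nat_lit 7, nat_lit 4, nat_lit 8, nat_lit 4, nat_lit 1, nat_lit 2, nat_lit 3, nat_lit 0, nat_lit 1], [nat_lit 11, nat_lit 5, nat_lit 2, nat_lit 15, nat_lit 18, nat_lit 16, nat_lit 26], (nat_lit 613)), ((nat_lit 4135), [nat_lit 2, nat_lit 3, nat_lit 0, nat_lit 1, nat_lit 2, nat_lit 3, nat_lit 4, nat_lit 8, nat_lit 2, nat_lit 3, nat_lit 4, nat_lit 3, nat_lit 2, nat_lit 3, nat_lit 1], [nat_lit 17, nat_lit 2, nat_lit 0, nat_lit 24, nat_lit 37, nat_lit 11, nat_lit 26], (nat_lit 12596)), ((nat_lit 4165), [nat_lit 4, nat_lit 7, nat_lit 6, nat_lit 4, nat_lit 7, nat_lit 3, nat_lit 4, nat_lit 7, nat_lit 2, nat_lit 3, nat_lit 4, nat_lit 7, nat_lit 2, nat_lit 3, nat_lit 1], [nat_lit 5, nat_lit 16, nat_lit 2, nat_lit 17, nat_lit 25, nat_lit 15], (nat_lit 14665)), ((nat_lit 4049), [nat_lit 8,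 nat_lit 5, nat_lit 4, nat_lit 7, nat_lit 1, nat_lit 2, nat_lit 3, nat_lit 0, nat_lit 1], [nat_lit 17, nat_lit 24, nat_lit 27], (nat_lit 638)), ((nat_lit 4157), [nat_lit 8, nat_lit 4, nat_lit 8, nat_lit 3, nat_lit 4, nat_lit 8, nat_lit 4, nat_lit 2, nat_lit 3, nat_lit 0, nat_lit 1], [nat_lit 14, nat_lit 0, nat_lit 34], (nat_lit 2061)), ((nat_lit 3959), [nat_lit 6, nat_lit 3, nat_lit 4, nat_lit 7, nat_lit 0, nat_lit 1, nat_lit 2, nat_lit 3, nat_lit 4, nat_lit 8, nat_lit 3, nat_lit 2, nat_lit 3, nat_lit 1], [nat_lit 15, nat_lit 32, nat_lit 27], (nat_lit 9246)), ((nat_lit 4245), [nat_lit 4, nat_lit 7, nat_lit 3, nat_lit 1, nat_lit 2, nat_lit 3, nat_lit 4, nat_lit 8, nat_lit 3, nat_lit 2, nat_lit 3, nat_lit 1], [nat_lit 0, nat_lit 2, nat_lit 24, nat_lit 18, nat_lit 18], (nat_lit 3846)), ((nat_lit 3999), [nat_lit 8, nat_lit 5, nat_lit 4, nat_lit 7, nat_lit 3, nat_lit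 0, nat_lit 1], [nat_lit 24, nat_lit 1, nat_lit 35, nat_lit 32, nat_lit 11, nat_lit 26], (nat_lit 280)), ((nat_lit 3977), [nat_lit 3, nat_lit 4, nat_lit 8, nat_lit 4, nat_lit 8, nat_lit 3, nat_lit 2, nat_lit 3, nat_lit 4, nat_lit 7, nat_lit 3, nat_lit 2, nat_lit 3, nat_lit 1], [nat_lit 10, nat_lit 0, nat_lit 33, nat_lit 24, nat_lit 27], (nat_lit 9596)), ((nat_lit 3949), [nat_lit 8, nat_lit 5, nat_lit 3, nat_lit 2, nat_lit 3, nat_lit 4, nat_lit 7, nat_lit 1, nat_lit 2, nat_lit 3, nat_lit 0, nat_lit 1], [nat_lit 10, nat_lit 10, nat_lit 0, nat_lit 37, nat_lit 34, nat_lit 11, nat_lit 27], (nat_lit 3060)), ((nat_lit 4147), [nat_lit 2, nat_lit 3, nat_lit 4, nat_lit 8, nat_lit 1, nat_lit 2, nat_lit 3, nat_lit 4, nat_lit 7, nat_lit 3, nat_lit 2, nat_lit 3, nat_lit 0, nat_lit 1], [nat_lit 26, nat_lit 2, nat_lit 34, nat_lit 25, nat_lit 11], (nat_lit 7955)), ((nat_lit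 4213), [nat_lit 7, nat_lit 4, nat_lit 3, nat_lit 1, nat_lit 2, nat_lit 3, nat_lit 4, nat_lit 7, nat_lit 3, nat_lit 4, nat_lit 3, nat_lit 2, nat_lit 3, nat_lit 1], [nat_lit 11, nat_lit 2, nat_lit 0, nat_lit 34, nat_lit 16], (nat_lit 9003)), ((nat_lit 4123), [nat_lit 8, nat_lit 8, nat_lit 4, nat_lit 7, nat_lit 3, nat_lit 2, nat_lit 3, nat_lit 4, nat_lit 8, nat_lit 3, nat_lit 2, nat_lit 3, nat_lit 1], [nat_lit 16, nat_lit 5, nat_lit 0, nat_lit 27, nat_lit 18, nat_lit 26], (nat_lit 6126)), ((nat_lit 4051), [nat_lit 5, nat_lit 7, nat_lit 2, nat_lit 3, nat_lit 4, nat_lit 7, nat_lit 3, nat_lit 2, nat_lit 3, nat_lit 1], [nat_lit 15, nat_lit 0, nat_lit 16, nat_lit 16, nat_lit 26], (nat_lit 1383)), ((nat_lit 4131), [nat_lit 7, nat_lit 2, nat_lit 3, nat_lit 4, nat_lit 7, nat_lit 2, nat_lit 3, nat_lit 4, nat_lit 8, nat_lit 3, nat_lit 2, nat_lit 3, nat_lit 0, nat_lit 1],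 [nat_lit 26, nat_lit 2, nat_lit 0, nat_lit 15, nat_lit 18, nat_lit 16, nat_lit 26], (nat_lit 7885)), ((nat_lit 4117), [nat_lit 5, nat_lit 3, nat_lit 1, nat_lit 2, nat_lit 3, nat_lit 4, nat_lit 8, nat_lit 1, nat_lit 2, nat_lit 3, nat_lit 0, nat_lit 1], [nat_lit 15, nat_lit 2, nat_lit 37, nat_lit 15, nat_lit 11, nat_lit 26], (nat_lit 2978)), ((nat_lit 4207), [nat_lit 8, nat_lit 4, nat_lit 8, nat_lit 1, nat_lit 2, nat_lit 3, nat_lit 4, nat_lit 7, nat_lit 1, nat_lit 2, nat_lit 3, nat_lit 0, nat_lit 1], [nat_lit 16, nat_lit 2, nat_lit 33, nat_lit 36, nat_lit 26], (nat_lit 4878)), ((nat_lit 4169), [nat_lit 7, nat_lit 4, nat_lit 8, nat_lit 3, nat_lit 2, nat_lit 3, nat_lit 4, nat_lit 8, nat_lit 2, nat_lit 3, nat_lit 4, nat_lit 2, nat_lit 3, nat_lit 1], [nat_lit 2, nat_lit 11, nat_lit 16], (nat_lit 9867)), ((nat_lit 4035), [nat_lit 7, nat_lit 4, nat_lit 7, nat_lit 2,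 nat_lit 3, nat_lit 4, nat_lit 7, nat_lit 2, nat_lit 3, nat_lit 4, nat_lit 3, nat_lit 2, nat_lit 3, nat_lit 0, nat_lit 1], [nat_lit 1, nat_lit 5, nat_lit 16, nat_lit 25, nat_lit 26], (nat_lit 11235)), ((nat_lit 4229), [nat_lit 7, nat_lit 4, nat_lit 8, nat_lit 5, nat_lit 1, nat_lit 2, nat_lit 3, nat_lit 4, nat_lit 8, nat_lit 2, nat_lit 3, nat_lit 4, nat_lit 2, nat_lit 3, nat_lit 0, nat_lit 1], [nat_lit 1, nat_lit 5, nat_lit 33, nat_lit 16, nat_lit 11, nat_lit 26], (nat_lit 15298)), ((nat_lit 4095), [nat_lit 7, nat_lit 4, nat_lit 8, nat_lit 4, nat_lit 3, nat_lit 2, nat_lit 3, nat_lit 1], [nat_lit 24, nat_lit 2, nat_lit 0, nat_lit 24, nat_lit 11, nat_lit 26], (nat_lit 473)), ((nat_lit 4053), [nat_lit 6, nat_lit 4, nat_lit 7, nat_lit 0, nat_lit 1, nat_lit 2, nat_lit 3, nat_lit 4, nat_lit 8, nat_lit 2, nat_lit 3, nat_lit 1], [nat_lit 10, nat_lit 10, nat_lit 0, nat_lit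 15, nat_lit 32, nat_lit 11, nat_lit 27], (nat_lit 4295)), ((nat_lit 4121), [nat_lit 3, nat_lit 4, nat_lit 7, nat_lit 0, nat_lit 1, nat_lit 2, nat_lit 3, nat_lit 4, nat_lit 8, nat_lit 4, nat_lit 3, nat_lit 2, nat_lit 3, nat_lit 0, nat_lit 1], [nat_lit 15, nat_lit 2, nat_lit 24, nat_lit 26], (nat_lit 11313)), ((nat_lit 4019), [nat_lit 6, nat_lit 4, nat_lit 7, nat_lit 3, nat_lit 2, nat_lit 3, nat_lit 4, nat_lit 8, nat_lit 3, nat_lit 2, nat_lit 3, nat_lit 1], [nat_lit 1, nat_lit 36], (nat_lit 3871)), ((nat_lit 4047), [nat_lit 5, nat_lit 2, nat_lit 3, nat_lit 4, nat_lit 7, nat_lit 2, nat_lit 3, nat_lit 4, nat_lit 8, nat_lit 2, nat_lit 3, nat_lit 4, nat_lit 2, nat_lit 3, nat_lit 0, nat_lit 1], [nat_lit 11, nat_lit 5, nat_lit 2, nat_lit 35, nat_lit 35], (nat_lit 15321)), ((nat_lit 4223), [nat_lit 8, nat_lit 5, nat_lit 4, nat_lit 7, nat_lit 3, nat_lit 4, nat_lit 7,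 nat_lit 2, nat_lit 3, nat_lit 1], [nat_lit 26, nat_lit 2, nat_lit 0, nat_lit 35, nat_lit 17, nat_lit 16, nat_lit 27], (nat_lit 1609)), ((nat_lit 4159), [nat_lit 4, nat_lit 7, nat_lit 2, nat_lit 3, nat_lit 4, nat_lit 7, nat_lit 3, nat_lit 2, nat_lit 3, nat_lit 1], [nat_lit 1, nat_lit 24, nat_lit 0, nat_lit 37, nat_lit 16, nat_lit 27], (nat_lit 1382)), ((nat_lit 4077), [nat_lit 6, nat_lit 3, nat_lit 4, nat_lit 7, nat_lit 3, nat_lit 1, nat_lit 2, nat_lit 3, nat_lit 4, nat_lit 8, nat_lit 3, nat_lit 2, nat_lit 3, nat_lit 1], [nat_lit 14, nat_lit 0, nat_lit 33, nat_lit 35, nat_lit 11], (nat_lit 9300)), ((nat_lit 4099), [nat_lit 3, nat_lit 4, nat_lit 8, nat_lit 3, nat_lit 2, nat_lit 3, nat_lit 4, nat_lit 8, nat_lit 2, nat_lit 3, nat_lit 4, nat_lit 3, nat_lit 2, nat_lit 3, nat_lit 1], [nat_lit 0, nat_lit 2, nat_lit 34, nat_lit 17, nat_lit 11, nat_lit 26], (nat_lit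 12627)), ((nat_lit 4171), [nat_lit 7, nat_lit 6, nat_lit 2, nat_lit 3, nat_lit 4, nat_lit 8, nat_lit 2, nat_lit 3, nat_lit 4, nat_lit 7, nat_lit 2, nat_lit 3, nat_lit 0, nat_lit 1], [nat_lit 11, nat_lit 5, nat_lit 2, nat_lit 17, nat_lit 36, nat_lit 27], (nat_lit 8618)), ((nat_lit 3947), [nat_lit 8, nat_lit 5, nat_lit 4, nat_lit 7, nat_lit 2, nat_lit 3, nat_lit 1, nat_lit 2, nat_lit 3, nat_lit 0, nat_lit 1], [nat_lit 32, nat_lit 26], (nat_lit 1642)), ((nat_lit 3981), [nat_lit 6, nat_lit 7, nat_lit 0, nat_lit 1, nat_lit 2, nat_lit 3, nat_lit 4, nat_lit 8, nat_lit 4, nat_lit 3, nat_lit 2, nat_lit 3, nat_lit 1], [nat_lit 15, nat_lit 5, nat_lit 37, nat_lit 16], (nat_lit 5925)), ((nat_lit 4167), [nat_lit 1, nat_lit 2, nat_lit 3, nat_lit 4, nat_lit 8, nat_lit 4, nat_lit 8, nat_lit 2, nat_lit 3, nat_lit 4, nat_lit 2, nat_lit 3, nat_lit 1], [nat_lit 5, nat_lit 0, nat_lit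 35, nat_lit 35, nat_lit 27], (nat_lit 6495)), ((nat_lit 4067), [nat_lit 7, nat_lit 5, nat_lit 0, nat_lit 1, nat_lit 2, nat_lit 3, nat_lit 4, nat_lit 8, nat_lit 1, nat_lit 2, nat_lit 3, nat_lit 0, nat_lit 1], [nat_lit 26, nat_lit 2, nat_lit 26, nat_lit 16, nat_lit 27], (nat_lit 4790)), ((nat_lit 4259), [nat_lit 5, nat_lit 7, nat_lit 3, nat_lit 4, nat_lit 7, nat_lit 2, nat_lit 3, nat_lit 4, nat_lit 8, nat_lit 2, nat_lit 3, nat_lit 0, nat_lit 1], [nat_lit 5, nat_lit 16, nat_lit 2, nat_lit 25, nat_lit 16], (nat_lit 5570)), ((nat_lit 4081), [nat_lit 5, nat_lit 3, nat_lit 2, nat_lit 3, nat_lit 4, nat_lit 7, nat_lit 4, nat_lit 1, nat_lit 2, nat_lit 3, nat_lit 0, nat_lit 1], [nat_lit 15, nat_lit 5, nat_lit 15, nat_lit 35], (nat_lit 2960)), ((nat_lit 4043), [nat_lit 8, nat_lit 1, nat_lit 2, nat_lit 3, nat_lit 4, nat_lit 8, nat_lit 3, nat_lit 4, nat_lit 1, nat_lit 2,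 nat_lit 3, nat_lit 0, nat_lit 1], [nat_lit 5, nat_lit 14, nat_lit 27, nat_lit 36, nat_lit 11, nat_lit 27], (nat_lit 4700)), ((nat_lit 4233), [nat_lit 2, nat_lit 3, nat_lit 4, nat_lit 7, nat_lit 3, nat_lit 4, nat_lit 8, nat_lit 3, nat_lit 2, nat_lit 3, nat_lit 4, nat_lit 3, nat_lit 2, nat_lit 3, nat_lit 1], [nat_lit 5, nat_lit 14, nat_lit 36, nat_lit 18, nat_lit 15], (nat_lit 12592)), ((nat_lit 3969), [nat_lit 4, nat_lit 7, nat_lit 0, nat_lit 1, nat_lit 2, nat_lit 3, nat_lit 4, nat_lit 7, nat_lit 3, nat_lit 4, nat_lit 2, nat_lit 3, nat_lit 1], [nat_lit 18, nat_lit 15, nat_lit 0, nat_lit 24, nat_lit 15, nat_lit 26], (nat_lit 6661)), ((nat_lit 4015), [nat_lit 3, nat_lit 4, nat_lit 7, nat_lit 4, nat_lit 7, nat_lit 1, nat_lit 2, nat_lit 3, nat_lit 4, nat_lit 8, nat_lit 2, nat_lit 3, nat_lit 1], [nat_lit 15, nat_lit 5, nat_lit 35, nat_lit 26], (nat_lit 6912)), ((nat_lit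 4261), [nat_lit 2, nat_lit 3, nat_lit 4, nat_lit 8, nat_lit 1, nat_lit 2, nat_lit 3, nat_lit 4, nat_lit 7, nat_lit 4, nat_lit 2, nat_lit 3, nat_lit 1], [nat_lit 26, nat_lit 24, nat_lit 0, nat_lit 26, nat_lit 24, nat_lit 11, nat_lit 27], (nat_lit 6809)), ((nat_lit 4149), [nat_lit 7, nat_lit 3, nat_lit 4, nat_lit 8, nat_lit 2, nat_lit 3, nat_lit 4, nat_lit 8, nat_lit 4, nat_lit 2, nat_lit 3, nat_lit 0, nat_lit 1], [nat_lit 18, nat_lit 15, nat_lit 0, nat_lit 37, nat_lit 37, nat_lit 26], (nat_lit 5445)), ((nat_lit 4181), [nat_lit 6, nat_lit 3, nat_lit 4, nat_lit 7, nat_lit 4, nat_lit 7, nat_lit 0, nat_lit 1, nat_lit 2, nat_lit 3, nat_lit 4, nat_lit 7, nat_lit 2, nat_lit 3, nat_lit 1], [nat_lit 36, nat_lit 27], (nat_lit 14490)), ((nat_lit 4083), [nat_lit 2, nat_lit 3, nat_lit 4, nat_lit 7, nat_lit 2, nat_lit 3, nat_lit 4, nat_lit 8, nat_lit 3, nat_lit 4, nat_lit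 2, nat_lit 3, nat_lit 0, nat_lit 1], [nat_lit 24, nat_lit 2, nat_lit 0, nat_lit 24, nat_lit 33, nat_lit 15, nat_lit 26], (nat_lit 8239)), ((nat_lit 4063), [nat_lit 6, nat_lit 8, nat_lit 4, nat_lit 8, nat_lit 5, nat_lit 3, nat_lit 4, nat_lit 8, nat_lit 1, nat_lit 2, nat_lit 3, nat_lit 0, nat_lit 1], [nat_lit 25, nat_lit 14, nat_lit 0, nat_lit 18, nat_lit 36], (nat_lit 4842)), ((nat_lit 4037), [nat_lit 8, nat_lit 6, nat_lit 4, nat_lit 7, nat_lit 3, nat_lit 2, nat_lit 3, nat_lit 4, nat_lit 7, nat_lit 3, nat_lit 4, nat_lit 2, nat_lit 3, nat_lit 1], [nat_lit 1, nat_lit 1, nat_lit 33, nat_lit 16, nat_lit 11], (nat_lit 10252)), ((nat_lit 4101), [nat_lit 6, nat_lit 4, nat_lit 2, nat_lit 3, nat_lit 1, nat_lit 2, nat_lit 3, nat_lit 4, nat_lit 8, nat_lit 4, nat_lit 3, nat_lit 2, nat_lit 3, nat_lit 1], [nat_lit 25, nat_lit 1, nat_lit 34, nat_lit 24, nat_lit 15, nat_lit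 27], (nat_lit 9067)), ((nat_lit 4109), [nat_lit 4, nat_lit 8, nat_lit 5, nat_lit 2, nat_lit 3, nat_lit 4, nat_lit 8, nat_lit 3, nat_lit 2, nat_lit 3, nat_lit 1], [nat_lit 5, nat_lit 2, nat_lit 0, nat_lit 33, nat_lit 16, nat_lit 11], (nat_lit 2331)), ((nat_lit 4185), [nat_lit 4, nat_lit 8, nat_lit 8, nat_lit 4, nat_lit 7, nat_lit 0, nat_lit 1, nat_lit 2, nat_lit 3, nat_lit 4, nat_lit 7, nat_lit 1, nat_lit 2, nat_lit 3, nat_lit 0, nat_lit 1], [nat_lit 17, nat_lit 2, nat_lit 0, nat_lit 18, nat_lit 15], (nat_lit 14757)), ((nat_lit 4211), [nat_lit 4, nat_lit 8, nat_lit 3, nat_lit 4, nat_lit 8, nat_lit 3, nat_lit 0, nat_lit 1, nat_lit 2, nat_lit 3, nat_lit 4, nat_lit 7, nat_lit 3, nat_lit 2, nat_lit 3, nat_lit 0, nat_lit 1], [nat_lit 1, nat_lit 25, nat_lit 11], (nat_lit 16946)), ((nat_lit 4219), [nat_lit 4, nat_lit 8, nat_lit 8, nat_lit 3, nat_lit 2, nat_lit 3, nat_lit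 4, nat_lit 7, nat_lit 3, nat_lit 4, nat_lit 2, nat_lit 3, nat_lit 1], [nat_lit 14, nat_lit 15, nat_lit 0, nat_lit 34, nat_lit 24, nat_lit 17, nat_lit 27], (nat_lit 6714)), ((nat_lit 4013), [nat_lit 3, nat_lit 4, nat_lit 8, nat_lit 4, nat_lit 8, nat_lit 3, nat_lit 2, nat_lit 3, nat_lit 4, nat_lit 7, nat_lit 3, nat_lit 2, nat_lit 3, nat_lit 0, nat_lit 1], [nat_lit 24, nat_lit 2, nat_lit 0, nat_lit 25, nat_lit 18], (nat_lit 11629)), ((nat_lit 4263), [nat_lit 6, nat_lit 8, nat_lit 3, nat_lit 4, nat_lit 7, nat_lit 2, nat_lit 3, nat_lit 0, nat_lit 1], [nat_lit 5, nat_lit 2, nat_lit 0, nat_lit 16, nat_lit 16, nat_lit 11, nat_lit 26], (nat_lit 748)), ((nat_lit 4113), [nat_lit 6, nat_lit 8, nat_lit 3, nat_lit 0, nat_lit 1, nat_lit 2, nat_lit 3, nat_lit 4, nat_lit 8, nat_lit 4, nat_lit 1, nat_lit 2, nat_lit 3, nat_lit 0, nat_lit 1], [nat_lit 14, nat_lit 33, nat_lit 37,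 nat_lit 26], (nat_lit 11017)), ((nat_lit 4241), [nat_lit 7, nat_lit 6, nat_lit 4, nat_lit 8, nat_lit 1, nat_lit 2, nat_lit 3, nat_lit 4, nat_lit 7, nat_lit 3, nat_lit 2, nat_lit 3, nat_lit 1], [nat_lit 26, nat_lit 24, nat_lit 0, nat_lit 37, nat_lit 18, nat_lit 27], (nat_lit 6241)), ((nat_lit 4187), [nat_lit 6, nat_lit 3, nat_lit 4, nat_lit 7, nat_lit 3, nat_lit 2, nat_lit 3, nat_lit 0, nat_lit 1], [nat_lit 14, nat_lit 15, nat_lit 0, nat_lit 33, nat_lit 35, nat_lit 11, nat_lit 26], (nat_lit 679))] m10_5_1 m10_5_2) = 0 := by decide +kernel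
theorem e10_5_3 : reachX THn.T (nat_lit 4296867996952198484) (S10.map Prod.snd) [nat_lit 0, nat_lit 1, nat_lit 0, nat_lit 1, nat_lit 0, nat_lit 1, nat_lit 0, nat_lit 1, nat_lit 0, nat_lit 1, nat_lit 0, nat_lit 0, nat_lit 1, nat_lit 0] m10_5_2 = m10_5_3 := by decide +kernel
theorem e10_6_1 : dt.run q (fun c => c.edges (SP THn.T THn.Rl (nat_lit 15)) (nat_lit 4429) THn.T.n (nat_lit 10) (nat_lit 6)
  [((nat_lit 3905), [nat_lit 7], [nat_lit 18, nat_lit 15, nat_lit 0, nat_lit 18, nat_lit 18, nat_lit 26], (nat_lit 4)), ((nat_lit 3907), [nat_lit 6, nat_lit 7], [nat_lit 5, nat_lit 0, nat_lit 35, nat_lit 35, nat_lit 27], (nat_lit 14)), ((nat_lit 4315), [nat_lit 1], [nat_lit 15, nat_lit 2, nat_lit 33, nat_lit 25], (nat_lit 1)), ((nat_lit 4275), [nat_lit 3], [nat_lit 1, nat_lit 1, nat_lit 15], (nat_lit 2)), ((nat_lit 4313), [nat_lit 2, nat_lit 3, nat_lit 4, nat_lit 8,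 nat_lit 5, nat_lit 3, nat_lit 2, nat_lit 3, nat_lit 4, nat_lit 7, nat_lit 2, nat_lit 3, nat_lit 4, nat_lit 2, nat_lit 3, nat_lit 1], [nat_lit 16, nat_lit 2, nat_lit 33, nat_lit 37, nat_lit 26], (nat_lit 16492)), ((nat_lit 4281), [nat_lit 7, nat_lit 3, nat_lit 4, nat_lit 7, nat_lit 4, nat_lit 1, nat_lit 2, nat_lit 3, nat_lit 0, nat_lit 1], [nat_lit 37], (nat_lit 1045)), ((nat_lit 4289), [nat_lit 6, nat_lit 4, nat_lit 3, nat_lit 1, nat_lit 2, nat_lit 3, nat_lit 4, nat_lit 7, nat_lit 1, nat_lit 2, nat_lit 3, nat_lit 4, nat_lit 3, nat_lit 2, nat_lit 3, nat_lit 0, nat_lit 1], [nat_lit 1, nat_lit 14, nat_lit 17, nat_lit 15], (nat_lit 16866)), ((nat_lit 4345), [nat_lit 7, nat_lit 4, nat_lit 7, nat_lit 6, nat_lit 0, nat_lit 1, nat_lit 2, nat_lit 3, nat_lit 4, nat_lit 7, nat_lit 1, nat_lit 2, nat_lit 3, nat_lit 0, nat_lit 1], [nat_lit 25, nat_lit 14, nat_lit 0, nat_lit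 35, nat_lit 17, nat_lit 16, nat_lit 26], (nat_lit 11070)), ((nat_lit 4299), [nat_lit 8, nat_lit 4, nat_lit 7, nat_lit 3, nat_lit 1], [nat_lit 14, nat_lit 15, nat_lit 0, nat_lit 27, nat_lit 24, nat_lit 11], (nat_lit 106)), ((nat_lit 4271), [nat_lit 6, nat_lit 8, nat_lit 4, nat_lit 7, nat_lit 0, nat_lit 1, nat_lit 2, nat_lit 3, nat_lit 4, nat_lit 7, nat_lit 1, nat_lit 2, nat_lit 3, nat_lit 0, nat_lit 1], [nat_lit 18, nat_lit 15, nat_lit 0, nat_lit 34, nat_lit 32, nat_lit 27], (nat_lit 11084)), ((nat_lit 4277), [nat_lit 4, nat_lit 8, nat_lit 3, nat_lit 1, nat_lit 2, nat_lit 3, nat_lit 4, nat_lit 7, nat_lit 2, nat_lit 3, nat_lit 4, nat_lit 2, nat_lit 3, nat_lit 1], [nat_lit 10, nat_lit 0, nat_lit 34, nat_lit 34, nat_lit 27], (nat_lit 9947)), ((nat_lit 4291), [nat_lit 4, nat_lit 8, nat_lit 4, nat_lit 3], [nat_lit 10, nat_lit 10, nat_lit 0, nat_lit 25, nat_lit 18,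 nat_lit 16], (nat_lit 55)), ((nat_lit 4293), [nat_lit 2, nat_lit 3, nat_lit 4, nat_lit 8, nat_lit 3, nat_lit 4, nat_lit 7, nat_lit 1, nat_lit 2, nat_lit 3, nat_lit 4, nat_lit 3, nat_lit 2, nat_lit 3, nat_lit 1], [nat_lit 0, nat_lit 2, nat_lit 36, nat_lit 24, nat_lit 15, nat_lit 26], (nat_lit 12583)), ((nat_lit 4287), [nat_lit 5, nat_lit 8, nat_lit 4, nat_lit 3], [nat_lit 11, nat_lit 5, nat_lit 2, nat_lit 17, nat_lit 17, nat_lit 11], (nat_lit 57)), ((nat_lit 4297), [nat_lit 8, nat_lit 4, nat_lit 7, nat_lit 5, nat_lit 3, nat_lit 4, nat_lit 7, nat_lit 2, nat_lit 3, nat_lit 0, nat_lit 1], [nat_lit 26, nat_lit 2, nat_lit 18, nat_lit 11, nat_lit 15], (nat_lit 2164)), ((nat_lit 4295), [nat_lit 7, nat_lit 4, nat_lit 7, nat_lit 3], [nat_lit 26, nat_lit 2, nat_lit 32, nat_lit 18, nat_lit 26], (nat_lit 68)), ((nat_lit 4273), [nat_lit 6, nat_lit 8, nat_lit 3, nat_lit 4,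 nat_lit 8, nat_lit 1, nat_lit 2, nat_lit 3, nat_lit 0, nat_lit 1], [nat_lit 5, nat_lit 18, nat_lit 15, nat_lit 26], (nat_lit 1058)), ((nat_lit 4341), [nat_lit 8, nat_lit 1, nat_lit 2, nat_lit 3, nat_lit 4, nat_lit 7, nat_lit 3, nat_lit 4, nat_lit 1, nat_lit 2, nat_lit 3, nat_lit 0, nat_lit 1], [nat_lit 16, nat_lit 2, nat_lit 15, nat_lit 24], (nat_lit 4718)), ((nat_lit 4305), [nat_lit 5, nat_lit 8, nat_lit 3, nat_lit 4, nat_lit 7, nat_lit 0, nat_lit 1, nat_lit 2, nat_lit 3, nat_lit 4, nat_lit 8, nat_lit 2, nat_lit 3, nat_lit 1], [nat_lit 5, nat_lit 16, nat_lit 2, nat_lit 35, nat_lit 35, nat_lit 11], (nat_lit 10412)), ((nat_lit 4325), [nat_lit 8, nat_lit 6, nat_lit 4, nat_lit 2, nat_lit 3, nat_lit 2, nat_lit 3, nat_lit 4, nat_lit 7, nat_lit 3, nat_lit 4, nat_lit 3, nat_lit 2, nat_lit 3, nat_lit 1], [nat_lit 5, nat_lit 16, nat_lit 2, nat_lit 16, nat_lit 11, nat_lit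 26], (nat_lit 12785)), ((nat_lit 4301), [nat_lit 8, nat_lit 3, nat_lit 1, nat_lit 2, nat_lit 3, nat_lit 0, nat_lit 1], [nat_lit 15, nat_lit 2, nat_lit 18, nat_lit 35, nat_lit 15], (nat_lit 223)), ((nat_lit 4285), [nat_lit 6, nat_lit 7, nat_lit 4, nat_lit 7, nat_lit 3], [nat_lit 34, nat_lit 24, nat_lit 17], (nat_lit 130)), ((nat_lit 4307), [nat_lit 4, nat_lit 3, nat_lit 2, nat_lit 3, nat_lit 0, nat_lit 1], [nat_lit 5, nat_lit 35, nat_lit 33, nat_lit 11], (nat_lit 137)), ((nat_lit 4337), [nat_lit 8, nat_lit 8, nat_lit 4, nat_lit 1, nat_lit 2, nat_lit 3, nat_lit 1, nat_lit 2, nat_lit 3, nat_lit 4, nat_lit 8, nat_lit 3, nat_lit 4, nat_lit 2, nat_lit 3, nat_lit 1], [nat_lit 24, nat_lit 2, nat_lit 36, nat_lit 36, nat_lit 17, nat_lit 26], (nat_lit 16576)), ((nat_lit 4347), [nat_lit 5, nat_lit 8, nat_lit 4, nat_lit 8, nat_lit 3, nat_lit 1, nat_lit 2, nat_lit 3, nat_lit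 4, nat_lit 7, nat_lit 3, nat_lit 2, nat_lit 3, nat_lit 0, nat_lit 1], [nat_lit 15, nat_lit 2, nat_lit 33, nat_lit 36, nat_lit 11], (nat_lit 11586)), ((nat_lit 4323), [nat_lit 3, nat_lit 2, nat_lit 3, nat_lit 4, nat_lit 8, nat_lit 4, nat_lit 3, nat_lit 0, nat_lit 1], [nat_lit 15, nat_lit 2, nat_lit 34, nat_lit 37, nat_lit 11, nat_lit 26], (nat_lit 756)), ((nat_lit 4343), [nat_lit 7, nat_lit 4, nat_lit 8, nat_lit 3, nat_lit 2, nat_lit 3, nat_lit 1, nat_lit 2, nat_lit 3, nat_lit 4, nat_lit 3, nat_lit 2, nat_lit 3, nat_lit 1], [nat_lit 17, nat_lit 34, nat_lit 15, nat_lit 26], (nat_lit 8746)), ((nat_lit 4327), [nat_lit 8, nat_lit 5, nat_lit 3, nat_lit 2, nat_lit 3, nat_lit 4, nat_lit 7, nat_lit 4, nat_lit 1, nat_lit 2, nat_lit 3, nat_lit 0, nat_lit 1], [nat_lit 15, nat_lit 5, nat_lit 18, nat_lit 35, nat_lit 15], (nat_lit 4771)), ((nat_lit 4283), [nat_lit 6, nat_lit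 3, nat_lit 1, nat_lit 2, nat_lit 3, nat_lit 4, nat_lit 7, nat_lit 3, nat_lit 2, nat_lit 3, nat_lit 0, nat_lit 1], [nat_lit 24, nat_lit 0, nat_lit 36, nat_lit 25, nat_lit 26], (nat_lit 3281)), ((nat_lit 4349), [nat_lit 5, nat_lit 8, nat_lit 3, nat_lit 4, nat_lit 7, nat_lit 2, nat_lit 3, nat_lit 4, nat_lit 2, nat_lit 3, nat_lit 0, nat_lit 1], [nat_lit 26, nat_lit 24, nat_lit 0, nat_lit 35, nat_lit 32, nat_lit 11], (nat_lit 3394)), ((nat_lit 4317), [nat_lit 6, nat_lit 7, nat_lit 0, nat_lit 1, nat_lit 2, nat_lit 3, nat_lit 4, nat_lit 8, nat_lit 2, nat_lit 3, nat_lit 4, nat_lit 3, nat_lit 2, nat_lit 3, nat_lit 1], [nat_lit 15, nat_lit 5, nat_lit 32, nat_lit 11, nat_lit 27], (nat_lit 12602)), ((nat_lit 4279), [nat_lit 6, nat_lit 3, nat_lit 4, nat_lit 8, nat_lit 4, nat_lit 3, nat_lit 1, nat_lit 2, nat_lit 3, nat_lit 0, nat_lit 1], [nat_lit 33, nat_lit 35, nat_lit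 27], (nat_lit 1669)), ((nat_lit 4355), [nat_lit 8, nat_lit 5, nat_lit 4, nat_lit 7, nat_lit 2, nat_lit 3, nat_lit 4, nat_lit 8, nat_lit 2, nat_lit 3, nat_lit 4, nat_lit 2, nat_lit 3, nat_lit 0, nat_lit 1], [nat_lit 1, nat_lit 1, nat_lit 27, nat_lit 15, nat_lit 27], (nat_lit 11830)), ((nat_lit 4339), [nat_lit 7, nat_lit 3, nat_lit 2, nat_lit 3, nat_lit 1, nat_lit 2, nat_lit 3, nat_lit 0, nat_lit 1], [nat_lit 15, nat_lit 0, nat_lit 37, nat_lit 11, nat_lit 17], (nat_lit 571)), ((nat_lit 4329), [nat_lit 8, nat_lit 5, nat_lit 4, nat_lit 7, nat_lit 3, nat_lit 1, nat_lit 2, nat_lit 3, nat_lit 0, nat_lit 1], [nat_lit 10, nat_lit 10, nat_lit 0, nat_lit 36, nat_lit 16, nat_lit 27], (nat_lit 1004)), ((nat_lit 4321), [nat_lit 5, nat_lit 8, nat_lit 4, nat_lit 8, nat_lit 5, nat_lit 0, nat_lit 1, nat_lit 2, nat_lit 3, nat_lit 4, nat_lit 8, nat_lit 2, nat_lit 3, nat_lit 1],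 [nat_lit 10, nat_lit 10, nat_lit 0, nat_lit 33, nat_lit 37, nat_lit 11], (nat_lit 10391)), ((nat_lit 4303), [nat_lit 7, nat_lit 3, nat_lit 4, nat_lit 8, nat_lit 1, nat_lit 2, nat_lit 3, nat_lit 4, nat_lit 7, nat_lit 3, nat_lit 2, nat_lit 3, nat_lit 1], [nat_lit 24, nat_lit 15, nat_lit 0, nat_lit 32, nat_lit 37, nat_lit 15, nat_lit 26], (nat_lit 6240)), ((nat_lit 4319), [nat_lit 7, nat_lit 7, nat_lit 4, nat_lit 8, nat_lit 1, nat_lit 2, nat_lit 3, nat_lit 4, nat_lit 2, nat_lit 3, nat_lit 0, nat_lit 1], [nat_lit 24, nat_lit 0, nat_lit 15, nat_lit 15, nat_lit 15, nat_lit 27], (nat_lit 3356)), ((nat_lit 4351), [nat_lit 6, nat_lit 3, nat_lit 2, nat_lit 3, nat_lit 4, nat_lit 8, nat_lit 4, nat_lit 3, nat_lit 2, nat_lit 3, nat_lit 1], [nat_lit 24, nat_lit 15, nat_lit 0, nat_lit 33, nat_lit 34], (nat_lit 2273)), ((nat_lit 4331), [nat_lit 5, nat_lit 4, nat_lit 3, nat_lit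 2, nat_lit 3, nat_lit 4, nat_lit 8, nat_lit 1, nat_lit 2, nat_lit 3, nat_lit 4, nat_lit 7, nat_lit 3, nat_lit 2, nat_lit 3, nat_lit 1], [nat_lit 10, nat_lit 10, nat_lit 0, nat_lit 34, nat_lit 16, nat_lit 27], (nat_lit 16355)), ((nat_lit 4311), [nat_lit 8, nat_lit 1, nat_lit 2, nat_lit 3, nat_lit 4, nat_lit 8, nat_lit 3, nat_lit 1, nat_lit 2, nat_lit 3, nat_lit 0, nat_lit 1], [nat_lit 5, nat_lit 35, nat_lit 27, nat_lit 15], (nat_lit 2815)), ((nat_lit 4333), [nat_lit 4, nat_lit 7, nat_lit 4, nat_lit 7, nat_lit 0, nat_lit 1, nat_lit 2, nat_lit 3, nat_lit 4, nat_lit 8, nat_lit 3, nat_lit 2, nat_lit 3, nat_lit 1], [nat_lit 1, nat_lit 24, nat_lit 0, nat_lit 15, nat_lit 15], (nat_lit 9253)), ((nat_lit 4309), [nat_lit 3, nat_lit 4, nat_lit 7, nat_lit 4, nat_lit 7, nat_lit 0, nat_lit 1, nat_lit 2, nat_lit 3, nat_lit 4, nat_lit 8, nat_lit 2, nat_lit 3, nat_lit 0, nat_lit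 1], [nat_lit 14, nat_lit 17, nat_lit 25, nat_lit 15, nat_lit 27], (nat_lit 12038)), ((nat_lit 4335), [nat_lit 4, nat_lit 8, nat_lit 2, nat_lit 3, nat_lit 4, nat_lit 8, nat_lit 8, nat_lit 1, nat_lit 2, nat_lit 3, nat_lit 4, nat_lit 7, nat_lit 2, nat_lit 3, nat_lit 0, nat_lit 1], [nat_lit 25, nat_lit 2, nat_lit 0, nat_lit 17, nat_lit 37, nat_lit 11, nat_lit 26], (nat_lit 15610)), ((nat_lit 4353), [nat_lit 7, nat_lit 6, nat_lit 3, nat_lit 4, nat_lit 7, nat_lit 3, nat_lit 1, nat_lit 2, nat_lit 3, nat_lit 0, nat_lit 1], [nat_lit 14, nat_lit 37, nat_lit 18, nat_lit 26], (nat_lit 1704))] (nat_lit 0) m10_6_1) = 0 := by decide +kernel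
theorem e10_6_2 : reachX THn.T (nat_lit 3836984763795061535) (S10.map Prod.snd) [nat_lit 0, nat_lit 1, nat_lit 0, nat_lit 1, nat_lit 0, nat_lit 1, nat_lit 0, nat_lit 1, nat_lit 0, nat_lit 1, nat_lit 0, nat_lit 0, nat_lit 1, nat_lit 0] m10_6_1 = m10_6_2 := by decide +kernel
theorem e10_8_1 : dt.run q (fun c => c.edges (SP THn.T THn.Rl (nat_lit 15)) (nat_lit 4429) THn.T.n (nat_lit 10) (nat_lit 8)
  [((nat_lit 4367), [nat_lit 6, nat_lit 8, nat_lit 2, nat_lit 3, nat_lit 0, nat_lit 1], [nat_lit 17, nat_lit 37, nat_lit 11, nat_lit 27], (nat_lit 144)), ((nat_lit 4369), [nat_lit 8, nat_lit 4, nat_lit 7, nat_lit 3, nat_lit 2, nat_lit 3, nat_lit 4, nat_lit 8, nat_lit 3, nat_lit 4, nat_lit 3, nat_lit 2, nat_lit 3, nat_lit 1], [nat_lit 16, nat_lit 5, nat_lit 0, nat_lit 34, nat_lit 17, nat_lit 33], (nat_lit 8977)), ((nat_lit 4359), [nat_lit 6, nat_lit 2, nat_lit 3, nat_lit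 0, nat_lit 1, nat_lit 2, nat_lit 3, nat_lit 4, nat_lit 7, nat_lit 3, nat_lit 2, nat_lit 3, nat_lit 0, nat_lit 1], [nat_lit 24, nat_lit 2, nat_lit 0, nat_lit 26, nat_lit 36], (nat_lit 7903)), ((nat_lit 4373), [nat_lit 8, nat_lit 2, nat_lit 3, nat_lit 1, nat_lit 2, nat_lit 3, nat_lit 4, nat_lit 8, nat_lit 3, nat_lit 2, nat_lit 3, nat_lit 0, nat_lit 1], [nat_lit 14, nat_lit 15, nat_lit 0, nat_lit 26, nat_lit 17, nat_lit 15, nat_lit 27], (nat_lit 5105)), ((nat_lit 4361), [nat_lit 6, nat_lit 4, nat_lit 7, nat_lit 4, nat_lit 1, nat_lit 2, nat_lit 3, nat_lit 0, nat_lit 1], [nat_lit 5, nat_lit 14, nat_lit 11, nat_lit 17, nat_lit 26], (nat_lit 615)), ((nat_lit 4371), [nat_lit 5, nat_lit 7, nat_lit 3, nat_lit 4, nat_lit 7, nat_lit 2, nat_lit 3, nat_lit 4, nat_lit 2, nat_lit 3, nat_lit 1], [nat_lit 15, nat_lit 1, nat_lit 18, nat_lit 25, nat_lit 26], (nat_lit 2489)), ((nat_lit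 4357), [nat_lit 6, nat_lit 4, nat_lit 7, nat_lit 4, nat_lit 7, nat_lit 0, nat_lit 1, nat_lit 2, nat_lit 3, nat_lit 4, nat_lit 7, nat_lit 2, nat_lit 3, nat_lit 1], [nat_lit 14, nat_lit 18, nat_lit 18, nat_lit 27], (nat_lit 10656)), ((nat_lit 4365), [nat_lit 7, nat_lit 4, nat_lit 7, nat_lit 6, nat_lit 1, nat_lit 2, nat_lit 3, nat_lit 4, nat_lit 7, nat_lit 2, nat_lit 3, nat_lit 4, nat_lit 2, nat_lit 3, nat_lit 1], [nat_lit 11, nat_lit 2, nat_lit 0, nat_lit 36, nat_lit 24, nat_lit 15], (nat_lit 13847)), ((nat_lit 4363), [nat_lit 6, nat_lit 8, nat_lit 4, nat_lit 7, nat_lit 1, nat_lit 2, nat_lit 3, nat_lit 4, nat_lit 8, nat_lit 2, nat_lit 3, nat_lit 1], [nat_lit 10, nat_lit 0, nat_lit 37, nat_lit 11, nat_lit 15], (nat_lit 4331))] (nat_lit 0) m10_8_1) = 0 := by decide +kernel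
theorem e10_8_2 : reachX THn.T (nat_lit 2256710721511890791) (S10.map Prod.snd) [nat_lit 0, nat_lit 1, nat_lit 0, nat_lit 1, nat_lit 0, nat_lit 1, nat_lit 0, nat_lit 1, nat_lit 0, nat_lit 1, nat_lit 0, nat_lit 0, nat_lit 1, nat_lit 0] m10_8_1 = m10_8_2 := by decide +kernel
theorem e10_9_1 : dt.run q (fun c => c.edges (SP THn.T THn.Rl (nat_lit 15)) (nat_lit 4429) THn.T.n (nat_lit 10) (nat_lit 9)
  [((nat_lit 3909), [nat_lit 5, nat_lit 7], [nat_lit 1, nat_lit 1, nat_lit 32, nat_lit 36, nat_lit 16, nat_lit 27], (nat_lit 15)), ((nat_lit 4381), [nat_lit 2, nat_lit 3, nat_lit 4, nat_lit 7, nat_lit 2, nat_lit 3, nat_lit 4, nat_lit 7, nat_lit 3, nat_lit 4, nat_lit 2, nat_lit 3, nat_lit 0, nat_lit 1], [nat_lit 16, nat_lit 5, nat_lit 2, nat_lit 33, nat_lit 37, nat_lit 27], (nat_lit 8292)), ((nat_lit 4377), [nat_lit 8, nat_lit 4, nat_lit 3], [nat_lit 2, nat_lit 0, nat_lit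 37, nat_lit 18, nat_lit 26], (nat_lit 27)), ((nat_lit 4375), [nat_lit 8, nat_lit 3, nat_lit 4, nat_lit 7, nat_lit 3, nat_lit 4, nat_lit 1, nat_lit 2, nat_lit 3, nat_lit 0, nat_lit 1], [nat_lit 25, nat_lit 2, nat_lit 0, nat_lit 37, nat_lit 34, nat_lit 24, nat_lit 26], (nat_lit 1753)), ((nat_lit 4379), [nat_lit 6, nat_lit 2, nat_lit 3, nat_lit 4, nat_lit 7, nat_lit 4, nat_lit 1, nat_lit 2, nat_lit 3, nat_lit 0, nat_lit 1], [nat_lit 14, nat_lit 37, nat_lit 24, nat_lit 15, nat_lit 27], (nat_lit 1776))] (nat_lit 0) m10_9_1) = 0 := by decide +kernel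
theorem e10_9_2 : reachX THn.T (nat_lit 1585059849020552690) (S10.map Prod.snd) [nat_lit 0, nat_lit 1, nat_lit 0, nat_lit 1, nat_lit 0, nat_lit 1, nat_lit 0, nat_lit 1, nat_lit 0, nat_lit 1, nat_lit 0, nat_lit 0, nat_lit 1, nat_lit 0] m10_9_1 = m10_9_2 := by decide +kernel
theorem e10_10_1 : dt.run q (fun c => c.edges (SP THn.T THn.Rl (nat_lit 15)) (nat_lit 4429) THn.T.n (nat_lit 10) (nat_lit 10)
  [((nat_lit 4387), [nat_lit 8, nat_lit 3], [nat_lit 5, nat_lit 16, nat_lit 2, nat_lit 26, nat_lit 24, nat_lit 27], (nat_lit 10)), ((nat_lit 4390), [nat_lit 6, nat_lit 8, nat_lit 2, nat_lit 3, nat_lit 4, nat_lit 7, nat_lit 3, nat_lit 0, nat_lit 1, nat_lit 2, nat_lit 3, nat_lit 4, nat_lit 3, nat_lit 2, nat_lit 3, nat_lit 1], [nat_lit 10, nat_lit 10, nat_lit 0, nat_lit 15, nat_lit 18, nat_lit 26], (nat_lit 15680)), ((nat_lit 4391), [nat_lit 8, nat_lit 5, nat_lit 4, nat_lit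 7, nat_lit 2, nat_lit 3, nat_lit 4, nat_lit 7, nat_lit 1, nat_lit 2, nat_lit 3, nat_lit 0, nat_lit 1], [nat_lit 27, nat_lit 17], (nat_lit 4899)), ((nat_lit 4386), [nat_lit 8, nat_lit 4, nat_lit 7, nat_lit 3], [nat_lit 34, nat_lit 26], (nat_lit 67)), ((nat_lit 4384), [nat_lit 6, nat_lit 7, nat_lit 4, nat_lit 8, nat_lit 3], [nat_lit 10, nat_lit 10, nat_lit 0, nat_lit 16, nat_lit 11, nat_lit 27], (nat_lit 123)), ((nat_lit 4383), [nat_lit 8, nat_lit 4, nat_lit 7, nat_lit 4, nat_lit 3], [nat_lit 24, nat_lit 2, nat_lit 34, nat_lit 32], (nat_lit 116)), ((nat_lit 4385), [nat_lit 8, nat_lit 4, nat_lit 8, nat_lit 8, nat_lit 3, nat_lit 4, nat_lit 7, nat_lit 1, nat_lit 2, nat_lit 3, nat_lit 4, nat_lit 2, nat_lit 3, nat_lit 1], [nat_lit 5, nat_lit 2, nat_lit 15, nat_lit 17, nat_lit 11, nat_lit 27], (nat_lit 9811)), ((nat_lit 4393), [nat_lit 5, nat_lit 8, nat_lit 4, nat_lit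 7, nat_lit 3], [nat_lit 10, nat_lit 10, nat_lit 0, nat_lit 34, nat_lit 34, nat_lit 26], (nat_lit 127)), ((nat_lit 4392), [nat_lit 4, nat_lit 7, nat_lit 4, nat_lit 7, nat_lit 3], [nat_lit 15, nat_lit 5, nat_lit 15, nat_lit 35], (nat_lit 129)), ((nat_lit 4389), [nat_lit 8, nat_lit 4, nat_lit 7, nat_lit 2, nat_lit 3, nat_lit 4, nat_lit 7, nat_lit 1, nat_lit 2, nat_lit 3, nat_lit 0, nat_lit 1], [nat_lit 32, nat_lit 16, nat_lit 26], (nat_lit 3074)), ((nat_lit 4394), [nat_lit 6, nat_lit 8, nat_lit 4, nat_lit 7, nat_lit 2, nat_lit 3, nat_lit 4, nat_lit 7, nat_lit 1, nat_lit 2, nat_lit 3, nat_lit 4, nat_lit 8, nat_lit 2, nat_lit 3, nat_lit 1], [nat_lit 5, nat_lit 0, nat_lit 26, nat_lit 36], (nat_lit 16712)), ((nat_lit 4388), [nat_lit 6, nat_lit 3, nat_lit 4, nat_lit 7, nat_lit 2, nat_lit 3, nat_lit 4, nat_lit 2, nat_lit 3, nat_lit 1], [nat_lit 2, nat_lit 25, nat_lit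 16, nat_lit 16], (nat_lit 1428))] (nat_lit 0) m10_10_1) = 0 := by decide +kernel
theorem e10_10_2 : reachX THn.T (nat_lit 823742914167051748) (S10.map Prod.snd) [nat_lit 0, nat_lit 1, nat_lit 0, nat_lit 1, nat_lit 0, nat_lit 1, nat_lit 0, nat_lit 1, nat_lit 0, nat_lit 1, nat_lit 0, nat_lit 0, nat_lit 1, nat_lit 0] m10_10_1 = m10_10_2 := by decide +kernel
theorem pc10 : partChk THn.T.n (nat_lit 860) [(nat_lit 0), (nat_lit 0), m10_2_2, m10_3_2, m10_4_2, m10_5_3, m10_6_2, (nat_lit 0), m10_8_2, m10_9_2, m10_10_2] (nth [] aL (nat_lit 10)) = true ∧ nth 0 PL (nat_lit 10) = (nat_lit 10) := by decide +kernel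
theorem kgc : dt.run q (fun c => sumL (c.kgen (nat_lit 4429)) KG) = 0 := by decide +kernel
theorem num : Num (dt.ck q) PL [nat_lit 1, nat_lit 17199, nat_lit 45864, nat_lit 2201472, nat_lit 1304576, nat_lit 105670656, nat_lit 11741184, nat_lit 179712, nat_lit 8805888, nat_lit 5031936, nat_lit 8128512] aL 143127000 ∧ KG.map Prod.snd = THn.U ∧ PL.length = 11 := by decide +kernel
theorem ivc : dt.run q (fun c => c.ivc) = true := by decide +kernel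
theorem par : Par (dt.ck q) THn.Rl 634023936 143127000 RA 9 11 90745943887872000 := by decide +kernel
theorem modc : dt.run q (fun c => c.modChk (nat_lit 4429) THn.Rl [nat_lit 38322585203679120632440487592940909569369790799355185847947010836361063465751442752596877721207427437958035406446387702664519349438942990420018200576, nat_lit 38322585203679120632440487592940909569369790799355185847947010836361063465751442752596877721207427437958035406446387702664519349438942990420018200576, nat_lit 38322585203679120632440487592940909569369790799355185847947010836361063465751442752596877721207427437958035406446387702664519349438942990420018200576, nat_lit 38322585203679120632440487592940909569369790799355185847947010836361063465751442752596877721207427437958035406446387702664519349438942990420018200576, nat_lit 38322585203679120632440487592940909569369790799355185847947010836361063465751442752596877721207427437958035406446387702664519349438942990420018200576,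 nat_lit 38322585203679120632440487592940909569369790799355185847947010972347885921552477716959211198853750902926514140096154190291388031162242954784613072896, nat_lit 38322585203679120632440487592940909569369790799355185847947011924255643112159722467495545542378015157705865275644519603679468803225342705336777179136, nat_lit 38322585203679120632440487592940909569369790799355185847947010836361063465751442752596877721207427437958035406446387702664519349438942990420018200576, nat_lit 38322585203679120632440487592940909569369790799355185847947010836361063465751442752596877721207427437958035406446387702664519349438942990420018200576, nat_lit 38322585203679120632440487592940909570109581712928943314732197224349704629374782755502998480480224093990681249357489362355584533930145131875077718488, nat_lit 38322585203679120632440487592940909570109581712928943314732197224349704629374782755502998480480224093990681249357489362355584533930145131875077718174]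
  [[], [], [], [], [], [], [], [], [], [], [], [], [], [], [], [], [], [], [], [], [], [], [], [], [], [((nat_lit 9), (nat_lit 490)), ((nat_lit 13), (nat_lit 280)), ((nat_lit 19), (nat_lit 280)), ((nat_lit 21), (nat_lit 420)), ((nat_lit 22), (nat_lit 420))], [], [], [], [], [], []]
  [[((nat_lit 19), (nat_lit 315)), ((nat_lit 20), (nat_lit 315)), ((nat_lit 21), (nat_lit 315)), ((nat_lit 22), (nat_lit 315)), ((nat_lit 157), (nat_lit 315))], [((nat_lit 9), (nat_lit 474)), ((nat_lit 13), (nat_lit 78)), ((nat_lit 21), (nat_lit 1))], [((nat_lit 9), (nat_lit 238)), ((nat_lit 13), (nat_lit 590)), ((nat_lit 19), (nat_lit 316)), ((nat_lit 20), (nat_lit 315)), ((nat_lit 22), (nat_lit 1))], [((nat_lit 9), (nat_lit 146)), ((nat_lit 13), (nat_lit 360)), ((nat_lit 19), (nat_lit 613)), ((nat_lit 21), (nat_lit 560)), ((nat_lit 22), (nat_lit 70)), ((nat_lit 28), (nat_lit 18)),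 ((nat_lit 29), (nat_lit 315)), ((nat_lit 139), (nat_lit 420))], [((nat_lit 9), (nat_lit 120)), ((nat_lit 13), (nat_lit 128)), ((nat_lit 19), (nat_lit 254)), ((nat_lit 21), (nat_lit 629)), ((nat_lit 22), (nat_lit 379)), ((nat_lit 28), (nat_lit 540)), ((nat_lit 29), (nat_lit 315)), ((nat_lit 139), (nat_lit 280))], [((nat_lit 9), (nat_lit 536)), ((nat_lit 13), (nat_lit 322)), ((nat_lit 19), (nat_lit 612)), ((nat_lit 21), (nat_lit 559)), ((nat_lit 22), (nat_lit 69)), ((nat_lit 28), (nat_lit 18)), ((nat_lit 29), (nat_lit 315)), ((nat_lit 113), (nat_lit 315)), ((nat_lit 139), (nat_lit 420))], [((nat_lit 9), (nat_lit 212)), ((nat_lit 13), (nat_lit 138)), ((nat_lit 19), (nat_lit 504)), ((nat_lit 21), (nat_lit 490)), ((nat_lit 22), (nat_lit 140)), ((nat_lit 28), (nat_lit 54)), ((nat_lit 139), (nat_lit 210)), ((nat_lit 143), (nat_lit 158)), ((nat_lit 145), (nat_lit 315)),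 ((nat_lit 157), (nat_lit 315))], [((nat_lit 9), (nat_lit 602)), ((nat_lit 13), (nat_lit 146)), ((nat_lit 19), (nat_lit 83)), ((nat_lit 20), (nat_lit 315)), ((nat_lit 21), (nat_lit 210)), ((nat_lit 22), (nat_lit 210)), ((nat_lit 30), (nat_lit 351))], [((nat_lit 9), (nat_lit 588)), ((nat_lit 13), (nat_lit 258)), ((nat_lit 19), (nat_lit 612)), ((nat_lit 21), (nat_lit 79)), ((nat_lit 22), (nat_lit 560)), ((nat_lit 28), (nat_lit 468)), ((nat_lit 29), (nat_lit 315)), ((nat_lit 30), (nat_lit 459)), ((nat_lit 31), (nat_lit 280)), ((nat_lit 139), (nat_lit 210))], [((nat_lit 9), (nat_lit 402)), ((nat_lit 13), (nat_lit 158)), ((nat_lit 19), (nat_lit 470)), ((nat_lit 21), (nat_lit 490)), ((nat_lit 22), (nat_lit 140)), ((nat_lit 28), (nat_lit 504)), ((nat_lit 115), (nat_lit 394)), ((nat_lit 139), (nat_lit 210))], [((nat_lit 9), (nat_lit 240)), ((nat_lit 13), (nat_lit 600)),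 ((nat_lit 19), (nat_lit 74)), ((nat_lit 20), (nat_lit 315)), ((nat_lit 21), (nat_lit 315)), ((nat_lit 22), (nat_lit 315)), ((nat_lit 28), (nat_lit 306)), ((nat_lit 115), (nat_lit 158)), ((nat_lit 117), (nat_lit 629)), ((nat_lit 157), (nat_lit 315))], [((nat_lit 9), (nat_lit 482)), ((nat_lit 13), (nat_lit 148)), ((nat_lit 19), (nat_lit 234)), ((nat_lit 21), (nat_lit 454)), ((nat_lit 22), (nat_lit 554)), ((nat_lit 28), (nat_lit 198)), ((nat_lit 29), (nat_lit 315)), ((nat_lit 113), (nat_lit 315)), ((nat_lit 139), (nat_lit 70)), ((nat_lit 143), (nat_lit 472)), ((nat_lit 145), (nat_lit 315)), ((nat_lit 149), (nat_lit 1))]]) = true := by decide +kernel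

end H16.THc
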