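import Cfsg.Agent.H16.D.THn
import Cfsg.Agent.H16.DC7
import Cfsg.Agent.H16.Sc.D42
import Cfsg.Agent.H16.D.THc.R0
import Cfsg.Agent.H16.D.THc.R1
import Cfsg.Agent.H16.D.THc.R2
import Cfsg.Agent.H16.D.THc.R3

/-! Generated by tools/h16 (computation kit). -/

set_option maxRecDepth 100000
set_option maxHeartbeats 0

namespace H16.THc

open H26 (jn)
open DC
open DC
open H26 (jn)
def q : FP 28 28 2 := FP.std 28 28 2 5 1 1
theorem qok : q.OK := FP.std_ok (by decide +kernel)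
noncomputable def c0 : ℕ := (nat_lit 0x8000000000000000000000000000000000004000000000000000000000000000000000002000000000000000000000000000000000001000000000000000000000000000000000010840108421000200002100020080010002108001084210842000421080200040100021000210840108020084210000008021000010842008001004200842000401084200002008020004210840108001080000802000020084000042000420080000802008420000010002100420004000802100001000200002108000080210800008400080200840000021004010040108420080210000008001000210042100401004010802108420084010000000000000000002000000000000000000000000010802100420004200000100400000200000100421084000842100020080210000108001000200002000020004200040100000084010840000001080010042108000000010040100401004000802000000080010000000421004200842000421080210000000001000210802100000004200802100000000200842108001004000842000421084200000000000084210040008401084210002000021004010840008421084210842108400000210840000421004200840100420080000000008400000200042008000080200840000000084010800100001084200802108021)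
noncomputable def c1 : ℕ := (nat_lit 0x8000000000000000000000000000000000004000000000000000000000000000000000002000001084210000000401004010000100020080000802100001084210802100001000210800108400080010000000000004200002008421084210000000000080210000100001080210840008020084210800000021000010800008400084010000000421004000002100021004000800008020004200002100020080210040108021000000042000021000210002100000004200040100400004200002100420004010840000401080010042100000004010042000020000000840100001000010800108400080210000000421004000000000000000000002000000000000000000001084000802000400000000802000401000200002108001004200840100421000200002108400084000040100001000010040000001080000840100400004210842100421000000800008000084210040000001000010000108421004010040008421000010000100000004200042100401000000800000000000000040008001080000040108020000000002000021080010002108020080010040100020000200840100001000200802008400000200800100001080000802000000000200000008000080000800008020084200040000001004010840108000000000842000400)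
noncomputable def c2 : ℕ := (nat_lit 0x8000000000000000000000000000000000004000000000000000000000000000000000002000000000000000000000000000000000001000000000000000000000000000000000210842100400084210840000420080010002008020084000042008420084200040000001004210802008421080000802000401000200840000000080000802008421080000002000001004000842100401084010800100000080200840100000000000800100401000210842008420080210002000020084000002000400084210842000001004200802000001000210800100020000200840000420000200802008421004200040100400000200002108020084210840108001080000802000020084200840000421084200842000400000010842108000004210840108020084010000108001004010002108420084000042100020000000002108021084010840000401000000802108420004210802100401004210000000421000010802108020000210002100001004000842000021084010842000020000000802000421000010042100021080200000000021080200840000001084010802100000000200800000020000010000100021000000800000001000200002100000084000002008421000210002000420004210840000020080210042000400080000000008420)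
noncomputable def c3 : ℕ := (nat_lit 0x8000000000000000000000000000000000004000000000000000000000000000000000002000000000000000000000000000000000020000000040100000004010840000020000000802108421080010842000021004210000008401080210800000000000000040000000084200840008020084210002000021000200800100420084000000100401000200002000421080200040000001004200040000000080200042108020084210000100001000200800008421000210000108000000010002100020084010000100001000010040100021084210040008021004000040000021000210842000001080200842100021004000000000000000000002000000000000000000020004010840008401004000800100001000200002000000084010042108421004000000008400080200040008021000000002100001080010042000021084010842000421000210842108420080210040008001000200002000021004210000000400080010042000000084200042008400080200002000021000200002108021004000040108400004210000000421000210002008021000010002100001004200042000001080010800008401000200800108420000000802008401000200000100420084210800008421000200000000020004010042100001004000040000021)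
noncomputable def c4 : ℕ := (nat_lit 0x8000000000000000000000000000000000004000000000000000000000000000000000002000000000000000000000000000000000021080200800100000000000800100401000010840108021004200840000420084200002008421004210000108021084000842100021004000002000420080000002108401000200042008021080210842008021084000002000021004000802000001000200000100021004010000008420084210002008020000000800008421000210840108021000000000000420080210842108020084010040100000004200802108021000200042000420000000000108020084200802008420084000000000000000000002000000000000000000001000210000008001000200042108421000000040000401000000000100421004010000000421000210802008020004200002000020000000840108421004200800008401000200840000001000010000108401084210000000000000010800008001000010002000000000000002000401004210800008001000210042000001080010042000400004200000008421084200842100020084200002100000080200000108020084010000100401000010002008020000000800008001004210002000421080200802008020004210802000001080210802000020084000040100400)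
noncomputable def c5 : ℕ := (nat_lit 0x8400000000000000000000000000000000080000000000000000000000000000000000002000000000000000000000000000000000021080000840000401004010802100021000200040108001080000000100020000010000108421084000840100000080200040100020004000002100000084210040000020000010800100400000000000000401004200000108401004200000000400000200040000020004200802108401084210000100421000210800000421000000842108421004210002000001000000040108421000010002100021004000842108401000010000000020000210842108020004000842108000000010000000000000000002000000000000000000000080210042108001000010842100000000010802008400080000042008000000010000100020084010840108020000210002000021080010802100000084010840100421000000000008421000000040108000000200000008021080000040108421000000042000021084000842008401080210000000401000010800000400084010802008000000200002100021084000040108021084000040100020080000840008000000010840108001000010042100401084010842108400000210002108000004200840108021000200002000020004210000108401000010802000000)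
noncomputable def c6 : ℕ := (nat_lit 0x400000000000000000000000000000000084000000000000000000000000000000000002000000000000000000000000000000000001084210000008401080200802000021000010000108021004010040000420004200002000421080010040100400080000040000001000210042008401004000800000000000000002008021080000842108421000200000108000084010000008021084210002000001004010042100401084200002100420000200042100000084010842108000000200000100000004210840108021080000042000001084010000108401084210000100020000010800008001080010040100021000010000000000000000002000000000000000000000004000802100400000010842100020000210000108021080000800008020000200002100420080010000000000080010000100020004000042008401000210802100020000000002100420084010000000400000210002008421000210000000400004200042100021000200840100401084210002100421000200802100401000000802108000004000000008420000010040108021004010000100000000010002100000000010002008401000000040008020084010842100001000200002000000000010800000400004210040100021000000802000000084210840100421)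
noncomputable def c7 : ℕ := (nat_lit 0x8000000000000000000000000000000000004000000000000000000000000000000000002000000000000000000000000000000000020000000040100000004010840000020000000840000401004010842108020000200002100400084010040100401004010002000000080200002100000004000000100000000010840008000004010040000401004010000100001084210000000401084010042000020000210802000401000010802100020000000802108001000000000000020004010000000421084010000108421000000000100021084010840000401084200802000421000210040008020004000000000021000210000000000000000002000000000000000000001000200840008001080210040100020000210000108420080010042008020004210002008001080010800008021000210000100001004010002000401004200842000400000010002108421080010040008021000210002008021080200840100400080000042000000000000042000400000000800100420000010042000401084010000008400000000000100401080000040000001000210000100020004000000000400004000842108021000200802100000080010842008421004200002100400084000840108021000010040100000084000842000000004000042000001)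
noncomputable def c8 : ℕ := (nat_lit 0x8000000000000000000000000000000000004000000000000000000000000000000000002000000000000000000000000000000000020004000840108400000010840000000000210842108421084010000000021000000000108401004000800000401004210040100000004200802008401000010802000421000000000100420080000040008001004200002100421004000840100000000200000100020080200842008401004010800100000000210040100401004000000100000004000000108421000010000108420004200000000000004000802108001000000840100021000010042000000000010802000421004000000000000000000002000000000000000000001000000002100400084200040100000000000040100401000010042008420004200000108001080000840100400004000042100020084200800100001000200802100400000010842008401080010040100401004010000100400004210040008020000000040000001084000002108401000000002100001000200802100421084010040100000000200000008000080010800008020080210040000021004210000000401084200800108421000010842108021004010842008400004210000008020084200000100000084010042100020004000800008400000000800000401)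
theorem iv0 : q.invChk c0 c0 = true := by decide +kernel
theorem iv1 : q.invChk c1 c1 = true := by decide +kernel
theorem iv2 : q.invChk c2 c2 = true := by decide +kernel
theorem iv3 : q.invChk c3 c3 = true := by decide +kernel
theorem iv4 : q.invChk c4 c4 = true := by decide +kernel
theorem iv5 : q.invChk c5 c6 = true := by decide +kernel
theorem iv6 : q.invChk c6 c5 = true := by decide +kernel
theorem iv7 : q.invChk c7 c8 = true := by decide +kernel
theorem iv8 : q.invChk c8 c7 = true := by decide +kernel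
noncomputable def C : List ℕ := [c0, c1, c2, c3, c4, c5, c6, c7, c8]
/-- the letters as matrices -/
noncomputable def g : ℕ → GL (Fin 28) (ZMod 2) := fun k =>
  [qok.gl iv0, qok.gl iv1, qok.gl iv2, qok.gl iv3, qok.gl iv4, qok.gl iv5, qok.gl iv6, qok.gl iv7, qok.gl iv8].getD k 1
theorem rp : q.RpL g C 9 := FP.rpL_list (.cons (qok.rp_gl iv0) (.cons (qok.rp_gl iv1) (.cons (qok.rp_gl iv2) (.cons (qok.rp_gl iv3) (.cons (qok.rp_gl iv4) (.cons (qok.rp_gl iv5) (.cons (qok.rp_gl iv6) (.cons (qok.rp_gl iv7) (.cons (qok.rp_gl iv8) .nil)))))))))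
noncomputable def VH : List (List ℕ) := [[nat_lit 7, nat_lit 0, nat_lit 4, nat_lit 8, nat_lit 4, nat_lit 8, nat_lit 2, nat_lit 3, nat_lit 2, nat_lit 4, nat_lit 7, nat_lit 3, nat_lit 2, nat_lit 4, nat_lit 8, nat_lit 8, nat_lit 3, nat_lit 4, nat_lit 8, nat_lit 2, nat_lit 3, nat_lit 4, nat_lit 2, nat_lit 3, nat_lit 4],
  [nat_lit 3, nat_lit 2, nat_lit 3, nat_lit 4, nat_lit 8, nat_lit 3, nat_lit 2, nat_lit 3, nat_lit 4, nat_lit 8, nat_lit 8, nat_lit 4, nat_lit 3, nat_lit 8, nat_lit 4, nat_lit 2, nat_lit 3, nat_lit 4, nat_lit 8, nat_lit 2, nat_lit 3, nat_lit 4, nat_lit 2, nat_lit 7],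
  [nat_lit 8, nat_lit 8, nat_lit 8, nat_lit 4, nat_lit 3, nat_lit 2, nat_lit 3, nat_lit 8, nat_lit 4, nat_lit 3, nat_lit 2, nat_lit 3, nat_lit 4, nat_lit 7, nat_lit 4, nat_lit 8],
  [nat_lit 7, nat_lit 4, nat_lit 8, nat_lit 4, nat_lit 3, nat_lit 2, nat_lit 3, nat_lit 4, nat_lit 7, nat_lit 3, nat_lit 2, nat_lit 3, nat_lit 4, nat_lit 7, nat_lit 7, nat_lit 7],
  [nat_lit 3, nat_lit 8, nat_lit 4, nat_lit 0, nat_lit 2, nat_lit 3, nat_lit 2, nat_lit 4, nat_lit 3, nat_lit 7, nat_lit 4, nat_lit 1, nat_lit 2, nat_lit 3, nat_lit 4, nat_lit 8, nat_lit 2, nat_lit 1, nat_lit 2, nat_lit 7, nat_lit 7, nat_lit 4],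
  [nat_lit 3, nat_lit 0]]
noncomputable def Fa : FT := (.node (.node (.node (.node (.node (.node (.node 
 (.leaf fa0) 
 (.leaf fa64)) 
 (.leaf fa32)) (.node 
 (.leaf fa16) 
 (.leaf fa48))) (.node (.node 
 (.leaf fa8) 
 (.leaf fa40)) (.node 
 (.leaf fa24) 
 (.leaf fa56)))) (.node (.node (.node (.node 
 (.leaf fa4) 
 (.leaf fa68)) 
 (.leaf fa36)) (.node 
 (.leaf fa20) 
 (.leaf fa52))) (.node (.node 
 (.leaf fa12) 
 (.leaf fa44)) (.node 
 (.leaf fa28) 
 (.leaf fa60))))) (.node (.node (.node (.node (.node 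
 (.leaf fa2) 
 (.leaf fa66)) 
 (.leaf fa34)) (.node 
 (.leaf fa18) 
 (.leaf fa50))) (.node (.node 
 (.leaf fa10) 
 (.leaf fa42)) (.node 
 (.leaf fa26) 
 (.leaf fa58)))) (.node (.node (.node 
 (.leaf fa6) 
 (.leaf fa38)) (.node 
 (.leaf fa22) 
 (.leaf fa54))) (.node (.node 
 (.leaf fa14) 
 (.leaf fa46)) (.node 
 (.leaf fa30) 
 (.leaf fa62)))))) (.node (.node (.node (.node (.node (.node 
 (.leaf fa1) 
 (.leaf fa65)) 
 (.leaf fa33)) (.node 
 (.leaf fa17) 
 (.leaf fa49))) (.node (.node 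
 (.leaf fa9) 
 (.leaf fa41)) (.node 
 (.leaf fa25) 
 (.leaf fa57)))) (.node (.node (.node (.node 
 (.leaf fa5) 
 (.leaf fa69)) 
 (.leaf fa37)) (.node 
 (.leaf fa21) 
 (.leaf fa53))) (.node (.node 
 (.leaf fa13) 
 (.leaf fa45)) (.node 
 (.leaf fa29) 
 (.leaf fa61))))) (.node (.node (.node (.node (.node 
 (.leaf fa3) 
 (.leaf fa67)) 
 (.leaf fa35)) (.node 
 (.leaf fa19) 
 (.leaf fa51))) (.node (.node 
 (.leaf fa11) 
 (.leaf fa43)) (.node 
 (.leaf fa27) 
 (.leaf fa59)))) (.node (.node (.node 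
 (.leaf fa7) 
 (.leaf fa39)) (.node 
 (.leaf fa23) 
 (.leaf fa55))) (.node (.node 
 (.leaf fa15) 
 (.leaf fa47)) (.node 
 (.leaf fa31) 
 (.leaf fa63)))))))
noncomputable def Da : List (ℕ × List ℕ) := [((nat_lit 0), []), ((nat_lit 0), []), ((nat_lit 1), [nat_lit 3])]
noncomputable def Ra : List (List ℕ × ℕ) := [([a31, a32], nat_lit 38322585203679120632440487592940909569369790799355185847947010836361063465751442752596877721207427437958035406446387702664519349438942990420018200577), ([a56, a57, a56, a57], nat_lit 38322585203679120632440487592940909569369790799355185847947010836361063465751442752596877721207427439419537043777290620868204182155226010075950743554), ([a57, a56, a57, a56], nat_lit 38322585203679120632440487592940909569369790799355185847947010836361063465751442752596877721207427439419537043777290620868204182155226010075950743554), ([a58, a56, a58, a56], nat_lit 38322585203679120632440487592940909569369790799355185847947010836361063465751442752596877721207428357242565287584323252782279127980962354001587732482),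 ([a59, a56, a60, a61], nat_lit 38322585203679120632440487592940909569369790799355185847947010836361063465753209599661656105537010735458778324962215186561394968397064596621310820355), ([a56, a60, a61, a59], nat_lit 38322585203679120632440487592940909569369790799355185847947010836361063465753209599661656105537010735458778324962215186561394968397064596621310820355)]
noncomputable def Dsa : List (List (List ℕ) × Ce) := [([[],
  [nat_lit 0, nat_lit 2]], [([nat_lit 2, nat_lit 0], (nat_lit 0), false)]), ([[nat_lit 3, nat_lit 0, nat_lit 2],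
  [nat_lit 4, nat_lit 3],
  [nat_lit 3, nat_lit 0, nat_lit 2],
  [nat_lit 4, nat_lit 3]], [([nat_lit 18, nat_lit 3, nat_lit 0, nat_lit 2, nat_lit 18, nat_lit 4, nat_lit 3, nat_lit 18, nat_lit 3], (nat_lit 0), false), ([nat_lit 18, nat_lit 3], (nat_lit 0), false), ([], (nat_lit 4), false)]), ([[nat_lit 4, nat_lit 3],
  [nat_lit 3, nat_lit 0, nat_lit 2],
  [nat_lit 4, nat_lit 3],
  [nat_lit 3, nat_lit 0, nat_lit 2]], [([nat_lit 18, nat_lit 4, nat_lit 3, nat_lit 18, nat_lit 3], (nat_lit 0), false), ([nat_lit 2, nat_lit 0], (nat_lit 0), false), ([nat_lit 2, nat_lit 0, nat_lit 3, nat_lit 19], (nat_lit 4), false)]), ([[nat_lit 3, nat_lit 4],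
  [nat_lit 3, nat_lit 0, nat_lit 2],
  [nat_lit 3, nat_lit 4],
  [nat_lit 3, nat_lit 0, nat_lit 2]], [([nat_lit 18, nat_lit 3, nat_lit 4, nat_lit 18, nat_lit 3], (nat_lit 0), false), ([nat_lit 2, nat_lit 0], (nat_lit 0), false), ([nat_lit 2, nat_lit 0, nat_lit 3, nat_lit 19, nat_lit 4, nat_lit 3], (nat_lit 4), true)]), ([[nat_lit 3, nat_lit 1, nat_lit 0, nat_lit 2, nat_lit 1, nat_lit 3, nat_lit 0, nat_lit 2],
  [nat_lit 3, nat_lit 0, nat_lit 2],
  [nat_lit 4, nat_lit 1, nat_lit 0, nat_lit 2, nat_lit 1, nat_lit 3, nat_lit 0, nat_lit 2],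
  [nat_lit 3, nat_lit 4, nat_lit 2, nat_lit 1, nat_lit 2, nat_lit 0, nat_lit 1, nat_lit 3]], [([nat_lit 18, nat_lit 3, nat_lit 1, nat_lit 0, nat_lit 2, nat_lit 1, nat_lit 3], (nat_lit 0), false), ([nat_lit 3, nat_lit 1, nat_lit 0, nat_lit 2, nat_lit 1, nat_lit 2, nat_lit 4, nat_lit 3, nat_lit 19, nat_lit 2, nat_lit 0], (nat_lit 0), false), ([nat_lit 3, nat_lit 1, nat_lit 0, nat_lit 2, nat_lit 1, nat_lit 2, nat_lit 4, nat_lit 3, nat_lit 19, nat_lit 2, nat_lit 0, nat_lit 3, nat_lit 1, nat_lit 2, nat_lit 0, nat_lit 1, nat_lit 4, nat_lit 19, nat_lit 2, nat_lit 0], (nat_lit 0), false), ([nat_lit 3, nat_lit 1, nat_lit 0, nat_lit 2, nat_lit 1, nat_lit 2, nat_lit 4, nat_lit 3, nat_lit 19, nat_lit 2, nat_lit 0, nat_lit 3, nat_lit 1, nat_lit 2, nat_lit 0, nat_lit 1, nat_lit 4, nat_lit 19, nat_lit 2, nat_lit 0], (nat_lit 6), false)]), ([[nat_lit 3, nat_lit 0, nat_lit 2],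
  [nat_lit 4, nat_lit 1, nat_lit 0, nat_lit 2, nat_lit 1, nat_lit 3, nat_lit 0, nat_lit 2],
  [nat_lit 3, nat_lit 4, nat_lit 2, nat_lit 1, nat_lit 2, nat_lit 0, nat_lit 1, nat_lit 3],
  [nat_lit 3, nat_lit 1, nat_lit 0, nat_lit 2, nat_lit 1, nat_lit 3, nat_lit 0, nat_lit 2]], [([nat_lit 2, nat_lit 0], (nat_lit 0), false), ([nat_lit 2, nat_lit 0, nat_lit 3, nat_lit 1, nat_lit 2, nat_lit 0, nat_lit 1, nat_lit 3, nat_lit 19, nat_lit 3, nat_lit 1, nat_lit 0, nat_lit 2, nat_lit 1, nat_lit 2, nat_lit 4, nat_lit 3, nat_lit 19, nat_lit 2, nat_lit 0], (nat_lit 0), false), ([nat_lit 2, nat_lit 0, nat_lit 3, nat_lit 1, nat_lit 2, nat_lit 0, nat_lit 1, nat_lit 3, nat_lit 19, nat_lit 3, nat_lit 1, nat_lit 0, nat_lit 2, nat_lit 1, nat_lit 2, nat_lit 4, nat_lit 3, nat_lit 19, nat_lit 2, nat_lit 0, nat_lit 3, nat_lit 1, nat_lit 2, nat_lit 0, nat_lit 1, nat_lit 4, nat_lit 19, nat_lit 2, nat_lit 0], (nat_lit 0), false), ([nat_lit 2,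 nat_lit 0, nat_lit 3, nat_lit 1, nat_lit 2, nat_lit 0, nat_lit 1, nat_lit 3, nat_lit 19, nat_lit 3, nat_lit 1, nat_lit 0, nat_lit 2, nat_lit 1, nat_lit 2, nat_lit 4, nat_lit 3, nat_lit 19, nat_lit 2, nat_lit 0, nat_lit 3, nat_lit 1, nat_lit 2, nat_lit 0, nat_lit 1, nat_lit 4, nat_lit 19, nat_lit 2, nat_lit 0], (nat_lit 6), false)])]
noncomputable def Pa4 : List Pf := [.kb [nat_lit 0] [nat_lit 0] [([], (nat_lit 1), false)],
  .kb [nat_lit 2] [nat_lit 2] [([], (nat_lit 2), false)],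
  .kb [nat_lit 4] [nat_lit 4] [([], (nat_lit 3), false)],
  .kb [nat_lit 4, nat_lit 1, nat_lit 2, nat_lit 0, nat_lit 1] [nat_lit 1, nat_lit 2, nat_lit 0, nat_lit 1] [([], (nat_lit 5), false)]]
noncomputable def Pa70 : List Pf := [.ki (nat_lit 0),
  .ki (nat_lit 1),
  .ki (nat_lit 2),
  .ki (nat_lit 3),
  .ki (nat_lit 4),
  .ki (nat_lit 5),
  .kp [nat_lit 14, nat_lit 12, nat_lit 5, nat_lit 12, nat_lit 10, nat_lit 4, nat_lit 5, nat_lit 13, nat_lit 10],
  .ki (nat_lit 15),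
  .ki (nat_lit 6),
  .kp [nat_lit 11, nat_lit 12, nat_lit 4, nat_lit 13, nat_lit 5, nat_lit 10, nat_lit 12, nat_lit 6, nat_lit 11, nat_lit 5, nat_lit 16, nat_lit 0],
  .ki (nat_lit 18),
  .ki (nat_lit 7),
  .kp [nat_lit 19, nat_lit 20, nat_lit 19, nat_lit 20, nat_lit 12, nat_lit 10, nat_lit 3, nat_lit 3, nat_lit 6, nat_lit 1, nat_lit 4, nat_lit 7, nat_lit 19, nat_lit 7, nat_lit 6, nat_lit 17, nat_lit 12, nat_lit 15],
  .ki (nat_lit 21),
  .kp [nat_lit 13, nat_lit 22, nat_lit 11, nat_lit 10, nat_lit 5, nat_lit 22, nat_lit 18, nat_lit 2, nat_lit 22, nat_lit 5, nat_lit 17, nat_lit 13, nat_lit 10, nat_lit 20],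
  .ki (nat_lit 23),
  .ki (nat_lit 8),
  .kp [nat_lit 24, nat_lit 25, nat_lit 23, nat_lit 20, nat_lit 19, nat_lit 25, nat_lit 23, nat_lit 13, nat_lit 12, nat_lit 9, nat_lit 5, nat_lit 16, nat_lit 0, nat_lit 8, nat_lit 24, nat_lit 7, nat_lit 4, nat_lit 19, nat_lit 8, nat_lit 22, nat_lit 16, nat_lit 3, nat_lit 14],
  .ki (nat_lit 26),
  .kp [nat_lit 25, nat_lit 17, nat_lit 6, nat_lit 22, nat_lit 19, nat_lit 8, nat_lit 24, nat_lit 15, nat_lit 15, nat_lit 25, nat_lit 23],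
  .kp [nat_lit 19, nat_lit 4, nat_lit 25],
  .ki (nat_lit 29),
  .sb (nat_lit 0),
  .ss (nat_lit 0) [(nat_lit 31)] [],
  .sb (nat_lit 1),
  .ss (nat_lit 0) [(nat_lit 33)] [],
  .sb (nat_lit 2),
  .ss (nat_lit 0) [(nat_lit 35)] [],
  .sb (nat_lit 3),
  .ss (nat_lit 0) [(nat_lit 37)] [],
  .ss (nat_lit 0) [] [nat_lit 36, nat_lit 33, nat_lit 32],
  .ss (nat_lit 0) [(nat_lit 39)] [],
  .sb (nat_lit 4),
  .ss (nat_lit 0) [] [nat_lit 35, nat_lit 37, nat_lit 34],
  .ss (nat_lit 0) [(nat_lit 42)] [],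
  .ss (nat_lit 0) [] [nat_lit 43, nat_lit 42, nat_lit 36],
  .ss (nat_lit 0) [(nat_lit 44)] [],
  .ss (nat_lit 0) [] [nat_lit 44, nat_lit 40, nat_lit 45],
  .ss (nat_lit 0) [] [nat_lit 45, nat_lit 46, nat_lit 38],
  .df,
  .cy (nat_lit 0) [] [] [] (nat_lit 48) [],
  .tr (nat_lit 48) [] [] [⟨[nat_lit 33, nat_lit 47, nat_lit 32, nat_lit 43], [nat_lit 1, nat_lit 0, nat_lit 6, nat_lit 4], (nat_lit 48)⟩],
  .tr (nat_lit 48) [] [] [⟨[nat_lit 47, nat_lit 36, nat_lit 43, nat_lit 33, nat_lit 42, nat_lit 42], [nat_lit 0, nat_lit 3, nat_lit 2, nat_lit 4, nat_lit 18], (nat_lit 48)⟩],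
  .ss (nat_lit 1) [(nat_lit 51)] [],
  .tr (nat_lit 48) [] [] [⟨[nat_lit 31, nat_lit 36, nat_lit 35, nat_lit 41], [nat_lit 0, nat_lit 2, nat_lit 4, nat_lit 8], (nat_lit 48)⟩],
  .tr (nat_lit 48) [] [] [⟨[nat_lit 33, nat_lit 35, nat_lit 32, nat_lit 33], [nat_lit 3, nat_lit 2, nat_lit 18], (nat_lit 48)⟩],
  .ss (nat_lit 1) [(nat_lit 54)] [],
  .df,
  .tr (nat_lit 56) [] [] [⟨[nat_lit 55, nat_lit 53, nat_lit 50, nat_lit 53, nat_lit 51], [nat_lit 0, nat_lit 4], (nat_lit 56)⟩],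
  .cy (nat_lit 1) [] [] [nat_lit 1, nat_lit 0, nat_lit 3, nat_lit 28, nat_lit 6, nat_lit 27, nat_lit 15] (nat_lit 49) [⟨[nat_lit 39, nat_lit 42], [nat_lit 1, nat_lit 27, nat_lit 6, nat_lit 18, nat_lit 26, nat_lit 15, nat_lit 27], (nat_lit 48)⟩, ⟨[nat_lit 53, nat_lit 50], [nat_lit 8, nat_lit 7, nat_lit 27, nat_lit 23, nat_lit 15, nat_lit 26], (nat_lit 56)⟩],
  .cy (nat_lit 0) [] [] [] (nat_lit 58) [⟨[nat_lit 51], [nat_lit 0, nat_lit 2, nat_lit 26, nat_lit 7, nat_lit 26, nat_lit 15, nat_lit 21], (nat_lit 56)⟩],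
  .ss (nat_lit 2) [(nat_lit 59)] [],
  .cy (nat_lit 2) [] [] [nat_lit 0, nat_lit 3, nat_lit 2, nat_lit 24, nat_lit 27, nat_lit 4, nat_lit 8, nat_lit 27, nat_lit 15, nat_lit 21] (nat_lit 49) [⟨[nat_lit 40, nat_lit 47], [nat_lit 24, nat_lit 7, nat_lit 28, nat_lit 26], (nat_lit 48)⟩, ⟨[], [nat_lit 1, nat_lit 0, nat_lit 24, nat_lit 7, nat_lit 28, nat_lit 26], (nat_lit 56)⟩],
  .cy (nat_lit 0) [] [] [] (nat_lit 61) [⟨[nat_lit 53, nat_lit 52], [nat_lit 0, nat_lit 21, nat_lit 7, nat_lit 8, nat_lit 23, nat_lit 21], (nat_lit 56)⟩],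
  .cy (nat_lit 4) [] [] [nat_lit 0, nat_lit 3, nat_lit 24, nat_lit 6, nat_lit 4, nat_lit 23, nat_lit 15, nat_lit 28, nat_lit 21] (nat_lit 49) [⟨[nat_lit 47, nat_lit 42], [nat_lit 1, nat_lit 0, nat_lit 3, nat_lit 2, nat_lit 21, nat_lit 30, nat_lit 7, nat_lit 8, nat_lit 18, nat_lit 21], (nat_lit 48)⟩, ⟨[nat_lit 51], [nat_lit 1, nat_lit 23, nat_lit 6, nat_lit 4, nat_lit 8, nat_lit 23, nat_lit 27], (nat_lit 56)⟩],
  .cy (nat_lit 0) [] [] [] (nat_lit 63) [],
  .cy (nat_lit 5) [] [] [nat_lit 2, nat_lit 26, nat_lit 4, nat_lit 8, nat_lit 23, nat_lit 21] (nat_lit 49) [⟨[nat_lit 41, nat_lit 42, nat_lit 33], [nat_lit 1, nat_lit 24, nat_lit 5, nat_lit 8, nat_lit 18, nat_lit 26], (nat_lit 48)⟩, ⟨[nat_lit 52], [nat_lit 1, nat_lit 0, nat_lit 26, nat_lit 4, nat_lit 26, nat_lit 23, nat_lit 28, nat_lit 27], (nat_lit 56)⟩],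
  .cy (nat_lit 0) [] [] [] (nat_lit 65) [],
  .cy (nat_lit 1) [] [] [nat_lit 0, nat_lit 3, nat_lit 2, nat_lit 4, nat_lit 8, nat_lit 26] (nat_lit 56) [⟨[], [nat_lit 29, nat_lit 7, nat_lit 23, nat_lit 15, nat_lit 28, nat_lit 21], (nat_lit 63)⟩, ⟨[nat_lit 53, nat_lit 52], [nat_lit 2, nat_lit 27, nat_lit 7, nat_lit 24, nat_lit 26], (nat_lit 66)⟩],
  .cy (nat_lit 0) [] [] [] (nat_lit 67) [⟨[nat_lit 53, nat_lit 54, nat_lit 51], [nat_lit 0, nat_lit 2, nat_lit 8, nat_lit 7, nat_lit 4, nat_lit 15, nat_lit 26, nat_lit 15, nat_lit 27], (nat_lit 66)⟩],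
  .cy (nat_lit 3) [] [] [nat_lit 1, nat_lit 0, nat_lit 3, nat_lit 7, nat_lit 5, nat_lit 28, nat_lit 23, nat_lit 28, nat_lit 27] (nat_lit 56) [⟨[nat_lit 62, nat_lit 57], [nat_lit 0, nat_lit 2, nat_lit 21, nat_lit 30, nat_lit 7, nat_lit 23, nat_lit 28, nat_lit 21], (nat_lit 65)⟩, ⟨[nat_lit 53, nat_lit 52], [nat_lit 1, nat_lit 2, nat_lit 21, nat_lit 5, nat_lit 18, nat_lit 26, nat_lit 15, nat_lit 27], (nat_lit 64)⟩, ⟨[nat_lit 60, nat_lit 68, nat_lit 59], [nat_lit 0, nat_lit 26, nat_lit 18, nat_lit 5, nat_lit 23, nat_lit 26, nat_lit 15, nat_lit 28], (nat_lit 63)⟩]]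
noncomputable def Fb : FT := (.node (.node (.node (.node (.node (.node 
 (.leaf fb0) 
 (.leaf fb32)) 
 (.leaf fb16)) (.node (.node 
 (.leaf fb8) 
 (.leaf fb40)) 
 (.leaf fb24))) (.node (.node (.node 
 (.leaf fb4) 
 (.leaf fb36)) 
 (.leaf fb20)) (.node (.node 
 (.leaf fb12) 
 (.leaf fb44)) 
 (.leaf fb28)))) (.node (.node (.node (.node 
 (.leaf fb2) 
 (.leaf fb34)) 
 (.leaf fb18)) (.node (.node 
 (.leaf fb10) 
 (.leaf fb42)) 
 (.leaf fb26))) (.node (.node (.node 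
 (.leaf fb6) 
 (.leaf fb38)) 
 (.leaf fb22)) (.node 
 (.leaf fb14) 
 (.leaf fb30))))) (.node (.node (.node (.node (.node 
 (.leaf fb1) 
 (.leaf fb33)) 
 (.leaf fb17)) (.node (.node 
 (.leaf fb9) 
 (.leaf fb41)) 
 (.leaf fb25))) (.node (.node (.node 
 (.leaf fb5) 
 (.leaf fb37)) 
 (.leaf fb21)) (.node (.node 
 (.leaf fb13) 
 (.leaf fb45)) 
 (.leaf fb29)))) (.node (.node (.node (.node 
 (.leaf fb3) 
 (.leaf fb35)) 
 (.leaf fb19)) (.node (.node 
 (.leaf fb11) 
 (.leaf fb43)) 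
 (.leaf fb27))) (.node (.node (.node 
 (.leaf fb7) 
 (.leaf fb39)) 
 (.leaf fb23)) (.node 
 (.leaf fb15) 
 (.leaf fb31))))))
noncomputable def Db : List (ℕ × List ℕ) := [((nat_lit 0), []), ((nat_lit 0), [])]
noncomputable def Rb : List (List ℕ × ℕ) := [([a31, a32], nat_lit 38322585203679120632440487592940909569369790799355185847947010836361063465751442752596877721207427437958035406446387702664519349438942990420018200577)]
noncomputable def Dsb : List (List (List ℕ) × Ce) := [([[],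
  [nat_lit 0, nat_lit 2]], [([nat_lit 2, nat_lit 0], (nat_lit 0), false)])]
noncomputable def Pb5 : List Pf := [.kb [nat_lit 0] [nat_lit 0] [([], (nat_lit 1), false)],
  .kb [nat_lit 2] [nat_lit 2] [([], (nat_lit 2), false)],
  .kb [nat_lit 4] [nat_lit 4] [([], (nat_lit 3), false)],
  .kb [nat_lit 5] [nat_lit 6] [([], (nat_lit 7), false)],
  .kb [nat_lit 8, nat_lit 8, nat_lit 4, nat_lit 7, nat_lit 7] [nat_lit 8, nat_lit 8, nat_lit 4, nat_lit 7, nat_lit 7] [([nat_lit 18, nat_lit 8, nat_lit 8, nat_lit 4, nat_lit 7, nat_lit 7, nat_lit 19, nat_lit 8, nat_lit 8], (nat_lit 8), false)]]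
noncomputable def Pb46 : List Pf := [.ki (nat_lit 1),
  .ki (nat_lit 2),
  .ki (nat_lit 3),
  .ki (nat_lit 4),
  .ki (nat_lit 5),
  .ki (nat_lit 6),
  .ki (nat_lit 7),
  .kp [nat_lit 16, nat_lit 12, nat_lit 14, nat_lit 12, nat_lit 7, nat_lit 0, nat_lit 14, nat_lit 6, nat_lit 0],
  .ki (nat_lit 18),
  .ki (nat_lit 8),
  .kp [nat_lit 20, nat_lit 13, nat_lit 12, nat_lit 19, nat_lit 6, nat_lit 3, nat_lit 2, nat_lit 20, nat_lit 6],
  .ki (nat_lit 21),
  .kp [nat_lit 9, nat_lit 10],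
  .ki (nat_lit 23),
  .kp [nat_lit 23, nat_lit 22, nat_lit 16, nat_lit 22, nat_lit 17, nat_lit 13, nat_lit 12, nat_lit 7, nat_lit 5, nat_lit 15, nat_lit 3, nat_lit 1, nat_lit 22, nat_lit 6, nat_lit 9, nat_lit 11, nat_lit 23, nat_lit 12, nat_lit 9],
  .sb (nat_lit 0),
  .ss (nat_lit 0) [(nat_lit 26)] [],
  .sb (nat_lit 2),
  .ss (nat_lit 0) [(nat_lit 28)] [],
  .sb (nat_lit 3),
  .sb (nat_lit 4),
  .ss (nat_lit 0) [] [nat_lit 30, nat_lit 27, nat_lit 31],
  .sb (nat_lit 5),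
  .ss (nat_lit 0) [(nat_lit 33)] [],
  .sb (nat_lit 7),
  .ss (nat_lit 0) [(nat_lit 35)] [],
  .ss (nat_lit 0) [] [nat_lit 30, nat_lit 29, nat_lit 29],
  .ss (nat_lit 0) [(nat_lit 37)] [],
  .ss (nat_lit 0) [] [nat_lit 36, nat_lit 34, nat_lit 34],
  .ss (nat_lit 0) [] [nat_lit 29, nat_lit 36, nat_lit 26],
  .ss (nat_lit 0) [(nat_lit 40)] [],
  .ss (nat_lit 0) [] [nat_lit 40, nat_lit 37, nat_lit 32],
  .ss (nat_lit 0) [(nat_lit 42)] [],
  .df,
  .tr (nat_lit 44) [] [] [⟨[nat_lit 30, nat_lit 33, nat_lit 38, nat_lit 38, nat_lit 30, nat_lit 40, nat_lit 34, nat_lit 43, nat_lit 40, nat_lit 41, nat_lit 39, nat_lit 35], [nat_lit 0, nat_lit 4, nat_lit 2, nat_lit 3, nat_lit 5, nat_lit 18, nat_lit 25, nat_lit 18, nat_lit 9, nat_lit 24], (nat_lit 44)⟩]]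
noncomputable def F : FT := (.node (.node (.node (.node (.node (.node (.node (.node (.node (.node (.node (.node (.node 
 (.leaf f0) 
 (.leaf f4096)) 
 (.leaf f2048)) (.node 
 (.leaf f1024) 
 (.leaf f3072))) (.node (.node 
 (.leaf f512) 
 (.leaf f2560)) (.node 
 (.leaf f1536) 
 (.leaf f3584)))) (.node (.node (.node (.node 
 (.leaf f256) 
 (.leaf f4352)) 
 (.leaf f2304)) (.node 
 (.leaf f1280) 
 (.leaf f3328))) (.node (.node 
 (.leaf f768) 
 (.leaf f2816)) (.node 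
 (.leaf f1792) 
 (.leaf f3840))))) (.node (.node (.node (.node (.node 
 (.leaf f128) 
 (.leaf f4224)) 
 (.leaf f2176)) (.node 
 (.leaf f1152) 
 (.leaf f3200))) (.node (.node 
 (.leaf f640) 
 (.leaf f2688)) (.node 
 (.leaf f1664) 
 (.leaf f3712)))) (.node (.node (.node 
 (.leaf f384) 
 (.leaf f2432)) (.node 
 (.leaf f1408) 
 (.leaf f3456))) (.node (.node 
 (.leaf f896) 
 (.leaf f2944)) (.node 
 (.leaf f1920) 
 (.leaf f3968)))))) (.node (.node (.node (.node (.node (.node 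
 (.leaf f64) 
 (.leaf f4160)) 
 (.leaf f2112)) (.node 
 (.leaf f1088) 
 (.leaf f3136))) (.node (.node 
 (.leaf f576) 
 (.leaf f2624)) (.node 
 (.leaf f1600) 
 (.leaf f3648)))) (.node (.node (.node (.node 
 (.leaf f320) 
 (.leaf f4416)) 
 (.leaf f2368)) (.node 
 (.leaf f1344) 
 (.leaf f3392))) (.node (.node 
 (.leaf f832) 
 (.leaf f2880)) (.node 
 (.leaf f1856) 
 (.leaf f3904))))) (.node (.node (.node (.node (.node 
 (.leaf f192) 
 (.leaf f4288)) 
 (.leaf f2240)) (.node 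
 (.leaf f1216) 
 (.leaf f3264))) (.node (.node 
 (.leaf f704) 
 (.leaf f2752)) (.node 
 (.leaf f1728) 
 (.leaf f3776)))) (.node (.node (.node 
 (.leaf f448) 
 (.leaf f2496)) (.node 
 (.leaf f1472) 
 (.leaf f3520))) (.node (.node 
 (.leaf f960) 
 (.leaf f3008)) (.node 
 (.leaf f1984) 
 (.leaf f4032))))))) (.node (.node (.node (.node (.node (.node (.node 
 (.leaf f32) 
 (.leaf f4128)) 
 (.leaf f2080)) (.node 
 (.leaf f1056) 
 (.leaf f3104))) (.node (.node 
 (.leaf f544) 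
 (.leaf f2592)) (.node 
 (.leaf f1568) 
 (.leaf f3616)))) (.node (.node (.node (.node 
 (.leaf f288) 
 (.leaf f4384)) 
 (.leaf f2336)) (.node 
 (.leaf f1312) 
 (.leaf f3360))) (.node (.node 
 (.leaf f800) 
 (.leaf f2848)) (.node 
 (.leaf f1824) 
 (.leaf f3872))))) (.node (.node (.node (.node (.node 
 (.leaf f160) 
 (.leaf f4256)) 
 (.leaf f2208)) (.node 
 (.leaf f1184) 
 (.leaf f3232))) (.node (.node 
 (.leaf f672) 
 (.leaf f2720)) (.node 
 (.leaf f1696) 
 (.leaf f3744)))) (.node (.node (.node 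
 (.leaf f416) 
 (.leaf f2464)) (.node 
 (.leaf f1440) 
 (.leaf f3488))) (.node (.node 
 (.leaf f928) 
 (.leaf f2976)) (.node 
 (.leaf f1952) 
 (.leaf f4000)))))) (.node (.node (.node (.node (.node (.node 
 (.leaf f96) 
 (.leaf f4192)) 
 (.leaf f2144)) (.node 
 (.leaf f1120) 
 (.leaf f3168))) (.node (.node 
 (.leaf f608) 
 (.leaf f2656)) (.node 
 (.leaf f1632) 
 (.leaf f3680)))) (.node (.node (.node 
 (.leaf f352) 
 (.leaf f2400)) (.node 
 (.leaf f1376) 
 (.leaf f3424))) (.node (.node 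
 (.leaf f864) 
 (.leaf f2912)) (.node 
 (.leaf f1888) 
 (.leaf f3936))))) (.node (.node (.node (.node (.node 
 (.leaf f224) 
 (.leaf f4320)) 
 (.leaf f2272)) (.node 
 (.leaf f1248) 
 (.leaf f3296))) (.node (.node 
 (.leaf f736) 
 (.leaf f2784)) (.node 
 (.leaf f1760) 
 (.leaf f3808)))) (.node (.node (.node 
 (.leaf f480) 
 (.leaf f2528)) (.node 
 (.leaf f1504) 
 (.leaf f3552))) (.node (.node 
 (.leaf f992) 
 (.leaf f3040)) (.node 
 (.leaf f2016) 
 (.leaf f4064)))))))) (.node (.node (.node (.node (.node (.node (.node (.node 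
 (.leaf f16) 
 (.leaf f4112)) 
 (.leaf f2064)) (.node 
 (.leaf f1040) 
 (.leaf f3088))) (.node (.node 
 (.leaf f528) 
 (.leaf f2576)) (.node 
 (.leaf f1552) 
 (.leaf f3600)))) (.node (.node (.node (.node 
 (.leaf f272) 
 (.leaf f4368)) 
 (.leaf f2320)) (.node 
 (.leaf f1296) 
 (.leaf f3344))) (.node (.node 
 (.leaf f784) 
 (.leaf f2832)) (.node 
 (.leaf f1808) 
 (.leaf f3856))))) (.node (.node (.node (.node (.node 
 (.leaf f144) 
 (.leaf f4240)) 
 (.leaf f2192)) (.node 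
 (.leaf f1168) 
 (.leaf f3216))) (.node (.node 
 (.leaf f656) 
 (.leaf f2704)) (.node 
 (.leaf f1680) 
 (.leaf f3728)))) (.node (.node (.node 
 (.leaf f400) 
 (.leaf f2448)) (.node 
 (.leaf f1424) 
 (.leaf f3472))) (.node (.node 
 (.leaf f912) 
 (.leaf f2960)) (.node 
 (.leaf f1936) 
 (.leaf f3984)))))) (.node (.node (.node (.node (.node (.node 
 (.leaf f80) 
 (.leaf f4176)) 
 (.leaf f2128)) (.node 
 (.leaf f1104) 
 (.leaf f3152))) (.node (.node 
 (.leaf f592) 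
 (.leaf f2640)) (.node 
 (.leaf f1616) 
 (.leaf f3664)))) (.node (.node (.node 
 (.leaf f336) 
 (.leaf f2384)) (.node 
 (.leaf f1360) 
 (.leaf f3408))) (.node (.node 
 (.leaf f848) 
 (.leaf f2896)) (.node 
 (.leaf f1872) 
 (.leaf f3920))))) (.node (.node (.node (.node (.node 
 (.leaf f208) 
 (.leaf f4304)) 
 (.leaf f2256)) (.node 
 (.leaf f1232) 
 (.leaf f3280))) (.node (.node 
 (.leaf f720) 
 (.leaf f2768)) (.node 
 (.leaf f1744) 
 (.leaf f3792)))) (.node (.node (.node 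
 (.leaf f464) 
 (.leaf f2512)) (.node 
 (.leaf f1488) 
 (.leaf f3536))) (.node (.node 
 (.leaf f976) 
 (.leaf f3024)) (.node 
 (.leaf f2000) 
 (.leaf f4048))))))) (.node (.node (.node (.node (.node (.node (.node 
 (.leaf f48) 
 (.leaf f4144)) 
 (.leaf f2096)) (.node 
 (.leaf f1072) 
 (.leaf f3120))) (.node (.node 
 (.leaf f560) 
 (.leaf f2608)) (.node 
 (.leaf f1584) 
 (.leaf f3632)))) (.node (.node (.node (.node 
 (.leaf f304) 
 (.leaf f4400)) 
 (.leaf f2352)) (.node 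
 (.leaf f1328) 
 (.leaf f3376))) (.node (.node 
 (.leaf f816) 
 (.leaf f2864)) (.node 
 (.leaf f1840) 
 (.leaf f3888))))) (.node (.node (.node (.node (.node 
 (.leaf f176) 
 (.leaf f4272)) 
 (.leaf f2224)) (.node 
 (.leaf f1200) 
 (.leaf f3248))) (.node (.node 
 (.leaf f688) 
 (.leaf f2736)) (.node 
 (.leaf f1712) 
 (.leaf f3760)))) (.node (.node (.node 
 (.leaf f432) 
 (.leaf f2480)) (.node 
 (.leaf f1456) 
 (.leaf f3504))) (.node (.node 
 (.leaf f944) 
 (.leaf f2992)) (.node 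
 (.leaf f1968) 
 (.leaf f4016)))))) (.node (.node (.node (.node (.node (.node 
 (.leaf f112) 
 (.leaf f4208)) 
 (.leaf f2160)) (.node 
 (.leaf f1136) 
 (.leaf f3184))) (.node (.node 
 (.leaf f624) 
 (.leaf f2672)) (.node 
 (.leaf f1648) 
 (.leaf f3696)))) (.node (.node (.node 
 (.leaf f368) 
 (.leaf f2416)) (.node 
 (.leaf f1392) 
 (.leaf f3440))) (.node (.node 
 (.leaf f880) 
 (.leaf f2928)) (.node 
 (.leaf f1904) 
 (.leaf f3952))))) (.node (.node (.node (.node (.node 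
 (.leaf f240) 
 (.leaf f4336)) 
 (.leaf f2288)) (.node 
 (.leaf f1264) 
 (.leaf f3312))) (.node (.node 
 (.leaf f752) 
 (.leaf f2800)) (.node 
 (.leaf f1776) 
 (.leaf f3824)))) (.node (.node (.node 
 (.leaf f496) 
 (.leaf f2544)) (.node 
 (.leaf f1520) 
 (.leaf f3568))) (.node (.node 
 (.leaf f1008) 
 (.leaf f3056)) (.node 
 (.leaf f2032) 
 (.leaf f4080))))))))) (.node (.node (.node (.node (.node (.node (.node (.node (.node 
 (.leaf f8) 
 (.leaf f4104)) 
 (.leaf f2056)) (.node 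
 (.leaf f1032) 
 (.leaf f3080))) (.node (.node 
 (.leaf f520) 
 (.leaf f2568)) (.node 
 (.leaf f1544) 
 (.leaf f3592)))) (.node (.node (.node (.node 
 (.leaf f264) 
 (.leaf f4360)) 
 (.leaf f2312)) (.node 
 (.leaf f1288) 
 (.leaf f3336))) (.node (.node 
 (.leaf f776) 
 (.leaf f2824)) (.node 
 (.leaf f1800) 
 (.leaf f3848))))) (.node (.node (.node (.node (.node 
 (.leaf f136) 
 (.leaf f4232)) 
 (.leaf f2184)) (.node 
 (.leaf f1160) 
 (.leaf f3208))) (.node (.node 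
 (.leaf f648) 
 (.leaf f2696)) (.node 
 (.leaf f1672) 
 (.leaf f3720)))) (.node (.node (.node 
 (.leaf f392) 
 (.leaf f2440)) (.node 
 (.leaf f1416) 
 (.leaf f3464))) (.node (.node 
 (.leaf f904) 
 (.leaf f2952)) (.node 
 (.leaf f1928) 
 (.leaf f3976)))))) (.node (.node (.node (.node (.node (.node 
 (.leaf f72) 
 (.leaf f4168)) 
 (.leaf f2120)) (.node 
 (.leaf f1096) 
 (.leaf f3144))) (.node (.node 
 (.leaf f584) 
 (.leaf f2632)) (.node 
 (.leaf f1608) 
 (.leaf f3656)))) (.node (.node (.node (.node 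
 (.leaf f328) 
 (.leaf f4424)) 
 (.leaf f2376)) (.node 
 (.leaf f1352) 
 (.leaf f3400))) (.node (.node 
 (.leaf f840) 
 (.leaf f2888)) (.node 
 (.leaf f1864) 
 (.leaf f3912))))) (.node (.node (.node (.node (.node 
 (.leaf f200) 
 (.leaf f4296)) 
 (.leaf f2248)) (.node 
 (.leaf f1224) 
 (.leaf f3272))) (.node (.node 
 (.leaf f712) 
 (.leaf f2760)) (.node 
 (.leaf f1736) 
 (.leaf f3784)))) (.node (.node (.node 
 (.leaf f456) 
 (.leaf f2504)) (.node 
 (.leaf f1480) 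
 (.leaf f3528))) (.node (.node 
 (.leaf f968) 
 (.leaf f3016)) (.node 
 (.leaf f1992) 
 (.leaf f4040))))))) (.node (.node (.node (.node (.node (.node (.node 
 (.leaf f40) 
 (.leaf f4136)) 
 (.leaf f2088)) (.node 
 (.leaf f1064) 
 (.leaf f3112))) (.node (.node 
 (.leaf f552) 
 (.leaf f2600)) (.node 
 (.leaf f1576) 
 (.leaf f3624)))) (.node (.node (.node (.node 
 (.leaf f296) 
 (.leaf f4392)) 
 (.leaf f2344)) (.node 
 (.leaf f1320) 
 (.leaf f3368))) (.node (.node 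
 (.leaf f808) 
 (.leaf f2856)) (.node 
 (.leaf f1832) 
 (.leaf f3880))))) (.node (.node (.node (.node (.node 
 (.leaf f168) 
 (.leaf f4264)) 
 (.leaf f2216)) (.node 
 (.leaf f1192) 
 (.leaf f3240))) (.node (.node 
 (.leaf f680) 
 (.leaf f2728)) (.node 
 (.leaf f1704) 
 (.leaf f3752)))) (.node (.node (.node 
 (.leaf f424) 
 (.leaf f2472)) (.node 
 (.leaf f1448) 
 (.leaf f3496))) (.node (.node 
 (.leaf f936) 
 (.leaf f2984)) (.node 
 (.leaf f1960) 
 (.leaf f4008)))))) (.node (.node (.node (.node (.node (.node 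
 (.leaf f104) 
 (.leaf f4200)) 
 (.leaf f2152)) (.node 
 (.leaf f1128) 
 (.leaf f3176))) (.node (.node 
 (.leaf f616) 
 (.leaf f2664)) (.node 
 (.leaf f1640) 
 (.leaf f3688)))) (.node (.node (.node 
 (.leaf f360) 
 (.leaf f2408)) (.node 
 (.leaf f1384) 
 (.leaf f3432))) (.node (.node 
 (.leaf f872) 
 (.leaf f2920)) (.node 
 (.leaf f1896) 
 (.leaf f3944))))) (.node (.node (.node (.node (.node 
 (.leaf f232) 
 (.leaf f4328)) 
 (.leaf f2280)) (.node 
 (.leaf f1256) 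
 (.leaf f3304))) (.node (.node 
 (.leaf f744) 
 (.leaf f2792)) (.node 
 (.leaf f1768) 
 (.leaf f3816)))) (.node (.node (.node 
 (.leaf f488) 
 (.leaf f2536)) (.node 
 (.leaf f1512) 
 (.leaf f3560))) (.node (.node 
 (.leaf f1000) 
 (.leaf f3048)) (.node 
 (.leaf f2024) 
 (.leaf f4072)))))))) (.node (.node (.node (.node (.node (.node (.node (.node 
 (.leaf f24) 
 (.leaf f4120)) 
 (.leaf f2072)) (.node 
 (.leaf f1048) 
 (.leaf f3096))) (.node (.node 
 (.leaf f536) 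
 (.leaf f2584)) (.node 
 (.leaf f1560) 
 (.leaf f3608)))) (.node (.node (.node (.node 
 (.leaf f280) 
 (.leaf f4376)) 
 (.leaf f2328)) (.node 
 (.leaf f1304) 
 (.leaf f3352))) (.node (.node 
 (.leaf f792) 
 (.leaf f2840)) (.node 
 (.leaf f1816) 
 (.leaf f3864))))) (.node (.node (.node (.node (.node 
 (.leaf f152) 
 (.leaf f4248)) 
 (.leaf f2200)) (.node 
 (.leaf f1176) 
 (.leaf f3224))) (.node (.node 
 (.leaf f664) 
 (.leaf f2712)) (.node 
 (.leaf f1688) 
 (.leaf f3736)))) (.node (.node (.node 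
 (.leaf f408) 
 (.leaf f2456)) (.node 
 (.leaf f1432) 
 (.leaf f3480))) (.node (.node 
 (.leaf f920) 
 (.leaf f2968)) (.node 
 (.leaf f1944) 
 (.leaf f3992)))))) (.node (.node (.node (.node (.node (.node 
 (.leaf f88) 
 (.leaf f4184)) 
 (.leaf f2136)) (.node 
 (.leaf f1112) 
 (.leaf f3160))) (.node (.node 
 (.leaf f600) 
 (.leaf f2648)) (.node 
 (.leaf f1624) 
 (.leaf f3672)))) (.node (.node (.node 
 (.leaf f344) 
 (.leaf f2392)) (.node 
 (.leaf f1368) 
 (.leaf f3416))) (.node (.node 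
 (.leaf f856) 
 (.leaf f2904)) (.node 
 (.leaf f1880) 
 (.leaf f3928))))) (.node (.node (.node (.node (.node 
 (.leaf f216) 
 (.leaf f4312)) 
 (.leaf f2264)) (.node 
 (.leaf f1240) 
 (.leaf f3288))) (.node (.node 
 (.leaf f728) 
 (.leaf f2776)) (.node 
 (.leaf f1752) 
 (.leaf f3800)))) (.node (.node (.node 
 (.leaf f472) 
 (.leaf f2520)) (.node 
 (.leaf f1496) 
 (.leaf f3544))) (.node (.node 
 (.leaf f984) 
 (.leaf f3032)) (.node 
 (.leaf f2008) 
 (.leaf f4056))))))) (.node (.node (.node (.node (.node (.node (.node 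
 (.leaf f56) 
 (.leaf f4152)) 
 (.leaf f2104)) (.node 
 (.leaf f1080) 
 (.leaf f3128))) (.node (.node 
 (.leaf f568) 
 (.leaf f2616)) (.node 
 (.leaf f1592) 
 (.leaf f3640)))) (.node (.node (.node (.node 
 (.leaf f312) 
 (.leaf f4408)) 
 (.leaf f2360)) (.node 
 (.leaf f1336) 
 (.leaf f3384))) (.node (.node 
 (.leaf f824) 
 (.leaf f2872)) (.node 
 (.leaf f1848) 
 (.leaf f3896))))) (.node (.node (.node (.node (.node 
 (.leaf f184) 
 (.leaf f4280)) 
 (.leaf f2232)) (.node 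
 (.leaf f1208) 
 (.leaf f3256))) (.node (.node 
 (.leaf f696) 
 (.leaf f2744)) (.node 
 (.leaf f1720) 
 (.leaf f3768)))) (.node (.node (.node 
 (.leaf f440) 
 (.leaf f2488)) (.node 
 (.leaf f1464) 
 (.leaf f3512))) (.node (.node 
 (.leaf f952) 
 (.leaf f3000)) (.node 
 (.leaf f1976) 
 (.leaf f4024)))))) (.node (.node (.node (.node (.node (.node 
 (.leaf f120) 
 (.leaf f4216)) 
 (.leaf f2168)) (.node 
 (.leaf f1144) 
 (.leaf f3192))) (.node (.node 
 (.leaf f632) 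
 (.leaf f2680)) (.node 
 (.leaf f1656) 
 (.leaf f3704)))) (.node (.node (.node 
 (.leaf f376) 
 (.leaf f2424)) (.node 
 (.leaf f1400) 
 (.leaf f3448))) (.node (.node 
 (.leaf f888) 
 (.leaf f2936)) (.node 
 (.leaf f1912) 
 (.leaf f3960))))) (.node (.node (.node (.node (.node 
 (.leaf f248) 
 (.leaf f4344)) 
 (.leaf f2296)) (.node 
 (.leaf f1272) 
 (.leaf f3320))) (.node (.node 
 (.leaf f760) 
 (.leaf f2808)) (.node 
 (.leaf f1784) 
 (.leaf f3832)))) (.node (.node (.node 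
 (.leaf f504) 
 (.leaf f2552)) (.node 
 (.leaf f1528) 
 (.leaf f3576))) (.node (.node 
 (.leaf f1016) 
 (.leaf f3064)) (.node 
 (.leaf f2040) 
 (.leaf f4088)))))))))) (.node (.node (.node (.node (.node (.node (.node (.node (.node (.node 
 (.leaf f4) 
 (.leaf f4100)) 
 (.leaf f2052)) (.node 
 (.leaf f1028) 
 (.leaf f3076))) (.node (.node 
 (.leaf f516) 
 (.leaf f2564)) (.node 
 (.leaf f1540) 
 (.leaf f3588)))) (.node (.node (.node (.node 
 (.leaf f260) 
 (.leaf f4356)) 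
 (.leaf f2308)) (.node 
 (.leaf f1284) 
 (.leaf f3332))) (.node (.node 
 (.leaf f772) 
 (.leaf f2820)) (.node 
 (.leaf f1796) 
 (.leaf f3844))))) (.node (.node (.node (.node (.node 
 (.leaf f132) 
 (.leaf f4228)) 
 (.leaf f2180)) (.node 
 (.leaf f1156) 
 (.leaf f3204))) (.node (.node 
 (.leaf f644) 
 (.leaf f2692)) (.node 
 (.leaf f1668) 
 (.leaf f3716)))) (.node (.node (.node 
 (.leaf f388) 
 (.leaf f2436)) (.node 
 (.leaf f1412) 
 (.leaf f3460))) (.node (.node 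
 (.leaf f900) 
 (.leaf f2948)) (.node 
 (.leaf f1924) 
 (.leaf f3972)))))) (.node (.node (.node (.node (.node (.node 
 (.leaf f68) 
 (.leaf f4164)) 
 (.leaf f2116)) (.node 
 (.leaf f1092) 
 (.leaf f3140))) (.node (.node 
 (.leaf f580) 
 (.leaf f2628)) (.node 
 (.leaf f1604) 
 (.leaf f3652)))) (.node (.node (.node (.node 
 (.leaf f324) 
 (.leaf f4420)) 
 (.leaf f2372)) (.node 
 (.leaf f1348) 
 (.leaf f3396))) (.node (.node 
 (.leaf f836) 
 (.leaf f2884)) (.node 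
 (.leaf f1860) 
 (.leaf f3908))))) (.node (.node (.node (.node (.node 
 (.leaf f196) 
 (.leaf f4292)) 
 (.leaf f2244)) (.node 
 (.leaf f1220) 
 (.leaf f3268))) (.node (.node 
 (.leaf f708) 
 (.leaf f2756)) (.node 
 (.leaf f1732) 
 (.leaf f3780)))) (.node (.node (.node 
 (.leaf f452) 
 (.leaf f2500)) (.node 
 (.leaf f1476) 
 (.leaf f3524))) (.node (.node 
 (.leaf f964) 
 (.leaf f3012)) (.node 
 (.leaf f1988) 
 (.leaf f4036))))))) (.node (.node (.node (.node (.node (.node (.node 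
 (.leaf f36) 
 (.leaf f4132)) 
 (.leaf f2084)) (.node 
 (.leaf f1060) 
 (.leaf f3108))) (.node (.node 
 (.leaf f548) 
 (.leaf f2596)) (.node 
 (.leaf f1572) 
 (.leaf f3620)))) (.node (.node (.node (.node 
 (.leaf f292) 
 (.leaf f4388)) 
 (.leaf f2340)) (.node 
 (.leaf f1316) 
 (.leaf f3364))) (.node (.node 
 (.leaf f804) 
 (.leaf f2852)) (.node 
 (.leaf f1828) 
 (.leaf f3876))))) (.node (.node (.node (.node (.node 
 (.leaf f164) 
 (.leaf f4260)) 
 (.leaf f2212)) (.node 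
 (.leaf f1188) 
 (.leaf f3236))) (.node (.node 
 (.leaf f676) 
 (.leaf f2724)) (.node 
 (.leaf f1700) 
 (.leaf f3748)))) (.node (.node (.node 
 (.leaf f420) 
 (.leaf f2468)) (.node 
 (.leaf f1444) 
 (.leaf f3492))) (.node (.node 
 (.leaf f932) 
 (.leaf f2980)) (.node 
 (.leaf f1956) 
 (.leaf f4004)))))) (.node (.node (.node (.node (.node (.node 
 (.leaf f100) 
 (.leaf f4196)) 
 (.leaf f2148)) (.node 
 (.leaf f1124) 
 (.leaf f3172))) (.node (.node 
 (.leaf f612) 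
 (.leaf f2660)) (.node 
 (.leaf f1636) 
 (.leaf f3684)))) (.node (.node (.node 
 (.leaf f356) 
 (.leaf f2404)) (.node 
 (.leaf f1380) 
 (.leaf f3428))) (.node (.node 
 (.leaf f868) 
 (.leaf f2916)) (.node 
 (.leaf f1892) 
 (.leaf f3940))))) (.node (.node (.node (.node (.node 
 (.leaf f228) 
 (.leaf f4324)) 
 (.leaf f2276)) (.node 
 (.leaf f1252) 
 (.leaf f3300))) (.node (.node 
 (.leaf f740) 
 (.leaf f2788)) (.node 
 (.leaf f1764) 
 (.leaf f3812)))) (.node (.node (.node 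
 (.leaf f484) 
 (.leaf f2532)) (.node 
 (.leaf f1508) 
 (.leaf f3556))) (.node (.node 
 (.leaf f996) 
 (.leaf f3044)) (.node 
 (.leaf f2020) 
 (.leaf f4068)))))))) (.node (.node (.node (.node (.node (.node (.node (.node 
 (.leaf f20) 
 (.leaf f4116)) 
 (.leaf f2068)) (.node 
 (.leaf f1044) 
 (.leaf f3092))) (.node (.node 
 (.leaf f532) 
 (.leaf f2580)) (.node 
 (.leaf f1556) 
 (.leaf f3604)))) (.node (.node (.node (.node 
 (.leaf f276) 
 (.leaf f4372)) 
 (.leaf f2324)) (.node 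
 (.leaf f1300) 
 (.leaf f3348))) (.node (.node 
 (.leaf f788) 
 (.leaf f2836)) (.node 
 (.leaf f1812) 
 (.leaf f3860))))) (.node (.node (.node (.node (.node 
 (.leaf f148) 
 (.leaf f4244)) 
 (.leaf f2196)) (.node 
 (.leaf f1172) 
 (.leaf f3220))) (.node (.node 
 (.leaf f660) 
 (.leaf f2708)) (.node 
 (.leaf f1684) 
 (.leaf f3732)))) (.node (.node (.node 
 (.leaf f404) 
 (.leaf f2452)) (.node 
 (.leaf f1428) 
 (.leaf f3476))) (.node (.node 
 (.leaf f916) 
 (.leaf f2964)) (.node 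
 (.leaf f1940) 
 (.leaf f3988)))))) (.node (.node (.node (.node (.node (.node 
 (.leaf f84) 
 (.leaf f4180)) 
 (.leaf f2132)) (.node 
 (.leaf f1108) 
 (.leaf f3156))) (.node (.node 
 (.leaf f596) 
 (.leaf f2644)) (.node 
 (.leaf f1620) 
 (.leaf f3668)))) (.node (.node (.node 
 (.leaf f340) 
 (.leaf f2388)) (.node 
 (.leaf f1364) 
 (.leaf f3412))) (.node (.node 
 (.leaf f852) 
 (.leaf f2900)) (.node 
 (.leaf f1876) 
 (.leaf f3924))))) (.node (.node (.node (.node (.node 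
 (.leaf f212) 
 (.leaf f4308)) 
 (.leaf f2260)) (.node 
 (.leaf f1236) 
 (.leaf f3284))) (.node (.node 
 (.leaf f724) 
 (.leaf f2772)) (.node 
 (.leaf f1748) 
 (.leaf f3796)))) (.node (.node (.node 
 (.leaf f468) 
 (.leaf f2516)) (.node 
 (.leaf f1492) 
 (.leaf f3540))) (.node (.node 
 (.leaf f980) 
 (.leaf f3028)) (.node 
 (.leaf f2004) 
 (.leaf f4052))))))) (.node (.node (.node (.node (.node (.node (.node 
 (.leaf f52) 
 (.leaf f4148)) 
 (.leaf f2100)) (.node 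
 (.leaf f1076) 
 (.leaf f3124))) (.node (.node 
 (.leaf f564) 
 (.leaf f2612)) (.node 
 (.leaf f1588) 
 (.leaf f3636)))) (.node (.node (.node (.node 
 (.leaf f308) 
 (.leaf f4404)) 
 (.leaf f2356)) (.node 
 (.leaf f1332) 
 (.leaf f3380))) (.node (.node 
 (.leaf f820) 
 (.leaf f2868)) (.node 
 (.leaf f1844) 
 (.leaf f3892))))) (.node (.node (.node (.node (.node 
 (.leaf f180) 
 (.leaf f4276)) 
 (.leaf f2228)) (.node 
 (.leaf f1204) 
 (.leaf f3252))) (.node (.node 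
 (.leaf f692) 
 (.leaf f2740)) (.node 
 (.leaf f1716) 
 (.leaf f3764)))) (.node (.node (.node 
 (.leaf f436) 
 (.leaf f2484)) (.node 
 (.leaf f1460) 
 (.leaf f3508))) (.node (.node 
 (.leaf f948) 
 (.leaf f2996)) (.node 
 (.leaf f1972) 
 (.leaf f4020)))))) (.node (.node (.node (.node (.node (.node 
 (.leaf f116) 
 (.leaf f4212)) 
 (.leaf f2164)) (.node 
 (.leaf f1140) 
 (.leaf f3188))) (.node (.node 
 (.leaf f628) 
 (.leaf f2676)) (.node 
 (.leaf f1652) 
 (.leaf f3700)))) (.node (.node (.node 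
 (.leaf f372) 
 (.leaf f2420)) (.node 
 (.leaf f1396) 
 (.leaf f3444))) (.node (.node 
 (.leaf f884) 
 (.leaf f2932)) (.node 
 (.leaf f1908) 
 (.leaf f3956))))) (.node (.node (.node (.node (.node 
 (.leaf f244) 
 (.leaf f4340)) 
 (.leaf f2292)) (.node 
 (.leaf f1268) 
 (.leaf f3316))) (.node (.node 
 (.leaf f756) 
 (.leaf f2804)) (.node 
 (.leaf f1780) 
 (.leaf f3828)))) (.node (.node (.node 
 (.leaf f500) 
 (.leaf f2548)) (.node 
 (.leaf f1524) 
 (.leaf f3572))) (.node (.node 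
 (.leaf f1012) 
 (.leaf f3060)) (.node 
 (.leaf f2036) 
 (.leaf f4084))))))))) (.node (.node (.node (.node (.node (.node (.node (.node (.node 
 (.leaf f12) 
 (.leaf f4108)) 
 (.leaf f2060)) (.node 
 (.leaf f1036) 
 (.leaf f3084))) (.node (.node 
 (.leaf f524) 
 (.leaf f2572)) (.node 
 (.leaf f1548) 
 (.leaf f3596)))) (.node (.node (.node (.node 
 (.leaf f268) 
 (.leaf f4364)) 
 (.leaf f2316)) (.node 
 (.leaf f1292) 
 (.leaf f3340))) (.node (.node 
 (.leaf f780) 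
 (.leaf f2828)) (.node 
 (.leaf f1804) 
 (.leaf f3852))))) (.node (.node (.node (.node (.node 
 (.leaf f140) 
 (.leaf f4236)) 
 (.leaf f2188)) (.node 
 (.leaf f1164) 
 (.leaf f3212))) (.node (.node 
 (.leaf f652) 
 (.leaf f2700)) (.node 
 (.leaf f1676) 
 (.leaf f3724)))) (.node (.node (.node 
 (.leaf f396) 
 (.leaf f2444)) (.node 
 (.leaf f1420) 
 (.leaf f3468))) (.node (.node 
 (.leaf f908) 
 (.leaf f2956)) (.node 
 (.leaf f1932) 
 (.leaf f3980)))))) (.node (.node (.node (.node (.node (.node 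
 (.leaf f76) 
 (.leaf f4172)) 
 (.leaf f2124)) (.node 
 (.leaf f1100) 
 (.leaf f3148))) (.node (.node 
 (.leaf f588) 
 (.leaf f2636)) (.node 
 (.leaf f1612) 
 (.leaf f3660)))) (.node (.node (.node (.node 
 (.leaf f332) 
 (.leaf f4428)) 
 (.leaf f2380)) (.node 
 (.leaf f1356) 
 (.leaf f3404))) (.node (.node 
 (.leaf f844) 
 (.leaf f2892)) (.node 
 (.leaf f1868) 
 (.leaf f3916))))) (.node (.node (.node (.node (.node 
 (.leaf f204) 
 (.leaf f4300)) 
 (.leaf f2252)) (.node 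
 (.leaf f1228) 
 (.leaf f3276))) (.node (.node 
 (.leaf f716) 
 (.leaf f2764)) (.node 
 (.leaf f1740) 
 (.leaf f3788)))) (.node (.node (.node 
 (.leaf f460) 
 (.leaf f2508)) (.node 
 (.leaf f1484) 
 (.leaf f3532))) (.node (.node 
 (.leaf f972) 
 (.leaf f3020)) (.node 
 (.leaf f1996) 
 (.leaf f4044))))))) (.node (.node (.node (.node (.node (.node (.node 
 (.leaf f44) 
 (.leaf f4140)) 
 (.leaf f2092)) (.node 
 (.leaf f1068) 
 (.leaf f3116))) (.node (.node 
 (.leaf f556) 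
 (.leaf f2604)) (.node 
 (.leaf f1580) 
 (.leaf f3628)))) (.node (.node (.node (.node 
 (.leaf f300) 
 (.leaf f4396)) 
 (.leaf f2348)) (.node 
 (.leaf f1324) 
 (.leaf f3372))) (.node (.node 
 (.leaf f812) 
 (.leaf f2860)) (.node 
 (.leaf f1836) 
 (.leaf f3884))))) (.node (.node (.node (.node (.node 
 (.leaf f172) 
 (.leaf f4268)) 
 (.leaf f2220)) (.node 
 (.leaf f1196) 
 (.leaf f3244))) (.node (.node 
 (.leaf f684) 
 (.leaf f2732)) (.node 
 (.leaf f1708) 
 (.leaf f3756)))) (.node (.node (.node 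
 (.leaf f428) 
 (.leaf f2476)) (.node 
 (.leaf f1452) 
 (.leaf f3500))) (.node (.node 
 (.leaf f940) 
 (.leaf f2988)) (.node 
 (.leaf f1964) 
 (.leaf f4012)))))) (.node (.node (.node (.node (.node (.node 
 (.leaf f108) 
 (.leaf f4204)) 
 (.leaf f2156)) (.node 
 (.leaf f1132) 
 (.leaf f3180))) (.node (.node 
 (.leaf f620) 
 (.leaf f2668)) (.node 
 (.leaf f1644) 
 (.leaf f3692)))) (.node (.node (.node 
 (.leaf f364) 
 (.leaf f2412)) (.node 
 (.leaf f1388) 
 (.leaf f3436))) (.node (.node 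
 (.leaf f876) 
 (.leaf f2924)) (.node 
 (.leaf f1900) 
 (.leaf f3948))))) (.node (.node (.node (.node (.node 
 (.leaf f236) 
 (.leaf f4332)) 
 (.leaf f2284)) (.node 
 (.leaf f1260) 
 (.leaf f3308))) (.node (.node 
 (.leaf f748) 
 (.leaf f2796)) (.node 
 (.leaf f1772) 
 (.leaf f3820)))) (.node (.node (.node 
 (.leaf f492) 
 (.leaf f2540)) (.node 
 (.leaf f1516) 
 (.leaf f3564))) (.node (.node 
 (.leaf f1004) 
 (.leaf f3052)) (.node 
 (.leaf f2028) 
 (.leaf f4076)))))))) (.node (.node (.node (.node (.node (.node (.node (.node 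
 (.leaf f28) 
 (.leaf f4124)) 
 (.leaf f2076)) (.node 
 (.leaf f1052) 
 (.leaf f3100))) (.node (.node 
 (.leaf f540) 
 (.leaf f2588)) (.node 
 (.leaf f1564) 
 (.leaf f3612)))) (.node (.node (.node (.node 
 (.leaf f284) 
 (.leaf f4380)) 
 (.leaf f2332)) (.node 
 (.leaf f1308) 
 (.leaf f3356))) (.node (.node 
 (.leaf f796) 
 (.leaf f2844)) (.node 
 (.leaf f1820) 
 (.leaf f3868))))) (.node (.node (.node (.node (.node 
 (.leaf f156) 
 (.leaf f4252)) 
 (.leaf f2204)) (.node 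
 (.leaf f1180) 
 (.leaf f3228))) (.node (.node 
 (.leaf f668) 
 (.leaf f2716)) (.node 
 (.leaf f1692) 
 (.leaf f3740)))) (.node (.node (.node 
 (.leaf f412) 
 (.leaf f2460)) (.node 
 (.leaf f1436) 
 (.leaf f3484))) (.node (.node 
 (.leaf f924) 
 (.leaf f2972)) (.node 
 (.leaf f1948) 
 (.leaf f3996)))))) (.node (.node (.node (.node (.node (.node 
 (.leaf f92) 
 (.leaf f4188)) 
 (.leaf f2140)) (.node 
 (.leaf f1116) 
 (.leaf f3164))) (.node (.node 
 (.leaf f604) 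
 (.leaf f2652)) (.node 
 (.leaf f1628) 
 (.leaf f3676)))) (.node (.node (.node 
 (.leaf f348) 
 (.leaf f2396)) (.node 
 (.leaf f1372) 
 (.leaf f3420))) (.node (.node 
 (.leaf f860) 
 (.leaf f2908)) (.node 
 (.leaf f1884) 
 (.leaf f3932))))) (.node (.node (.node (.node (.node 
 (.leaf f220) 
 (.leaf f4316)) 
 (.leaf f2268)) (.node 
 (.leaf f1244) 
 (.leaf f3292))) (.node (.node 
 (.leaf f732) 
 (.leaf f2780)) (.node 
 (.leaf f1756) 
 (.leaf f3804)))) (.node (.node (.node 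
 (.leaf f476) 
 (.leaf f2524)) (.node 
 (.leaf f1500) 
 (.leaf f3548))) (.node (.node 
 (.leaf f988) 
 (.leaf f3036)) (.node 
 (.leaf f2012) 
 (.leaf f4060))))))) (.node (.node (.node (.node (.node (.node (.node 
 (.leaf f60) 
 (.leaf f4156)) 
 (.leaf f2108)) (.node 
 (.leaf f1084) 
 (.leaf f3132))) (.node (.node 
 (.leaf f572) 
 (.leaf f2620)) (.node 
 (.leaf f1596) 
 (.leaf f3644)))) (.node (.node (.node (.node 
 (.leaf f316) 
 (.leaf f4412)) 
 (.leaf f2364)) (.node 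
 (.leaf f1340) 
 (.leaf f3388))) (.node (.node 
 (.leaf f828) 
 (.leaf f2876)) (.node 
 (.leaf f1852) 
 (.leaf f3900))))) (.node (.node (.node (.node (.node 
 (.leaf f188) 
 (.leaf f4284)) 
 (.leaf f2236)) (.node 
 (.leaf f1212) 
 (.leaf f3260))) (.node (.node 
 (.leaf f700) 
 (.leaf f2748)) (.node 
 (.leaf f1724) 
 (.leaf f3772)))) (.node (.node (.node 
 (.leaf f444) 
 (.leaf f2492)) (.node 
 (.leaf f1468) 
 (.leaf f3516))) (.node (.node 
 (.leaf f956) 
 (.leaf f3004)) (.node 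
 (.leaf f1980) 
 (.leaf f4028)))))) (.node (.node (.node (.node (.node (.node 
 (.leaf f124) 
 (.leaf f4220)) 
 (.leaf f2172)) (.node 
 (.leaf f1148) 
 (.leaf f3196))) (.node (.node 
 (.leaf f636) 
 (.leaf f2684)) (.node 
 (.leaf f1660) 
 (.leaf f3708)))) (.node (.node (.node 
 (.leaf f380) 
 (.leaf f2428)) (.node 
 (.leaf f1404) 
 (.leaf f3452))) (.node (.node 
 (.leaf f892) 
 (.leaf f2940)) (.node 
 (.leaf f1916) 
 (.leaf f3964))))) (.node (.node (.node (.node (.node 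
 (.leaf f252) 
 (.leaf f4348)) 
 (.leaf f2300)) (.node 
 (.leaf f1276) 
 (.leaf f3324))) (.node (.node 
 (.leaf f764) 
 (.leaf f2812)) (.node 
 (.leaf f1788) 
 (.leaf f3836)))) (.node (.node (.node 
 (.leaf f508) 
 (.leaf f2556)) (.node 
 (.leaf f1532) 
 (.leaf f3580))) (.node (.node 
 (.leaf f1020) 
 (.leaf f3068)) (.node 
 (.leaf f2044) 
 (.leaf f4092))))))))))) (.node (.node (.node (.node (.node (.node (.node (.node (.node (.node (.node 
 (.leaf f2) 
 (.leaf f4098)) 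
 (.leaf f2050)) (.node 
 (.leaf f1026) 
 (.leaf f3074))) (.node (.node 
 (.leaf f514) 
 (.leaf f2562)) (.node 
 (.leaf f1538) 
 (.leaf f3586)))) (.node (.node (.node (.node 
 (.leaf f258) 
 (.leaf f4354)) 
 (.leaf f2306)) (.node 
 (.leaf f1282) 
 (.leaf f3330))) (.node (.node 
 (.leaf f770) 
 (.leaf f2818)) (.node 
 (.leaf f1794) 
 (.leaf f3842))))) (.node (.node (.node (.node (.node 
 (.leaf f130) 
 (.leaf f4226)) 
 (.leaf f2178)) (.node 
 (.leaf f1154) 
 (.leaf f3202))) (.node (.node 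
 (.leaf f642) 
 (.leaf f2690)) (.node 
 (.leaf f1666) 
 (.leaf f3714)))) (.node (.node (.node 
 (.leaf f386) 
 (.leaf f2434)) (.node 
 (.leaf f1410) 
 (.leaf f3458))) (.node (.node 
 (.leaf f898) 
 (.leaf f2946)) (.node 
 (.leaf f1922) 
 (.leaf f3970)))))) (.node (.node (.node (.node (.node (.node 
 (.leaf f66) 
 (.leaf f4162)) 
 (.leaf f2114)) (.node 
 (.leaf f1090) 
 (.leaf f3138))) (.node (.node 
 (.leaf f578) 
 (.leaf f2626)) (.node 
 (.leaf f1602) 
 (.leaf f3650)))) (.node (.node (.node (.node 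
 (.leaf f322) 
 (.leaf f4418)) 
 (.leaf f2370)) (.node 
 (.leaf f1346) 
 (.leaf f3394))) (.node (.node 
 (.leaf f834) 
 (.leaf f2882)) (.node 
 (.leaf f1858) 
 (.leaf f3906))))) (.node (.node (.node (.node (.node 
 (.leaf f194) 
 (.leaf f4290)) 
 (.leaf f2242)) (.node 
 (.leaf f1218) 
 (.leaf f3266))) (.node (.node 
 (.leaf f706) 
 (.leaf f2754)) (.node 
 (.leaf f1730) 
 (.leaf f3778)))) (.node (.node (.node 
 (.leaf f450) 
 (.leaf f2498)) (.node 
 (.leaf f1474) 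
 (.leaf f3522))) (.node (.node 
 (.leaf f962) 
 (.leaf f3010)) (.node 
 (.leaf f1986) 
 (.leaf f4034))))))) (.node (.node (.node (.node (.node (.node (.node 
 (.leaf f34) 
 (.leaf f4130)) 
 (.leaf f2082)) (.node 
 (.leaf f1058) 
 (.leaf f3106))) (.node (.node 
 (.leaf f546) 
 (.leaf f2594)) (.node 
 (.leaf f1570) 
 (.leaf f3618)))) (.node (.node (.node (.node 
 (.leaf f290) 
 (.leaf f4386)) 
 (.leaf f2338)) (.node 
 (.leaf f1314) 
 (.leaf f3362))) (.node (.node 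
 (.leaf f802) 
 (.leaf f2850)) (.node 
 (.leaf f1826) 
 (.leaf f3874))))) (.node (.node (.node (.node (.node 
 (.leaf f162) 
 (.leaf f4258)) 
 (.leaf f2210)) (.node 
 (.leaf f1186) 
 (.leaf f3234))) (.node (.node 
 (.leaf f674) 
 (.leaf f2722)) (.node 
 (.leaf f1698) 
 (.leaf f3746)))) (.node (.node (.node 
 (.leaf f418) 
 (.leaf f2466)) (.node 
 (.leaf f1442) 
 (.leaf f3490))) (.node (.node 
 (.leaf f930) 
 (.leaf f2978)) (.node 
 (.leaf f1954) 
 (.leaf f4002)))))) (.node (.node (.node (.node (.node (.node 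
 (.leaf f98) 
 (.leaf f4194)) 
 (.leaf f2146)) (.node 
 (.leaf f1122) 
 (.leaf f3170))) (.node (.node 
 (.leaf f610) 
 (.leaf f2658)) (.node 
 (.leaf f1634) 
 (.leaf f3682)))) (.node (.node (.node 
 (.leaf f354) 
 (.leaf f2402)) (.node 
 (.leaf f1378) 
 (.leaf f3426))) (.node (.node 
 (.leaf f866) 
 (.leaf f2914)) (.node 
 (.leaf f1890) 
 (.leaf f3938))))) (.node (.node (.node (.node (.node 
 (.leaf f226) 
 (.leaf f4322)) 
 (.leaf f2274)) (.node 
 (.leaf f1250) 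
 (.leaf f3298))) (.node (.node 
 (.leaf f738) 
 (.leaf f2786)) (.node 
 (.leaf f1762) 
 (.leaf f3810)))) (.node (.node (.node 
 (.leaf f482) 
 (.leaf f2530)) (.node 
 (.leaf f1506) 
 (.leaf f3554))) (.node (.node 
 (.leaf f994) 
 (.leaf f3042)) (.node 
 (.leaf f2018) 
 (.leaf f4066)))))))) (.node (.node (.node (.node (.node (.node (.node (.node 
 (.leaf f18) 
 (.leaf f4114)) 
 (.leaf f2066)) (.node 
 (.leaf f1042) 
 (.leaf f3090))) (.node (.node 
 (.leaf f530) 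
 (.leaf f2578)) (.node 
 (.leaf f1554) 
 (.leaf f3602)))) (.node (.node (.node (.node 
 (.leaf f274) 
 (.leaf f4370)) 
 (.leaf f2322)) (.node 
 (.leaf f1298) 
 (.leaf f3346))) (.node (.node 
 (.leaf f786) 
 (.leaf f2834)) (.node 
 (.leaf f1810) 
 (.leaf f3858))))) (.node (.node (.node (.node (.node 
 (.leaf f146) 
 (.leaf f4242)) 
 (.leaf f2194)) (.node 
 (.leaf f1170) 
 (.leaf f3218))) (.node (.node 
 (.leaf f658) 
 (.leaf f2706)) (.node 
 (.leaf f1682) 
 (.leaf f3730)))) (.node (.node (.node 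
 (.leaf f402) 
 (.leaf f2450)) (.node 
 (.leaf f1426) 
 (.leaf f3474))) (.node (.node 
 (.leaf f914) 
 (.leaf f2962)) (.node 
 (.leaf f1938) 
 (.leaf f3986)))))) (.node (.node (.node (.node (.node (.node 
 (.leaf f82) 
 (.leaf f4178)) 
 (.leaf f2130)) (.node 
 (.leaf f1106) 
 (.leaf f3154))) (.node (.node 
 (.leaf f594) 
 (.leaf f2642)) (.node 
 (.leaf f1618) 
 (.leaf f3666)))) (.node (.node (.node 
 (.leaf f338) 
 (.leaf f2386)) (.node 
 (.leaf f1362) 
 (.leaf f3410))) (.node (.node 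
 (.leaf f850) 
 (.leaf f2898)) (.node 
 (.leaf f1874) 
 (.leaf f3922))))) (.node (.node (.node (.node (.node 
 (.leaf f210) 
 (.leaf f4306)) 
 (.leaf f2258)) (.node 
 (.leaf f1234) 
 (.leaf f3282))) (.node (.node 
 (.leaf f722) 
 (.leaf f2770)) (.node 
 (.leaf f1746) 
 (.leaf f3794)))) (.node (.node (.node 
 (.leaf f466) 
 (.leaf f2514)) (.node 
 (.leaf f1490) 
 (.leaf f3538))) (.node (.node 
 (.leaf f978) 
 (.leaf f3026)) (.node 
 (.leaf f2002) 
 (.leaf f4050))))))) (.node (.node (.node (.node (.node (.node (.node 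
 (.leaf f50) 
 (.leaf f4146)) 
 (.leaf f2098)) (.node 
 (.leaf f1074) 
 (.leaf f3122))) (.node (.node 
 (.leaf f562) 
 (.leaf f2610)) (.node 
 (.leaf f1586) 
 (.leaf f3634)))) (.node (.node (.node (.node 
 (.leaf f306) 
 (.leaf f4402)) 
 (.leaf f2354)) (.node 
 (.leaf f1330) 
 (.leaf f3378))) (.node (.node 
 (.leaf f818) 
 (.leaf f2866)) (.node 
 (.leaf f1842) 
 (.leaf f3890))))) (.node (.node (.node (.node (.node 
 (.leaf f178) 
 (.leaf f4274)) 
 (.leaf f2226)) (.node 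
 (.leaf f1202) 
 (.leaf f3250))) (.node (.node 
 (.leaf f690) 
 (.leaf f2738)) (.node 
 (.leaf f1714) 
 (.leaf f3762)))) (.node (.node (.node 
 (.leaf f434) 
 (.leaf f2482)) (.node 
 (.leaf f1458) 
 (.leaf f3506))) (.node (.node 
 (.leaf f946) 
 (.leaf f2994)) (.node 
 (.leaf f1970) 
 (.leaf f4018)))))) (.node (.node (.node (.node (.node (.node 
 (.leaf f114) 
 (.leaf f4210)) 
 (.leaf f2162)) (.node 
 (.leaf f1138) 
 (.leaf f3186))) (.node (.node 
 (.leaf f626) 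
 (.leaf f2674)) (.node 
 (.leaf f1650) 
 (.leaf f3698)))) (.node (.node (.node 
 (.leaf f370) 
 (.leaf f2418)) (.node 
 (.leaf f1394) 
 (.leaf f3442))) (.node (.node 
 (.leaf f882) 
 (.leaf f2930)) (.node 
 (.leaf f1906) 
 (.leaf f3954))))) (.node (.node (.node (.node (.node 
 (.leaf f242) 
 (.leaf f4338)) 
 (.leaf f2290)) (.node 
 (.leaf f1266) 
 (.leaf f3314))) (.node (.node 
 (.leaf f754) 
 (.leaf f2802)) (.node 
 (.leaf f1778) 
 (.leaf f3826)))) (.node (.node (.node 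
 (.leaf f498) 
 (.leaf f2546)) (.node 
 (.leaf f1522) 
 (.leaf f3570))) (.node (.node 
 (.leaf f1010) 
 (.leaf f3058)) (.node 
 (.leaf f2034) 
 (.leaf f4082))))))))) (.node (.node (.node (.node (.node (.node (.node (.node (.node 
 (.leaf f10) 
 (.leaf f4106)) 
 (.leaf f2058)) (.node 
 (.leaf f1034) 
 (.leaf f3082))) (.node (.node 
 (.leaf f522) 
 (.leaf f2570)) (.node 
 (.leaf f1546) 
 (.leaf f3594)))) (.node (.node (.node (.node 
 (.leaf f266) 
 (.leaf f4362)) 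
 (.leaf f2314)) (.node 
 (.leaf f1290) 
 (.leaf f3338))) (.node (.node 
 (.leaf f778) 
 (.leaf f2826)) (.node 
 (.leaf f1802) 
 (.leaf f3850))))) (.node (.node (.node (.node (.node 
 (.leaf f138) 
 (.leaf f4234)) 
 (.leaf f2186)) (.node 
 (.leaf f1162) 
 (.leaf f3210))) (.node (.node 
 (.leaf f650) 
 (.leaf f2698)) (.node 
 (.leaf f1674) 
 (.leaf f3722)))) (.node (.node (.node 
 (.leaf f394) 
 (.leaf f2442)) (.node 
 (.leaf f1418) 
 (.leaf f3466))) (.node (.node 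
 (.leaf f906) 
 (.leaf f2954)) (.node 
 (.leaf f1930) 
 (.leaf f3978)))))) (.node (.node (.node (.node (.node (.node 
 (.leaf f74) 
 (.leaf f4170)) 
 (.leaf f2122)) (.node 
 (.leaf f1098) 
 (.leaf f3146))) (.node (.node 
 (.leaf f586) 
 (.leaf f2634)) (.node 
 (.leaf f1610) 
 (.leaf f3658)))) (.node (.node (.node (.node 
 (.leaf f330) 
 (.leaf f4426)) 
 (.leaf f2378)) (.node 
 (.leaf f1354) 
 (.leaf f3402))) (.node (.node 
 (.leaf f842) 
 (.leaf f2890)) (.node 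
 (.leaf f1866) 
 (.leaf f3914))))) (.node (.node (.node (.node (.node 
 (.leaf f202) 
 (.leaf f4298)) 
 (.leaf f2250)) (.node 
 (.leaf f1226) 
 (.leaf f3274))) (.node (.node 
 (.leaf f714) 
 (.leaf f2762)) (.node 
 (.leaf f1738) 
 (.leaf f3786)))) (.node (.node (.node 
 (.leaf f458) 
 (.leaf f2506)) (.node 
 (.leaf f1482) 
 (.leaf f3530))) (.node (.node 
 (.leaf f970) 
 (.leaf f3018)) (.node 
 (.leaf f1994) 
 (.leaf f4042))))))) (.node (.node (.node (.node (.node (.node (.node 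
 (.leaf f42) 
 (.leaf f4138)) 
 (.leaf f2090)) (.node 
 (.leaf f1066) 
 (.leaf f3114))) (.node (.node 
 (.leaf f554) 
 (.leaf f2602)) (.node 
 (.leaf f1578) 
 (.leaf f3626)))) (.node (.node (.node (.node 
 (.leaf f298) 
 (.leaf f4394)) 
 (.leaf f2346)) (.node 
 (.leaf f1322) 
 (.leaf f3370))) (.node (.node 
 (.leaf f810) 
 (.leaf f2858)) (.node 
 (.leaf f1834) 
 (.leaf f3882))))) (.node (.node (.node (.node (.node 
 (.leaf f170) 
 (.leaf f4266)) 
 (.leaf f2218)) (.node 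
 (.leaf f1194) 
 (.leaf f3242))) (.node (.node 
 (.leaf f682) 
 (.leaf f2730)) (.node 
 (.leaf f1706) 
 (.leaf f3754)))) (.node (.node (.node 
 (.leaf f426) 
 (.leaf f2474)) (.node 
 (.leaf f1450) 
 (.leaf f3498))) (.node (.node 
 (.leaf f938) 
 (.leaf f2986)) (.node 
 (.leaf f1962) 
 (.leaf f4010)))))) (.node (.node (.node (.node (.node (.node 
 (.leaf f106) 
 (.leaf f4202)) 
 (.leaf f2154)) (.node 
 (.leaf f1130) 
 (.leaf f3178))) (.node (.node 
 (.leaf f618) 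
 (.leaf f2666)) (.node 
 (.leaf f1642) 
 (.leaf f3690)))) (.node (.node (.node 
 (.leaf f362) 
 (.leaf f2410)) (.node 
 (.leaf f1386) 
 (.leaf f3434))) (.node (.node 
 (.leaf f874) 
 (.leaf f2922)) (.node 
 (.leaf f1898) 
 (.leaf f3946))))) (.node (.node (.node (.node (.node 
 (.leaf f234) 
 (.leaf f4330)) 
 (.leaf f2282)) (.node 
 (.leaf f1258) 
 (.leaf f3306))) (.node (.node 
 (.leaf f746) 
 (.leaf f2794)) (.node 
 (.leaf f1770) 
 (.leaf f3818)))) (.node (.node (.node 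
 (.leaf f490) 
 (.leaf f2538)) (.node 
 (.leaf f1514) 
 (.leaf f3562))) (.node (.node 
 (.leaf f1002) 
 (.leaf f3050)) (.node 
 (.leaf f2026) 
 (.leaf f4074)))))))) (.node (.node (.node (.node (.node (.node (.node (.node 
 (.leaf f26) 
 (.leaf f4122)) 
 (.leaf f2074)) (.node 
 (.leaf f1050) 
 (.leaf f3098))) (.node (.node 
 (.leaf f538) 
 (.leaf f2586)) (.node 
 (.leaf f1562) 
 (.leaf f3610)))) (.node (.node (.node (.node 
 (.leaf f282) 
 (.leaf f4378)) 
 (.leaf f2330)) (.node 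
 (.leaf f1306) 
 (.leaf f3354))) (.node (.node 
 (.leaf f794) 
 (.leaf f2842)) (.node 
 (.leaf f1818) 
 (.leaf f3866))))) (.node (.node (.node (.node (.node 
 (.leaf f154) 
 (.leaf f4250)) 
 (.leaf f2202)) (.node 
 (.leaf f1178) 
 (.leaf f3226))) (.node (.node 
 (.leaf f666) 
 (.leaf f2714)) (.node 
 (.leaf f1690) 
 (.leaf f3738)))) (.node (.node (.node 
 (.leaf f410) 
 (.leaf f2458)) (.node 
 (.leaf f1434) 
 (.leaf f3482))) (.node (.node 
 (.leaf f922) 
 (.leaf f2970)) (.node 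
 (.leaf f1946) 
 (.leaf f3994)))))) (.node (.node (.node (.node (.node (.node 
 (.leaf f90) 
 (.leaf f4186)) 
 (.leaf f2138)) (.node 
 (.leaf f1114) 
 (.leaf f3162))) (.node (.node 
 (.leaf f602) 
 (.leaf f2650)) (.node 
 (.leaf f1626) 
 (.leaf f3674)))) (.node (.node (.node 
 (.leaf f346) 
 (.leaf f2394)) (.node 
 (.leaf f1370) 
 (.leaf f3418))) (.node (.node 
 (.leaf f858) 
 (.leaf f2906)) (.node 
 (.leaf f1882) 
 (.leaf f3930))))) (.node (.node (.node (.node (.node 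
 (.leaf f218) 
 (.leaf f4314)) 
 (.leaf f2266)) (.node 
 (.leaf f1242) 
 (.leaf f3290))) (.node (.node 
 (.leaf f730) 
 (.leaf f2778)) (.node 
 (.leaf f1754) 
 (.leaf f3802)))) (.node (.node (.node 
 (.leaf f474) 
 (.leaf f2522)) (.node 
 (.leaf f1498) 
 (.leaf f3546))) (.node (.node 
 (.leaf f986) 
 (.leaf f3034)) (.node 
 (.leaf f2010) 
 (.leaf f4058))))))) (.node (.node (.node (.node (.node (.node (.node 
 (.leaf f58) 
 (.leaf f4154)) 
 (.leaf f2106)) (.node 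
 (.leaf f1082) 
 (.leaf f3130))) (.node (.node 
 (.leaf f570) 
 (.leaf f2618)) (.node 
 (.leaf f1594) 
 (.leaf f3642)))) (.node (.node (.node (.node 
 (.leaf f314) 
 (.leaf f4410)) 
 (.leaf f2362)) (.node 
 (.leaf f1338) 
 (.leaf f3386))) (.node (.node 
 (.leaf f826) 
 (.leaf f2874)) (.node 
 (.leaf f1850) 
 (.leaf f3898))))) (.node (.node (.node (.node (.node 
 (.leaf f186) 
 (.leaf f4282)) 
 (.leaf f2234)) (.node 
 (.leaf f1210) 
 (.leaf f3258))) (.node (.node 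
 (.leaf f698) 
 (.leaf f2746)) (.node 
 (.leaf f1722) 
 (.leaf f3770)))) (.node (.node (.node 
 (.leaf f442) 
 (.leaf f2490)) (.node 
 (.leaf f1466) 
 (.leaf f3514))) (.node (.node 
 (.leaf f954) 
 (.leaf f3002)) (.node 
 (.leaf f1978) 
 (.leaf f4026)))))) (.node (.node (.node (.node (.node (.node 
 (.leaf f122) 
 (.leaf f4218)) 
 (.leaf f2170)) (.node 
 (.leaf f1146) 
 (.leaf f3194))) (.node (.node 
 (.leaf f634) 
 (.leaf f2682)) (.node 
 (.leaf f1658) 
 (.leaf f3706)))) (.node (.node (.node 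
 (.leaf f378) 
 (.leaf f2426)) (.node 
 (.leaf f1402) 
 (.leaf f3450))) (.node (.node 
 (.leaf f890) 
 (.leaf f2938)) (.node 
 (.leaf f1914) 
 (.leaf f3962))))) (.node (.node (.node (.node (.node 
 (.leaf f250) 
 (.leaf f4346)) 
 (.leaf f2298)) (.node 
 (.leaf f1274) 
 (.leaf f3322))) (.node (.node 
 (.leaf f762) 
 (.leaf f2810)) (.node 
 (.leaf f1786) 
 (.leaf f3834)))) (.node (.node (.node 
 (.leaf f506) 
 (.leaf f2554)) (.node 
 (.leaf f1530) 
 (.leaf f3578))) (.node (.node 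
 (.leaf f1018) 
 (.leaf f3066)) (.node 
 (.leaf f2042) 
 (.leaf f4090)))))))))) (.node (.node (.node (.node (.node (.node (.node (.node (.node (.node 
 (.leaf f6) 
 (.leaf f4102)) 
 (.leaf f2054)) (.node 
 (.leaf f1030) 
 (.leaf f3078))) (.node (.node 
 (.leaf f518) 
 (.leaf f2566)) (.node 
 (.leaf f1542) 
 (.leaf f3590)))) (.node (.node (.node (.node 
 (.leaf f262) 
 (.leaf f4358)) 
 (.leaf f2310)) (.node 
 (.leaf f1286) 
 (.leaf f3334))) (.node (.node 
 (.leaf f774) 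
 (.leaf f2822)) (.node 
 (.leaf f1798) 
 (.leaf f3846))))) (.node (.node (.node (.node (.node 
 (.leaf f134) 
 (.leaf f4230)) 
 (.leaf f2182)) (.node 
 (.leaf f1158) 
 (.leaf f3206))) (.node (.node 
 (.leaf f646) 
 (.leaf f2694)) (.node 
 (.leaf f1670) 
 (.leaf f3718)))) (.node (.node (.node 
 (.leaf f390) 
 (.leaf f2438)) (.node 
 (.leaf f1414) 
 (.leaf f3462))) (.node (.node 
 (.leaf f902) 
 (.leaf f2950)) (.node 
 (.leaf f1926) 
 (.leaf f3974)))))) (.node (.node (.node (.node (.node (.node 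
 (.leaf f70) 
 (.leaf f4166)) 
 (.leaf f2118)) (.node 
 (.leaf f1094) 
 (.leaf f3142))) (.node (.node 
 (.leaf f582) 
 (.leaf f2630)) (.node 
 (.leaf f1606) 
 (.leaf f3654)))) (.node (.node (.node (.node 
 (.leaf f326) 
 (.leaf f4422)) 
 (.leaf f2374)) (.node 
 (.leaf f1350) 
 (.leaf f3398))) (.node (.node 
 (.leaf f838) 
 (.leaf f2886)) (.node 
 (.leaf f1862) 
 (.leaf f3910))))) (.node (.node (.node (.node (.node 
 (.leaf f198) 
 (.leaf f4294)) 
 (.leaf f2246)) (.node 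
 (.leaf f1222) 
 (.leaf f3270))) (.node (.node 
 (.leaf f710) 
 (.leaf f2758)) (.node 
 (.leaf f1734) 
 (.leaf f3782)))) (.node (.node (.node 
 (.leaf f454) 
 (.leaf f2502)) (.node 
 (.leaf f1478) 
 (.leaf f3526))) (.node (.node 
 (.leaf f966) 
 (.leaf f3014)) (.node 
 (.leaf f1990) 
 (.leaf f4038))))))) (.node (.node (.node (.node (.node (.node (.node 
 (.leaf f38) 
 (.leaf f4134)) 
 (.leaf f2086)) (.node 
 (.leaf f1062) 
 (.leaf f3110))) (.node (.node 
 (.leaf f550) 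
 (.leaf f2598)) (.node 
 (.leaf f1574) 
 (.leaf f3622)))) (.node (.node (.node (.node 
 (.leaf f294) 
 (.leaf f4390)) 
 (.leaf f2342)) (.node 
 (.leaf f1318) 
 (.leaf f3366))) (.node (.node 
 (.leaf f806) 
 (.leaf f2854)) (.node 
 (.leaf f1830) 
 (.leaf f3878))))) (.node (.node (.node (.node (.node 
 (.leaf f166) 
 (.leaf f4262)) 
 (.leaf f2214)) (.node 
 (.leaf f1190) 
 (.leaf f3238))) (.node (.node 
 (.leaf f678) 
 (.leaf f2726)) (.node 
 (.leaf f1702) 
 (.leaf f3750)))) (.node (.node (.node 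
 (.leaf f422) 
 (.leaf f2470)) (.node 
 (.leaf f1446) 
 (.leaf f3494))) (.node (.node 
 (.leaf f934) 
 (.leaf f2982)) (.node 
 (.leaf f1958) 
 (.leaf f4006)))))) (.node (.node (.node (.node (.node (.node 
 (.leaf f102) 
 (.leaf f4198)) 
 (.leaf f2150)) (.node 
 (.leaf f1126) 
 (.leaf f3174))) (.node (.node 
 (.leaf f614) 
 (.leaf f2662)) (.node 
 (.leaf f1638) 
 (.leaf f3686)))) (.node (.node (.node 
 (.leaf f358) 
 (.leaf f2406)) (.node 
 (.leaf f1382) 
 (.leaf f3430))) (.node (.node 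
 (.leaf f870) 
 (.leaf f2918)) (.node 
 (.leaf f1894) 
 (.leaf f3942))))) (.node (.node (.node (.node (.node 
 (.leaf f230) 
 (.leaf f4326)) 
 (.leaf f2278)) (.node 
 (.leaf f1254) 
 (.leaf f3302))) (.node (.node 
 (.leaf f742) 
 (.leaf f2790)) (.node 
 (.leaf f1766) 
 (.leaf f3814)))) (.node (.node (.node 
 (.leaf f486) 
 (.leaf f2534)) (.node 
 (.leaf f1510) 
 (.leaf f3558))) (.node (.node 
 (.leaf f998) 
 (.leaf f3046)) (.node 
 (.leaf f2022) 
 (.leaf f4070)))))))) (.node (.node (.node (.node (.node (.node (.node (.node 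
 (.leaf f22) 
 (.leaf f4118)) 
 (.leaf f2070)) (.node 
 (.leaf f1046) 
 (.leaf f3094))) (.node (.node 
 (.leaf f534) 
 (.leaf f2582)) (.node 
 (.leaf f1558) 
 (.leaf f3606)))) (.node (.node (.node (.node 
 (.leaf f278) 
 (.leaf f4374)) 
 (.leaf f2326)) (.node 
 (.leaf f1302) 
 (.leaf f3350))) (.node (.node 
 (.leaf f790) 
 (.leaf f2838)) (.node 
 (.leaf f1814) 
 (.leaf f3862))))) (.node (.node (.node (.node (.node 
 (.leaf f150) 
 (.leaf f4246)) 
 (.leaf f2198)) (.node 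
 (.leaf f1174) 
 (.leaf f3222))) (.node (.node 
 (.leaf f662) 
 (.leaf f2710)) (.node 
 (.leaf f1686) 
 (.leaf f3734)))) (.node (.node (.node 
 (.leaf f406) 
 (.leaf f2454)) (.node 
 (.leaf f1430) 
 (.leaf f3478))) (.node (.node 
 (.leaf f918) 
 (.leaf f2966)) (.node 
 (.leaf f1942) 
 (.leaf f3990)))))) (.node (.node (.node (.node (.node (.node 
 (.leaf f86) 
 (.leaf f4182)) 
 (.leaf f2134)) (.node 
 (.leaf f1110) 
 (.leaf f3158))) (.node (.node 
 (.leaf f598) 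
 (.leaf f2646)) (.node 
 (.leaf f1622) 
 (.leaf f3670)))) (.node (.node (.node 
 (.leaf f342) 
 (.leaf f2390)) (.node 
 (.leaf f1366) 
 (.leaf f3414))) (.node (.node 
 (.leaf f854) 
 (.leaf f2902)) (.node 
 (.leaf f1878) 
 (.leaf f3926))))) (.node (.node (.node (.node (.node 
 (.leaf f214) 
 (.leaf f4310)) 
 (.leaf f2262)) (.node 
 (.leaf f1238) 
 (.leaf f3286))) (.node (.node 
 (.leaf f726) 
 (.leaf f2774)) (.node 
 (.leaf f1750) 
 (.leaf f3798)))) (.node (.node (.node 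
 (.leaf f470) 
 (.leaf f2518)) (.node 
 (.leaf f1494) 
 (.leaf f3542))) (.node (.node 
 (.leaf f982) 
 (.leaf f3030)) (.node 
 (.leaf f2006) 
 (.leaf f4054))))))) (.node (.node (.node (.node (.node (.node (.node 
 (.leaf f54) 
 (.leaf f4150)) 
 (.leaf f2102)) (.node 
 (.leaf f1078) 
 (.leaf f3126))) (.node (.node 
 (.leaf f566) 
 (.leaf f2614)) (.node 
 (.leaf f1590) 
 (.leaf f3638)))) (.node (.node (.node (.node 
 (.leaf f310) 
 (.leaf f4406)) 
 (.leaf f2358)) (.node 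
 (.leaf f1334) 
 (.leaf f3382))) (.node (.node 
 (.leaf f822) 
 (.leaf f2870)) (.node 
 (.leaf f1846) 
 (.leaf f3894))))) (.node (.node (.node (.node (.node 
 (.leaf f182) 
 (.leaf f4278)) 
 (.leaf f2230)) (.node 
 (.leaf f1206) 
 (.leaf f3254))) (.node (.node 
 (.leaf f694) 
 (.leaf f2742)) (.node 
 (.leaf f1718) 
 (.leaf f3766)))) (.node (.node (.node 
 (.leaf f438) 
 (.leaf f2486)) (.node 
 (.leaf f1462) 
 (.leaf f3510))) (.node (.node 
 (.leaf f950) 
 (.leaf f2998)) (.node 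
 (.leaf f1974) 
 (.leaf f4022)))))) (.node (.node (.node (.node (.node (.node 
 (.leaf f118) 
 (.leaf f4214)) 
 (.leaf f2166)) (.node 
 (.leaf f1142) 
 (.leaf f3190))) (.node (.node 
 (.leaf f630) 
 (.leaf f2678)) (.node 
 (.leaf f1654) 
 (.leaf f3702)))) (.node (.node (.node 
 (.leaf f374) 
 (.leaf f2422)) (.node 
 (.leaf f1398) 
 (.leaf f3446))) (.node (.node 
 (.leaf f886) 
 (.leaf f2934)) (.node 
 (.leaf f1910) 
 (.leaf f3958))))) (.node (.node (.node (.node (.node 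
 (.leaf f246) 
 (.leaf f4342)) 
 (.leaf f2294)) (.node 
 (.leaf f1270) 
 (.leaf f3318))) (.node (.node 
 (.leaf f758) 
 (.leaf f2806)) (.node 
 (.leaf f1782) 
 (.leaf f3830)))) (.node (.node (.node 
 (.leaf f502) 
 (.leaf f2550)) (.node 
 (.leaf f1526) 
 (.leaf f3574))) (.node (.node 
 (.leaf f1014) 
 (.leaf f3062)) (.node 
 (.leaf f2038) 
 (.leaf f4086))))))))) (.node (.node (.node (.node (.node (.node (.node (.node (.node 
 (.leaf f14) 
 (.leaf f4110)) 
 (.leaf f2062)) (.node 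
 (.leaf f1038) 
 (.leaf f3086))) (.node (.node 
 (.leaf f526) 
 (.leaf f2574)) (.node 
 (.leaf f1550) 
 (.leaf f3598)))) (.node (.node (.node (.node 
 (.leaf f270) 
 (.leaf f4366)) 
 (.leaf f2318)) (.node 
 (.leaf f1294) 
 (.leaf f3342))) (.node (.node 
 (.leaf f782) 
 (.leaf f2830)) (.node 
 (.leaf f1806) 
 (.leaf f3854))))) (.node (.node (.node (.node (.node 
 (.leaf f142) 
 (.leaf f4238)) 
 (.leaf f2190)) (.node 
 (.leaf f1166) 
 (.leaf f3214))) (.node (.node 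
 (.leaf f654) 
 (.leaf f2702)) (.node 
 (.leaf f1678) 
 (.leaf f3726)))) (.node (.node (.node 
 (.leaf f398) 
 (.leaf f2446)) (.node 
 (.leaf f1422) 
 (.leaf f3470))) (.node (.node 
 (.leaf f910) 
 (.leaf f2958)) (.node 
 (.leaf f1934) 
 (.leaf f3982)))))) (.node (.node (.node (.node (.node (.node 
 (.leaf f78) 
 (.leaf f4174)) 
 (.leaf f2126)) (.node 
 (.leaf f1102) 
 (.leaf f3150))) (.node (.node 
 (.leaf f590) 
 (.leaf f2638)) (.node 
 (.leaf f1614) 
 (.leaf f3662)))) (.node (.node (.node 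
 (.leaf f334) 
 (.leaf f2382)) (.node 
 (.leaf f1358) 
 (.leaf f3406))) (.node (.node 
 (.leaf f846) 
 (.leaf f2894)) (.node 
 (.leaf f1870) 
 (.leaf f3918))))) (.node (.node (.node (.node (.node 
 (.leaf f206) 
 (.leaf f4302)) 
 (.leaf f2254)) (.node 
 (.leaf f1230) 
 (.leaf f3278))) (.node (.node 
 (.leaf f718) 
 (.leaf f2766)) (.node 
 (.leaf f1742) 
 (.leaf f3790)))) (.node (.node (.node 
 (.leaf f462) 
 (.leaf f2510)) (.node 
 (.leaf f1486) 
 (.leaf f3534))) (.node (.node 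
 (.leaf f974) 
 (.leaf f3022)) (.node 
 (.leaf f1998) 
 (.leaf f4046))))))) (.node (.node (.node (.node (.node (.node (.node 
 (.leaf f46) 
 (.leaf f4142)) 
 (.leaf f2094)) (.node 
 (.leaf f1070) 
 (.leaf f3118))) (.node (.node 
 (.leaf f558) 
 (.leaf f2606)) (.node 
 (.leaf f1582) 
 (.leaf f3630)))) (.node (.node (.node (.node 
 (.leaf f302) 
 (.leaf f4398)) 
 (.leaf f2350)) (.node 
 (.leaf f1326) 
 (.leaf f3374))) (.node (.node 
 (.leaf f814) 
 (.leaf f2862)) (.node 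
 (.leaf f1838) 
 (.leaf f3886))))) (.node (.node (.node (.node (.node 
 (.leaf f174) 
 (.leaf f4270)) 
 (.leaf f2222)) (.node 
 (.leaf f1198) 
 (.leaf f3246))) (.node (.node 
 (.leaf f686) 
 (.leaf f2734)) (.node 
 (.leaf f1710) 
 (.leaf f3758)))) (.node (.node (.node 
 (.leaf f430) 
 (.leaf f2478)) (.node 
 (.leaf f1454) 
 (.leaf f3502))) (.node (.node 
 (.leaf f942) 
 (.leaf f2990)) (.node 
 (.leaf f1966) 
 (.leaf f4014)))))) (.node (.node (.node (.node (.node (.node 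
 (.leaf f110) 
 (.leaf f4206)) 
 (.leaf f2158)) (.node 
 (.leaf f1134) 
 (.leaf f3182))) (.node (.node 
 (.leaf f622) 
 (.leaf f2670)) (.node 
 (.leaf f1646) 
 (.leaf f3694)))) (.node (.node (.node 
 (.leaf f366) 
 (.leaf f2414)) (.node 
 (.leaf f1390) 
 (.leaf f3438))) (.node (.node 
 (.leaf f878) 
 (.leaf f2926)) (.node 
 (.leaf f1902) 
 (.leaf f3950))))) (.node (.node (.node (.node (.node 
 (.leaf f238) 
 (.leaf f4334)) 
 (.leaf f2286)) (.node 
 (.leaf f1262) 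
 (.leaf f3310))) (.node (.node 
 (.leaf f750) 
 (.leaf f2798)) (.node 
 (.leaf f1774) 
 (.leaf f3822)))) (.node (.node (.node 
 (.leaf f494) 
 (.leaf f2542)) (.node 
 (.leaf f1518) 
 (.leaf f3566))) (.node (.node 
 (.leaf f1006) 
 (.leaf f3054)) (.node 
 (.leaf f2030) 
 (.leaf f4078)))))))) (.node (.node (.node (.node (.node (.node (.node (.node 
 (.leaf f30) 
 (.leaf f4126)) 
 (.leaf f2078)) (.node 
 (.leaf f1054) 
 (.leaf f3102))) (.node (.node 
 (.leaf f542) 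
 (.leaf f2590)) (.node 
 (.leaf f1566) 
 (.leaf f3614)))) (.node (.node (.node (.node 
 (.leaf f286) 
 (.leaf f4382)) 
 (.leaf f2334)) (.node 
 (.leaf f1310) 
 (.leaf f3358))) (.node (.node 
 (.leaf f798) 
 (.leaf f2846)) (.node 
 (.leaf f1822) 
 (.leaf f3870))))) (.node (.node (.node (.node (.node 
 (.leaf f158) 
 (.leaf f4254)) 
 (.leaf f2206)) (.node 
 (.leaf f1182) 
 (.leaf f3230))) (.node (.node 
 (.leaf f670) 
 (.leaf f2718)) (.node 
 (.leaf f1694) 
 (.leaf f3742)))) (.node (.node (.node 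
 (.leaf f414) 
 (.leaf f2462)) (.node 
 (.leaf f1438) 
 (.leaf f3486))) (.node (.node 
 (.leaf f926) 
 (.leaf f2974)) (.node 
 (.leaf f1950) 
 (.leaf f3998)))))) (.node (.node (.node (.node (.node (.node 
 (.leaf f94) 
 (.leaf f4190)) 
 (.leaf f2142)) (.node 
 (.leaf f1118) 
 (.leaf f3166))) (.node (.node 
 (.leaf f606) 
 (.leaf f2654)) (.node 
 (.leaf f1630) 
 (.leaf f3678)))) (.node (.node (.node 
 (.leaf f350) 
 (.leaf f2398)) (.node 
 (.leaf f1374) 
 (.leaf f3422))) (.node (.node 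
 (.leaf f862) 
 (.leaf f2910)) (.node 
 (.leaf f1886) 
 (.leaf f3934))))) (.node (.node (.node (.node (.node 
 (.leaf f222) 
 (.leaf f4318)) 
 (.leaf f2270)) (.node 
 (.leaf f1246) 
 (.leaf f3294))) (.node (.node 
 (.leaf f734) 
 (.leaf f2782)) (.node 
 (.leaf f1758) 
 (.leaf f3806)))) (.node (.node (.node 
 (.leaf f478) 
 (.leaf f2526)) (.node 
 (.leaf f1502) 
 (.leaf f3550))) (.node (.node 
 (.leaf f990) 
 (.leaf f3038)) (.node 
 (.leaf f2014) 
 (.leaf f4062))))))) (.node (.node (.node (.node (.node (.node (.node 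
 (.leaf f62) 
 (.leaf f4158)) 
 (.leaf f2110)) (.node 
 (.leaf f1086) 
 (.leaf f3134))) (.node (.node 
 (.leaf f574) 
 (.leaf f2622)) (.node 
 (.leaf f1598) 
 (.leaf f3646)))) (.node (.node (.node (.node 
 (.leaf f318) 
 (.leaf f4414)) 
 (.leaf f2366)) (.node 
 (.leaf f1342) 
 (.leaf f3390))) (.node (.node 
 (.leaf f830) 
 (.leaf f2878)) (.node 
 (.leaf f1854) 
 (.leaf f3902))))) (.node (.node (.node (.node (.node 
 (.leaf f190) 
 (.leaf f4286)) 
 (.leaf f2238)) (.node 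
 (.leaf f1214) 
 (.leaf f3262))) (.node (.node 
 (.leaf f702) 
 (.leaf f2750)) (.node 
 (.leaf f1726) 
 (.leaf f3774)))) (.node (.node (.node 
 (.leaf f446) 
 (.leaf f2494)) (.node 
 (.leaf f1470) 
 (.leaf f3518))) (.node (.node 
 (.leaf f958) 
 (.leaf f3006)) (.node 
 (.leaf f1982) 
 (.leaf f4030)))))) (.node (.node (.node (.node (.node (.node 
 (.leaf f126) 
 (.leaf f4222)) 
 (.leaf f2174)) (.node 
 (.leaf f1150) 
 (.leaf f3198))) (.node (.node 
 (.leaf f638) 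
 (.leaf f2686)) (.node 
 (.leaf f1662) 
 (.leaf f3710)))) (.node (.node (.node 
 (.leaf f382) 
 (.leaf f2430)) (.node 
 (.leaf f1406) 
 (.leaf f3454))) (.node (.node 
 (.leaf f894) 
 (.leaf f2942)) (.node 
 (.leaf f1918) 
 (.leaf f3966))))) (.node (.node (.node (.node (.node 
 (.leaf f254) 
 (.leaf f4350)) 
 (.leaf f2302)) (.node 
 (.leaf f1278) 
 (.leaf f3326))) (.node (.node 
 (.leaf f766) 
 (.leaf f2814)) (.node 
 (.leaf f1790) 
 (.leaf f3838)))) (.node (.node (.node 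
 (.leaf f510) 
 (.leaf f2558)) (.node 
 (.leaf f1534) 
 (.leaf f3582))) (.node (.node 
 (.leaf f1022) 
 (.leaf f3070)) (.node 
 (.leaf f2046) 
 (.leaf f4094)))))))))))) (.node (.node (.node (.node (.node (.node (.node (.node (.node (.node (.node (.node 
 (.leaf f1) 
 (.leaf f4097)) 
 (.leaf f2049)) (.node 
 (.leaf f1025) 
 (.leaf f3073))) (.node (.node 
 (.leaf f513) 
 (.leaf f2561)) (.node 
 (.leaf f1537) 
 (.leaf f3585)))) (.node (.node (.node (.node 
 (.leaf f257) 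
 (.leaf f4353)) 
 (.leaf f2305)) (.node 
 (.leaf f1281) 
 (.leaf f3329))) (.node (.node 
 (.leaf f769) 
 (.leaf f2817)) (.node 
 (.leaf f1793) 
 (.leaf f3841))))) (.node (.node (.node (.node (.node 
 (.leaf f129) 
 (.leaf f4225)) 
 (.leaf f2177)) (.node 
 (.leaf f1153) 
 (.leaf f3201))) (.node (.node 
 (.leaf f641) 
 (.leaf f2689)) (.node 
 (.leaf f1665) 
 (.leaf f3713)))) (.node (.node (.node 
 (.leaf f385) 
 (.leaf f2433)) (.node 
 (.leaf f1409) 
 (.leaf f3457))) (.node (.node 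
 (.leaf f897) 
 (.leaf f2945)) (.node 
 (.leaf f1921) 
 (.leaf f3969)))))) (.node (.node (.node (.node (.node (.node 
 (.leaf f65) 
 (.leaf f4161)) 
 (.leaf f2113)) (.node 
 (.leaf f1089) 
 (.leaf f3137))) (.node (.node 
 (.leaf f577) 
 (.leaf f2625)) (.node 
 (.leaf f1601) 
 (.leaf f3649)))) (.node (.node (.node (.node 
 (.leaf f321) 
 (.leaf f4417)) 
 (.leaf f2369)) (.node 
 (.leaf f1345) 
 (.leaf f3393))) (.node (.node 
 (.leaf f833) 
 (.leaf f2881)) (.node 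
 (.leaf f1857) 
 (.leaf f3905))))) (.node (.node (.node (.node (.node 
 (.leaf f193) 
 (.leaf f4289)) 
 (.leaf f2241)) (.node 
 (.leaf f1217) 
 (.leaf f3265))) (.node (.node 
 (.leaf f705) 
 (.leaf f2753)) (.node 
 (.leaf f1729) 
 (.leaf f3777)))) (.node (.node (.node 
 (.leaf f449) 
 (.leaf f2497)) (.node 
 (.leaf f1473) 
 (.leaf f3521))) (.node (.node 
 (.leaf f961) 
 (.leaf f3009)) (.node 
 (.leaf f1985) 
 (.leaf f4033))))))) (.node (.node (.node (.node (.node (.node (.node 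
 (.leaf f33) 
 (.leaf f4129)) 
 (.leaf f2081)) (.node 
 (.leaf f1057) 
 (.leaf f3105))) (.node (.node 
 (.leaf f545) 
 (.leaf f2593)) (.node 
 (.leaf f1569) 
 (.leaf f3617)))) (.node (.node (.node (.node 
 (.leaf f289) 
 (.leaf f4385)) 
 (.leaf f2337)) (.node 
 (.leaf f1313) 
 (.leaf f3361))) (.node (.node 
 (.leaf f801) 
 (.leaf f2849)) (.node 
 (.leaf f1825) 
 (.leaf f3873))))) (.node (.node (.node (.node (.node 
 (.leaf f161) 
 (.leaf f4257)) 
 (.leaf f2209)) (.node 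
 (.leaf f1185) 
 (.leaf f3233))) (.node (.node 
 (.leaf f673) 
 (.leaf f2721)) (.node 
 (.leaf f1697) 
 (.leaf f3745)))) (.node (.node (.node 
 (.leaf f417) 
 (.leaf f2465)) (.node 
 (.leaf f1441) 
 (.leaf f3489))) (.node (.node 
 (.leaf f929) 
 (.leaf f2977)) (.node 
 (.leaf f1953) 
 (.leaf f4001)))))) (.node (.node (.node (.node (.node (.node 
 (.leaf f97) 
 (.leaf f4193)) 
 (.leaf f2145)) (.node 
 (.leaf f1121) 
 (.leaf f3169))) (.node (.node 
 (.leaf f609) 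
 (.leaf f2657)) (.node 
 (.leaf f1633) 
 (.leaf f3681)))) (.node (.node (.node 
 (.leaf f353) 
 (.leaf f2401)) (.node 
 (.leaf f1377) 
 (.leaf f3425))) (.node (.node 
 (.leaf f865) 
 (.leaf f2913)) (.node 
 (.leaf f1889) 
 (.leaf f3937))))) (.node (.node (.node (.node (.node 
 (.leaf f225) 
 (.leaf f4321)) 
 (.leaf f2273)) (.node 
 (.leaf f1249) 
 (.leaf f3297))) (.node (.node 
 (.leaf f737) 
 (.leaf f2785)) (.node 
 (.leaf f1761) 
 (.leaf f3809)))) (.node (.node (.node 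
 (.leaf f481) 
 (.leaf f2529)) (.node 
 (.leaf f1505) 
 (.leaf f3553))) (.node (.node 
 (.leaf f993) 
 (.leaf f3041)) (.node 
 (.leaf f2017) 
 (.leaf f4065)))))))) (.node (.node (.node (.node (.node (.node (.node (.node 
 (.leaf f17) 
 (.leaf f4113)) 
 (.leaf f2065)) (.node 
 (.leaf f1041) 
 (.leaf f3089))) (.node (.node 
 (.leaf f529) 
 (.leaf f2577)) (.node 
 (.leaf f1553) 
 (.leaf f3601)))) (.node (.node (.node (.node 
 (.leaf f273) 
 (.leaf f4369)) 
 (.leaf f2321)) (.node 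
 (.leaf f1297) 
 (.leaf f3345))) (.node (.node 
 (.leaf f785) 
 (.leaf f2833)) (.node 
 (.leaf f1809) 
 (.leaf f3857))))) (.node (.node (.node (.node (.node 
 (.leaf f145) 
 (.leaf f4241)) 
 (.leaf f2193)) (.node 
 (.leaf f1169) 
 (.leaf f3217))) (.node (.node 
 (.leaf f657) 
 (.leaf f2705)) (.node 
 (.leaf f1681) 
 (.leaf f3729)))) (.node (.node (.node 
 (.leaf f401) 
 (.leaf f2449)) (.node 
 (.leaf f1425) 
 (.leaf f3473))) (.node (.node 
 (.leaf f913) 
 (.leaf f2961)) (.node 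
 (.leaf f1937) 
 (.leaf f3985)))))) (.node (.node (.node (.node (.node (.node 
 (.leaf f81) 
 (.leaf f4177)) 
 (.leaf f2129)) (.node 
 (.leaf f1105) 
 (.leaf f3153))) (.node (.node 
 (.leaf f593) 
 (.leaf f2641)) (.node 
 (.leaf f1617) 
 (.leaf f3665)))) (.node (.node (.node 
 (.leaf f337) 
 (.leaf f2385)) (.node 
 (.leaf f1361) 
 (.leaf f3409))) (.node (.node 
 (.leaf f849) 
 (.leaf f2897)) (.node 
 (.leaf f1873) 
 (.leaf f3921))))) (.node (.node (.node (.node (.node 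
 (.leaf f209) 
 (.leaf f4305)) 
 (.leaf f2257)) (.node 
 (.leaf f1233) 
 (.leaf f3281))) (.node (.node 
 (.leaf f721) 
 (.leaf f2769)) (.node 
 (.leaf f1745) 
 (.leaf f3793)))) (.node (.node (.node 
 (.leaf f465) 
 (.leaf f2513)) (.node 
 (.leaf f1489) 
 (.leaf f3537))) (.node (.node 
 (.leaf f977) 
 (.leaf f3025)) (.node 
 (.leaf f2001) 
 (.leaf f4049))))))) (.node (.node (.node (.node (.node (.node (.node 
 (.leaf f49) 
 (.leaf f4145)) 
 (.leaf f2097)) (.node 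
 (.leaf f1073) 
 (.leaf f3121))) (.node (.node 
 (.leaf f561) 
 (.leaf f2609)) (.node 
 (.leaf f1585) 
 (.leaf f3633)))) (.node (.node (.node (.node 
 (.leaf f305) 
 (.leaf f4401)) 
 (.leaf f2353)) (.node 
 (.leaf f1329) 
 (.leaf f3377))) (.node (.node 
 (.leaf f817) 
 (.leaf f2865)) (.node 
 (.leaf f1841) 
 (.leaf f3889))))) (.node (.node (.node (.node (.node 
 (.leaf f177) 
 (.leaf f4273)) 
 (.leaf f2225)) (.node 
 (.leaf f1201) 
 (.leaf f3249))) (.node (.node 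
 (.leaf f689) 
 (.leaf f2737)) (.node 
 (.leaf f1713) 
 (.leaf f3761)))) (.node (.node (.node 
 (.leaf f433) 
 (.leaf f2481)) (.node 
 (.leaf f1457) 
 (.leaf f3505))) (.node (.node 
 (.leaf f945) 
 (.leaf f2993)) (.node 
 (.leaf f1969) 
 (.leaf f4017)))))) (.node (.node (.node (.node (.node (.node 
 (.leaf f113) 
 (.leaf f4209)) 
 (.leaf f2161)) (.node 
 (.leaf f1137) 
 (.leaf f3185))) (.node (.node 
 (.leaf f625) 
 (.leaf f2673)) (.node 
 (.leaf f1649) 
 (.leaf f3697)))) (.node (.node (.node 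
 (.leaf f369) 
 (.leaf f2417)) (.node 
 (.leaf f1393) 
 (.leaf f3441))) (.node (.node 
 (.leaf f881) 
 (.leaf f2929)) (.node 
 (.leaf f1905) 
 (.leaf f3953))))) (.node (.node (.node (.node (.node 
 (.leaf f241) 
 (.leaf f4337)) 
 (.leaf f2289)) (.node 
 (.leaf f1265) 
 (.leaf f3313))) (.node (.node 
 (.leaf f753) 
 (.leaf f2801)) (.node 
 (.leaf f1777) 
 (.leaf f3825)))) (.node (.node (.node 
 (.leaf f497) 
 (.leaf f2545)) (.node 
 (.leaf f1521) 
 (.leaf f3569))) (.node (.node 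
 (.leaf f1009) 
 (.leaf f3057)) (.node 
 (.leaf f2033) 
 (.leaf f4081))))))))) (.node (.node (.node (.node (.node (.node (.node (.node (.node 
 (.leaf f9) 
 (.leaf f4105)) 
 (.leaf f2057)) (.node 
 (.leaf f1033) 
 (.leaf f3081))) (.node (.node 
 (.leaf f521) 
 (.leaf f2569)) (.node 
 (.leaf f1545) 
 (.leaf f3593)))) (.node (.node (.node (.node 
 (.leaf f265) 
 (.leaf f4361)) 
 (.leaf f2313)) (.node 
 (.leaf f1289) 
 (.leaf f3337))) (.node (.node 
 (.leaf f777) 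
 (.leaf f2825)) (.node 
 (.leaf f1801) 
 (.leaf f3849))))) (.node (.node (.node (.node (.node 
 (.leaf f137) 
 (.leaf f4233)) 
 (.leaf f2185)) (.node 
 (.leaf f1161) 
 (.leaf f3209))) (.node (.node 
 (.leaf f649) 
 (.leaf f2697)) (.node 
 (.leaf f1673) 
 (.leaf f3721)))) (.node (.node (.node 
 (.leaf f393) 
 (.leaf f2441)) (.node 
 (.leaf f1417) 
 (.leaf f3465))) (.node (.node 
 (.leaf f905) 
 (.leaf f2953)) (.node 
 (.leaf f1929) 
 (.leaf f3977)))))) (.node (.node (.node (.node (.node (.node 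
 (.leaf f73) 
 (.leaf f4169)) 
 (.leaf f2121)) (.node 
 (.leaf f1097) 
 (.leaf f3145))) (.node (.node 
 (.leaf f585) 
 (.leaf f2633)) (.node 
 (.leaf f1609) 
 (.leaf f3657)))) (.node (.node (.node (.node 
 (.leaf f329) 
 (.leaf f4425)) 
 (.leaf f2377)) (.node 
 (.leaf f1353) 
 (.leaf f3401))) (.node (.node 
 (.leaf f841) 
 (.leaf f2889)) (.node 
 (.leaf f1865) 
 (.leaf f3913))))) (.node (.node (.node (.node (.node 
 (.leaf f201) 
 (.leaf f4297)) 
 (.leaf f2249)) (.node 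
 (.leaf f1225) 
 (.leaf f3273))) (.node (.node 
 (.leaf f713) 
 (.leaf f2761)) (.node 
 (.leaf f1737) 
 (.leaf f3785)))) (.node (.node (.node 
 (.leaf f457) 
 (.leaf f2505)) (.node 
 (.leaf f1481) 
 (.leaf f3529))) (.node (.node 
 (.leaf f969) 
 (.leaf f3017)) (.node 
 (.leaf f1993) 
 (.leaf f4041))))))) (.node (.node (.node (.node (.node (.node (.node 
 (.leaf f41) 
 (.leaf f4137)) 
 (.leaf f2089)) (.node 
 (.leaf f1065) 
 (.leaf f3113))) (.node (.node 
 (.leaf f553) 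
 (.leaf f2601)) (.node 
 (.leaf f1577) 
 (.leaf f3625)))) (.node (.node (.node (.node 
 (.leaf f297) 
 (.leaf f4393)) 
 (.leaf f2345)) (.node 
 (.leaf f1321) 
 (.leaf f3369))) (.node (.node 
 (.leaf f809) 
 (.leaf f2857)) (.node 
 (.leaf f1833) 
 (.leaf f3881))))) (.node (.node (.node (.node (.node 
 (.leaf f169) 
 (.leaf f4265)) 
 (.leaf f2217)) (.node 
 (.leaf f1193) 
 (.leaf f3241))) (.node (.node 
 (.leaf f681) 
 (.leaf f2729)) (.node 
 (.leaf f1705) 
 (.leaf f3753)))) (.node (.node (.node 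
 (.leaf f425) 
 (.leaf f2473)) (.node 
 (.leaf f1449) 
 (.leaf f3497))) (.node (.node 
 (.leaf f937) 
 (.leaf f2985)) (.node 
 (.leaf f1961) 
 (.leaf f4009)))))) (.node (.node (.node (.node (.node (.node 
 (.leaf f105) 
 (.leaf f4201)) 
 (.leaf f2153)) (.node 
 (.leaf f1129) 
 (.leaf f3177))) (.node (.node 
 (.leaf f617) 
 (.leaf f2665)) (.node 
 (.leaf f1641) 
 (.leaf f3689)))) (.node (.node (.node 
 (.leaf f361) 
 (.leaf f2409)) (.node 
 (.leaf f1385) 
 (.leaf f3433))) (.node (.node 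
 (.leaf f873) 
 (.leaf f2921)) (.node 
 (.leaf f1897) 
 (.leaf f3945))))) (.node (.node (.node (.node (.node 
 (.leaf f233) 
 (.leaf f4329)) 
 (.leaf f2281)) (.node 
 (.leaf f1257) 
 (.leaf f3305))) (.node (.node 
 (.leaf f745) 
 (.leaf f2793)) (.node 
 (.leaf f1769) 
 (.leaf f3817)))) (.node (.node (.node 
 (.leaf f489) 
 (.leaf f2537)) (.node 
 (.leaf f1513) 
 (.leaf f3561))) (.node (.node 
 (.leaf f1001) 
 (.leaf f3049)) (.node 
 (.leaf f2025) 
 (.leaf f4073)))))))) (.node (.node (.node (.node (.node (.node (.node (.node 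
 (.leaf f25) 
 (.leaf f4121)) 
 (.leaf f2073)) (.node 
 (.leaf f1049) 
 (.leaf f3097))) (.node (.node 
 (.leaf f537) 
 (.leaf f2585)) (.node 
 (.leaf f1561) 
 (.leaf f3609)))) (.node (.node (.node (.node 
 (.leaf f281) 
 (.leaf f4377)) 
 (.leaf f2329)) (.node 
 (.leaf f1305) 
 (.leaf f3353))) (.node (.node 
 (.leaf f793) 
 (.leaf f2841)) (.node 
 (.leaf f1817) 
 (.leaf f3865))))) (.node (.node (.node (.node (.node 
 (.leaf f153) 
 (.leaf f4249)) 
 (.leaf f2201)) (.node 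
 (.leaf f1177) 
 (.leaf f3225))) (.node (.node 
 (.leaf f665) 
 (.leaf f2713)) (.node 
 (.leaf f1689) 
 (.leaf f3737)))) (.node (.node (.node 
 (.leaf f409) 
 (.leaf f2457)) (.node 
 (.leaf f1433) 
 (.leaf f3481))) (.node (.node 
 (.leaf f921) 
 (.leaf f2969)) (.node 
 (.leaf f1945) 
 (.leaf f3993)))))) (.node (.node (.node (.node (.node (.node 
 (.leaf f89) 
 (.leaf f4185)) 
 (.leaf f2137)) (.node 
 (.leaf f1113) 
 (.leaf f3161))) (.node (.node 
 (.leaf f601) 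
 (.leaf f2649)) (.node 
 (.leaf f1625) 
 (.leaf f3673)))) (.node (.node (.node 
 (.leaf f345) 
 (.leaf f2393)) (.node 
 (.leaf f1369) 
 (.leaf f3417))) (.node (.node 
 (.leaf f857) 
 (.leaf f2905)) (.node 
 (.leaf f1881) 
 (.leaf f3929))))) (.node (.node (.node (.node (.node 
 (.leaf f217) 
 (.leaf f4313)) 
 (.leaf f2265)) (.node 
 (.leaf f1241) 
 (.leaf f3289))) (.node (.node 
 (.leaf f729) 
 (.leaf f2777)) (.node 
 (.leaf f1753) 
 (.leaf f3801)))) (.node (.node (.node 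
 (.leaf f473) 
 (.leaf f2521)) (.node 
 (.leaf f1497) 
 (.leaf f3545))) (.node (.node 
 (.leaf f985) 
 (.leaf f3033)) (.node 
 (.leaf f2009) 
 (.leaf f4057))))))) (.node (.node (.node (.node (.node (.node (.node 
 (.leaf f57) 
 (.leaf f4153)) 
 (.leaf f2105)) (.node 
 (.leaf f1081) 
 (.leaf f3129))) (.node (.node 
 (.leaf f569) 
 (.leaf f2617)) (.node 
 (.leaf f1593) 
 (.leaf f3641)))) (.node (.node (.node (.node 
 (.leaf f313) 
 (.leaf f4409)) 
 (.leaf f2361)) (.node 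
 (.leaf f1337) 
 (.leaf f3385))) (.node (.node 
 (.leaf f825) 
 (.leaf f2873)) (.node 
 (.leaf f1849) 
 (.leaf f3897))))) (.node (.node (.node (.node (.node 
 (.leaf f185) 
 (.leaf f4281)) 
 (.leaf f2233)) (.node 
 (.leaf f1209) 
 (.leaf f3257))) (.node (.node 
 (.leaf f697) 
 (.leaf f2745)) (.node 
 (.leaf f1721) 
 (.leaf f3769)))) (.node (.node (.node 
 (.leaf f441) 
 (.leaf f2489)) (.node 
 (.leaf f1465) 
 (.leaf f3513))) (.node (.node 
 (.leaf f953) 
 (.leaf f3001)) (.node 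
 (.leaf f1977) 
 (.leaf f4025)))))) (.node (.node (.node (.node (.node (.node 
 (.leaf f121) 
 (.leaf f4217)) 
 (.leaf f2169)) (.node 
 (.leaf f1145) 
 (.leaf f3193))) (.node (.node 
 (.leaf f633) 
 (.leaf f2681)) (.node 
 (.leaf f1657) 
 (.leaf f3705)))) (.node (.node (.node 
 (.leaf f377) 
 (.leaf f2425)) (.node 
 (.leaf f1401) 
 (.leaf f3449))) (.node (.node 
 (.leaf f889) 
 (.leaf f2937)) (.node 
 (.leaf f1913) 
 (.leaf f3961))))) (.node (.node (.node (.node (.node 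
 (.leaf f249) 
 (.leaf f4345)) 
 (.leaf f2297)) (.node 
 (.leaf f1273) 
 (.leaf f3321))) (.node (.node 
 (.leaf f761) 
 (.leaf f2809)) (.node 
 (.leaf f1785) 
 (.leaf f3833)))) (.node (.node (.node 
 (.leaf f505) 
 (.leaf f2553)) (.node 
 (.leaf f1529) 
 (.leaf f3577))) (.node (.node 
 (.leaf f1017) 
 (.leaf f3065)) (.node 
 (.leaf f2041) 
 (.leaf f4089)))))))))) (.node (.node (.node (.node (.node (.node (.node (.node (.node (.node 
 (.leaf f5) 
 (.leaf f4101)) 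
 (.leaf f2053)) (.node 
 (.leaf f1029) 
 (.leaf f3077))) (.node (.node 
 (.leaf f517) 
 (.leaf f2565)) (.node 
 (.leaf f1541) 
 (.leaf f3589)))) (.node (.node (.node (.node 
 (.leaf f261) 
 (.leaf f4357)) 
 (.leaf f2309)) (.node 
 (.leaf f1285) 
 (.leaf f3333))) (.node (.node 
 (.leaf f773) 
 (.leaf f2821)) (.node 
 (.leaf f1797) 
 (.leaf f3845))))) (.node (.node (.node (.node (.node 
 (.leaf f133) 
 (.leaf f4229)) 
 (.leaf f2181)) (.node 
 (.leaf f1157) 
 (.leaf f3205))) (.node (.node 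
 (.leaf f645) 
 (.leaf f2693)) (.node 
 (.leaf f1669) 
 (.leaf f3717)))) (.node (.node (.node 
 (.leaf f389) 
 (.leaf f2437)) (.node 
 (.leaf f1413) 
 (.leaf f3461))) (.node (.node 
 (.leaf f901) 
 (.leaf f2949)) (.node 
 (.leaf f1925) 
 (.leaf f3973)))))) (.node (.node (.node (.node (.node (.node 
 (.leaf f69) 
 (.leaf f4165)) 
 (.leaf f2117)) (.node 
 (.leaf f1093) 
 (.leaf f3141))) (.node (.node 
 (.leaf f581) 
 (.leaf f2629)) (.node 
 (.leaf f1605) 
 (.leaf f3653)))) (.node (.node (.node (.node 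
 (.leaf f325) 
 (.leaf f4421)) 
 (.leaf f2373)) (.node 
 (.leaf f1349) 
 (.leaf f3397))) (.node (.node 
 (.leaf f837) 
 (.leaf f2885)) (.node 
 (.leaf f1861) 
 (.leaf f3909))))) (.node (.node (.node (.node (.node 
 (.leaf f197) 
 (.leaf f4293)) 
 (.leaf f2245)) (.node 
 (.leaf f1221) 
 (.leaf f3269))) (.node (.node 
 (.leaf f709) 
 (.leaf f2757)) (.node 
 (.leaf f1733) 
 (.leaf f3781)))) (.node (.node (.node 
 (.leaf f453) 
 (.leaf f2501)) (.node 
 (.leaf f1477) 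
 (.leaf f3525))) (.node (.node 
 (.leaf f965) 
 (.leaf f3013)) (.node 
 (.leaf f1989) 
 (.leaf f4037))))))) (.node (.node (.node (.node (.node (.node (.node 
 (.leaf f37) 
 (.leaf f4133)) 
 (.leaf f2085)) (.node 
 (.leaf f1061) 
 (.leaf f3109))) (.node (.node 
 (.leaf f549) 
 (.leaf f2597)) (.node 
 (.leaf f1573) 
 (.leaf f3621)))) (.node (.node (.node (.node 
 (.leaf f293) 
 (.leaf f4389)) 
 (.leaf f2341)) (.node 
 (.leaf f1317) 
 (.leaf f3365))) (.node (.node 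
 (.leaf f805) 
 (.leaf f2853)) (.node 
 (.leaf f1829) 
 (.leaf f3877))))) (.node (.node (.node (.node (.node 
 (.leaf f165) 
 (.leaf f4261)) 
 (.leaf f2213)) (.node 
 (.leaf f1189) 
 (.leaf f3237))) (.node (.node 
 (.leaf f677) 
 (.leaf f2725)) (.node 
 (.leaf f1701) 
 (.leaf f3749)))) (.node (.node (.node 
 (.leaf f421) 
 (.leaf f2469)) (.node 
 (.leaf f1445) 
 (.leaf f3493))) (.node (.node 
 (.leaf f933) 
 (.leaf f2981)) (.node 
 (.leaf f1957) 
 (.leaf f4005)))))) (.node (.node (.node (.node (.node (.node 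
 (.leaf f101) 
 (.leaf f4197)) 
 (.leaf f2149)) (.node 
 (.leaf f1125) 
 (.leaf f3173))) (.node (.node 
 (.leaf f613) 
 (.leaf f2661)) (.node 
 (.leaf f1637) 
 (.leaf f3685)))) (.node (.node (.node 
 (.leaf f357) 
 (.leaf f2405)) (.node 
 (.leaf f1381) 
 (.leaf f3429))) (.node (.node 
 (.leaf f869) 
 (.leaf f2917)) (.node 
 (.leaf f1893) 
 (.leaf f3941))))) (.node (.node (.node (.node (.node 
 (.leaf f229) 
 (.leaf f4325)) 
 (.leaf f2277)) (.node 
 (.leaf f1253) 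
 (.leaf f3301))) (.node (.node 
 (.leaf f741) 
 (.leaf f2789)) (.node 
 (.leaf f1765) 
 (.leaf f3813)))) (.node (.node (.node 
 (.leaf f485) 
 (.leaf f2533)) (.node 
 (.leaf f1509) 
 (.leaf f3557))) (.node (.node 
 (.leaf f997) 
 (.leaf f3045)) (.node 
 (.leaf f2021) 
 (.leaf f4069)))))))) (.node (.node (.node (.node (.node (.node (.node (.node 
 (.leaf f21) 
 (.leaf f4117)) 
 (.leaf f2069)) (.node 
 (.leaf f1045) 
 (.leaf f3093))) (.node (.node 
 (.leaf f533) 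
 (.leaf f2581)) (.node 
 (.leaf f1557) 
 (.leaf f3605)))) (.node (.node (.node (.node 
 (.leaf f277) 
 (.leaf f4373)) 
 (.leaf f2325)) (.node 
 (.leaf f1301) 
 (.leaf f3349))) (.node (.node 
 (.leaf f789) 
 (.leaf f2837)) (.node 
 (.leaf f1813) 
 (.leaf f3861))))) (.node (.node (.node (.node (.node 
 (.leaf f149) 
 (.leaf f4245)) 
 (.leaf f2197)) (.node 
 (.leaf f1173) 
 (.leaf f3221))) (.node (.node 
 (.leaf f661) 
 (.leaf f2709)) (.node 
 (.leaf f1685) 
 (.leaf f3733)))) (.node (.node (.node 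
 (.leaf f405) 
 (.leaf f2453)) (.node 
 (.leaf f1429) 
 (.leaf f3477))) (.node (.node 
 (.leaf f917) 
 (.leaf f2965)) (.node 
 (.leaf f1941) 
 (.leaf f3989)))))) (.node (.node (.node (.node (.node (.node 
 (.leaf f85) 
 (.leaf f4181)) 
 (.leaf f2133)) (.node 
 (.leaf f1109) 
 (.leaf f3157))) (.node (.node 
 (.leaf f597) 
 (.leaf f2645)) (.node 
 (.leaf f1621) 
 (.leaf f3669)))) (.node (.node (.node 
 (.leaf f341) 
 (.leaf f2389)) (.node 
 (.leaf f1365) 
 (.leaf f3413))) (.node (.node 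
 (.leaf f853) 
 (.leaf f2901)) (.node 
 (.leaf f1877) 
 (.leaf f3925))))) (.node (.node (.node (.node (.node 
 (.leaf f213) 
 (.leaf f4309)) 
 (.leaf f2261)) (.node 
 (.leaf f1237) 
 (.leaf f3285))) (.node (.node 
 (.leaf f725) 
 (.leaf f2773)) (.node 
 (.leaf f1749) 
 (.leaf f3797)))) (.node (.node (.node 
 (.leaf f469) 
 (.leaf f2517)) (.node 
 (.leaf f1493) 
 (.leaf f3541))) (.node (.node 
 (.leaf f981) 
 (.leaf f3029)) (.node 
 (.leaf f2005) 
 (.leaf f4053))))))) (.node (.node (.node (.node (.node (.node (.node 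
 (.leaf f53) 
 (.leaf f4149)) 
 (.leaf f2101)) (.node 
 (.leaf f1077) 
 (.leaf f3125))) (.node (.node 
 (.leaf f565) 
 (.leaf f2613)) (.node 
 (.leaf f1589) 
 (.leaf f3637)))) (.node (.node (.node (.node 
 (.leaf f309) 
 (.leaf f4405)) 
 (.leaf f2357)) (.node 
 (.leaf f1333) 
 (.leaf f3381))) (.node (.node 
 (.leaf f821) 
 (.leaf f2869)) (.node 
 (.leaf f1845) 
 (.leaf f3893))))) (.node (.node (.node (.node (.node 
 (.leaf f181) 
 (.leaf f4277)) 
 (.leaf f2229)) (.node 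
 (.leaf f1205) 
 (.leaf f3253))) (.node (.node 
 (.leaf f693) 
 (.leaf f2741)) (.node 
 (.leaf f1717) 
 (.leaf f3765)))) (.node (.node (.node 
 (.leaf f437) 
 (.leaf f2485)) (.node 
 (.leaf f1461) 
 (.leaf f3509))) (.node (.node 
 (.leaf f949) 
 (.leaf f2997)) (.node 
 (.leaf f1973) 
 (.leaf f4021)))))) (.node (.node (.node (.node (.node (.node 
 (.leaf f117) 
 (.leaf f4213)) 
 (.leaf f2165)) (.node 
 (.leaf f1141) 
 (.leaf f3189))) (.node (.node 
 (.leaf f629) 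
 (.leaf f2677)) (.node 
 (.leaf f1653) 
 (.leaf f3701)))) (.node (.node (.node 
 (.leaf f373) 
 (.leaf f2421)) (.node 
 (.leaf f1397) 
 (.leaf f3445))) (.node (.node 
 (.leaf f885) 
 (.leaf f2933)) (.node 
 (.leaf f1909) 
 (.leaf f3957))))) (.node (.node (.node (.node (.node 
 (.leaf f245) 
 (.leaf f4341)) 
 (.leaf f2293)) (.node 
 (.leaf f1269) 
 (.leaf f3317))) (.node (.node 
 (.leaf f757) 
 (.leaf f2805)) (.node 
 (.leaf f1781) 
 (.leaf f3829)))) (.node (.node (.node 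
 (.leaf f501) 
 (.leaf f2549)) (.node 
 (.leaf f1525) 
 (.leaf f3573))) (.node (.node 
 (.leaf f1013) 
 (.leaf f3061)) (.node 
 (.leaf f2037) 
 (.leaf f4085))))))))) (.node (.node (.node (.node (.node (.node (.node (.node (.node 
 (.leaf f13) 
 (.leaf f4109)) 
 (.leaf f2061)) (.node 
 (.leaf f1037) 
 (.leaf f3085))) (.node (.node 
 (.leaf f525) 
 (.leaf f2573)) (.node 
 (.leaf f1549) 
 (.leaf f3597)))) (.node (.node (.node (.node 
 (.leaf f269) 
 (.leaf f4365)) 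
 (.leaf f2317)) (.node 
 (.leaf f1293) 
 (.leaf f3341))) (.node (.node 
 (.leaf f781) 
 (.leaf f2829)) (.node 
 (.leaf f1805) 
 (.leaf f3853))))) (.node (.node (.node (.node (.node 
 (.leaf f141) 
 (.leaf f4237)) 
 (.leaf f2189)) (.node 
 (.leaf f1165) 
 (.leaf f3213))) (.node (.node 
 (.leaf f653) 
 (.leaf f2701)) (.node 
 (.leaf f1677) 
 (.leaf f3725)))) (.node (.node (.node 
 (.leaf f397) 
 (.leaf f2445)) (.node 
 (.leaf f1421) 
 (.leaf f3469))) (.node (.node 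
 (.leaf f909) 
 (.leaf f2957)) (.node 
 (.leaf f1933) 
 (.leaf f3981)))))) (.node (.node (.node (.node (.node (.node 
 (.leaf f77) 
 (.leaf f4173)) 
 (.leaf f2125)) (.node 
 (.leaf f1101) 
 (.leaf f3149))) (.node (.node 
 (.leaf f589) 
 (.leaf f2637)) (.node 
 (.leaf f1613) 
 (.leaf f3661)))) (.node (.node (.node 
 (.leaf f333) 
 (.leaf f2381)) (.node 
 (.leaf f1357) 
 (.leaf f3405))) (.node (.node 
 (.leaf f845) 
 (.leaf f2893)) (.node 
 (.leaf f1869) 
 (.leaf f3917))))) (.node (.node (.node (.node (.node 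
 (.leaf f205) 
 (.leaf f4301)) 
 (.leaf f2253)) (.node 
 (.leaf f1229) 
 (.leaf f3277))) (.node (.node 
 (.leaf f717) 
 (.leaf f2765)) (.node 
 (.leaf f1741) 
 (.leaf f3789)))) (.node (.node (.node 
 (.leaf f461) 
 (.leaf f2509)) (.node 
 (.leaf f1485) 
 (.leaf f3533))) (.node (.node 
 (.leaf f973) 
 (.leaf f3021)) (.node 
 (.leaf f1997) 
 (.leaf f4045))))))) (.node (.node (.node (.node (.node (.node (.node 
 (.leaf f45) 
 (.leaf f4141)) 
 (.leaf f2093)) (.node 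
 (.leaf f1069) 
 (.leaf f3117))) (.node (.node 
 (.leaf f557) 
 (.leaf f2605)) (.node 
 (.leaf f1581) 
 (.leaf f3629)))) (.node (.node (.node (.node 
 (.leaf f301) 
 (.leaf f4397)) 
 (.leaf f2349)) (.node 
 (.leaf f1325) 
 (.leaf f3373))) (.node (.node 
 (.leaf f813) 
 (.leaf f2861)) (.node 
 (.leaf f1837) 
 (.leaf f3885))))) (.node (.node (.node (.node (.node 
 (.leaf f173) 
 (.leaf f4269)) 
 (.leaf f2221)) (.node 
 (.leaf f1197) 
 (.leaf f3245))) (.node (.node 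
 (.leaf f685) 
 (.leaf f2733)) (.node 
 (.leaf f1709) 
 (.leaf f3757)))) (.node (.node (.node 
 (.leaf f429) 
 (.leaf f2477)) (.node 
 (.leaf f1453) 
 (.leaf f3501))) (.node (.node 
 (.leaf f941) 
 (.leaf f2989)) (.node 
 (.leaf f1965) 
 (.leaf f4013)))))) (.node (.node (.node (.node (.node (.node 
 (.leaf f109) 
 (.leaf f4205)) 
 (.leaf f2157)) (.node 
 (.leaf f1133) 
 (.leaf f3181))) (.node (.node 
 (.leaf f621) 
 (.leaf f2669)) (.node 
 (.leaf f1645) 
 (.leaf f3693)))) (.node (.node (.node 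
 (.leaf f365) 
 (.leaf f2413)) (.node 
 (.leaf f1389) 
 (.leaf f3437))) (.node (.node 
 (.leaf f877) 
 (.leaf f2925)) (.node 
 (.leaf f1901) 
 (.leaf f3949))))) (.node (.node (.node (.node (.node 
 (.leaf f237) 
 (.leaf f4333)) 
 (.leaf f2285)) (.node 
 (.leaf f1261) 
 (.leaf f3309))) (.node (.node 
 (.leaf f749) 
 (.leaf f2797)) (.node 
 (.leaf f1773) 
 (.leaf f3821)))) (.node (.node (.node 
 (.leaf f493) 
 (.leaf f2541)) (.node 
 (.leaf f1517) 
 (.leaf f3565))) (.node (.node 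
 (.leaf f1005) 
 (.leaf f3053)) (.node 
 (.leaf f2029) 
 (.leaf f4077)))))))) (.node (.node (.node (.node (.node (.node (.node (.node 
 (.leaf f29) 
 (.leaf f4125)) 
 (.leaf f2077)) (.node 
 (.leaf f1053) 
 (.leaf f3101))) (.node (.node 
 (.leaf f541) 
 (.leaf f2589)) (.node 
 (.leaf f1565) 
 (.leaf f3613)))) (.node (.node (.node (.node 
 (.leaf f285) 
 (.leaf f4381)) 
 (.leaf f2333)) (.node 
 (.leaf f1309) 
 (.leaf f3357))) (.node (.node 
 (.leaf f797) 
 (.leaf f2845)) (.node 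
 (.leaf f1821) 
 (.leaf f3869))))) (.node (.node (.node (.node (.node 
 (.leaf f157) 
 (.leaf f4253)) 
 (.leaf f2205)) (.node 
 (.leaf f1181) 
 (.leaf f3229))) (.node (.node 
 (.leaf f669) 
 (.leaf f2717)) (.node 
 (.leaf f1693) 
 (.leaf f3741)))) (.node (.node (.node 
 (.leaf f413) 
 (.leaf f2461)) (.node 
 (.leaf f1437) 
 (.leaf f3485))) (.node (.node 
 (.leaf f925) 
 (.leaf f2973)) (.node 
 (.leaf f1949) 
 (.leaf f3997)))))) (.node (.node (.node (.node (.node (.node 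
 (.leaf f93) 
 (.leaf f4189)) 
 (.leaf f2141)) (.node 
 (.leaf f1117) 
 (.leaf f3165))) (.node (.node 
 (.leaf f605) 
 (.leaf f2653)) (.node 
 (.leaf f1629) 
 (.leaf f3677)))) (.node (.node (.node 
 (.leaf f349) 
 (.leaf f2397)) (.node 
 (.leaf f1373) 
 (.leaf f3421))) (.node (.node 
 (.leaf f861) 
 (.leaf f2909)) (.node 
 (.leaf f1885) 
 (.leaf f3933))))) (.node (.node (.node (.node (.node 
 (.leaf f221) 
 (.leaf f4317)) 
 (.leaf f2269)) (.node 
 (.leaf f1245) 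
 (.leaf f3293))) (.node (.node 
 (.leaf f733) 
 (.leaf f2781)) (.node 
 (.leaf f1757) 
 (.leaf f3805)))) (.node (.node (.node 
 (.leaf f477) 
 (.leaf f2525)) (.node 
 (.leaf f1501) 
 (.leaf f3549))) (.node (.node 
 (.leaf f989) 
 (.leaf f3037)) (.node 
 (.leaf f2013) 
 (.leaf f4061))))))) (.node (.node (.node (.node (.node (.node (.node 
 (.leaf f61) 
 (.leaf f4157)) 
 (.leaf f2109)) (.node 
 (.leaf f1085) 
 (.leaf f3133))) (.node (.node 
 (.leaf f573) 
 (.leaf f2621)) (.node 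
 (.leaf f1597) 
 (.leaf f3645)))) (.node (.node (.node (.node 
 (.leaf f317) 
 (.leaf f4413)) 
 (.leaf f2365)) (.node 
 (.leaf f1341) 
 (.leaf f3389))) (.node (.node 
 (.leaf f829) 
 (.leaf f2877)) (.node 
 (.leaf f1853) 
 (.leaf f3901))))) (.node (.node (.node (.node (.node 
 (.leaf f189) 
 (.leaf f4285)) 
 (.leaf f2237)) (.node 
 (.leaf f1213) 
 (.leaf f3261))) (.node (.node 
 (.leaf f701) 
 (.leaf f2749)) (.node 
 (.leaf f1725) 
 (.leaf f3773)))) (.node (.node (.node 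
 (.leaf f445) 
 (.leaf f2493)) (.node 
 (.leaf f1469) 
 (.leaf f3517))) (.node (.node 
 (.leaf f957) 
 (.leaf f3005)) (.node 
 (.leaf f1981) 
 (.leaf f4029)))))) (.node (.node (.node (.node (.node (.node 
 (.leaf f125) 
 (.leaf f4221)) 
 (.leaf f2173)) (.node 
 (.leaf f1149) 
 (.leaf f3197))) (.node (.node 
 (.leaf f637) 
 (.leaf f2685)) (.node 
 (.leaf f1661) 
 (.leaf f3709)))) (.node (.node (.node 
 (.leaf f381) 
 (.leaf f2429)) (.node 
 (.leaf f1405) 
 (.leaf f3453))) (.node (.node 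
 (.leaf f893) 
 (.leaf f2941)) (.node 
 (.leaf f1917) 
 (.leaf f3965))))) (.node (.node (.node (.node (.node 
 (.leaf f253) 
 (.leaf f4349)) 
 (.leaf f2301)) (.node 
 (.leaf f1277) 
 (.leaf f3325))) (.node (.node 
 (.leaf f765) 
 (.leaf f2813)) (.node 
 (.leaf f1789) 
 (.leaf f3837)))) (.node (.node (.node 
 (.leaf f509) 
 (.leaf f2557)) (.node 
 (.leaf f1533) 
 (.leaf f3581))) (.node (.node 
 (.leaf f1021) 
 (.leaf f3069)) (.node 
 (.leaf f2045) 
 (.leaf f4093))))))))))) (.node (.node (.node (.node (.node (.node (.node (.node (.node (.node (.node 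
 (.leaf f3) 
 (.leaf f4099)) 
 (.leaf f2051)) (.node 
 (.leaf f1027) 
 (.leaf f3075))) (.node (.node 
 (.leaf f515) 
 (.leaf f2563)) (.node 
 (.leaf f1539) 
 (.leaf f3587)))) (.node (.node (.node (.node 
 (.leaf f259) 
 (.leaf f4355)) 
 (.leaf f2307)) (.node 
 (.leaf f1283) 
 (.leaf f3331))) (.node (.node 
 (.leaf f771) 
 (.leaf f2819)) (.node 
 (.leaf f1795) 
 (.leaf f3843))))) (.node (.node (.node (.node (.node 
 (.leaf f131) 
 (.leaf f4227)) 
 (.leaf f2179)) (.node 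
 (.leaf f1155) 
 (.leaf f3203))) (.node (.node 
 (.leaf f643) 
 (.leaf f2691)) (.node 
 (.leaf f1667) 
 (.leaf f3715)))) (.node (.node (.node 
 (.leaf f387) 
 (.leaf f2435)) (.node 
 (.leaf f1411) 
 (.leaf f3459))) (.node (.node 
 (.leaf f899) 
 (.leaf f2947)) (.node 
 (.leaf f1923) 
 (.leaf f3971)))))) (.node (.node (.node (.node (.node (.node 
 (.leaf f67) 
 (.leaf f4163)) 
 (.leaf f2115)) (.node 
 (.leaf f1091) 
 (.leaf f3139))) (.node (.node 
 (.leaf f579) 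
 (.leaf f2627)) (.node 
 (.leaf f1603) 
 (.leaf f3651)))) (.node (.node (.node (.node 
 (.leaf f323) 
 (.leaf f4419)) 
 (.leaf f2371)) (.node 
 (.leaf f1347) 
 (.leaf f3395))) (.node (.node 
 (.leaf f835) 
 (.leaf f2883)) (.node 
 (.leaf f1859) 
 (.leaf f3907))))) (.node (.node (.node (.node (.node 
 (.leaf f195) 
 (.leaf f4291)) 
 (.leaf f2243)) (.node 
 (.leaf f1219) 
 (.leaf f3267))) (.node (.node 
 (.leaf f707) 
 (.leaf f2755)) (.node 
 (.leaf f1731) 
 (.leaf f3779)))) (.node (.node (.node 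
 (.leaf f451) 
 (.leaf f2499)) (.node 
 (.leaf f1475) 
 (.leaf f3523))) (.node (.node 
 (.leaf f963) 
 (.leaf f3011)) (.node 
 (.leaf f1987) 
 (.leaf f4035))))))) (.node (.node (.node (.node (.node (.node (.node 
 (.leaf f35) 
 (.leaf f4131)) 
 (.leaf f2083)) (.node 
 (.leaf f1059) 
 (.leaf f3107))) (.node (.node 
 (.leaf f547) 
 (.leaf f2595)) (.node 
 (.leaf f1571) 
 (.leaf f3619)))) (.node (.node (.node (.node 
 (.leaf f291) 
 (.leaf f4387)) 
 (.leaf f2339)) (.node 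
 (.leaf f1315) 
 (.leaf f3363))) (.node (.node 
 (.leaf f803) 
 (.leaf f2851)) (.node 
 (.leaf f1827) 
 (.leaf f3875))))) (.node (.node (.node (.node (.node 
 (.leaf f163) 
 (.leaf f4259)) 
 (.leaf f2211)) (.node 
 (.leaf f1187) 
 (.leaf f3235))) (.node (.node 
 (.leaf f675) 
 (.leaf f2723)) (.node 
 (.leaf f1699) 
 (.leaf f3747)))) (.node (.node (.node 
 (.leaf f419) 
 (.leaf f2467)) (.node 
 (.leaf f1443) 
 (.leaf f3491))) (.node (.node 
 (.leaf f931) 
 (.leaf f2979)) (.node 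
 (.leaf f1955) 
 (.leaf f4003)))))) (.node (.node (.node (.node (.node (.node 
 (.leaf f99) 
 (.leaf f4195)) 
 (.leaf f2147)) (.node 
 (.leaf f1123) 
 (.leaf f3171))) (.node (.node 
 (.leaf f611) 
 (.leaf f2659)) (.node 
 (.leaf f1635) 
 (.leaf f3683)))) (.node (.node (.node 
 (.leaf f355) 
 (.leaf f2403)) (.node 
 (.leaf f1379) 
 (.leaf f3427))) (.node (.node 
 (.leaf f867) 
 (.leaf f2915)) (.node 
 (.leaf f1891) 
 (.leaf f3939))))) (.node (.node (.node (.node (.node 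
 (.leaf f227) 
 (.leaf f4323)) 
 (.leaf f2275)) (.node 
 (.leaf f1251) 
 (.leaf f3299))) (.node (.node 
 (.leaf f739) 
 (.leaf f2787)) (.node 
 (.leaf f1763) 
 (.leaf f3811)))) (.node (.node (.node 
 (.leaf f483) 
 (.leaf f2531)) (.node 
 (.leaf f1507) 
 (.leaf f3555))) (.node (.node 
 (.leaf f995) 
 (.leaf f3043)) (.node 
 (.leaf f2019) 
 (.leaf f4067)))))))) (.node (.node (.node (.node (.node (.node (.node (.node 
 (.leaf f19) 
 (.leaf f4115)) 
 (.leaf f2067)) (.node 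
 (.leaf f1043) 
 (.leaf f3091))) (.node (.node 
 (.leaf f531) 
 (.leaf f2579)) (.node 
 (.leaf f1555) 
 (.leaf f3603)))) (.node (.node (.node (.node 
 (.leaf f275) 
 (.leaf f4371)) 
 (.leaf f2323)) (.node 
 (.leaf f1299) 
 (.leaf f3347))) (.node (.node 
 (.leaf f787) 
 (.leaf f2835)) (.node 
 (.leaf f1811) 
 (.leaf f3859))))) (.node (.node (.node (.node (.node 
 (.leaf f147) 
 (.leaf f4243)) 
 (.leaf f2195)) (.node 
 (.leaf f1171) 
 (.leaf f3219))) (.node (.node 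
 (.leaf f659) 
 (.leaf f2707)) (.node 
 (.leaf f1683) 
 (.leaf f3731)))) (.node (.node (.node 
 (.leaf f403) 
 (.leaf f2451)) (.node 
 (.leaf f1427) 
 (.leaf f3475))) (.node (.node 
 (.leaf f915) 
 (.leaf f2963)) (.node 
 (.leaf f1939) 
 (.leaf f3987)))))) (.node (.node (.node (.node (.node (.node 
 (.leaf f83) 
 (.leaf f4179)) 
 (.leaf f2131)) (.node 
 (.leaf f1107) 
 (.leaf f3155))) (.node (.node 
 (.leaf f595) 
 (.leaf f2643)) (.node 
 (.leaf f1619) 
 (.leaf f3667)))) (.node (.node (.node 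
 (.leaf f339) 
 (.leaf f2387)) (.node 
 (.leaf f1363) 
 (.leaf f3411))) (.node (.node 
 (.leaf f851) 
 (.leaf f2899)) (.node 
 (.leaf f1875) 
 (.leaf f3923))))) (.node (.node (.node (.node (.node 
 (.leaf f211) 
 (.leaf f4307)) 
 (.leaf f2259)) (.node 
 (.leaf f1235) 
 (.leaf f3283))) (.node (.node 
 (.leaf f723) 
 (.leaf f2771)) (.node 
 (.leaf f1747) 
 (.leaf f3795)))) (.node (.node (.node 
 (.leaf f467) 
 (.leaf f2515)) (.node 
 (.leaf f1491) 
 (.leaf f3539))) (.node (.node 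
 (.leaf f979) 
 (.leaf f3027)) (.node 
 (.leaf f2003) 
 (.leaf f4051))))))) (.node (.node (.node (.node (.node (.node (.node 
 (.leaf f51) 
 (.leaf f4147)) 
 (.leaf f2099)) (.node 
 (.leaf f1075) 
 (.leaf f3123))) (.node (.node 
 (.leaf f563) 
 (.leaf f2611)) (.node 
 (.leaf f1587) 
 (.leaf f3635)))) (.node (.node (.node (.node 
 (.leaf f307) 
 (.leaf f4403)) 
 (.leaf f2355)) (.node 
 (.leaf f1331) 
 (.leaf f3379))) (.node (.node 
 (.leaf f819) 
 (.leaf f2867)) (.node 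
 (.leaf f1843) 
 (.leaf f3891))))) (.node (.node (.node (.node (.node 
 (.leaf f179) 
 (.leaf f4275)) 
 (.leaf f2227)) (.node 
 (.leaf f1203) 
 (.leaf f3251))) (.node (.node 
 (.leaf f691) 
 (.leaf f2739)) (.node 
 (.leaf f1715) 
 (.leaf f3763)))) (.node (.node (.node 
 (.leaf f435) 
 (.leaf f2483)) (.node 
 (.leaf f1459) 
 (.leaf f3507))) (.node (.node 
 (.leaf f947) 
 (.leaf f2995)) (.node 
 (.leaf f1971) 
 (.leaf f4019)))))) (.node (.node (.node (.node (.node (.node 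
 (.leaf f115) 
 (.leaf f4211)) 
 (.leaf f2163)) (.node 
 (.leaf f1139) 
 (.leaf f3187))) (.node (.node 
 (.leaf f627) 
 (.leaf f2675)) (.node 
 (.leaf f1651) 
 (.leaf f3699)))) (.node (.node (.node 
 (.leaf f371) 
 (.leaf f2419)) (.node 
 (.leaf f1395) 
 (.leaf f3443))) (.node (.node 
 (.leaf f883) 
 (.leaf f2931)) (.node 
 (.leaf f1907) 
 (.leaf f3955))))) (.node (.node (.node (.node (.node 
 (.leaf f243) 
 (.leaf f4339)) 
 (.leaf f2291)) (.node 
 (.leaf f1267) 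
 (.leaf f3315))) (.node (.node 
 (.leaf f755) 
 (.leaf f2803)) (.node 
 (.leaf f1779) 
 (.leaf f3827)))) (.node (.node (.node 
 (.leaf f499) 
 (.leaf f2547)) (.node 
 (.leaf f1523) 
 (.leaf f3571))) (.node (.node 
 (.leaf f1011) 
 (.leaf f3059)) (.node 
 (.leaf f2035) 
 (.leaf f4083))))))))) (.node (.node (.node (.node (.node (.node (.node (.node (.node 
 (.leaf f11) 
 (.leaf f4107)) 
 (.leaf f2059)) (.node 
 (.leaf f1035) 
 (.leaf f3083))) (.node (.node 
 (.leaf f523) 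
 (.leaf f2571)) (.node 
 (.leaf f1547) 
 (.leaf f3595)))) (.node (.node (.node (.node 
 (.leaf f267) 
 (.leaf f4363)) 
 (.leaf f2315)) (.node 
 (.leaf f1291) 
 (.leaf f3339))) (.node (.node 
 (.leaf f779) 
 (.leaf f2827)) (.node 
 (.leaf f1803) 
 (.leaf f3851))))) (.node (.node (.node (.node (.node 
 (.leaf f139) 
 (.leaf f4235)) 
 (.leaf f2187)) (.node 
 (.leaf f1163) 
 (.leaf f3211))) (.node (.node 
 (.leaf f651) 
 (.leaf f2699)) (.node 
 (.leaf f1675) 
 (.leaf f3723)))) (.node (.node (.node 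
 (.leaf f395) 
 (.leaf f2443)) (.node 
 (.leaf f1419) 
 (.leaf f3467))) (.node (.node 
 (.leaf f907) 
 (.leaf f2955)) (.node 
 (.leaf f1931) 
 (.leaf f3979)))))) (.node (.node (.node (.node (.node (.node 
 (.leaf f75) 
 (.leaf f4171)) 
 (.leaf f2123)) (.node 
 (.leaf f1099) 
 (.leaf f3147))) (.node (.node 
 (.leaf f587) 
 (.leaf f2635)) (.node 
 (.leaf f1611) 
 (.leaf f3659)))) (.node (.node (.node (.node 
 (.leaf f331) 
 (.leaf f4427)) 
 (.leaf f2379)) (.node 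
 (.leaf f1355) 
 (.leaf f3403))) (.node (.node 
 (.leaf f843) 
 (.leaf f2891)) (.node 
 (.leaf f1867) 
 (.leaf f3915))))) (.node (.node (.node (.node (.node 
 (.leaf f203) 
 (.leaf f4299)) 
 (.leaf f2251)) (.node 
 (.leaf f1227) 
 (.leaf f3275))) (.node (.node 
 (.leaf f715) 
 (.leaf f2763)) (.node 
 (.leaf f1739) 
 (.leaf f3787)))) (.node (.node (.node 
 (.leaf f459) 
 (.leaf f2507)) (.node 
 (.leaf f1483) 
 (.leaf f3531))) (.node (.node 
 (.leaf f971) 
 (.leaf f3019)) (.node 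
 (.leaf f1995) 
 (.leaf f4043))))))) (.node (.node (.node (.node (.node (.node (.node 
 (.leaf f43) 
 (.leaf f4139)) 
 (.leaf f2091)) (.node 
 (.leaf f1067) 
 (.leaf f3115))) (.node (.node 
 (.leaf f555) 
 (.leaf f2603)) (.node 
 (.leaf f1579) 
 (.leaf f3627)))) (.node (.node (.node (.node 
 (.leaf f299) 
 (.leaf f4395)) 
 (.leaf f2347)) (.node 
 (.leaf f1323) 
 (.leaf f3371))) (.node (.node 
 (.leaf f811) 
 (.leaf f2859)) (.node 
 (.leaf f1835) 
 (.leaf f3883))))) (.node (.node (.node (.node (.node 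
 (.leaf f171) 
 (.leaf f4267)) 
 (.leaf f2219)) (.node 
 (.leaf f1195) 
 (.leaf f3243))) (.node (.node 
 (.leaf f683) 
 (.leaf f2731)) (.node 
 (.leaf f1707) 
 (.leaf f3755)))) (.node (.node (.node 
 (.leaf f427) 
 (.leaf f2475)) (.node 
 (.leaf f1451) 
 (.leaf f3499))) (.node (.node 
 (.leaf f939) 
 (.leaf f2987)) (.node 
 (.leaf f1963) 
 (.leaf f4011)))))) (.node (.node (.node (.node (.node (.node 
 (.leaf f107) 
 (.leaf f4203)) 
 (.leaf f2155)) (.node 
 (.leaf f1131) 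
 (.leaf f3179))) (.node (.node 
 (.leaf f619) 
 (.leaf f2667)) (.node 
 (.leaf f1643) 
 (.leaf f3691)))) (.node (.node (.node 
 (.leaf f363) 
 (.leaf f2411)) (.node 
 (.leaf f1387) 
 (.leaf f3435))) (.node (.node 
 (.leaf f875) 
 (.leaf f2923)) (.node 
 (.leaf f1899) 
 (.leaf f3947))))) (.node (.node (.node (.node (.node 
 (.leaf f235) 
 (.leaf f4331)) 
 (.leaf f2283)) (.node 
 (.leaf f1259) 
 (.leaf f3307))) (.node (.node 
 (.leaf f747) 
 (.leaf f2795)) (.node 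
 (.leaf f1771) 
 (.leaf f3819)))) (.node (.node (.node 
 (.leaf f491) 
 (.leaf f2539)) (.node 
 (.leaf f1515) 
 (.leaf f3563))) (.node (.node 
 (.leaf f1003) 
 (.leaf f3051)) (.node 
 (.leaf f2027) 
 (.leaf f4075)))))))) (.node (.node (.node (.node (.node (.node (.node (.node 
 (.leaf f27) 
 (.leaf f4123)) 
 (.leaf f2075)) (.node 
 (.leaf f1051) 
 (.leaf f3099))) (.node (.node 
 (.leaf f539) 
 (.leaf f2587)) (.node 
 (.leaf f1563) 
 (.leaf f3611)))) (.node (.node (.node (.node 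
 (.leaf f283) 
 (.leaf f4379)) 
 (.leaf f2331)) (.node 
 (.leaf f1307) 
 (.leaf f3355))) (.node (.node 
 (.leaf f795) 
 (.leaf f2843)) (.node 
 (.leaf f1819) 
 (.leaf f3867))))) (.node (.node (.node (.node (.node 
 (.leaf f155) 
 (.leaf f4251)) 
 (.leaf f2203)) (.node 
 (.leaf f1179) 
 (.leaf f3227))) (.node (.node 
 (.leaf f667) 
 (.leaf f2715)) (.node 
 (.leaf f1691) 
 (.leaf f3739)))) (.node (.node (.node 
 (.leaf f411) 
 (.leaf f2459)) (.node 
 (.leaf f1435) 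
 (.leaf f3483))) (.node (.node 
 (.leaf f923) 
 (.leaf f2971)) (.node 
 (.leaf f1947) 
 (.leaf f3995)))))) (.node (.node (.node (.node (.node (.node 
 (.leaf f91) 
 (.leaf f4187)) 
 (.leaf f2139)) (.node 
 (.leaf f1115) 
 (.leaf f3163))) (.node (.node 
 (.leaf f603) 
 (.leaf f2651)) (.node 
 (.leaf f1627) 
 (.leaf f3675)))) (.node (.node (.node 
 (.leaf f347) 
 (.leaf f2395)) (.node 
 (.leaf f1371) 
 (.leaf f3419))) (.node (.node 
 (.leaf f859) 
 (.leaf f2907)) (.node 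
 (.leaf f1883) 
 (.leaf f3931))))) (.node (.node (.node (.node (.node 
 (.leaf f219) 
 (.leaf f4315)) 
 (.leaf f2267)) (.node 
 (.leaf f1243) 
 (.leaf f3291))) (.node (.node 
 (.leaf f731) 
 (.leaf f2779)) (.node 
 (.leaf f1755) 
 (.leaf f3803)))) (.node (.node (.node 
 (.leaf f475) 
 (.leaf f2523)) (.node 
 (.leaf f1499) 
 (.leaf f3547))) (.node (.node 
 (.leaf f987) 
 (.leaf f3035)) (.node 
 (.leaf f2011) 
 (.leaf f4059))))))) (.node (.node (.node (.node (.node (.node (.node 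
 (.leaf f59) 
 (.leaf f4155)) 
 (.leaf f2107)) (.node 
 (.leaf f1083) 
 (.leaf f3131))) (.node (.node 
 (.leaf f571) 
 (.leaf f2619)) (.node 
 (.leaf f1595) 
 (.leaf f3643)))) (.node (.node (.node (.node 
 (.leaf f315) 
 (.leaf f4411)) 
 (.leaf f2363)) (.node 
 (.leaf f1339) 
 (.leaf f3387))) (.node (.node 
 (.leaf f827) 
 (.leaf f2875)) (.node 
 (.leaf f1851) 
 (.leaf f3899))))) (.node (.node (.node (.node (.node 
 (.leaf f187) 
 (.leaf f4283)) 
 (.leaf f2235)) (.node 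
 (.leaf f1211) 
 (.leaf f3259))) (.node (.node 
 (.leaf f699) 
 (.leaf f2747)) (.node 
 (.leaf f1723) 
 (.leaf f3771)))) (.node (.node (.node 
 (.leaf f443) 
 (.leaf f2491)) (.node 
 (.leaf f1467) 
 (.leaf f3515))) (.node (.node 
 (.leaf f955) 
 (.leaf f3003)) (.node 
 (.leaf f1979) 
 (.leaf f4027)))))) (.node (.node (.node (.node (.node (.node 
 (.leaf f123) 
 (.leaf f4219)) 
 (.leaf f2171)) (.node 
 (.leaf f1147) 
 (.leaf f3195))) (.node (.node 
 (.leaf f635) 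
 (.leaf f2683)) (.node 
 (.leaf f1659) 
 (.leaf f3707)))) (.node (.node (.node 
 (.leaf f379) 
 (.leaf f2427)) (.node 
 (.leaf f1403) 
 (.leaf f3451))) (.node (.node 
 (.leaf f891) 
 (.leaf f2939)) (.node 
 (.leaf f1915) 
 (.leaf f3963))))) (.node (.node (.node (.node (.node 
 (.leaf f251) 
 (.leaf f4347)) 
 (.leaf f2299)) (.node 
 (.leaf f1275) 
 (.leaf f3323))) (.node (.node 
 (.leaf f763) 
 (.leaf f2811)) (.node 
 (.leaf f1787) 
 (.leaf f3835)))) (.node (.node (.node 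
 (.leaf f507) 
 (.leaf f2555)) (.node 
 (.leaf f1531) 
 (.leaf f3579))) (.node (.node 
 (.leaf f1019) 
 (.leaf f3067)) (.node 
 (.leaf f2043) 
 (.leaf f4091)))))))))) (.node (.node (.node (.node (.node (.node (.node (.node (.node (.node 
 (.leaf f7) 
 (.leaf f4103)) 
 (.leaf f2055)) (.node 
 (.leaf f1031) 
 (.leaf f3079))) (.node (.node 
 (.leaf f519) 
 (.leaf f2567)) (.node 
 (.leaf f1543) 
 (.leaf f3591)))) (.node (.node (.node (.node 
 (.leaf f263) 
 (.leaf f4359)) 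
 (.leaf f2311)) (.node 
 (.leaf f1287) 
 (.leaf f3335))) (.node (.node 
 (.leaf f775) 
 (.leaf f2823)) (.node 
 (.leaf f1799) 
 (.leaf f3847))))) (.node (.node (.node (.node (.node 
 (.leaf f135) 
 (.leaf f4231)) 
 (.leaf f2183)) (.node 
 (.leaf f1159) 
 (.leaf f3207))) (.node (.node 
 (.leaf f647) 
 (.leaf f2695)) (.node 
 (.leaf f1671) 
 (.leaf f3719)))) (.node (.node (.node 
 (.leaf f391) 
 (.leaf f2439)) (.node 
 (.leaf f1415) 
 (.leaf f3463))) (.node (.node 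
 (.leaf f903) 
 (.leaf f2951)) (.node 
 (.leaf f1927) 
 (.leaf f3975)))))) (.node (.node (.node (.node (.node (.node 
 (.leaf f71) 
 (.leaf f4167)) 
 (.leaf f2119)) (.node 
 (.leaf f1095) 
 (.leaf f3143))) (.node (.node 
 (.leaf f583) 
 (.leaf f2631)) (.node 
 (.leaf f1607) 
 (.leaf f3655)))) (.node (.node (.node (.node 
 (.leaf f327) 
 (.leaf f4423)) 
 (.leaf f2375)) (.node 
 (.leaf f1351) 
 (.leaf f3399))) (.node (.node 
 (.leaf f839) 
 (.leaf f2887)) (.node 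
 (.leaf f1863) 
 (.leaf f3911))))) (.node (.node (.node (.node (.node 
 (.leaf f199) 
 (.leaf f4295)) 
 (.leaf f2247)) (.node 
 (.leaf f1223) 
 (.leaf f3271))) (.node (.node 
 (.leaf f711) 
 (.leaf f2759)) (.node 
 (.leaf f1735) 
 (.leaf f3783)))) (.node (.node (.node 
 (.leaf f455) 
 (.leaf f2503)) (.node 
 (.leaf f1479) 
 (.leaf f3527))) (.node (.node 
 (.leaf f967) 
 (.leaf f3015)) (.node 
 (.leaf f1991) 
 (.leaf f4039))))))) (.node (.node (.node (.node (.node (.node (.node 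
 (.leaf f39) 
 (.leaf f4135)) 
 (.leaf f2087)) (.node 
 (.leaf f1063) 
 (.leaf f3111))) (.node (.node 
 (.leaf f551) 
 (.leaf f2599)) (.node 
 (.leaf f1575) 
 (.leaf f3623)))) (.node (.node (.node (.node 
 (.leaf f295) 
 (.leaf f4391)) 
 (.leaf f2343)) (.node 
 (.leaf f1319) 
 (.leaf f3367))) (.node (.node 
 (.leaf f807) 
 (.leaf f2855)) (.node 
 (.leaf f1831) 
 (.leaf f3879))))) (.node (.node (.node (.node (.node 
 (.leaf f167) 
 (.leaf f4263)) 
 (.leaf f2215)) (.node 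
 (.leaf f1191) 
 (.leaf f3239))) (.node (.node 
 (.leaf f679) 
 (.leaf f2727)) (.node 
 (.leaf f1703) 
 (.leaf f3751)))) (.node (.node (.node 
 (.leaf f423) 
 (.leaf f2471)) (.node 
 (.leaf f1447) 
 (.leaf f3495))) (.node (.node 
 (.leaf f935) 
 (.leaf f2983)) (.node 
 (.leaf f1959) 
 (.leaf f4007)))))) (.node (.node (.node (.node (.node (.node 
 (.leaf f103) 
 (.leaf f4199)) 
 (.leaf f2151)) (.node 
 (.leaf f1127) 
 (.leaf f3175))) (.node (.node 
 (.leaf f615) 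
 (.leaf f2663)) (.node 
 (.leaf f1639) 
 (.leaf f3687)))) (.node (.node (.node 
 (.leaf f359) 
 (.leaf f2407)) (.node 
 (.leaf f1383) 
 (.leaf f3431))) (.node (.node 
 (.leaf f871) 
 (.leaf f2919)) (.node 
 (.leaf f1895) 
 (.leaf f3943))))) (.node (.node (.node (.node (.node 
 (.leaf f231) 
 (.leaf f4327)) 
 (.leaf f2279)) (.node 
 (.leaf f1255) 
 (.leaf f3303))) (.node (.node 
 (.leaf f743) 
 (.leaf f2791)) (.node 
 (.leaf f1767) 
 (.leaf f3815)))) (.node (.node (.node 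
 (.leaf f487) 
 (.leaf f2535)) (.node 
 (.leaf f1511) 
 (.leaf f3559))) (.node (.node 
 (.leaf f999) 
 (.leaf f3047)) (.node 
 (.leaf f2023) 
 (.leaf f4071)))))))) (.node (.node (.node (.node (.node (.node (.node (.node 
 (.leaf f23) 
 (.leaf f4119)) 
 (.leaf f2071)) (.node 
 (.leaf f1047) 
 (.leaf f3095))) (.node (.node 
 (.leaf f535) 
 (.leaf f2583)) (.node 
 (.leaf f1559) 
 (.leaf f3607)))) (.node (.node (.node (.node 
 (.leaf f279) 
 (.leaf f4375)) 
 (.leaf f2327)) (.node 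
 (.leaf f1303) 
 (.leaf f3351))) (.node (.node 
 (.leaf f791) 
 (.leaf f2839)) (.node 
 (.leaf f1815) 
 (.leaf f3863))))) (.node (.node (.node (.node (.node 
 (.leaf f151) 
 (.leaf f4247)) 
 (.leaf f2199)) (.node 
 (.leaf f1175) 
 (.leaf f3223))) (.node (.node 
 (.leaf f663) 
 (.leaf f2711)) (.node 
 (.leaf f1687) 
 (.leaf f3735)))) (.node (.node (.node 
 (.leaf f407) 
 (.leaf f2455)) (.node 
 (.leaf f1431) 
 (.leaf f3479))) (.node (.node 
 (.leaf f919) 
 (.leaf f2967)) (.node 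
 (.leaf f1943) 
 (.leaf f3991)))))) (.node (.node (.node (.node (.node (.node 
 (.leaf f87) 
 (.leaf f4183)) 
 (.leaf f2135)) (.node 
 (.leaf f1111) 
 (.leaf f3159))) (.node (.node 
 (.leaf f599) 
 (.leaf f2647)) (.node 
 (.leaf f1623) 
 (.leaf f3671)))) (.node (.node (.node 
 (.leaf f343) 
 (.leaf f2391)) (.node 
 (.leaf f1367) 
 (.leaf f3415))) (.node (.node 
 (.leaf f855) 
 (.leaf f2903)) (.node 
 (.leaf f1879) 
 (.leaf f3927))))) (.node (.node (.node (.node (.node 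
 (.leaf f215) 
 (.leaf f4311)) 
 (.leaf f2263)) (.node 
 (.leaf f1239) 
 (.leaf f3287))) (.node (.node 
 (.leaf f727) 
 (.leaf f2775)) (.node 
 (.leaf f1751) 
 (.leaf f3799)))) (.node (.node (.node 
 (.leaf f471) 
 (.leaf f2519)) (.node 
 (.leaf f1495) 
 (.leaf f3543))) (.node (.node 
 (.leaf f983) 
 (.leaf f3031)) (.node 
 (.leaf f2007) 
 (.leaf f4055))))))) (.node (.node (.node (.node (.node (.node (.node 
 (.leaf f55) 
 (.leaf f4151)) 
 (.leaf f2103)) (.node 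
 (.leaf f1079) 
 (.leaf f3127))) (.node (.node 
 (.leaf f567) 
 (.leaf f2615)) (.node 
 (.leaf f1591) 
 (.leaf f3639)))) (.node (.node (.node (.node 
 (.leaf f311) 
 (.leaf f4407)) 
 (.leaf f2359)) (.node 
 (.leaf f1335) 
 (.leaf f3383))) (.node (.node 
 (.leaf f823) 
 (.leaf f2871)) (.node 
 (.leaf f1847) 
 (.leaf f3895))))) (.node (.node (.node (.node (.node 
 (.leaf f183) 
 (.leaf f4279)) 
 (.leaf f2231)) (.node 
 (.leaf f1207) 
 (.leaf f3255))) (.node (.node 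
 (.leaf f695) 
 (.leaf f2743)) (.node 
 (.leaf f1719) 
 (.leaf f3767)))) (.node (.node (.node 
 (.leaf f439) 
 (.leaf f2487)) (.node 
 (.leaf f1463) 
 (.leaf f3511))) (.node (.node 
 (.leaf f951) 
 (.leaf f2999)) (.node 
 (.leaf f1975) 
 (.leaf f4023)))))) (.node (.node (.node (.node (.node (.node 
 (.leaf f119) 
 (.leaf f4215)) 
 (.leaf f2167)) (.node 
 (.leaf f1143) 
 (.leaf f3191))) (.node (.node 
 (.leaf f631) 
 (.leaf f2679)) (.node 
 (.leaf f1655) 
 (.leaf f3703)))) (.node (.node (.node 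
 (.leaf f375) 
 (.leaf f2423)) (.node 
 (.leaf f1399) 
 (.leaf f3447))) (.node (.node 
 (.leaf f887) 
 (.leaf f2935)) (.node 
 (.leaf f1911) 
 (.leaf f3959))))) (.node (.node (.node (.node (.node 
 (.leaf f247) 
 (.leaf f4343)) 
 (.leaf f2295)) (.node 
 (.leaf f1271) 
 (.leaf f3319))) (.node (.node 
 (.leaf f759) 
 (.leaf f2807)) (.node 
 (.leaf f1783) 
 (.leaf f3831)))) (.node (.node (.node 
 (.leaf f503) 
 (.leaf f2551)) (.node 
 (.leaf f1527) 
 (.leaf f3575))) (.node (.node 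
 (.leaf f1015) 
 (.leaf f3063)) (.node 
 (.leaf f2039) 
 (.leaf f4087))))))))) (.node (.node (.node (.node (.node (.node (.node (.node (.node 
 (.leaf f15) 
 (.leaf f4111)) 
 (.leaf f2063)) (.node 
 (.leaf f1039) 
 (.leaf f3087))) (.node (.node 
 (.leaf f527) 
 (.leaf f2575)) (.node 
 (.leaf f1551) 
 (.leaf f3599)))) (.node (.node (.node (.node 
 (.leaf f271) 
 (.leaf f4367)) 
 (.leaf f2319)) (.node 
 (.leaf f1295) 
 (.leaf f3343))) (.node (.node 
 (.leaf f783) 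
 (.leaf f2831)) (.node 
 (.leaf f1807) 
 (.leaf f3855))))) (.node (.node (.node (.node (.node 
 (.leaf f143) 
 (.leaf f4239)) 
 (.leaf f2191)) (.node 
 (.leaf f1167) 
 (.leaf f3215))) (.node (.node 
 (.leaf f655) 
 (.leaf f2703)) (.node 
 (.leaf f1679) 
 (.leaf f3727)))) (.node (.node (.node 
 (.leaf f399) 
 (.leaf f2447)) (.node 
 (.leaf f1423) 
 (.leaf f3471))) (.node (.node 
 (.leaf f911) 
 (.leaf f2959)) (.node 
 (.leaf f1935) 
 (.leaf f3983)))))) (.node (.node (.node (.node (.node (.node 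
 (.leaf f79) 
 (.leaf f4175)) 
 (.leaf f2127)) (.node 
 (.leaf f1103) 
 (.leaf f3151))) (.node (.node 
 (.leaf f591) 
 (.leaf f2639)) (.node 
 (.leaf f1615) 
 (.leaf f3663)))) (.node (.node (.node 
 (.leaf f335) 
 (.leaf f2383)) (.node 
 (.leaf f1359) 
 (.leaf f3407))) (.node (.node 
 (.leaf f847) 
 (.leaf f2895)) (.node 
 (.leaf f1871) 
 (.leaf f3919))))) (.node (.node (.node (.node (.node 
 (.leaf f207) 
 (.leaf f4303)) 
 (.leaf f2255)) (.node 
 (.leaf f1231) 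
 (.leaf f3279))) (.node (.node 
 (.leaf f719) 
 (.leaf f2767)) (.node 
 (.leaf f1743) 
 (.leaf f3791)))) (.node (.node (.node 
 (.leaf f463) 
 (.leaf f2511)) (.node 
 (.leaf f1487) 
 (.leaf f3535))) (.node (.node 
 (.leaf f975) 
 (.leaf f3023)) (.node 
 (.leaf f1999) 
 (.leaf f4047))))))) (.node (.node (.node (.node (.node (.node (.node 
 (.leaf f47) 
 (.leaf f4143)) 
 (.leaf f2095)) (.node 
 (.leaf f1071) 
 (.leaf f3119))) (.node (.node 
 (.leaf f559) 
 (.leaf f2607)) (.node 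
 (.leaf f1583) 
 (.leaf f3631)))) (.node (.node (.node (.node 
 (.leaf f303) 
 (.leaf f4399)) 
 (.leaf f2351)) (.node 
 (.leaf f1327) 
 (.leaf f3375))) (.node (.node 
 (.leaf f815) 
 (.leaf f2863)) (.node 
 (.leaf f1839) 
 (.leaf f3887))))) (.node (.node (.node (.node (.node 
 (.leaf f175) 
 (.leaf f4271)) 
 (.leaf f2223)) (.node 
 (.leaf f1199) 
 (.leaf f3247))) (.node (.node 
 (.leaf f687) 
 (.leaf f2735)) (.node 
 (.leaf f1711) 
 (.leaf f3759)))) (.node (.node (.node 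
 (.leaf f431) 
 (.leaf f2479)) (.node 
 (.leaf f1455) 
 (.leaf f3503))) (.node (.node 
 (.leaf f943) 
 (.leaf f2991)) (.node 
 (.leaf f1967) 
 (.leaf f4015)))))) (.node (.node (.node (.node (.node (.node 
 (.leaf f111) 
 (.leaf f4207)) 
 (.leaf f2159)) (.node 
 (.leaf f1135) 
 (.leaf f3183))) (.node (.node 
 (.leaf f623) 
 (.leaf f2671)) (.node 
 (.leaf f1647) 
 (.leaf f3695)))) (.node (.node (.node 
 (.leaf f367) 
 (.leaf f2415)) (.node 
 (.leaf f1391) 
 (.leaf f3439))) (.node (.node 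
 (.leaf f879) 
 (.leaf f2927)) (.node 
 (.leaf f1903) 
 (.leaf f3951))))) (.node (.node (.node (.node (.node 
 (.leaf f239) 
 (.leaf f4335)) 
 (.leaf f2287)) (.node 
 (.leaf f1263) 
 (.leaf f3311))) (.node (.node 
 (.leaf f751) 
 (.leaf f2799)) (.node 
 (.leaf f1775) 
 (.leaf f3823)))) (.node (.node (.node 
 (.leaf f495) 
 (.leaf f2543)) (.node 
 (.leaf f1519) 
 (.leaf f3567))) (.node (.node 
 (.leaf f1007) 
 (.leaf f3055)) (.node 
 (.leaf f2031) 
 (.leaf f4079)))))))) (.node (.node (.node (.node (.node (.node (.node (.node 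
 (.leaf f31) 
 (.leaf f4127)) 
 (.leaf f2079)) (.node 
 (.leaf f1055) 
 (.leaf f3103))) (.node (.node 
 (.leaf f543) 
 (.leaf f2591)) (.node 
 (.leaf f1567) 
 (.leaf f3615)))) (.node (.node (.node (.node 
 (.leaf f287) 
 (.leaf f4383)) 
 (.leaf f2335)) (.node 
 (.leaf f1311) 
 (.leaf f3359))) (.node (.node 
 (.leaf f799) 
 (.leaf f2847)) (.node 
 (.leaf f1823) 
 (.leaf f3871))))) (.node (.node (.node (.node (.node 
 (.leaf f159) 
 (.leaf f4255)) 
 (.leaf f2207)) (.node 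
 (.leaf f1183) 
 (.leaf f3231))) (.node (.node 
 (.leaf f671) 
 (.leaf f2719)) (.node 
 (.leaf f1695) 
 (.leaf f3743)))) (.node (.node (.node 
 (.leaf f415) 
 (.leaf f2463)) (.node 
 (.leaf f1439) 
 (.leaf f3487))) (.node (.node 
 (.leaf f927) 
 (.leaf f2975)) (.node 
 (.leaf f1951) 
 (.leaf f3999)))))) (.node (.node (.node (.node (.node (.node 
 (.leaf f95) 
 (.leaf f4191)) 
 (.leaf f2143)) (.node 
 (.leaf f1119) 
 (.leaf f3167))) (.node (.node 
 (.leaf f607) 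
 (.leaf f2655)) (.node 
 (.leaf f1631) 
 (.leaf f3679)))) (.node (.node (.node 
 (.leaf f351) 
 (.leaf f2399)) (.node 
 (.leaf f1375) 
 (.leaf f3423))) (.node (.node 
 (.leaf f863) 
 (.leaf f2911)) (.node 
 (.leaf f1887) 
 (.leaf f3935))))) (.node (.node (.node (.node (.node 
 (.leaf f223) 
 (.leaf f4319)) 
 (.leaf f2271)) (.node 
 (.leaf f1247) 
 (.leaf f3295))) (.node (.node 
 (.leaf f735) 
 (.leaf f2783)) (.node 
 (.leaf f1759) 
 (.leaf f3807)))) (.node (.node (.node 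
 (.leaf f479) 
 (.leaf f2527)) (.node 
 (.leaf f1503) 
 (.leaf f3551))) (.node (.node 
 (.leaf f991) 
 (.leaf f3039)) (.node 
 (.leaf f2015) 
 (.leaf f4063))))))) (.node (.node (.node (.node (.node (.node (.node 
 (.leaf f63) 
 (.leaf f4159)) 
 (.leaf f2111)) (.node 
 (.leaf f1087) 
 (.leaf f3135))) (.node (.node 
 (.leaf f575) 
 (.leaf f2623)) (.node 
 (.leaf f1599) 
 (.leaf f3647)))) (.node (.node (.node (.node 
 (.leaf f319) 
 (.leaf f4415)) 
 (.leaf f2367)) (.node 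
 (.leaf f1343) 
 (.leaf f3391))) (.node (.node 
 (.leaf f831) 
 (.leaf f2879)) (.node 
 (.leaf f1855) 
 (.leaf f3903))))) (.node (.node (.node (.node (.node 
 (.leaf f191) 
 (.leaf f4287)) 
 (.leaf f2239)) (.node 
 (.leaf f1215) 
 (.leaf f3263))) (.node (.node 
 (.leaf f703) 
 (.leaf f2751)) (.node 
 (.leaf f1727) 
 (.leaf f3775)))) (.node (.node (.node 
 (.leaf f447) 
 (.leaf f2495)) (.node 
 (.leaf f1471) 
 (.leaf f3519))) (.node (.node 
 (.leaf f959) 
 (.leaf f3007)) (.node 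
 (.leaf f1983) 
 (.leaf f4031)))))) (.node (.node (.node (.node (.node (.node 
 (.leaf f127) 
 (.leaf f4223)) 
 (.leaf f2175)) (.node 
 (.leaf f1151) 
 (.leaf f3199))) (.node (.node 
 (.leaf f639) 
 (.leaf f2687)) (.node 
 (.leaf f1663) 
 (.leaf f3711)))) (.node (.node (.node 
 (.leaf f383) 
 (.leaf f2431)) (.node 
 (.leaf f1407) 
 (.leaf f3455))) (.node (.node 
 (.leaf f895) 
 (.leaf f2943)) (.node 
 (.leaf f1919) 
 (.leaf f3967))))) (.node (.node (.node (.node (.node 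
 (.leaf f255) 
 (.leaf f4351)) 
 (.leaf f2303)) (.node 
 (.leaf f1279) 
 (.leaf f3327))) (.node (.node 
 (.leaf f767) 
 (.leaf f2815)) (.node 
 (.leaf f1791) 
 (.leaf f3839)))) (.node (.node (.node 
 (.leaf f511) 
 (.leaf f2559)) (.node 
 (.leaf f1535) 
 (.leaf f3583))) (.node (.node 
 (.leaf f1023) 
 (.leaf f3071)) (.node 
 (.leaf f2047) 
 (.leaf f4095)))))))))))))
noncomputable def D : List (ℕ × List ℕ) := [((nat_lit 0), []), ((nat_lit 0), []), ((nat_lit 1), [nat_lit 3]), ((nat_lit 1), [nat_lit 7, nat_lit 1]), ((nat_lit 1), [nat_lit 3, nat_lit 1]), ((nat_lit 1), [nat_lit 8, nat_lit 3, nat_lit 1]), ((nat_lit 1), [nat_lit 7, nat_lit 3, nat_lit 1]), ((nat_lit 3), [nat_lit 6, nat_lit 3, nat_lit 2, nat_lit 3, nat_lit 4, nat_lit 8, nat_lit 4, nat_lit 3, nat_lit 2, nat_lit 3, nat_lit 1]), ((nat_lit 3), [nat_lit 3, nat_lit 2, nat_lit 3, nat_lit 4, nat_lit 8, nat_lit 4, nat_lit 8, nat_lit 3, nat_lit 2, nat_lit 3, nat_lit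 1]), ((nat_lit 5), [nat_lit 4, nat_lit 7, nat_lit 3, nat_lit 4, nat_lit 8, nat_lit 0, nat_lit 1, nat_lit 2, nat_lit 3, nat_lit 4, nat_lit 8, nat_lit 3, nat_lit 2, nat_lit 3, nat_lit 1]), ((nat_lit 3), [nat_lit 3, nat_lit 1])]
noncomputable def R : List (List ℕ × ℕ) := [([a82, nat_lit 0x8000000000000000000000000000000000004000000000000000000000000000000000002000000000000000000000000000000000001000000000000000000000000000000000200802008021084010842100400000000000008401084000042100000084000802100000004200042100401004210802008420000010002108001084200040008020004200002100001004000840100401084010800100020004200842100420080000002108021000200840108020084210800100021084200002000420080200800100400004000840000000004200840000400080010840008421000000042100401080000042100020004010002108020084210840108001080000802000021004010800008421000010042108020000000040000000004000002100000084000000108020080000842000001000200800000021004210000000401084210002100421000000040000400084000800108401004000000108020080000802000400080000800100020004210040100021080210000100020000210842100001080200000008420084200002000021004010800008400000210800100000084010802100020004210042008401000210040000420004000842000420000000002000021000010040008420084010002000021084000000008020084210002108420], nat_lit 38322585203679120632440487592940909569369790799355185847947010836361063465751442752596877721207427437958035406446387702664519349438942990420018200577), ([nat_lit 0x8000000000000000000000000000000000004000000000000000000000000000000000002000000000000000000000000000000000020000000040100000004010840000020000210802000420004000000008020000210000100001084010002000420084200802000000080210042008400004000040108421000200000008020080000842100001004010002008401080200802100021080010842000000080010842100401004010002108400000210040008421084010000108020084210000008021084200802008401004200842100020084000040000400080210800008001000200800008421004210840100001000200002008000000000840000400080000840000021000200002000420084000840108420000200802008020080210040100001080200000008001080200802000420000010840100000004210040100421080200842100401000010800008021080210800000421000000002000001004000802000021080200802000000000200002100401084200040100020000000802108421084200042108401080210002108001004210800108021084010802100000084210802008401004000000108421000000802100420080010802008001004200000000000004210000108021084000042000021084000800000420080000800108021, nat_lit 0x8000000000000000000000000000000000004000000000000000000000000000000000002000000000000000000000000000000000001084210000008401080200802000021000210042000421080200040000001084200002008401004200000100401080200800000001000210802008001084210840108400000200040108001004000042000000084010002108421004210042000021080210040000000084210800000020084000800008000000000000100001084200002108420004200000000421080210800008001084210042000020000010042000021004010040000021000210800008000004010042108400084010000000000000000002000000000000000000021080000842108401084000040008020000200000008020004010840100401000010002008400004000042000001084010040100001080000800108400084200000008420000010842008020080200800108421084200002100400000010800008401080210000000001000200800100421000200000108400000010802108000080210000108021004200000008000084010802108000084000000100020004000042100020000210842008400000000800100400084010000008001000210000000420084000800100020004200840000021080200800100420004000800000420, nat_lit 0x8000000000000000000000000000000000004000000000000000000000000000000000002000000000000000000000000000000000020000000040100000004010840000020000210802000420004000000008020000210000100001084010002000420084200802000000080210042008400004000040108421000200000008020080000842100001004010002008401080200802100021080010842000000080010842100401004010002108400000210040008421084010000108020084210000008021084200802008401004200842100020084000040000400080210800008001000200800008421004210840100001000200002008000000000840000400080000840000021000200002000420084000840108420000200802008020080210040100001080200000008001080200802000420000010840100000004210040100421080200842100401000010800008021080210800000421000000002000001004000802000021080200802000000000200002100401084200040100020000000802108421084200042108401080210002108001004210800108021084010802100000084210802008401004000000108421000000802100420080010802008001004200000000000004210000108021084000042000021084000800000420080000800108021, nat_lit 0x8000000000000000000000000000000000004000000000000000000000000000000000002000000000000000000000000000000000001084210000008401080200802000021000210042000421080200040000001084200002008401004200000100401080200800000001000210802008001084210840108400000200040108001004000042000000084010002108421004210042000021080210040000000084210800000020084000800008000000000000100001084200002108420004200000000421080210800008001084210042000020000010042000021004010040000021000210800008000004010042108400084010000000000000000002000000000000000000021080000842108401084000040008020000200000008020004010840100401000010002008400004000042000001084010040100001080000800108400084200000008420000010842008020080200800108421084200002100400000010800008401080210000000001000200800100421000200000108400000010802108000080210000108021004200000008000084010802108000084000000100020004000042100020000210842008400000000800100400084010000008001000210000000420084000800100020004200840000021080200800100420004000800000420], nat_lit 38322585203679120632440487592940909569369790799355185847947010836361063465751442752596877721207427439419537043777290620868204182155226010075950743554), ([nat_lit 0x8000000000000000000000000000000000004000000000000000000000000000000000002000000000000000000000000000000000001084210000008401080200802000021000210042000421080200040000001084200002008401004200000100401080200800000001000210802008001084210840108400000200040108001004000042000000084010002108421004210042000021080210040000000084210800000020084000800008000000000000100001084200002108420004200000000421080210800008001084210042000020000010042000021004010040000021000210800008000004010042108400084010000000000000000002000000000000000000021080000842108401084000040008020000200000008020004010840100401000010002008400004000042000001084010040100001080000800108400084200000008420000010842008020080200800108421084200002100400000010800008401080210000000001000200800100421000200000108400000010802108000080210000108021004200000008000084010802108000084000000100020004000042100020000210842008400000000800100400084010000008001000210000000420084000800100020004200840000021080200800100420004000800000420, nat_lit 0x8000000000000000000000000000000000004000000000000000000000000000000000002000000000000000000000000000000000020000000040100000004010840000020000210802000420004000000008020000210000100001084010002000420084200802000000080210042008400004000040108421000200000008020080000842100001004010002008401080200802100021080010842000000080010842100401004010002108400000210040008421084010000108020084210000008021084200802008401004200842100020084000040000400080210800008001000200800008421004210840100001000200002008000000000840000400080000840000021000200002000420084000840108420000200802008020080210040100001080200000008001080200802000420000010840100000004210040100421080200842100401000010800008021080210800000421000000002000001004000802000021080200802000000000200002100401084200040100020000000802108421084200042108401080210002108001004210800108021084010802100000084210802008401004000000108421000000802100420080010802008001004200000000000004210000108021084000042000021084000800000420080000800108021, nat_lit 0x8000000000000000000000000000000000004000000000000000000000000000000000002000000000000000000000000000000000001084210000008401080200802000021000210042000421080200040000001084200002008401004200000100401080200800000001000210802008001084210840108400000200040108001004000042000000084010002108421004210042000021080210040000000084210800000020084000800008000000000000100001084200002108420004200000000421080210800008001084210042000020000010042000021004010040000021000210800008000004010042108400084010000000000000000002000000000000000000021080000842108401084000040008020000200000008020004010840100401000010002008400004000042000001084010040100001080000800108400084200000008420000010842008020080200800108421084200002100400000010800008401080210000000001000200800100421000200000108400000010802108000080210000108021004200000008000084010802108000084000000100020004000042100020000210842008400000000800100400084010000008001000210000000420084000800100020004200840000021080200800100420004000800000420, nat_lit 0x8000000000000000000000000000000000004000000000000000000000000000000000002000000000000000000000000000000000020000000040100000004010840000020000210802000420004000000008020000210000100001084010002000420084200802000000080210042008400004000040108421000200000008020080000842100001004010002008401080200802100021080010842000000080010842100401004010002108400000210040008421084010000108020084210000008021084200802008401004200842100020084000040000400080210800008001000200800008421004210840100001000200002008000000000840000400080000840000021000200002000420084000840108420000200802008020080210040100001080200000008001080200802000420000010840100000004210040100421080200842100401000010800008021080210800000421000000002000001004000802000021080200802000000000200002100401084200040100020000000802108421084200042108401080210002108001004210800108021084010802100000084210802008401004000000108421000000802100420080010802008001004200000000000004210000108021084000042000021084000800000420080000800108021], nat_lit 38322585203679120632440487592940909569369790799355185847947010836361063465751442752596877721207427439419537043777290620868204182155226010075950743554), ([nat_lit 0x8000000000000000000000000000000000004000000000000000000000000000000000002000000000000000000000000000000000020000000040100000004010840000020000210802000420004000000008020000210000100001084010002000420084200802000000080210042008400004000040108421000200000008020080000842100001004010002008401080200802100021080010842000000080010842100401004010002108400000210040008421084010000108020084210000008021084200802008401004200842100020084000040000400080210800008001000200800008421004210840100001000200002008000000000840000400080000840000021000200002000420084000840108420000200802008020080210040100001080200000008001080200802000420000010840100000004210040100421080200842100401000010800008021080210800000421000000002000001004000802000021080200802000000000200002100401084200040100020000000802108421084200042108401080210002108001004210800108021084010802100000084210802008401004000000108421000000802100420080010802008001004200000000000004210000108021084000042000021084000800000420080000800108021, nat_lit 0x8000000000000000000000000000000000004000000000000000000000000000000000002000000000000000000000000000000000021080000840000401004010802100021000200042008420080210802100000080210000100001084200002100021004010842000000004210042108000004010040008421000000802108400084010042000000080000000008021080210802100000000210040100000084200840108021080010000008021000000842100421084200042000420000000000000421080210802100000000010040100020084210840100021080010842100400000200840100020084210800008421084200000000000000000002000000000000000000020000200842100001080200040008401000200840008000000210000008421004000000008421000210802100000004210040100021004210840100420004010842008000000200800008001000000002008021084210000000001080210042000020000000002100000080010042008000000010000008020000000842108400004200002000001004210002000400000010042008401080200042000001000200040008020080010802000401000210840108420080210002108400004000002008021000010840100020080010802000000084010040008401000200042100400, nat_lit 0x8000000000000000000000000000000000004000000000000000000000000000000000002000000000000000000000000000000000020000000040100000004010840000020000210802000420004000000008020000210000100001084010002000420084200802000000080210042008400004000040108421000200000008020080000842100001004010002008401080200802100021080010842000000080010842100401004010002108400000210040008421084010000108020084210000008021084200802008401004200842100020084000040000400080210800008001000200800008421004210840100001000200002008000000000840000400080000840000021000200002000420084000840108420000200802008020080210040100001080200000008001080200802000420000010840100000004210040100421080200842100401000010800008021080210800000421000000002000001004000802000021080200802000000000200002100401084200040100020000000802108421084200042108401080210002108001004210800108021084010802100000084210802008401004000000108421000000802100420080010802008001004200000000000004210000108021084000042000021084000800000420080000800108021, nat_lit 0x8000000000000000000000000000000000004000000000000000000000000000000000002000000000000000000000000000000000021080000840000401004010802100021000200042008420080210802100000080210000100001084200002100021004010842000000004210042108000004010040008421000000802108400084010042000000080000000008021080210802100000000210040100000084200840108021080010000008021000000842100421084200042000420000000000000421080210802100000000010040100020084210840100021080010842100400000200840100020084210800008421084200000000000000000002000000000000000000020000200842100001080200040008401000200840008000000210000008421004000000008421000210802100000004210040100021004210840100420004010842008000000200800008001000000002008021084210000000001080210042000020000000002100000080010042008000000010000008020000000842108400004200002000001004210002000400000010042008401080200042000001000200040008020080010802000401000210840108420080210002108400004000002008021000010840100020080010802000000084010040008401000200042100400], nat_lit 38322585203679120632440487592940909569369790799355185847947010836361063465751442752596877721207428357242565287584323252782279127980962354001587732482), ([nat_lit 0x8000000000000000000000000000000000004000000000000000000000000000000000002000000000000000000000000000000000021080000840000401004010802100021000200042008420080210802100000080210000100001084200002100021004010842000000004210042108000004010040008421000000802108400084010042000000080000000008021080210802100000000210040100000084200840108021080010000008021000000842100421084200042000420000000000000421080210802100000000010040100020084210840100021080010842100400000200840100020084210800008421084200000000000000000002000000000000000000020000200842100001080200040008401000200840008000000210000008421004000000008421000210802100000004210040100021004210840100420004010842008000000200800008001000000002008021084210000000001080210042000020000000002100000080010042008000000010000008020000000842108400004200002000001004210002000400000010042008401080200042000001000200040008020080010802000401000210840108420080210002108400004000002008021000010840100020080010802000000084010040008401000200042100400, nat_lit 0x8000000000000000000000000000000000004000000000000000000000000000000000002000000000000000000000000000000000020000000040100000004010840000020000210802000420004000000008020000210000100001084010002000420084200802000000080210042008400004000040108421000200000008020080000842100001004010002008401080200802100021080010842000000080010842100401004010002108400000210040008421084010000108020084210000008021084200802008401004200842100020084000040000400080210800008001000200800008421004210840100001000200002008000000000840000400080000840000021000200002000420084000840108420000200802008020080210040100001080200000008001080200802000420000010840100000004210040100421080200842100401000010800008021080210800000421000000002000001004000802000021080200802000000000200002100401084200040100020000000802108421084200042108401080210002108001004210800108021084010802100000084210802008401004000000108421000000802100420080010802008001004200000000000004210000108021084000042000021084000800000420080000800108021, nat_lit 0x8000000000000000000000000000000000004000000000000000000000000000000000002000000000000000000000000000000000021080000840000401004010802100021000200042008420080210802100000080210000100001084200002100021004010842000000004210042108000004010040008421000000802108400084010042000000080000000008021080210802100000000210040100000084200840108021080010000008021000000842100421084200042000420000000000000421080210802100000000010040100020084210840100021080010842100400000200840100020084210800008421084200000000000000000002000000000000000000020000200842100001080200040008401000200840008000000210000008421004000000008421000210802100000004210040100021004210840100420004010842008000000200800008001000000002008021084210000000001080210042000020000000002100000080010042008000000010000008020000000842108400004200002000001004210002000400000010042008401080200042000001000200040008020080010802000401000210840108420080210002108400004000002008021000010840100020080010802000000084010040008401000200042100400, nat_lit 0x8000000000000000000000000000000000004000000000000000000000000000000000002000000000000000000000000000000000020000000040100000004010840000020000210802000420004000000008020000210000100001084010002000420084200802000000080210042008400004000040108421000200000008020080000842100001004010002008401080200802100021080010842000000080010842100401004010002108400000210040008421084010000108020084210000008021084200802008401004200842100020084000040000400080210800008001000200800008421004210840100001000200002008000000000840000400080000840000021000200002000420084000840108420000200802008020080210040100001080200000008001080200802000420000010840100000004210040100421080200842100401000010800008021080210800000421000000002000001004000802000021080200802000000000200002100401084200040100020000000802108421084200042108401080210002108001004210800108021084010802100000084210802008401004000000108421000000802100420080010802008001004200000000000004210000108021084000042000021084000800000420080000800108021], nat_lit 38322585203679120632440487592940909569369790799355185847947010836361063465751442752596877721207428357242565287584323252782279127980962354001587732482), ([nat_lit 0x8000000000000000000000000000000000004000000000000000000000000000000000000108020084210842108001080000802000001080000002000400000000000000401000210842100420004010042108400080210000008020004000000000001080000000100000000210800000021080200840008420000200040100420004210802108420080010002100400084010842108020080200842100001084210800000021080210800000020000010802108020080010800008001000000000100400004000840008400000210000000001084200040108021000000842000401000210002000420000200800100000080010000108001000000802000020004010002100021004010040108421080200002100400000210002000421084210842108421080010000000400080210042008421004010000100000000210842100021000200000100400000210800100001084000040000020004000000000421000210840000401084000000100020004200040108400080210800000000000010840000421000200042008401004210002000000080010002000000004000800000020080200000008400084000040100021000010800100020084210002100021084010000008401080200002100001000010842000021000000840000021084210842000420, nat_lit 0x8000000000000000000000000000000000004000000000000000000000000000000000000008000000000842000400080000840000021000010840100001080210840100001000000842008420000010040000421000200000100401004210800008421004000840100020080210000100401004200842000001000210842100001084010840000001004000000000020084010800008021084210000100021084210802000020084200040008401000200840008421080010840108020080200002100421084000002008001080200042000020080210842108000084000002108400000200000008020004000040108021004210002008400084000800000021004010800100020084010042000020084200042008400000000802108421080010840000421080010002000401080210002100001004010840000000004200842000001084210802108421000200040000400084010002008021080200000008401084010042108000000000800100021084200842008420080210800008401000000802008420000210842000001004000000100020000210042100420004210042100001080200002008421004210842100000000210802100021084200000000000004010002108020000200000000021084210002100021080010040000021004010802100000, nat_lit 0x8000000000000000000000000000000000004000000000000000000000000000000000000008000000000842000400080000840000000084000840108001000010800100420000000000108021080200842000001080010000008021000200002100401080000042100021000200840008020004210840100001000010842108000084010040108420000200002100421000200042008021000000042000021000210040108420000210842000021000010002000401084210042100400000200002008401004200800100001084010840000021080210040008021000200802000000000000040100000084200042000000084010000000420084000802008000084200842000020004200842008020080210840100401000210800100401080210040000421080200002000021004210840100400084200842000000084010840008000084010840008021000000840108021000200800000000080010002100401004010042100400084010000100000084210042100400080210802000401000000042000400084210802008000000000002100421000200000008000080000842100020080210842108001000210800008401000200840008420080000040100420004000000100020084000800100401080200042100001000200040000420000010040100420, nat_lit 0x8000000000000000000000000000000000004000000000000000000000000000000000002000000000000000000000000000000000020000000040100000004010840000020000210802000420004000000008020000210000100001084010002000420084200802000000080210042008400004000040108421000200000008020080000842100001004010002008401080200802100021080010842000000080010842100401004010002108400000210040008421084010000108020084210000008021084200802008401004200842100020084000040000400080210800008001000200800008421004210840100001000200002008000000000840000400080000840000021000200002000420084000840108420000200802008020080210040100001080200000008001080200802000420000010840100000004210040100421080200842100401000010800008021080210800000421000000002000001004000802000021080200802000000000200002100401084200040100020000000802108421084200042108401080210002108001004210800108021084010802100000084210802008401004000000108421000000802100420080010802008001004200000000000004210000108021084000042000021084000800000420080000800108021], nat_lit 38322585203679120632440487592940909569369790799355185847947010836361063465753209599661656105537010735458778324962215186561394968397064596621310820355), ([nat_lit 0x8000000000000000000000000000000000004000000000000000000000000000000000000008000000000842000400080000840000021000010840100001080210840100001000000842008420000010040000421000200000100401004210800008421004000840100020080210000100401004200842000001000210842100001084010840000001004000000000020084010800008021084210000100021084210802000020084200040008401000200840008421080010840108020080200002100421084000002008001080200042000020080210842108000084000002108400000200000008020004000040108021004210002008400084000800000021004010800100020084010042000020084200042008400000000802108421080010840000421080010002000401080210002100001004010840000000004200842000001084210802108421000200040000400084010002008021080200000008401084010042108000000000800100021084200842008420080210800008401000000802008420000210842000001004000000100020000210042100420004210042100001080200002008421004210842100000000210802100021084200000000000004010002108020000200000000021084210002100021080010040000021004010802100000, nat_lit 0x8000000000000000000000000000000000004000000000000000000000000000000000000008000000000842000400080000840000000084000840108001000010800100420000000000108021080200842000001080010000008021000200002100401080000042100021000200840008020004210840100001000010842108000084010040108420000200002100421000200042008021000000042000021000210040108420000210842000021000010002000401084210042100400000200002008401004200800100001084010840000021080210040008021000200802000000000000040100000084200042000000084010000000420084000802008000084200842000020004200842008020080210840100401000210800100401080210040000421080200002000021004210840100400084200842000000084010840008000084010840008021000000840108021000200800000000080010002100401004010042100400084010000100000084210042100400080210802000401000000042000400084210802008000000000002100421000200000008000080000842100020080210842108001000210800008401000200840008420080000040100420004000000100020084000800100401080200042100001000200040000420000010040100420, nat_lit 0x8000000000000000000000000000000000004000000000000000000000000000000000002000000000000000000000000000000000020000000040100000004010840000020000210802000420004000000008020000210000100001084010002000420084200802000000080210042008400004000040108421000200000008020080000842100001004010002008401080200802100021080010842000000080010842100401004010002108400000210040008421084010000108020084210000008021084200802008401004200842100020084000040000400080210800008001000200800008421004210840100001000200002008000000000840000400080000840000021000200002000420084000840108420000200802008020080210040100001080200000008001080200802000420000010840100000004210040100421080200842100401000010800008021080210800000421000000002000001004000802000021080200802000000000200002100401084200040100020000000802108421084200042108401080210002108001004210800108021084010802100000084210802008401004000000108421000000802100420080010802008001004200000000000004210000108021084000042000021084000800000420080000800108021, nat_lit 0x8000000000000000000000000000000000004000000000000000000000000000000000000108020084210842108001080000802000001080000002000400000000000000401000210842100420004010042108400080210000008020004000000000001080000000100000000210800000021080200840008420000200040100420004210802108420080010002100400084010842108020080200842100001084210800000021080210800000020000010802108020080010800008001000000000100400004000840008400000210000000001084200040108021000000842000401000210002000420000200800100000080010000108001000000802000020004010002100021004010040108421080200002100400000210002000421084210842108421080010000000400080210042008421004010000100000000210842100021000200000100400000210800100001084000040000020004000000000421000210840000401084000000100020004200040108400080210800000000000010840000421000200042008401004210002000000080010002000000004000800000020080200000008400084000040100021000010800100020084210002100021084010000008401080200002100001000010842000021000000840000021084210842000420], nat_lit 38322585203679120632440487592940909569369790799355185847947010836361063465753209599661656105537010735458778324962215186561394968397064596621310820355), ([nat_lit 0x8000000000000000000000000000000000004000000000000000000000000000000000000008000000000842000400080000840000000084000840108001000010800100420000000000108021080200842000001080010000008021000200002100401080000042100021000200840008020004210840100001000010842108000084010040108420000200002100421000200042008021000000042000021000210040108420000210842000021000010002000401084210042100400000200002008401004200800100001084010840000021080210040008021000200802000000000000040100000084200042000000084010000000420084000802008000084200842000020004200842008020080210840100401000210800100401080210040000421080200002000021004210840100400084200842000000084010840008000084010840008021000000840108021000200800000000080010002100401004010042100400084010000100000084210042100400080210802000401000000042000400084210802008000000000002100421000200000008000080000842100020080210842108001000210800008401000200840008420080000040100420004000000100020084000800100401080200042100001000200040000420000010040100420, nat_lit 0x8000000000000000000000000000000000004000000000000000000000000000000000002000000000000000000000000000000000020000000040100000004010840000020000210802000420004000000008020000210000100001084010002000420084200802000000080210042008400004000040108421000200000008020080000842100001004010002008401080200802100021080010842000000080010842100401004010002108400000210040008421084010000108020084210000008021084200802008401004200842100020084000040000400080210800008001000200800008421004210840100001000200002008000000000840000400080000840000021000200002000420084000840108420000200802008020080210040100001080200000008001080200802000420000010840100000004210040100421080200842100401000010800008021080210800000421000000002000001004000802000021080200802000000000200002100401084200040100020000000802108421084200042108401080210002108001004210800108021084010802100000084210802008401004000000108421000000802100420080010802008001004200000000000004210000108021084000042000021084000800000420080000800108021, nat_lit 0x8000000000000000000000000000000000004000000000000000000000000000000000000108020084210842108001080000802000001080000002000400000000000000401000210842100420004010042108400080210000008020004000000000001080000000100000000210800000021080200840008420000200040100420004210802108420080010002100400084010842108020080200842100001084210800000021080210800000020000010802108020080010800008001000000000100400004000840008400000210000000001084200040108021000000842000401000210002000420000200800100000080010000108001000000802000020004010002100021004010040108421080200002100400000210002000421084210842108421080010000000400080210042008421004010000100000000210842100021000200000100400000210800100001084000040000020004000000000421000210840000401084000000100020004200040108400080210800000000000010840000421000200042008401004210002000000080010002000000004000800000020080200000008400084000040100021000010800100020084210002100021084010000008401080200002100001000010842000021000000840000021084210842000420, nat_lit 0x8000000000000000000000000000000000004000000000000000000000000000000000000008000000000842000400080000840000021000010840100001080210840100001000000842008420000010040000421000200000100401004210800008421004000840100020080210000100401004200842000001000210842100001084010840000001004000000000020084010800008021084210000100021084210802000020084200040008401000200840008421080010840108020080200002100421084000002008001080200042000020080210842108000084000002108400000200000008020004000040108021004210002008400084000800000021004010800100020084010042000020084200042008400000000802108421080010840000421080010002000401080210002100001004010840000000004200842000001084210802108421000200040000400084010002008021080200000008401084010042108000000000800100021084200842008420080210800008401000000802008420000210842000001004000000100020000210042100420004210042100001080200002008421004210842100000000210802100021084200000000000004010002108020000200000000021084210002100021080010040000021004010802100000], nat_lit 38322585203679120632440487592940909569369790799355185847947010836361063465753209599661656105537010735458778324962215186561394968397064596621310820355), ([nat_lit 0x8000000000000000000000000000000000004000000000000000000000000000000000002000000000000000000000000000000000020000000040100000004010840000020000210802000420004000000008020000210000100001084010002000420084200802000000080210042008400004000040108421000200000008020080000842100001004010002008401080200802100021080010842000000080010842100401004010002108400000210040008421084010000108020084210000008021084200802008401004200842100020084000040000400080210800008001000200800008421004210840100001000200002008000000000840000400080000840000021000200002000420084000840108420000200802008020080210040100001080200000008001080200802000420000010840100000004210040100421080200842100401000010800008021080210800000421000000002000001004000802000021080200802000000000200002100401084200040100020000000802108421084200042108401080210002108001004210800108021084010802100000084210802008401004000000108421000000802100420080010802008001004200000000000004210000108021084000042000021084000800000420080000800108021, nat_lit 0x8000000000000000000000000000000000004000000000000000000000000000000000000108020084210842108001080000802000001080000002000400000000000000401000210842100420004010042108400080210000008020004000000000001080000000100000000210800000021080200840008420000200040100420004210802108420080010002100400084010842108020080200842100001084210800000021080210800000020000010802108020080010800008001000000000100400004000840008400000210000000001084200040108021000000842000401000210002000420000200800100000080010000108001000000802000020004010002100021004010040108421080200002100400000210002000421084210842108421080010000000400080210042008421004010000100000000210842100021000200000100400000210800100001084000040000020004000000000421000210840000401084000000100020004200040108400080210800000000000010840000421000200042008401004210002000000080010002000000004000800000020080200000008400084000040100021000010800100020084210002100021084010000008401080200002100001000010842000021000000840000021084210842000420, nat_lit 0x8000000000000000000000000000000000004000000000000000000000000000000000000008000000000842000400080000840000021000010840100001080210840100001000000842008420000010040000421000200000100401004210800008421004000840100020080210000100401004200842000001000210842100001084010840000001004000000000020084010800008021084210000100021084210802000020084200040008401000200840008421080010840108020080200002100421084000002008001080200042000020080210842108000084000002108400000200000008020004000040108021004210002008400084000800000021004010800100020084010042000020084200042008400000000802108421080010840000421080010002000401080210002100001004010840000000004200842000001084210802108421000200040000400084010002008021080200000008401084010042108000000000800100021084200842008420080210800008401000000802008420000210842000001004000000100020000210042100420004210042100001080200002008421004210842100000000210802100021084200000000000004010002108020000200000000021084210002100021080010040000021004010802100000, nat_lit 0x8000000000000000000000000000000000004000000000000000000000000000000000000008000000000842000400080000840000000084000840108001000010800100420000000000108021080200842000001080010000008021000200002100401080000042100021000200840008020004210840100001000010842108000084010040108420000200002100421000200042008021000000042000021000210040108420000210842000021000010002000401084210042100400000200002008401004200800100001084010840000021080210040008021000200802000000000000040100000084200042000000084010000000420084000802008000084200842000020004200842008020080210840100401000210800100401080210040000421080200002000021004210840100400084200842000000084010840008000084010840008021000000840108021000200800000000080010002100401004010042100400084010000100000084210042100400080210802000401000000042000400084210802008000000000002100421000200000008000080000842100020080210842108001000210800008401000200840008420080000040100420004000000100020084000800100401080200042100001000200040000420000010040100420], nat_lit 38322585203679120632440487592940909569369790799355185847947010836361063465753209599661656105537010735458778324962215186561394968397064596621310820355), ([nat_lit 0x8000000000000000000000000000000000004000000000000000000000000000000000000008000000000842000400080000840000000084000840108001000010800100420000000000108021080200842000001080010000008021000200002100401080000042100021000200840008020004210840100001000010842108000084010040108420000200002100421000200042008021000000042000021000210040108420000210842000021000010002000401084210042100400000200002008401004200800100001084010840000021080210040008021000200802000000000000040100000084200042000000084010000000420084000802008000084200842000020004200842008020080210840100401000210800100401080210040000421080200002000021004210840100400084200842000000084010840008000084010840008021000000840108021000200800000000080010002100401004010042100400084010000100000084210042100400080210802000401000000042000400084210802008000000000002100421000200000008000080000842100020080210842108001000210800008401000200840008420080000040100420004000000100020084000800100401080200042100001000200040000420000010040100420, nat_lit 0x8000000000000000000000000000000000004000000000000000000000000000000000000008000000000842000400080000840000021000010840100001080210840100001000210800008401080210042108420084000000008400000000042100401080200042100020000200002108401080000040100400000010842008420084000042108001004010002108000000000800008021004200042000000084200802008400004210842100001000010802008020004210800008421004000000100400080200000100021004210800100000080210002008421084010800000400000000802008000080210042100001084010000000400084000042000421084010040100000080000002100021004000842108000000210800100020004210800000420000200002108401084200802000001080000842100001004210842100400004210000108001000210802100400004000842008000080210002000001080000842008400004210800000021004200800000400080010840000001000010042008001000200800108420000000002008400000000002100001004200040100000004000842100421000000000100000000000040100020080200042100400004210000008021000200842008020004000842100021000210800108021004200842100020, nat_lit 0x8000000000000000000000000000000000004000000000000000000000000000000000000008000000000842000400080000840000000080000800008001000000842100420000010042000400000000000008021080000000100421084000800108400084010842100000000200000108020084200040000401000200800008001000200802000401000210002000000084000802000020084010840100021000200840108021080200800000000000010842000000084000840008021080010002000001004200000108001080210002000020000010000108001000200000008021000210840108001000210802108001084010002008400084000800000021004010800100020000210840108000084010000000001000000840108401004010802000000084010002000021080210000000020004210002000020000200042108420084200002100000000210002108021000210002108400004200002008001080200042000000004010802100000084000840108020004200000108001000210800000400004210040100401000200000000001080010802000420004010842000000080200842008421004200800108020000010840000000004010000000400000010000108421000010802008021080010800100021000010040100021004210002008021, nat_lit 0x8000000000000000000000000000000000004000000000000000000000000000000000002000000000000000000000000000000000020000000040100000004010840000020000000802108421080010842000021004210000008401080210800000000000000040000000084200840008020084210002000021000200800100420084000000100401000200002000421080200040000001004200040000000080200042108020084210000100001000200800008421000210000108000000010002100020084010000100001000010040100021084210040008021004000040000021000210842000001080200842100021004000000000000000000002000000000000000000020004010840008401004000800100001000200002000000084010042108421004000000008400080200040008021000000002100001080010042000021084010842000421000210842108420080210040008001000200002000021004210000000400080010042000000084200042008400080200002000021000200002108021004000040108400004210000000421000210002008021000010002100001004200042000001080010800008401000200800108420000000802008401000200000100420084210800008421000200000000020004010042100001004000040000021], nat_lit 38322585203679120632440487592940909569369790799355185847947010836361063466862789556342481464515321565925331152901875073799283674097433291033076039681), ([nat_lit 0x8000000000000000000000000000000000004000000000000000000000000000000000000008000000000842000400080000840000021000010840100001080210840100001000210800008401080210042108420084000000008400000000042100401080200042100020000200002108401080000040100400000010842008420084000042108001004010002108000000000800008021004200042000000084200802008400004210842100001000010802008020004210800008421004000000100400080200000100021004210800100000080210002008421084010800000400000000802008000080210042100001084010000000400084000042000421084010040100000080000002100021004000842108000000210800100020004210800000420000200002108401084200802000001080000842100001004210842100400004210000108001000210802100400004000842008000080210002000001080000842008400004210800000021004200800000400080010840000001000010042008001000200800108420000000002008400000000002100001004200040100000004000842100421000000000100000000000040100020080200042100400004210000008021000200842008020004000842100021000210800108021004200842100020, nat_lit 0x8000000000000000000000000000000000004000000000000000000000000000000000000008000000000842000400080000840000000080000800008001000000842100420000010042000400000000000008021080000000100421084000800108400084010842100000000200000108020084200040000401000200800008001000200802000401000210002000000084000802000020084010840100021000200840108021080200800000000000010842000000084000840008021080010002000001004200000108001080210002000020000010000108001000200000008021000210840108001000210802108001084010002008400084000800000021004010800100020000210840108000084010000000001000000840108401004010802000000084010002000021080210000000020004210002000020000200042108420084200002100000000210002108021000210002108400004200002008001080200042000000004010802100000084000840108020004200000108001000210800000400004210040100401000200000000001080010802000420004010842000000080200842008421004200800108020000010840000000004010000000400000010000108421000010802008021080010800100021000010040100021004210002008021, nat_lit 0x8000000000000000000000000000000000004000000000000000000000000000000000002000000000000000000000000000000000020000000040100000004010840000020000000802108421080010842000021004210000008401080210800000000000000040000000084200840008020084210002000021000200800100420084000000100401000200002000421080200040000001004200040000000080200042108020084210000100001000200800008421000210000108000000010002100020084010000100001000010040100021084210040008021004000040000021000210842000001080200842100021004000000000000000000002000000000000000000020004010840008401004000800100001000200002000000084010042108421004000000008400080200040008021000000002100001080010042000021084010842000421000210842108420080210040008001000200002000021004210000000400080010042000000084200042008400080200002000021000200002108021004000040108400004210000000421000210002008021000010002100001004200042000001080010800008401000200800108420000000802008401000200000100420084210800008421000200000000020004010042100001004000040000021, nat_lit 0x8000000000000000000000000000000000004000000000000000000000000000000000000008000000000842000400080000840000000084000840108001000010800100420000000000108021080200842000001080010000008021000200002100401080000042100021000200840008020004210840100001000010842108000084010040108420000200002100421000200042008021000000042000021000210040108420000210842000021000010002000401084210042100400000200002008401004200800100001084010840000021080210040008021000200802000000000000040100000084200042000000084010000000420084000802008000084200842000020004200842008020080210840100401000210800100401080210040000421080200002000021004210840100400084200842000000084010840008000084010840008021000000840108021000200800000000080010002100401004010042100400084010000100000084210042100400080210802000401000000042000400084210802008000000000002100421000200000008000080000842100020080210842108001000210800008401000200840008420080000040100420004000000100020084000800100401080200042100001000200040000420000010040100420], nat_lit 38322585203679120632440487592940909569369790799355185847947010836361063466862789556342481464515321565925331152901875073799283674097433291033076039681), ([nat_lit 0x8000000000000000000000000000000000004000000000000000000000000000000000000008000000000842000400080000840000000080000800008001000000842100420000010042000400000000000008021080000000100421084000800108400084010842100000000200000108020084200040000401000200800008001000200802000401000210002000000084000802000020084010840100021000200840108021080200800000000000010842000000084000840008021080010002000001004200000108001080210002000020000010000108001000200000008021000210840108001000210802108001084010002008400084000800000021004010800100020000210840108000084010000000001000000840108401004010802000000084010002000021080210000000020004210002000020000200042108420084200002100000000210002108021000210002108400004200002008001080200042000000004010802100000084000840108020004200000108001000210800000400004210040100401000200000000001080010802000420004010842000000080200842008421004200800108020000010840000000004010000000400000010000108421000010802008021080010800100021000010040100021004210002008021, nat_lit 0x8000000000000000000000000000000000004000000000000000000000000000000000002000000000000000000000000000000000020000000040100000004010840000020000000802108421080010842000021004210000008401080210800000000000000040000000084200840008020084210002000021000200800100420084000000100401000200002000421080200040000001004200040000000080200042108020084210000100001000200800008421000210000108000000010002100020084010000100001000010040100021084210040008021004000040000021000210842000001080200842100021004000000000000000000002000000000000000000020004010840008401004000800100001000200002000000084010042108421004000000008400080200040008021000000002100001080010042000021084010842000421000210842108420080210040008001000200002000021004210000000400080010042000000084200042008400080200002000021000200002108021004000040108400004210000000421000210002008021000010002100001004200042000001080010800008401000200800108420000000802008401000200000100420084210800008421000200000000020004010042100001004000040000021, nat_lit 0x8000000000000000000000000000000000004000000000000000000000000000000000000008000000000842000400080000840000000084000840108001000010800100420000000000108021080200842000001080010000008021000200002100401080000042100021000200840008020004210840100001000010842108000084010040108420000200002100421000200042008021000000042000021000210040108420000210842000021000010002000401084210042100400000200002008401004200800100001084010840000021080210040008021000200802000000000000040100000084200042000000084010000000420084000802008000084200842000020004200842008020080210840100401000210800100401080210040000421080200002000021004210840100400084200842000000084010840008000084010840008021000000840108021000200800000000080010002100401004010042100400084010000100000084210042100400080210802000401000000042000400084210802008000000000002100421000200000008000080000842100020080210842108001000210800008401000200840008420080000040100420004000000100020084000800100401080200042100001000200040000420000010040100420, nat_lit 0x8000000000000000000000000000000000004000000000000000000000000000000000000008000000000842000400080000840000021000010840100001080210840100001000210800008401080210042108420084000000008400000000042100401080200042100020000200002108401080000040100400000010842008420084000042108001004010002108000000000800008021004200042000000084200802008400004210842100001000010802008020004210800008421004000000100400080200000100021004210800100000080210002008421084010800000400000000802008000080210042100001084010000000400084000042000421084010040100000080000002100021004000842108000000210800100020004210800000420000200002108401084200802000001080000842100001004210842100400004210000108001000210802100400004000842008000080210002000001080000842008400004210800000021004200800000400080010840000001000010042008001000200800108420000000002008400000000002100001004200040100000004000842100421000000000100000000000040100020080200042100400004210000008021000200842008020004000842100021000210800108021004200842100020], nat_lit 38322585203679120632440487592940909569369790799355185847947010836361063466862789556342481464515321565925331152901875073799283674097433291033076039681), ([nat_lit 0x8000000000000000000000000000000000004000000000000000000000000000000000002000000000000000000000000000000000020000000040100000004010840000020000000802108421080010842000021004210000008401080210800000000000000040000000084200840008020084210002000021000200800100420084000000100401000200002000421080200040000001004200040000000080200042108020084210000100001000200800008421000210000108000000010002100020084010000100001000010040100021084210040008021004000040000021000210842000001080200842100021004000000000000000000002000000000000000000020004010840008401004000800100001000200002000000084010042108421004000000008400080200040008021000000002100001080010042000021084010842000421000210842108420080210040008001000200002000021004210000000400080010042000000084200042008400080200002000021000200002108021004000040108400004210000000421000210002008021000010002100001004200042000001080010800008401000200800108420000000802008401000200000100420084210800008421000200000000020004010042100001004000040000021, nat_lit 0x8000000000000000000000000000000000004000000000000000000000000000000000000008000000000842000400080000840000000084000840108001000010800100420000000000108021080200842000001080010000008021000200002100401080000042100021000200840008020004210840100001000010842108000084010040108420000200002100421000200042008021000000042000021000210040108420000210842000021000010002000401084210042100400000200002008401004200800100001084010840000021080210040008021000200802000000000000040100000084200042000000084010000000420084000802008000084200842000020004200842008020080210840100401000210800100401080210040000421080200002000021004210840100400084200842000000084010840008000084010840008021000000840108021000200800000000080010002100401004010042100400084010000100000084210042100400080210802000401000000042000400084210802008000000000002100421000200000008000080000842100020080210842108001000210800008401000200840008420080000040100420004000000100020084000800100401080200042100001000200040000420000010040100420, nat_lit 0x8000000000000000000000000000000000004000000000000000000000000000000000000008000000000842000400080000840000021000010840100001080210840100001000210800008401080210042108420084000000008400000000042100401080200042100020000200002108401080000040100400000010842008420084000042108001004010002108000000000800008021004200042000000084200802008400004210842100001000010802008020004210800008421004000000100400080200000100021004210800100000080210002008421084010800000400000000802008000080210042100001084010000000400084000042000421084010040100000080000002100021004000842108000000210800100020004210800000420000200002108401084200802000001080000842100001004210842100400004210000108001000210802100400004000842008000080210002000001080000842008400004210800000021004200800000400080010840000001000010042008001000200800108420000000002008400000000002100001004200040100000004000842100421000000000100000000000040100020080200042100400004210000008021000200842008020004000842100021000210800108021004200842100020, nat_lit 0x8000000000000000000000000000000000004000000000000000000000000000000000000008000000000842000400080000840000000080000800008001000000842100420000010042000400000000000008021080000000100421084000800108400084010842100000000200000108020084200040000401000200800008001000200802000401000210002000000084000802000020084010840100021000200840108021080200800000000000010842000000084000840008021080010002000001004200000108001080210002000020000010000108001000200000008021000210840108001000210802108001084010002008400084000800000021004010800100020000210840108000084010000000001000000840108401004010802000000084010002000021080210000000020004210002000020000200042108420084200002100000000210002108021000210002108400004200002008001080200042000000004010802100000084000840108020004200000108001000210800000400004210040100401000200000000001080010802000420004010842000000080200842008421004200800108020000010840000000004010000000400000010000108421000010802008021080010800100021000010040100021004210002008021], nat_lit 38322585203679120632440487592940909569369790799355185847947010836361063466862789556342481464515321565925331152901875073799283674097433291033076039681), ([nat_lit 0x8000000000000000000000000000000000004000000000000000000000000000000000002000000000000000000000000000000000020004000840108400000010840000000000210042000421084010842100401004000002008001004200802100400080210842000020080010842000401004200002008401000200802000020084210040100400004200002108001084010800108021080210800000020004010840108421000210842008420000010800100421004200800008000080210000000000004210000108421004010802000000004010040108000000200800108021000010002000400080010002108000000010002108020084210840108001080000802000021000010840108020000000042008421000010002108021000010800008021080000002108020084010802000400000010800100020004200840008401000010840000021000200000108421000010042108021004210002100000000000802000000084210840000020080000002000421084200800000000000210802100420000210000008021084210002108020000210000008401000010842100020084000042008420080000840108420000010040100020000010842100421000210000100420080200800000001004200042000000084210842100020084200002008421, nat_lit 0x8000000000000000000000000000000000004000000000000000000000000000000000002000000000000000000000000000000000020004000840108400000010840000000000210042000421084010842100401004000002008001004200802100400080210842000020080010842000401004200002008401000200802000020084210040100400004200002108001084010800108021080210800000020004010840108421000210842008420000010800100421004200800008000080210000000000004210000108421004010802000000004010040108000000200800108021000010002000400080010002108000000010002108020084210840108001080000802000021000010840108020000000042008421000010002108021000010800008021080000002108020084010802000400000010800100020004200840008401000010840000021000200000108421000010042108021004210002100000000000802000000084210840000020080000002000421084200800000000000210802100420000210000008021084210002108020000210000008401000010842100020084000042008420080000840108420000010040100020000010842100421000210000100420080200800000001004200042000000084210842100020084200002008421, nat_lit 0x8000000000000000000000000000000000004000000000000000000000000000000000002000000000000000000000000000000000020004000840108400000010840000000000210842108421084010000000021000000000108401004000800000401004210040100000004200802008401000010802000421000000000100420080000040008001004200002100421004000840100000000200000100020080200842008401004010800100000000210040100401004000000100000004000000108421000010000108420004200000000000004000802108001000000840100021000010042000000000010802000421004000000000000000000002000000000000000000001000000002100400084200040100000000000040100401000010042008420004200000108001080000840100400004000042100020084200800100001000200802100400000010842008401080010040100401004010000100400004210040008020000000040000001084000002108401000000002100001000200802100421084010040100000000200000008000080010800008020080210040000021004210000000401084200800108421000010842108021004010842008400004210000008020084200000100000084010042100020004000800008400000000800000401], nat_lit 38322585203679120632440487592940909569372139341937959681174900316957852802778818435145786041078134728929567615471502311107983048437327759123050135555), ([nat_lit 0x8000000000000000000000000000000000004000000000000000000000000000000000002000000000000000000000000000000000020000000040100000004010840000020000000840000401004010842108020000200002100400084010040100401004010002000000080200002100000004000000100000000010840008000004010040000401004010000100001084210000000401084010042000020000210802000401000010802100020000000802108001000000000000020004010000000421084010000108421000000000100021084010840000401084200802000421000210040008020004000000000021000210000000000000000002000000000000000000001000200840008001080210040100020000210000108420080010042008020004210002008001080010800008021000210000100001004010002000401004200842000400000010002108421080010040008021000210002008021080200840100400080000042000000000000042000400000000800100420000010042000401084010000008400000000000100401080000040000001000210000100020004000000000400004000842108021000200802100000080010842008421004200002100400084000840108021000010040100000084000842000000004000042000001, nat_lit 0x8000000000000000000000000000000000004000000000000000000000000000000000002000000000000000000000000000000000020000000040100000004010840000020000000840000401004010842108020000200002100400084010040100401004010002000000080200002100000004000000100000000010840008000004010040000401004010000100001084210000000401084010042000020000210802000401000010802100020000000802108001000000000000020004010000000421084010000108421000000000100021084010840000401084200802000421000210040008020004000000000021000210000000000000000002000000000000000000001000200840008001080210040100020000210000108420080010042008020004210002008001080010800008021000210000100001004010002000401004200842000400000010002108421080010040008021000210002008021080200840100400080000042000000000000042000400000000800100420000010042000401084010000008400000000000100401080000040000001000210000100020004000000000400004000842108021000200802100000080010842008421004200002100400084000840108021000010040100000084000842000000004000042000001, nat_lit 0x8000000000000000000000000000000000004000000000000000000000000000000000002000000000000000000000000000000000020000000040100000004010840000020000210842008021004010802108401000010000000421084010842108420000210842100001084200000108000080000800008401000200002000000080210802100401000000000008000000010000008421084010802000021080200040008420004200842008000000010842108400004200840000420084010000008401004210800000000084200842000000004200842008401004200042008000000200040100020000010042000021000200002108020084210840108001080000802000020000200840100421084200842008421000000800108020000000840100021080210000108421000000042000401080210802000000080200000008401004000000000420000200800100400004010002108021004210002000000084010002108020000200840000020000200802000021084200002000020000010002000020004210802100001080010000108400004000800008400080200840000000000210002000420000210000008021000210002100421080010802000001000000000000020000010040008020000210000100020000210802000021084200802108401], nat_lit 38322585203679120632440487592940909570847024083919926948289494131741556455970747075860210919882313459051794883243476413603186019422962504627105300480), ([nat_lit 0x8000000000000000000000000000000000004000000000000000000000000000000000002000000000000000000000000000000000020000000040100000004010840000020000210842008021004010802108401000010000000421084010842108420000210842100001084200000108000080000800008401000200002000000080210802100401000000000008000000010000008421084010802000021080200040008420004200842008000000010842108400004200840000420084010000008401004210800000000084200842000000004200842008401004200042008000000200040100020000010042000021000200002108020084210840108001080000802000020000200840100421084200842008421000000800108020000000840100021080210000108421000000042000401080210802000000080200000008401004000000000420000200800100400004010002108021004210002000000084010002108020000200840000020000200802000021084200002000020000010002000020004210802100001080010000108400004000800008400080200840000000000210002000420000210000008021000210002100421080010802000001000000000000020000010040008020000210000100020000210802000021084200802108401, nat_lit 0x8000000000000000000000000000000000004000000000000000000000000000000000002000000000000000000000000000000000020004000840108400000010840000000000210842108421084010000000021000000000108401004000800000401004210040100000004200802008401000010802000421000000000100420080000040008001004200002100421004000840100000000200000100020080200842008401004010800100000000210040100401004000000100000004000000108421000010000108420004200000000000004000802108001000000840100021000010042000000000010802000421004000000000000000000002000000000000000000001000000002100400084200040100000000000040100401000010042008420004200000108001080000840100400004000042100020084200800100001000200802100400000010842008401080010040100401004010000100400004210040008020000000040000001084000002108401000000002100001000200802100421084010040100000000200000008000080010800008020080210040000021004210000000401084200800108421000010842108021004010842008400004210000008020084200000100000084010042100020004000800008400000000800000401, nat_lit 0x8000000000000000000000000000000000004000000000000000000000000000000000002000000000000000000000000000000000020000000040100000004010840000020000210842008021004010802108401000010000000421084010842108420000210842100001084200000108000080000800008401000200002000000080210802100401000000000008000000010000008421084010802000021080200040008420004200842008000000010842108400004200840000420084010000008401004210800000000084200842000000004200842008401004200042008000000200040100020000010042000021000200002108020084210840108001080000802000020000200840100421084200842008421000000800108020000000840100021080210000108421000000042000401080210802000000080200000008401004000000000420000200800100400004010002108021004210002000000084010002108020000200840000020000200802000021084200002000020000010002000020004210802100001080010000108400004000800008400080200840000000000210002000420000210000008021000210002100421080010802000001000000000000020000010040008020000210000100020000210802000021084200802108401, nat_lit 0x8000000000000000000000000000000000004000000000000000000000000000000000002000000000000000000000000000000000020004000840108400000010840000000000210842108421084010000000021000000000108401004000800000401004210040100000004200802008401000010802000421000000000100420080000040008001004200002100421004000840100000000200000100020080200842008401004010800100000000210040100401004000000100000004000000108421000010000108420004200000000000004000802108001000000840100021000010042000000000010802000421004000000000000000000002000000000000000000001000000002100400084200040100000000000040100401000010042008420004200000108001080000840100400004000042100020084200800100001000200802100400000010842008401080010040100401004010000100400004210040008020000000040000001084000002108401000000002100001000200802100421084010040100000000200000008000080010800008020080210040000021004210000000401084200800108421000010842108021004010842008400004210000008020084200000100000084010042100020004000800008400000000800000401, nat_lit 0x8000000000000000000000000000000000004000000000000000000000000000000000002000000000000000000000000000000000020000000040100000004010840000020000210842008021004010802108401000010000000421084010842108420000210842100001084200000108000080000800008401000200002000000080210802100401000000000008000000010000008421084010802000021080200040008420004200842008000000010842108400004200840000420084010000008401004210800000000084200842000000004200842008401004200042008000000200040100020000010042000021000200002108020084210840108001080000802000020000200840100421084200842008421000000800108020000000840100021080210000108421000000042000401080210802000000080200000008401004000000000420000200800100400004010002108021004210002000000084010002108020000200840000020000200802000021084200002000020000010002000020004210802100001080010000108400004000800008400080200840000000000210002000420000210000008021000210002100421080010802000001000000000000020000010040008020000210000100020000210802000021084200802108401, nat_lit 0x8000000000000000000000000000000000004000000000000000000000000000000000002000000000000000000000000000000000020004000840108400000010840000000000210842108421084010000000021000000000108401004000800000401004210040100000004200802008401000010802000421000000000100420080000040008001004200002100421004000840100000000200000100020080200842008401004010800100000000210040100401004000000100000004000000108421000010000108420004200000000000004000802108001000000840100021000010042000000000010802000421004000000000000000000002000000000000000000001000000002100400084200040100000000000040100401000010042008420004200000108001080000840100400004000042100020084200800100001000200802100400000010842008401080010040100401004010000100400004210040008020000000040000001084000002108401000000002100001000200802100421084010040100000000200000008000080010800008020080210040000021004210000000401084200800108421000010842108021004010842008400004210000008020084200000100000084010042100020004000800008400000000800000401, nat_lit 0x8000000000000000000000000000000000004000000000000000000000000000000000002000000000000000000000000000000000020000000040100000004010840000020000210842008021004010802108401000010000000421084010842108420000210842100001084200000108000080000800008401000200002000000080210802100401000000000008000000010000008421084010802000021080200040008420004200842008000000010842108400004200840000420084010000008401004210800000000084200842000000004200842008401004200042008000000200040100020000010042000021000200002108020084210840108001080000802000020000200840100421084200842008421000000800108020000000840100021080210000108421000000042000401080210802000000080200000008401004000000000420000200800100400004010002108021004210002000000084010002108020000200840000020000200802000021084200002000020000010002000020004210802100001080010000108400004000800008400080200840000000000210002000420000210000008021000210002100421080010802000001000000000000020000010040008020000210000100020000210802000021084200802108401, nat_lit 0x8000000000000000000000000000000000004000000000000000000000000000000000002000000000000000000000000000000000020004000840108400000010840000000000210042000421084010842100401004000002008001004200802100400080210842000020080010842000401004200002008401000200802000020084210040100400004200002108001084010800108021080210800000020004010840108421000210842008420000010800100421004200800008000080210000000000004210000108421004010802000000004010040108000000200800108021000010002000400080010002108000000010002108020084210840108001080000802000021000010840108020000000042008421000010002108021000010800008021080000002108020084010802000400000010800100020004200840008401000010840000021000200000108421000010042108021004210002100000000000802000000084210840000020080000002000421084200800000000000210802100420000210000008021084210002108020000210000008401000010842100020084000042008420080000840108420000010040100020000010842100421000210000100420080200800000001004200042000000084210842100020084200002008421], nat_lit 38322585203679120632440487595523159447456699389011105019950022710690769258580666265427537077748075059974876601076033055944657180874846162392765693956), ([nat_lit 0x8000000000000000000000000000000000004000000000000000000000000000000000002000000000000000000000000000000000020004000840108400000010840000000000210842108421084010000000021000000000108401004000800000401004210040100000004200802008401000010802000421000000000100420080000040008001004200002100421004000840100000000200000100020080200842008401004010800100000000210040100401004000000100000004000000108421000010000108420004200000000000004000802108001000000840100021000010042000000000010802000421004000000000000000000002000000000000000000001000000002100400084200040100000000000040100401000010042008420004200000108001080000840100400004000042100020084200800100001000200802100400000010842008401080010040100401004010000100400004210040008020000000040000001084000002108401000000002100001000200802100421084010040100000000200000008000080010800008020080210040000021004210000000401084200800108421000010842108021004010842008400004210000008020084200000100000084010042100020004000800008400000000800000401, nat_lit 0x8000000000000000000000000000000000004000000000000000000000000000000000002000000000000000000000000000000000020000000040100000004010840000020000210842008021004010802108401000010000000421084010842108420000210842100001084200000108000080000800008401000200002000000080210802100401000000000008000000010000008421084010802000021080200040008420004200842008000000010842108400004200840000420084010000008401004210800000000084200842000000004200842008401004200042008000000200040100020000010042000021000200002108020084210840108001080000802000020000200840100421084200842008421000000800108020000000840100021080210000108421000000042000401080210802000000080200000008401004000000000420000200800100400004010002108021004210002000000084010002108020000200840000020000200802000021084200002000020000010002000020004210802100001080010000108400004000800008400080200840000000000210002000420000210000008021000210002100421080010802000001000000000000020000010040008020000210000100020000210802000021084200802108401, nat_lit 0x8000000000000000000000000000000000004000000000000000000000000000000000002000000000000000000000000000000000020004000840108400000010840000000000210842108421084010000000021000000000108401004000800000401004210040100000004200802008401000010802000421000000000100420080000040008001004200002100421004000840100000000200000100020080200842008401004010800100000000210040100401004000000100000004000000108421000010000108420004200000000000004000802108001000000840100021000010042000000000010802000421004000000000000000000002000000000000000000001000000002100400084200040100000000000040100401000010042008420004200000108001080000840100400004000042100020084200800100001000200802100400000010842008401080010040100401004010000100400004210040008020000000040000001084000002108401000000002100001000200802100421084010040100000000200000008000080010800008020080210040000021004210000000401084200800108421000010842108021004010842008400004210000008020084200000100000084010042100020004000800008400000000800000401, nat_lit 0x8000000000000000000000000000000000004000000000000000000000000000000000002000000000000000000000000000000000020000000040100000004010840000020000210842008021004010802108401000010000000421084010842108420000210842100001084200000108000080000800008401000200002000000080210802100401000000000008000000010000008421084010802000021080200040008420004200842008000000010842108400004200840000420084010000008401004210800000000084200842000000004200842008401004200042008000000200040100020000010042000021000200002108020084210840108001080000802000020000200840100421084200842008421000000800108020000000840100021080210000108421000000042000401080210802000000080200000008401004000000000420000200800100400004010002108021004210002000000084010002108020000200840000020000200802000021084200002000020000010002000020004210802100001080010000108400004000800008400080200840000000000210002000420000210000008021000210002100421080010802000001000000000000020000010040008020000210000100020000210802000021084200802108401, nat_lit 0x8000000000000000000000000000000000004000000000000000000000000000000000002000000000000000000000000000000000020004000840108400000010840000000000210842108421084010000000021000000000108401004000800000401004210040100000004200802008401000010802000421000000000100420080000040008001004200002100421004000840100000000200000100020080200842008401004010800100000000210040100401004000000100000004000000108421000010000108420004200000000000004000802108001000000840100021000010042000000000010802000421004000000000000000000002000000000000000000001000000002100400084200040100000000000040100401000010042008420004200000108001080000840100400004000042100020084200800100001000200802100400000010842008401080010040100401004010000100400004210040008020000000040000001084000002108401000000002100001000200802100421084010040100000000200000008000080010800008020080210040000021004210000000401084200800108421000010842108021004010842008400004210000008020084200000100000084010042100020004000800008400000000800000401, nat_lit 0x8000000000000000000000000000000000004000000000000000000000000000000000002000000000000000000000000000000000020000000040100000004010840000020000210842008021004010802108401000010000000421084010842108420000210842100001084200000108000080000800008401000200002000000080210802100401000000000008000000010000008421084010802000021080200040008420004200842008000000010842108400004200840000420084010000008401004210800000000084200842000000004200842008401004200042008000000200040100020000010042000021000200002108020084210840108001080000802000020000200840100421084200842008421000000800108020000000840100021080210000108421000000042000401080210802000000080200000008401004000000000420000200800100400004010002108021004210002000000084010002108020000200840000020000200802000021084200002000020000010002000020004210802100001080010000108400004000800008400080200840000000000210002000420000210000008021000210002100421080010802000001000000000000020000010040008020000210000100020000210802000021084200802108401, nat_lit 0x8000000000000000000000000000000000004000000000000000000000000000000000002000000000000000000000000000000000020004000840108400000010840000000000210042000421084010842100401004000002008001004200802100400080210842000020080010842000401004200002008401000200802000020084210040100400004200002108001084010800108021080210800000020004010840108421000210842008420000010800100421004200800008000080210000000000004210000108421004010802000000004010040108000000200800108021000010002000400080010002108000000010002108020084210840108001080000802000021000010840108020000000042008421000010002108021000010800008021080000002108020084010802000400000010800100020004200840008401000010840000021000200000108421000010042108021004210002100000000000802000000084210840000020080000002000421084200800000000000210802100420000210000008021084210002108020000210000008401000010842100020084000042008420080000840108420000010040100020000010842100421000210000100420080200800000001004200042000000084210842100020084200002008421, nat_lit 0x8000000000000000000000000000000000004000000000000000000000000000000000002000000000000000000000000000000000020000000040100000004010840000020000210842008021004010802108401000010000000421084010842108420000210842100001084200000108000080000800008401000200002000000080210802100401000000000008000000010000008421084010802000021080200040008420004200842008000000010842108400004200840000420084010000008401004210800000000084200842000000004200842008401004200042008000000200040100020000010042000021000200002108020084210840108001080000802000020000200840100421084200842008421000000800108020000000840100021080210000108421000000042000401080210802000000080200000008401004000000000420000200800100400004010002108021004210002000000084010002108020000200840000020000200802000021084200002000020000010002000020004210802100001080010000108400004000800008400080200840000000000210002000420000210000008021000210002100421080010802000001000000000000020000010040008020000210000100020000210802000021084200802108401], nat_lit 38322585203679120632440487595523159447456699389011105019950022710690769258580666265427537077748075059974876601076033055944657180874846162392765693956), ([nat_lit 0x8000000000000000000000000000000000004000000000000000000000000000000000002000000000000000000000000000000000020000000040100000004010840000020000210842008021004010802108401000010000000421084010842108420000210842100001084200000108000080000800008401000200002000000080210802100401000000000008000000010000008421084010802000021080200040008420004200842008000000010842108400004200840000420084010000008401004210800000000084200842000000004200842008401004200042008000000200040100020000010042000021000200002108020084210840108001080000802000020000200840100421084200842008421000000800108020000000840100021080210000108421000000042000401080210802000000080200000008401004000000000420000200800100400004010002108021004210002000000084010002108020000200840000020000200802000021084200002000020000010002000020004210802100001080010000108400004000800008400080200840000000000210002000420000210000008021000210002100421080010802000001000000000000020000010040008020000210000100020000210802000021084200802108401, nat_lit 0x8000000000000000000000000000000000004000000000000000000000000000000000002000000000000000000000000000000000020004000840108400000010840000000000210842108421084010000000021000000000108401004000800000401004210040100000004200802008401000010802000421000000000100420080000040008001004200002100421004000840100000000200000100020080200842008401004010800100000000210040100401004000000100000004000000108421000010000108420004200000000000004000802108001000000840100021000010042000000000010802000421004000000000000000000002000000000000000000001000000002100400084200040100000000000040100401000010042008420004200000108001080000840100400004000042100020084200800100001000200802100400000010842008401080010040100401004010000100400004210040008020000000040000001084000002108401000000002100001000200802100421084010040100000000200000008000080010800008020080210040000021004210000000401084200800108421000010842108021004010842008400004210000008020084200000100000084010042100020004000800008400000000800000401, nat_lit 0x8000000000000000000000000000000000004000000000000000000000000000000000002000000000000000000000000000000000020000000040100000004010840000020000210842008021004010802108401000010000000421084010842108420000210842100001084200000108000080000800008401000200002000000080210802100401000000000008000000010000008421084010802000021080200040008420004200842008000000010842108400004200840000420084010000008401004210800000000084200842000000004200842008401004200042008000000200040100020000010042000021000200002108020084210840108001080000802000020000200840100421084200842008421000000800108020000000840100021080210000108421000000042000401080210802000000080200000008401004000000000420000200800100400004010002108021004210002000000084010002108020000200840000020000200802000021084200002000020000010002000020004210802100001080010000108400004000800008400080200840000000000210002000420000210000008021000210002100421080010802000001000000000000020000010040008020000210000100020000210802000021084200802108401, nat_lit 0x8000000000000000000000000000000000004000000000000000000000000000000000002000000000000000000000000000000000020004000840108400000010840000000000210842108421084010000000021000000000108401004000800000401004210040100000004200802008401000010802000421000000000100420080000040008001004200002100421004000840100000000200000100020080200842008401004010800100000000210040100401004000000100000004000000108421000010000108420004200000000000004000802108001000000840100021000010042000000000010802000421004000000000000000000002000000000000000000001000000002100400084200040100000000000040100401000010042008420004200000108001080000840100400004000042100020084200800100001000200802100400000010842008401080010040100401004010000100400004210040008020000000040000001084000002108401000000002100001000200802100421084010040100000000200000008000080010800008020080210040000021004210000000401084200800108421000010842108021004010842008400004210000008020084200000100000084010042100020004000800008400000000800000401, nat_lit 0x8000000000000000000000000000000000004000000000000000000000000000000000002000000000000000000000000000000000020000000040100000004010840000020000210842008021004010802108401000010000000421084010842108420000210842100001084200000108000080000800008401000200002000000080210802100401000000000008000000010000008421084010802000021080200040008420004200842008000000010842108400004200840000420084010000008401004210800000000084200842000000004200842008401004200042008000000200040100020000010042000021000200002108020084210840108001080000802000020000200840100421084200842008421000000800108020000000840100021080210000108421000000042000401080210802000000080200000008401004000000000420000200800100400004010002108021004210002000000084010002108020000200840000020000200802000021084200002000020000010002000020004210802100001080010000108400004000800008400080200840000000000210002000420000210000008021000210002100421080010802000001000000000000020000010040008020000210000100020000210802000021084200802108401, nat_lit 0x8000000000000000000000000000000000004000000000000000000000000000000000002000000000000000000000000000000000020004000840108400000010840000000000210042000421084010842100401004000002008001004200802100400080210842000020080010842000401004200002008401000200802000020084210040100400004200002108001084010800108021080210800000020004010840108421000210842008420000010800100421004200800008000080210000000000004210000108421004010802000000004010040108000000200800108021000010002000400080010002108000000010002108020084210840108001080000802000021000010840108020000000042008421000010002108021000010800008021080000002108020084010802000400000010800100020004200840008401000010840000021000200000108421000010042108021004210002100000000000802000000084210840000020080000002000421084200800000000000210802100420000210000008021084210002108020000210000008401000010842100020084000042008420080000840108420000010040100020000010842100421000210000100420080200800000001004200042000000084210842100020084200002008421, nat_lit 0x8000000000000000000000000000000000004000000000000000000000000000000000002000000000000000000000000000000000020000000040100000004010840000020000210842008021004010802108401000010000000421084010842108420000210842100001084200000108000080000800008401000200002000000080210802100401000000000008000000010000008421084010802000021080200040008420004200842008000000010842108400004200840000420084010000008401004210800000000084200842000000004200842008401004200042008000000200040100020000010042000021000200002108020084210840108001080000802000020000200840100421084200842008421000000800108020000000840100021080210000108421000000042000401080210802000000080200000008401004000000000420000200800100400004010002108021004210002000000084010002108020000200840000020000200802000021084200002000020000010002000020004210802100001080010000108400004000800008400080200840000000000210002000420000210000008021000210002100421080010802000001000000000000020000010040008020000210000100020000210802000021084200802108401, nat_lit 0x8000000000000000000000000000000000004000000000000000000000000000000000002000000000000000000000000000000000020004000840108400000010840000000000210842108421084010000000021000000000108401004000800000401004210040100000004200802008401000010802000421000000000100420080000040008001004200002100421004000840100000000200000100020080200842008401004010800100000000210040100401004000000100000004000000108421000010000108420004200000000000004000802108001000000840100021000010042000000000010802000421004000000000000000000002000000000000000000001000000002100400084200040100000000000040100401000010042008420004200000108001080000840100400004000042100020084200800100001000200802100400000010842008401080010040100401004010000100400004210040008020000000040000001084000002108401000000002100001000200802100421084010040100000000200000008000080010800008020080210040000021004210000000401084200800108421000010842108021004010842008400004210000008020084200000100000084010042100020004000800008400000000800000401], nat_lit 38322585203679120632440487595523159447456699389011105019950022710690769258580666265427537077748075059974876601076033055944657180874846162392765693956), ([nat_lit 0x8000000000000000000000000000000000004000000000000000000000000000000000002000000000000000000000000000000000020004000840108400000010840000000000210842108421084010000000021000000000108401004000800000401004210040100000004200802008401000010802000421000000000100420080000040008001004200002100421004000840100000000200000100020080200842008401004010800100000000210040100401004000000100000004000000108421000010000108420004200000000000004000802108001000000840100021000010042000000000010802000421004000000000000000000002000000000000000000001000000002100400084200040100000000000040100401000010042008420004200000108001080000840100400004000042100020084200800100001000200802100400000010842008401080010040100401004010000100400004210040008020000000040000001084000002108401000000002100001000200802100421084010040100000000200000008000080010800008020080210040000021004210000000401084200800108421000010842108021004010842008400004210000008020084200000100000084010042100020004000800008400000000800000401, nat_lit 0x8000000000000000000000000000000000004000000000000000000000000000000000002000000000000000000000000000000000020000000040100000004010840000020000210842008021004010802108401000010000000421084010842108420000210842100001084200000108000080000800008401000200002000000080210802100401000000000008000000010000008421084010802000021080200040008420004200842008000000010842108400004200840000420084010000008401004210800000000084200842000000004200842008401004200042008000000200040100020000010042000021000200002108020084210840108001080000802000020000200840100421084200842008421000000800108020000000840100021080210000108421000000042000401080210802000000080200000008401004000000000420000200800100400004010002108021004210002000000084010002108020000200840000020000200802000021084200002000020000010002000020004210802100001080010000108400004000800008400080200840000000000210002000420000210000008021000210002100421080010802000001000000000000020000010040008020000210000100020000210802000021084200802108401, nat_lit 0x8000000000000000000000000000000000004000000000000000000000000000000000002000000000000000000000000000000000020004000840108400000010840000000000210842108421084010000000021000000000108401004000800000401004210040100000004200802008401000010802000421000000000100420080000040008001004200002100421004000840100000000200000100020080200842008401004010800100000000210040100401004000000100000004000000108421000010000108420004200000000000004000802108001000000840100021000010042000000000010802000421004000000000000000000002000000000000000000001000000002100400084200040100000000000040100401000010042008420004200000108001080000840100400004000042100020084200800100001000200802100400000010842008401080010040100401004010000100400004210040008020000000040000001084000002108401000000002100001000200802100421084010040100000000200000008000080010800008020080210040000021004210000000401084200800108421000010842108021004010842008400004210000008020084200000100000084010042100020004000800008400000000800000401, nat_lit 0x8000000000000000000000000000000000004000000000000000000000000000000000002000000000000000000000000000000000020000000040100000004010840000020000210842008021004010802108401000010000000421084010842108420000210842100001084200000108000080000800008401000200002000000080210802100401000000000008000000010000008421084010802000021080200040008420004200842008000000010842108400004200840000420084010000008401004210800000000084200842000000004200842008401004200042008000000200040100020000010042000021000200002108020084210840108001080000802000020000200840100421084200842008421000000800108020000000840100021080210000108421000000042000401080210802000000080200000008401004000000000420000200800100400004010002108021004210002000000084010002108020000200840000020000200802000021084200002000020000010002000020004210802100001080010000108400004000800008400080200840000000000210002000420000210000008021000210002100421080010802000001000000000000020000010040008020000210000100020000210802000021084200802108401, nat_lit 0x8000000000000000000000000000000000004000000000000000000000000000000000002000000000000000000000000000000000020004000840108400000010840000000000210042000421084010842100401004000002008001004200802100400080210842000020080010842000401004200002008401000200802000020084210040100400004200002108001084010800108021080210800000020004010840108421000210842008420000010800100421004200800008000080210000000000004210000108421004010802000000004010040108000000200800108021000010002000400080010002108000000010002108020084210840108001080000802000021000010840108020000000042008421000010002108021000010800008021080000002108020084010802000400000010800100020004200840008401000010840000021000200000108421000010042108021004210002100000000000802000000084210840000020080000002000421084200800000000000210802100420000210000008021084210002108020000210000008401000010842100020084000042008420080000840108420000010040100020000010842100421000210000100420080200800000001004200042000000084210842100020084200002008421, nat_lit 0x8000000000000000000000000000000000004000000000000000000000000000000000002000000000000000000000000000000000020000000040100000004010840000020000210842008021004010802108401000010000000421084010842108420000210842100001084200000108000080000800008401000200002000000080210802100401000000000008000000010000008421084010802000021080200040008420004200842008000000010842108400004200840000420084010000008401004210800000000084200842000000004200842008401004200042008000000200040100020000010042000021000200002108020084210840108001080000802000020000200840100421084200842008421000000800108020000000840100021080210000108421000000042000401080210802000000080200000008401004000000000420000200800100400004010002108021004210002000000084010002108020000200840000020000200802000021084200002000020000010002000020004210802100001080010000108400004000800008400080200840000000000210002000420000210000008021000210002100421080010802000001000000000000020000010040008020000210000100020000210802000021084200802108401, nat_lit 0x8000000000000000000000000000000000004000000000000000000000000000000000002000000000000000000000000000000000020004000840108400000010840000000000210842108421084010000000021000000000108401004000800000401004210040100000004200802008401000010802000421000000000100420080000040008001004200002100421004000840100000000200000100020080200842008401004010800100000000210040100401004000000100000004000000108421000010000108420004200000000000004000802108001000000840100021000010042000000000010802000421004000000000000000000002000000000000000000001000000002100400084200040100000000000040100401000010042008420004200000108001080000840100400004000042100020084200800100001000200802100400000010842008401080010040100401004010000100400004210040008020000000040000001084000002108401000000002100001000200802100421084010040100000000200000008000080010800008020080210040000021004210000000401084200800108421000010842108021004010842008400004210000008020084200000100000084010042100020004000800008400000000800000401, nat_lit 0x8000000000000000000000000000000000004000000000000000000000000000000000002000000000000000000000000000000000020000000040100000004010840000020000210842008021004010802108401000010000000421084010842108420000210842100001084200000108000080000800008401000200002000000080210802100401000000000008000000010000008421084010802000021080200040008420004200842008000000010842108400004200840000420084010000008401004210800000000084200842000000004200842008401004200042008000000200040100020000010042000021000200002108020084210840108001080000802000020000200840100421084200842008421000000800108020000000840100021080210000108421000000042000401080210802000000080200000008401004000000000420000200800100400004010002108021004210002000000084010002108020000200840000020000200802000021084200002000020000010002000020004210802100001080010000108400004000800008400080200840000000000210002000420000210000008021000210002100421080010802000001000000000000020000010040008020000210000100020000210802000021084200802108401], nat_lit 38322585203679120632440487595523159447456699389011105019950022710690769258580666265427537077748075059974876601076033055944657180874846162392765693956), ([nat_lit 0x8000000000000000000000000000000000004000000000000000000000000000000000002000000000000000000000000000000000020000000040100000004010840000020000210842008021004010802108401000010000000421084010842108420000210842100001084200000108000080000800008401000200002000000080210802100401000000000008000000010000008421084010802000021080200040008420004200842008000000010842108400004200840000420084010000008401004210800000000084200842000000004200842008401004200042008000000200040100020000010042000021000200002108020084210840108001080000802000020000200840100421084200842008421000000800108020000000840100021080210000108421000000042000401080210802000000080200000008401004000000000420000200800100400004010002108021004210002000000084010002108020000200840000020000200802000021084200002000020000010002000020004210802100001080010000108400004000800008400080200840000000000210002000420000210000008021000210002100421080010802000001000000000000020000010040008020000210000100020000210802000021084200802108401, nat_lit 0x8000000000000000000000000000000000004000000000000000000000000000000000002000000000000000000000000000000000020004000840108400000010840000000000210842108421084010000000021000000000108401004000800000401004210040100000004200802008401000010802000421000000000100420080000040008001004200002100421004000840100000000200000100020080200842008401004010800100000000210040100401004000000100000004000000108421000010000108420004200000000000004000802108001000000840100021000010042000000000010802000421004000000000000000000002000000000000000000001000000002100400084200040100000000000040100401000010042008420004200000108001080000840100400004000042100020084200800100001000200802100400000010842008401080010040100401004010000100400004210040008020000000040000001084000002108401000000002100001000200802100421084010040100000000200000008000080010800008020080210040000021004210000000401084200800108421000010842108021004010842008400004210000008020084200000100000084010042100020004000800008400000000800000401, nat_lit 0x8000000000000000000000000000000000004000000000000000000000000000000000002000000000000000000000000000000000020000000040100000004010840000020000210842008021004010802108401000010000000421084010842108420000210842100001084200000108000080000800008401000200002000000080210802100401000000000008000000010000008421084010802000021080200040008420004200842008000000010842108400004200840000420084010000008401004210800000000084200842000000004200842008401004200042008000000200040100020000010042000021000200002108020084210840108001080000802000020000200840100421084200842008421000000800108020000000840100021080210000108421000000042000401080210802000000080200000008401004000000000420000200800100400004010002108021004210002000000084010002108020000200840000020000200802000021084200002000020000010002000020004210802100001080010000108400004000800008400080200840000000000210002000420000210000008021000210002100421080010802000001000000000000020000010040008020000210000100020000210802000021084200802108401, nat_lit 0x8000000000000000000000000000000000004000000000000000000000000000000000002000000000000000000000000000000000020004000840108400000010840000000000210042000421084010842100401004000002008001004200802100400080210842000020080010842000401004200002008401000200802000020084210040100400004200002108001084010800108021080210800000020004010840108421000210842008420000010800100421004200800008000080210000000000004210000108421004010802000000004010040108000000200800108021000010002000400080010002108000000010002108020084210840108001080000802000021000010840108020000000042008421000010002108021000010800008021080000002108020084010802000400000010800100020004200840008401000010840000021000200000108421000010042108021004210002100000000000802000000084210840000020080000002000421084200800000000000210802100420000210000008021084210002108020000210000008401000010842100020084000042008420080000840108420000010040100020000010842100421000210000100420080200800000001004200042000000084210842100020084200002008421, nat_lit 0x8000000000000000000000000000000000004000000000000000000000000000000000002000000000000000000000000000000000020000000040100000004010840000020000210842008021004010802108401000010000000421084010842108420000210842100001084200000108000080000800008401000200002000000080210802100401000000000008000000010000008421084010802000021080200040008420004200842008000000010842108400004200840000420084010000008401004210800000000084200842000000004200842008401004200042008000000200040100020000010042000021000200002108020084210840108001080000802000020000200840100421084200842008421000000800108020000000840100021080210000108421000000042000401080210802000000080200000008401004000000000420000200800100400004010002108021004210002000000084010002108020000200840000020000200802000021084200002000020000010002000020004210802100001080010000108400004000800008400080200840000000000210002000420000210000008021000210002100421080010802000001000000000000020000010040008020000210000100020000210802000021084200802108401, nat_lit 0x8000000000000000000000000000000000004000000000000000000000000000000000002000000000000000000000000000000000020004000840108400000010840000000000210842108421084010000000021000000000108401004000800000401004210040100000004200802008401000010802000421000000000100420080000040008001004200002100421004000840100000000200000100020080200842008401004010800100000000210040100401004000000100000004000000108421000010000108420004200000000000004000802108001000000840100021000010042000000000010802000421004000000000000000000002000000000000000000001000000002100400084200040100000000000040100401000010042008420004200000108001080000840100400004000042100020084200800100001000200802100400000010842008401080010040100401004010000100400004210040008020000000040000001084000002108401000000002100001000200802100421084010040100000000200000008000080010800008020080210040000021004210000000401084200800108421000010842108021004010842008400004210000008020084200000100000084010042100020004000800008400000000800000401, nat_lit 0x8000000000000000000000000000000000004000000000000000000000000000000000002000000000000000000000000000000000020000000040100000004010840000020000210842008021004010802108401000010000000421084010842108420000210842100001084200000108000080000800008401000200002000000080210802100401000000000008000000010000008421084010802000021080200040008420004200842008000000010842108400004200840000420084010000008401004210800000000084200842000000004200842008401004200042008000000200040100020000010042000021000200002108020084210840108001080000802000020000200840100421084200842008421000000800108020000000840100021080210000108421000000042000401080210802000000080200000008401004000000000420000200800100400004010002108021004210002000000084010002108020000200840000020000200802000021084200002000020000010002000020004210802100001080010000108400004000800008400080200840000000000210002000420000210000008021000210002100421080010802000001000000000000020000010040008020000210000100020000210802000021084200802108401, nat_lit 0x8000000000000000000000000000000000004000000000000000000000000000000000002000000000000000000000000000000000020004000840108400000010840000000000210842108421084010000000021000000000108401004000800000401004210040100000004200802008401000010802000421000000000100420080000040008001004200002100421004000840100000000200000100020080200842008401004010800100000000210040100401004000000100000004000000108421000010000108420004200000000000004000802108001000000840100021000010042000000000010802000421004000000000000000000002000000000000000000001000000002100400084200040100000000000040100401000010042008420004200000108001080000840100400004000042100020084200800100001000200802100400000010842008401080010040100401004010000100400004210040008020000000040000001084000002108401000000002100001000200802100421084010040100000000200000008000080010800008020080210040000021004210000000401084200800108421000010842108021004010842008400004210000008020084200000100000084010042100020004000800008400000000800000401], nat_lit 38322585203679120632440487595523159447456699389011105019950022710690769258580666265427537077748075059974876601076033055944657180874846162392765693956), ([nat_lit 0x8000000000000000000000000000000000004000000000000000000000000000000000002000000000000000000000000000000000000000200040100401004010002000420000200800108401004000842108420000010000108021080210800108021084010002000001080000840100420004000842100400000010802000020084010802008001000010002108420080200840108421080200002100001084200002008421084210840100420000010002008000000210842108400004210000000400084010800008021080000042000001004200042000021004000040000001000210842100001000210040000020000000000000000000000002000000000000000000020084000040008000000010802100001000200000000421000010002100400000010000008001080210840108020004200002000020084000042000420080010840100000000000000000021000210802000021004000000108420080200800008420080000002100001000210840108001084210800100400000210002108420080000842100020004010000008400084200002108020004200000000000004000040000001080010840008421000000800100000084010802100020004000002100020000010000100001004200002000021080210802100000084200040100420, nat_lit 0x8000000000000000000000000000000000004000000000000000000000000000000000002000000000000000000000000000000000000000200040100401004010002000420000200800108401004000842108420000010000108021080210800108021084010002000001080000840100420004000842100400000010802000020084010802008001000010002108420080200840108421080200002100001084200002008421084210840100420000010002008000000210842108400004210000000400084010800008021080000042000001004200042000021004000040000001000210842100001000210040000020000000000000000000000002000000000000000000020084000040008000000010802100001000200000000421000010002100400000010000008001080210840108020004200002000020084000042000420080010840100000000000000000021000210802000021004000000108420080200800008420080000002100001000210840108001084210800100400000210002108420080000842100020004010000008400084200002108020004200000000000004000040000001080010840008421000000800100000084010802100020004000002100020000010000100001004200002000021080210802100000084200040100420, nat_lit 0x8000000000000000000000000000000000004000000000000000000000000000000000002000000000000000000000000000000000000000200040100401004010002000420000200800108401004000842108420000010000108021080210800108021084010002000001080000840100420004000842100400000010802000020084010802008001000010002108420080200840108421080200002100001084200002008421084210840100420000010002008000000210842108400004210000000400084010800008021080000042000001004200042000021004000040000001000210842100001000210040000020000000000000000000000002000000000000000000020084000040008000000010802100001000200000000421000010002100400000010000008001080210840108020004200002000020084000042000420080010840100000000000000000021000210802000021004000000108420080200800008420080000002100001000210840108001084210800100400000210002108420080000842100020004010000008400084200002108020004200000000000004000040000001080010840008421000000800100000084010802100020004000002100020000010000100001004200002000021080210802100000084200040100420, nat_lit 0x8000000000000000000000000000000000004000000000000000000000000000000000002000000000000000000000000000000000020000200040100401004010002000420000200000100001080200842000021004210002000401080200840000020084200800000020000010002108401000210802008420000010040000021004000040000020084200002100421080000800000420080010000000000004000840000401004010000000020000010040100400004010842008001080200002108020080200000000421000010040100021000010002108001004210042108421000010842108000004000042100401080000002100401000210802100020000010042000001080000040000001000210000008021000200842000400004210840100020080210002100421080000002008400084010802100021084200002000400004200042000000000000840100020084200042000401000210002100020004200800008021004210000100020004200042008021000000000008001000210002108020080200802000401080010000108420084000042100001004200002000021080000840000001000000800008001000210840100400080000002008020084210002108400084010002100421080010040000021004210042008001080200000000001], nat_lit 38322585203679123471654254372655325777665915361872898166858576021197236440322533301969096914168065430891827257085315674393119373916200543289555812352), ([nat_lit 0x8000000000000000000000000000000000004000000000000000000000000000000000002000000000000000000000000000000000000000200040100401004010002000420000200800108401004000842108420000010000108021080210800108021084010002000001080000840100420004000842100400000010802000020084010802008001000010002108420080200840108421080200002100001084200002008421084210840100420000010002008000000210842108400004210000000400084010800008021080000042000001004200042000021004000040000001000210842100001000210040000020000000000000000000000002000000000000000000020084000040008000000010802100001000200000000421000010002100400000010000008001080210840108020004200002000020084000042000420080010840100000000000000000021000210802000021004000000108420080200800008420080000002100001000210840108001084210800100400000210002108420080000842100020004010000008400084200002108020004200000000000004000040000001080010840008421000000800100000084010802100020004000002100020000010000100001004200002000021080210802100000084200040100420, nat_lit 0x8000000000000000000000000000000000004000000000000000000000000000000000002000000000000000000000000000000000000000200040100401004010002000420000200800108401004000842108420000010000108021080210800108021084010002000001080000840100420004000842100400000010802000020084010802008001000010002108420080200840108421080200002100001084200002008421084210840100420000010002008000000210842108400004210000000400084010800008021080000042000001004200042000021004000040000001000210842100001000210040000020000000000000000000000002000000000000000000020084000040008000000010802100001000200000000421000010002100400000010000008001080210840108020004200002000020084000042000420080010840100000000000000000021000210802000021004000000108420080200800008420080000002100001000210840108001084210800100400000210002108420080000842100020004010000008400084200002108020004200000000000004000040000001080010840008421000000800100000084010802100020004000002100020000010000100001004200002000021080210802100000084200040100420, nat_lit 0x8000000000000000000000000000000000004000000000000000000000000000000000002000000000000000000000000000000000020000200040100401004010002000420000200000100001080200842000021004210002000401080200840000020084200800000020000010002108401000210802008420000010040000021004000040000020084200002100421080000800000420080010000000000004000840000401004010000000020000010040100400004010842008001080200002108020080200000000421000010040100021000010002108001004210042108421000010842108000004000042100401080000002100401000210802100020000010042000001080000040000001000210000008021000200842000400004210840100020080210002100421080000002008400084010802100021084200002000400004200042000000000000840100020084200042000401000210002100020004200800008021004210000100020004200042008021000000000008001000210002108020080200802000401080010000108420084000042100001004200002000021080000840000001000000800008001000210840100400080000002008020084210002108400084010002100421080010040000021004210042008001080200000000001, nat_lit 0x8000000000000000000000000000000000004000000000000000000000000000000000002000000000000000000000000000000000000000200040100401004010002000420000200800108401004000842108420000010000108021080210800108021084010002000001080000840100420004000842100400000010802000020084010802008001000010002108420080200840108421080200002100001084200002008421084210840100420000010002008000000210842108400004210000000400084010800008021080000042000001004200042000021004000040000001000210842100001000210040000020000000000000000000000002000000000000000000020084000040008000000010802100001000200000000421000010002100400000010000008001080210840108020004200002000020084000042000420080010840100000000000000000021000210802000021004000000108420080200800008420080000002100001000210840108001084210800100400000210002108420080000842100020004010000008400084200002108020004200000000000004000040000001080010840008421000000800100000084010802100020004000002100020000010000100001004200002000021080210802100000084200040100420], nat_lit 38322585203679123471654254372655325777665915361872898166858576021197236440322533301969096914168065430891827257085315674393119373916200543289555812352), ([nat_lit 0x8000000000000000000000000000000000004000000000000000000000000000000000002000000000000000000000000000000000000000200040100401004010002000420000200800108401004000842108420000010000108021080210800108021084010002000001080000840100420004000842100400000010802000020084010802008001000010002108420080200840108421080200002100001084200002008421084210840100420000010002008000000210842108400004210000000400084010800008021080000042000001004200042000021004000040000001000210842100001000210040000020000000000000000000000002000000000000000000020084000040008000000010802100001000200000000421000010002100400000010000008001080210840108020004200002000020084000042000420080010840100000000000000000021000210802000021004000000108420080200800008420080000002100001000210840108001084210800100400000210002108420080000842100020004010000008400084200002108020004200000000000004000040000001080010840008421000000800100000084010802100020004000002100020000010000100001004200002000021080210802100000084200040100420, nat_lit 0x8000000000000000000000000000000000004000000000000000000000000000000000002000000000000000000000000000000000020000200040100401004010002000420000200000100001080200842000021004210002000401080200840000020084200800000020000010002108401000210802008420000010040000021004000040000020084200002100421080000800000420080010000000000004000840000401004010000000020000010040100400004010842008001080200002108020080200000000421000010040100021000010002108001004210042108421000010842108000004000042100401080000002100401000210802100020000010042000001080000040000001000210000008021000200842000400004210840100020080210002100421080000002008400084010802100021084200002000400004200042000000000000840100020084200042000401000210002100020004200800008021004210000100020004200042008021000000000008001000210002108020080200802000401080010000108420084000042100001004200002000021080000840000001000000800008001000210840100400080000002008020084210002108400084010002100421080010040000021004210042008001080200000000001, nat_lit 0x8000000000000000000000000000000000004000000000000000000000000000000000002000000000000000000000000000000000000000200040100401004010002000420000200800108401004000842108420000010000108021080210800108021084010002000001080000840100420004000842100400000010802000020084010802008001000010002108420080200840108421080200002100001084200002008421084210840100420000010002008000000210842108400004210000000400084010800008021080000042000001004200042000021004000040000001000210842100001000210040000020000000000000000000000002000000000000000000020084000040008000000010802100001000200000000421000010002100400000010000008001080210840108020004200002000020084000042000420080010840100000000000000000021000210802000021004000000108420080200800008420080000002100001000210840108001084210800100400000210002108420080000842100020004010000008400084200002108020004200000000000004000040000001080010840008421000000800100000084010802100020004000002100020000010000100001004200002000021080210802100000084200040100420, nat_lit 0x8000000000000000000000000000000000004000000000000000000000000000000000002000000000000000000000000000000000000000200040100401004010002000420000200800108401004000842108420000010000108021080210800108021084010002000001080000840100420004000842100400000010802000020084010802008001000010002108420080200840108421080200002100001084200002008421084210840100420000010002008000000210842108400004210000000400084010800008021080000042000001004200042000021004000040000001000210842100001000210040000020000000000000000000000002000000000000000000020084000040008000000010802100001000200000000421000010002100400000010000008001080210840108020004200002000020084000042000420080010840100000000000000000021000210802000021004000000108420080200800008420080000002100001000210840108001084210800100400000210002108420080000842100020004010000008400084200002108020004200000000000004000040000001080010840008421000000800100000084010802100020004000002100020000010000100001004200002000021080210802100000084200040100420], nat_lit 38322585203679123471654254372655325777665915361872898166858576021197236440322533301969096914168065430891827257085315674393119373916200543289555812352), ([nat_lit 0x8000000000000000000000000000000000004000000000000000000000000000000000002000000000000000000000000000000000020000200040100401004010002000420000200000100001080200842000021004210002000401080200840000020084200800000020000010002108401000210802008420000010040000021004000040000020084200002100421080000800000420080010000000000004000840000401004010000000020000010040100400004010842008001080200002108020080200000000421000010040100021000010002108001004210042108421000010842108000004000042100401080000002100401000210802100020000010042000001080000040000001000210000008021000200842000400004210840100020080210002100421080000002008400084010802100021084200002000400004200042000000000000840100020084200042000401000210002100020004200800008021004210000100020004200042008021000000000008001000210002108020080200802000401080010000108420084000042100001004200002000021080000840000001000000800008001000210840100400080000002008020084210002108400084010002100421080010040000021004210042008001080200000000001, nat_lit 0x8000000000000000000000000000000000004000000000000000000000000000000000002000000000000000000000000000000000000000200040100401004010002000420000200800108401004000842108420000010000108021080210800108021084010002000001080000840100420004000842100400000010802000020084010802008001000010002108420080200840108421080200002100001084200002008421084210840100420000010002008000000210842108400004210000000400084010800008021080000042000001004200042000021004000040000001000210842100001000210040000020000000000000000000000002000000000000000000020084000040008000000010802100001000200000000421000010002100400000010000008001080210840108020004200002000020084000042000420080010840100000000000000000021000210802000021004000000108420080200800008420080000002100001000210840108001084210800100400000210002108420080000842100020004010000008400084200002108020004200000000000004000040000001080010840008421000000800100000084010802100020004000002100020000010000100001004200002000021080210802100000084200040100420, nat_lit 0x8000000000000000000000000000000000004000000000000000000000000000000000002000000000000000000000000000000000000000200040100401004010002000420000200800108401004000842108420000010000108021080210800108021084010002000001080000840100420004000842100400000010802000020084010802008001000010002108420080200840108421080200002100001084200002008421084210840100420000010002008000000210842108400004210000000400084010800008021080000042000001004200042000021004000040000001000210842100001000210040000020000000000000000000000002000000000000000000020084000040008000000010802100001000200000000421000010002100400000010000008001080210840108020004200002000020084000042000420080010840100000000000000000021000210802000021004000000108420080200800008420080000002100001000210840108001084210800100400000210002108420080000842100020004010000008400084200002108020004200000000000004000040000001080010840008421000000800100000084010802100020004000002100020000010000100001004200002000021080210802100000084200040100420, nat_lit 0x8000000000000000000000000000000000004000000000000000000000000000000000002000000000000000000000000000000000000000200040100401004010002000420000200800108401004000842108420000010000108021080210800108021084010002000001080000840100420004000842100400000010802000020084010802008001000010002108420080200840108421080200002100001084200002008421084210840100420000010002008000000210842108400004210000000400084010800008021080000042000001004200042000021004000040000001000210842100001000210040000020000000000000000000000002000000000000000000020084000040008000000010802100001000200000000421000010002100400000010000008001080210840108020004200002000020084000042000420080010840100000000000000000021000210802000021004000000108420080200800008420080000002100001000210840108001084210800100400000210002108420080000842100020004010000008400084200002108020004200000000000004000040000001080010840008421000000800100000084010802100020004000002100020000010000100001004200002000021080210802100000084200040100420], nat_lit 38322585203679123471654254372655325777665915361872898166858576021197236440322533301969096914168065430891827257085315674393119373916200543289555812352), ([nat_lit 0x8000000000000000000000000000000000004000000000000000000000000000000000002000000000000000000000000000000000000000200040100401004010002000420000200802008000084000040000421004000000108021000000802008400080200802000020084210802100401080200800008001000000840000400080000842008000004010000100400080000002008401000000800100021080000002108401084210840008401000000000100400000000000008020084210002000020004000002008401080200842100021004010002000000084200840008420000210000100420080210042000421004210002008000000000840000400080000840000000000200842000421000200040108420000000040108021000210842008421084010000100021000010002008401000200842100001000200042100020084200800100020000000040000021080210840100400000210002100021004210842100420080200800100021084010002008001080210842100001000000000108021084200840100000084000000000421004010800100401080000802100021000210800100001000000840008020000200842108400080000802008000004210002008421000010800108021000200040100000000210800100420080010040108421, nat_lit 0x8000000000000000000000000000000000004000000000000000000000000000000000002000000000000000000000000000000000000000200040100401004010002000420000200802008000084000040000421004000000108021000000802008400080200802000020084210802100401080200800008001000000840000400080000842008000004010000100400080000002008401000000800100021080000002108401084210840008401000000000100400000000000008020084210002000020004000002008401080200842100021004010002000000084200840008420000210000100420080210042000421004210002008000000000840000400080000840000000000200842000421000200040108420000000040108021000210842008421084010000100021000010002008401000200842100001000200042100020084200800100020000000040000021080210840100400000210002100021004210842100420080200800100021084010002008001080210842100001000000000108021084200840100000084000000000421004010800100401080000802100021000210800100001000000840008020000200842108400080000802008000004210002008421000010800108021000200040100000000210800100420080010040108421, nat_lit 0x8000000000000000000000000000000000004000000000000000000000000000000000002000000000000000000000000000000000000000200040100401004010002000420000200802008000084000040000421004000000108021000000802008400080200802000020084210802100401080200800008001000000840000400080000842008000004010000100400080000002008401000000800100021080000002108401084210840008401000000000100400000000000008020084210002000020004000002008401080200842100021004010002000000084200840008420000210000100420080210042000421004210002008000000000840000400080000840000000000200842000421000200040108420000000040108021000210842008421084010000100021000010002008401000200842100001000200042100020084200800100020000000040000021080210840100400000210002100021004210842100420080200800100021084010002008001080210842100001000000000108021084200840100000084000000000421004010800100401080000802100021000210800100001000000840008020000200842108400080000802008000004210002008421000010800108021000200040100000000210800100420080010040108421, nat_lit 0x8000000000000000000000000000000000004000000000000000000000000000000000002000000000000000000000000000000000000000200040100401004010002000420000200042100421000210800008401080000002100000004010800108400000200840100020084210842108001004000840000420000210840008400080200042100420080210002108420084210842108421004200042100001084210840008421080200800108420000010042000401004010802000420000010000100000000010800000021004210000100021084200042000021004010002100401000200002000400000000042000421000000000108400000200040008000080200842000020080200800008400000200802008021000200000100021004200840008001000000002108001080000842008401004000802100020084210000108020004200002100020000200802000421084200802000421080010000000021004010042008400080010842100000084210802008021004000042000401000200802100421080000042108400004200000000421000210840000021084210800000001080210842108020000000002108421000010840008020080010802100401000200002108400084000002100020004010040000001004010002008421080200800108400], nat_lit 38322585203680906497899792033308704587632140622996234443321512098313864470967398307722750093448724993313109458332081919953934745633943745359176007684), ([nat_lit 0x8000000000000000000000000000000000004000000000000000000000000000000000002000000000000000000000000000000000000000200040100401004010002000420000200802008000084000040000421004000000108021000000802008400080200802000020084210802100401080200800008001000000840000400080000842008000004010000100400080000002008401000000800100021080000002108401084210840008401000000000100400000000000008020084210002000020004000002008401080200842100021004010002000000084200840008420000210000100420080210042000421004210002008000000000840000400080000840000000000200842000421000200040108420000000040108021000210842008421084010000100021000010002008401000200842100001000200042100020084200800100020000000040000021080210840100400000210002100021004210842100420080200800100021084010002008001080210842100001000000000108021084200840100000084000000000421004010800100401080000802100021000210800100001000000840008020000200842108400080000802008000004210002008421000010800108021000200040100000000210800100420080010040108421, nat_lit 0x8000000000000000000000000000000000004000000000000000000000000000000000002000000000000000000000000000000000000000200040100401004010002000420000200802008000084000040000421004000000108021000000802008400080200802000020084210802100401080200800008001000000840000400080000842008000004010000100400080000002008401000000800100021080000002108401084210840008401000000000100400000000000008020084210002000020004000002008401080200842100021004010002000000084200840008420000210000100420080210042000421004210002008000000000840000400080000840000000000200842000421000200040108420000000040108021000210842008421084010000100021000010002008401000200842100001000200042100020084200800100020000000040000021080210840100400000210002100021004210842100420080200800100021084010002008001080210842100001000000000108021084200840100000084000000000421004010800100401080000802100021000210800100001000000840008020000200842108400080000802008000004210002008421000010800108021000200040100000000210800100420080010040108421, nat_lit 0x8000000000000000000000000000000000004000000000000000000000000000000000002000000000000000000000000000000000000000200040100401004010002000420000200042100421000210800008401080000002100000004010800108400000200840100020084210842108001004000840000420000210840008400080200042100420080210002108420084210842108421004200042100001084210840008421080200800108420000010042000401004010802000420000010000100000000010800000021004210000100021084200042000021004010002100401000200002000400000000042000421000000000108400000200040008000080200842000020080200800008400000200802008021000200000100021004200840008001000000002108001080000842008401004000802100020084210000108020004200002100020000200802000421084200802000421080010000000021004010042008400080010842100000084210802008021004000042000401000200802100421080000042108400004200000000421000210840000021084210800000001080210842108020000000002108421000010840008020080010802100401000200002108400084000002100020004010040000001004010002008421080200800108400, nat_lit 0x8000000000000000000000000000000000004000000000000000000000000000000000002000000000000000000000000000000000000000200040100401004010002000420000200802008000084000040000421004000000108021000000802008400080200802000020084210802100401080200800008001000000840000400080000842008000004010000100400080000002008401000000800100021080000002108401084210840008401000000000100400000000000008020084210002000020004000002008401080200842100021004010002000000084200840008420000210000100420080210042000421004210002008000000000840000400080000840000000000200842000421000200040108420000000040108021000210842008421084010000100021000010002008401000200842100001000200042100020084200800100020000000040000021080210840100400000210002100021004210842100420080200800100021084010002008001080210842100001000000000108021084200840100000084000000000421004010800100401080000802100021000210800100001000000840008020000200842108400080000802008000004210002008421000010800108021000200040100000000210800100420080010040108421], nat_lit 38322585203680906497899792033308704587632140622996234443321512098313864470967398307722750093448724993313109458332081919953934745633943745359176007684), ([nat_lit 0x8000000000000000000000000000000000004000000000000000000000000000000000002000000000000000000000000000000000000000200040100401004010002000420000200802008000084000040000421004000000108021000000802008400080200802000020084210802100401080200800008001000000840000400080000842008000004010000100400080000002008401000000800100021080000002108401084210840008401000000000100400000000000008020084210002000020004000002008401080200842100021004010002000000084200840008420000210000100420080210042000421004210002008000000000840000400080000840000000000200842000421000200040108420000000040108021000210842008421084010000100021000010002008401000200842100001000200042100020084200800100020000000040000021080210840100400000210002100021004210842100420080200800100021084010002008001080210842100001000000000108021084200840100000084000000000421004010800100401080000802100021000210800100001000000840008020000200842108400080000802008000004210002008421000010800108021000200040100000000210800100420080010040108421, nat_lit 0x8000000000000000000000000000000000004000000000000000000000000000000000002000000000000000000000000000000000000000200040100401004010002000420000200042100421000210800008401080000002100000004010800108400000200840100020084210842108001004000840000420000210840008400080200042100420080210002108420084210842108421004200042100001084210840008421080200800108420000010042000401004010802000420000010000100000000010800000021004210000100021084200042000021004010002100401000200002000400000000042000421000000000108400000200040008000080200842000020080200800008400000200802008021000200000100021004200840008001000000002108001080000842008401004000802100020084210000108020004200002100020000200802000421084200802000421080010000000021004010042008400080010842100000084210802008021004000042000401000200802100421080000042108400004200000000421000210840000021084210800000001080210842108020000000002108421000010840008020080010802100401000200002108400084000002100020004010040000001004010002008421080200800108400, nat_lit 0x8000000000000000000000000000000000004000000000000000000000000000000000002000000000000000000000000000000000000000200040100401004010002000420000200802008000084000040000421004000000108021000000802008400080200802000020084210802100401080200800008001000000840000400080000842008000004010000100400080000002008401000000800100021080000002108401084210840008401000000000100400000000000008020084210002000020004000002008401080200842100021004010002000000084200840008420000210000100420080210042000421004210002008000000000840000400080000840000000000200842000421000200040108420000000040108021000210842008421084010000100021000010002008401000200842100001000200042100020084200800100020000000040000021080210840100400000210002100021004210842100420080200800100021084010002008001080210842100001000000000108021084200840100000084000000000421004010800100401080000802100021000210800100001000000840008020000200842108400080000802008000004210002008421000010800108021000200040100000000210800100420080010040108421, nat_lit 0x8000000000000000000000000000000000004000000000000000000000000000000000002000000000000000000000000000000000000000200040100401004010002000420000200802008000084000040000421004000000108021000000802008400080200802000020084210802100401080200800008001000000840000400080000842008000004010000100400080000002008401000000800100021080000002108401084210840008401000000000100400000000000008020084210002000020004000002008401080200842100021004010002000000084200840008420000210000100420080210042000421004210002008000000000840000400080000840000000000200842000421000200040108420000000040108021000210842008421084010000100021000010002008401000200842100001000200042100020084200800100020000000040000021080210840100400000210002100021004210842100420080200800100021084010002008001080210842100001000000000108021084200840100000084000000000421004010800100401080000802100021000210800100001000000840008020000200842108400080000802008000004210002008421000010800108021000200040100000000210800100420080010040108421], nat_lit 38322585203680906497899792033308704587632140622996234443321512098313864470967398307722750093448724993313109458332081919953934745633943745359176007684), ([nat_lit 0x8000000000000000000000000000000000004000000000000000000000000000000000002000000000000000000000000000000000000000200040100401004010002000420000200042100421000210800008401080000002100000004010800108400000200840100020084210842108001004000840000420000210840008400080200042100420080210002108420084210842108421004200042100001084210840008421080200800108420000010042000401004010802000420000010000100000000010800000021004210000100021084200042000021004010002100401000200002000400000000042000421000000000108400000200040008000080200842000020080200800008400000200802008021000200000100021004200840008001000000002108001080000842008401004000802100020084210000108020004200002100020000200802000421084200802000421080010000000021004010042008400080010842100000084210802008021004000042000401000200802100421080000042108400004200000000421000210840000021084210800000001080210842108020000000002108421000010840008020080010802100401000200002108400084000002100020004010040000001004010002008421080200800108400, nat_lit 0x8000000000000000000000000000000000004000000000000000000000000000000000002000000000000000000000000000000000000000200040100401004010002000420000200802008000084000040000421004000000108021000000802008400080200802000020084210802100401080200800008001000000840000400080000842008000004010000100400080000002008401000000800100021080000002108401084210840008401000000000100400000000000008020084210002000020004000002008401080200842100021004010002000000084200840008420000210000100420080210042000421004210002008000000000840000400080000840000000000200842000421000200040108420000000040108021000210842008421084010000100021000010002008401000200842100001000200042100020084200800100020000000040000021080210840100400000210002100021004210842100420080200800100021084010002008001080210842100001000000000108021084200840100000084000000000421004010800100401080000802100021000210800100001000000840008020000200842108400080000802008000004210002008421000010800108021000200040100000000210800100420080010040108421, nat_lit 0x8000000000000000000000000000000000004000000000000000000000000000000000002000000000000000000000000000000000000000200040100401004010002000420000200802008000084000040000421004000000108021000000802008400080200802000020084210802100401080200800008001000000840000400080000842008000004010000100400080000002008401000000800100021080000002108401084210840008401000000000100400000000000008020084210002000020004000002008401080200842100021004010002000000084200840008420000210000100420080210042000421004210002008000000000840000400080000840000000000200842000421000200040108420000000040108021000210842008421084010000100021000010002008401000200842100001000200042100020084200800100020000000040000021080210840100400000210002100021004210842100420080200800100021084010002008001080210842100001000000000108021084200840100000084000000000421004010800100401080000802100021000210800100001000000840008020000200842108400080000802008000004210002008421000010800108021000200040100000000210800100420080010040108421, nat_lit 0x8000000000000000000000000000000000004000000000000000000000000000000000002000000000000000000000000000000000000000200040100401004010002000420000200802008000084000040000421004000000108021000000802008400080200802000020084210802100401080200800008001000000840000400080000842008000004010000100400080000002008401000000800100021080000002108401084210840008401000000000100400000000000008020084210002000020004000002008401080200842100021004010002000000084200840008420000210000100420080210042000421004210002008000000000840000400080000840000000000200842000421000200040108420000000040108021000210842008421084010000100021000010002008401000200842100001000200042100020084200800100020000000040000021080210840100400000210002100021004210842100420080200800100021084010002008001080210842100001000000000108021084200840100000084000000000421004010800100401080000802100021000210800100001000000840008020000200842108400080000802008000004210002008421000010800108021000200040100000000210800100420080010040108421], nat_lit 38322585203680906497899792033308704587632140622996234443321512098313864470967398307722750093448724993313109458332081919953934745633943745359176007684)]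
noncomputable def Ds : List (List (List ℕ) × Ce) := [([[],
  [nat_lit 0, nat_lit 2]], [([nat_lit 2, nat_lit 0], (nat_lit 0), false)]), ([[nat_lit 3, nat_lit 0, nat_lit 2],
  [nat_lit 4, nat_lit 3],
  [nat_lit 3, nat_lit 0, nat_lit 2],
  [nat_lit 4, nat_lit 3]], [([nat_lit 9, nat_lit 3, nat_lit 0, nat_lit 2, nat_lit 9, nat_lit 4, nat_lit 3, nat_lit 9, nat_lit 3], (nat_lit 0), false), ([nat_lit 9, nat_lit 3], (nat_lit 0), false), ([], (nat_lit 4), false)]), ([[nat_lit 4, nat_lit 3],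
  [nat_lit 3, nat_lit 0, nat_lit 2],
  [nat_lit 4, nat_lit 3],
  [nat_lit 3, nat_lit 0, nat_lit 2]], [([nat_lit 9, nat_lit 4, nat_lit 3, nat_lit 9, nat_lit 3], (nat_lit 0), false), ([nat_lit 2, nat_lit 0], (nat_lit 0), false), ([nat_lit 2, nat_lit 0, nat_lit 3, nat_lit 10], (nat_lit 4), false)]), ([[nat_lit 3, nat_lit 0, nat_lit 2],
  [nat_lit 3, nat_lit 4],
  [nat_lit 3, nat_lit 0, nat_lit 2],
  [nat_lit 3, nat_lit 4]], [([nat_lit 9, nat_lit 3, nat_lit 0, nat_lit 2, nat_lit 9, nat_lit 3, nat_lit 4, nat_lit 9, nat_lit 3], (nat_lit 0), false), ([nat_lit 9, nat_lit 3], (nat_lit 0), false), ([nat_lit 4, nat_lit 3], (nat_lit 4), true)]), ([[nat_lit 3, nat_lit 4],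
  [nat_lit 3, nat_lit 0, nat_lit 2],
  [nat_lit 3, nat_lit 4],
  [nat_lit 3, nat_lit 0, nat_lit 2]], [([nat_lit 9, nat_lit 3, nat_lit 4, nat_lit 9, nat_lit 3], (nat_lit 0), false), ([nat_lit 2, nat_lit 0], (nat_lit 0), false), ([nat_lit 2, nat_lit 0, nat_lit 3, nat_lit 10, nat_lit 4, nat_lit 3], (nat_lit 4), true)]), ([[nat_lit 4, nat_lit 1, nat_lit 0, nat_lit 2, nat_lit 1, nat_lit 3, nat_lit 0, nat_lit 2],
  [nat_lit 3, nat_lit 4, nat_lit 2, nat_lit 1, nat_lit 2, nat_lit 0, nat_lit 1, nat_lit 3],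
  [nat_lit 3, nat_lit 1, nat_lit 0, nat_lit 2, nat_lit 1, nat_lit 3, nat_lit 0, nat_lit 2],
  [nat_lit 3, nat_lit 0, nat_lit 2]], [([nat_lit 9, nat_lit 4, nat_lit 1, nat_lit 0, nat_lit 2, nat_lit 1, nat_lit 3, nat_lit 0, nat_lit 2, nat_lit 9, nat_lit 3, nat_lit 4, nat_lit 2, nat_lit 1, nat_lit 2, nat_lit 0, nat_lit 1, nat_lit 3, nat_lit 9, nat_lit 3, nat_lit 1, nat_lit 0, nat_lit 2, nat_lit 1, nat_lit 3], (nat_lit 0), false), ([nat_lit 9, nat_lit 4, nat_lit 1, nat_lit 0, nat_lit 2, nat_lit 1, nat_lit 3], (nat_lit 0), false), ([nat_lit 2, nat_lit 0], (nat_lit 0), false), ([nat_lit 2, nat_lit 0], (nat_lit 6), false)]), ([[nat_lit 3, nat_lit 4, nat_lit 2, nat_lit 1, nat_lit 2, nat_lit 0, nat_lit 1, nat_lit 3],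
  [nat_lit 3, nat_lit 1, nat_lit 0, nat_lit 2, nat_lit 1, nat_lit 3, nat_lit 0, nat_lit 2],
  [nat_lit 3, nat_lit 0, nat_lit 2],
  [nat_lit 4, nat_lit 1, nat_lit 0, nat_lit 2, nat_lit 1, nat_lit 3, nat_lit 0, nat_lit 2]], [([nat_lit 9, nat_lit 3, nat_lit 4, nat_lit 2, nat_lit 1, nat_lit 2, nat_lit 0, nat_lit 1, nat_lit 3, nat_lit 9, nat_lit 3, nat_lit 1, nat_lit 0, nat_lit 2, nat_lit 1, nat_lit 3], (nat_lit 0), false), ([nat_lit 2, nat_lit 0], (nat_lit 0), false), ([nat_lit 2, nat_lit 0, nat_lit 3, nat_lit 1, nat_lit 2, nat_lit 0, nat_lit 1, nat_lit 4, nat_lit 10, nat_lit 2, nat_lit 0], (nat_lit 0), false), ([nat_lit 2, nat_lit 0, nat_lit 3, nat_lit 1, nat_lit 2, nat_lit 0, nat_lit 1, nat_lit 4, nat_lit 10, nat_lit 2, nat_lit 0], (nat_lit 6), false)]), ([[nat_lit 3, nat_lit 1, nat_lit 0, nat_lit 2, nat_lit 1, nat_lit 3, nat_lit 0, nat_lit 2],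
  [nat_lit 3, nat_lit 0, nat_lit 2],
  [nat_lit 4, nat_lit 1, nat_lit 0, nat_lit 2, nat_lit 1, nat_lit 3, nat_lit 0, nat_lit 2],
  [nat_lit 3, nat_lit 4, nat_lit 2, nat_lit 1, nat_lit 2, nat_lit 0, nat_lit 1, nat_lit 3]], [([nat_lit 9, nat_lit 3, nat_lit 1, nat_lit 0, nat_lit 2, nat_lit 1, nat_lit 3], (nat_lit 0), false), ([nat_lit 3, nat_lit 1, nat_lit 0, nat_lit 2, nat_lit 1, nat_lit 2, nat_lit 4, nat_lit 3, nat_lit 10, nat_lit 2, nat_lit 0], (nat_lit 0), false), ([nat_lit 3, nat_lit 1, nat_lit 0, nat_lit 2, nat_lit 1, nat_lit 2, nat_lit 4, nat_lit 3, nat_lit 10, nat_lit 2, nat_lit 0, nat_lit 3, nat_lit 1, nat_lit 2, nat_lit 0, nat_lit 1, nat_lit 4, nat_lit 10, nat_lit 2, nat_lit 0], (nat_lit 0), false), ([nat_lit 3, nat_lit 1, nat_lit 0, nat_lit 2, nat_lit 1, nat_lit 2, nat_lit 4, nat_lit 3, nat_lit 10, nat_lit 2, nat_lit 0, nat_lit 3, nat_lit 1, nat_lit 2, nat_lit 0, nat_lit 1, nat_lit 4, nat_lit 10, nat_lit 2,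 nat_lit 0], (nat_lit 6), false)]), ([[nat_lit 3, nat_lit 0, nat_lit 2],
  [nat_lit 4, nat_lit 1, nat_lit 0, nat_lit 2, nat_lit 1, nat_lit 3, nat_lit 0, nat_lit 2],
  [nat_lit 3, nat_lit 4, nat_lit 2, nat_lit 1, nat_lit 2, nat_lit 0, nat_lit 1, nat_lit 3],
  [nat_lit 3, nat_lit 1, nat_lit 0, nat_lit 2, nat_lit 1, nat_lit 3, nat_lit 0, nat_lit 2]], [([nat_lit 2, nat_lit 0], (nat_lit 0), false), ([nat_lit 2, nat_lit 0, nat_lit 3, nat_lit 1, nat_lit 2, nat_lit 0, nat_lit 1, nat_lit 3, nat_lit 10, nat_lit 3, nat_lit 1, nat_lit 0, nat_lit 2, nat_lit 1, nat_lit 2, nat_lit 4, nat_lit 3, nat_lit 10, nat_lit 2, nat_lit 0], (nat_lit 0), false), ([nat_lit 2, nat_lit 0, nat_lit 3, nat_lit 1, nat_lit 2, nat_lit 0, nat_lit 1, nat_lit 3, nat_lit 10, nat_lit 3, nat_lit 1, nat_lit 0, nat_lit 2, nat_lit 1, nat_lit 2, nat_lit 4, nat_lit 3, nat_lit 10, nat_lit 2, nat_lit 0, nat_lit 3, nat_lit 1, nat_lit 2, nat_lit 0, nat_lit 1, nat_lit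 4, nat_lit 10, nat_lit 2, nat_lit 0], (nat_lit 0), false), ([nat_lit 2, nat_lit 0, nat_lit 3, nat_lit 1, nat_lit 2, nat_lit 0, nat_lit 1, nat_lit 3, nat_lit 10, nat_lit 3, nat_lit 1, nat_lit 0, nat_lit 2, nat_lit 1, nat_lit 2, nat_lit 4, nat_lit 3, nat_lit 10, nat_lit 2, nat_lit 0, nat_lit 3, nat_lit 1, nat_lit 2, nat_lit 0, nat_lit 1, nat_lit 4, nat_lit 10, nat_lit 2, nat_lit 0], (nat_lit 6), false)]), ([[nat_lit 3, nat_lit 1, nat_lit 2, nat_lit 0, nat_lit 1, nat_lit 3, nat_lit 0, nat_lit 2],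
  [nat_lit 3, nat_lit 1, nat_lit 0, nat_lit 2, nat_lit 1, nat_lit 2, nat_lit 4, nat_lit 3],
  [nat_lit 3, nat_lit 1, nat_lit 2, nat_lit 0, nat_lit 1, nat_lit 4],
  [nat_lit 3]], [([nat_lit 9, nat_lit 3, nat_lit 1, nat_lit 2, nat_lit 0, nat_lit 1, nat_lit 3], (nat_lit 0), false), ([nat_lit 3], (nat_lit 6), true)]), ([[nat_lit 3, nat_lit 1, nat_lit 0, nat_lit 2, nat_lit 1, nat_lit 2, nat_lit 4, nat_lit 3],
  [nat_lit 3, nat_lit 1, nat_lit 2, nat_lit 0, nat_lit 1, nat_lit 4],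
  [nat_lit 3],
  [nat_lit 3, nat_lit 1, nat_lit 2, nat_lit 0, nat_lit 1, nat_lit 3, nat_lit 0, nat_lit 2]], [([nat_lit 2, nat_lit 0], (nat_lit 0), false), ([nat_lit 2, nat_lit 0, nat_lit 3, nat_lit 1, nat_lit 0, nat_lit 2, nat_lit 1, nat_lit 3, nat_lit 10, nat_lit 3], (nat_lit 6), true)]), ([[nat_lit 3, nat_lit 1, nat_lit 2, nat_lit 0, nat_lit 1, nat_lit 4],
  [nat_lit 3],
  [nat_lit 3, nat_lit 1, nat_lit 2, nat_lit 0, nat_lit 1, nat_lit 3, nat_lit 0, nat_lit 2],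
  [nat_lit 3, nat_lit 1, nat_lit 0, nat_lit 2, nat_lit 1, nat_lit 2, nat_lit 4, nat_lit 3]], [([nat_lit 3, nat_lit 4, nat_lit 2, nat_lit 1, nat_lit 2, nat_lit 0, nat_lit 1, nat_lit 3, nat_lit 10, nat_lit 2, nat_lit 0], (nat_lit 0), false), ([nat_lit 3, nat_lit 4, nat_lit 2, nat_lit 1, nat_lit 2, nat_lit 0, nat_lit 1, nat_lit 3, nat_lit 10, nat_lit 2, nat_lit 0, nat_lit 3, nat_lit 1, nat_lit 0, nat_lit 2, nat_lit 1, nat_lit 3, nat_lit 10, nat_lit 3], (nat_lit 6), true)]), ([[nat_lit 3],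
  [nat_lit 3, nat_lit 1, nat_lit 2, nat_lit 0, nat_lit 1, nat_lit 3, nat_lit 0, nat_lit 2],
  [nat_lit 3, nat_lit 1, nat_lit 0, nat_lit 2, nat_lit 1, nat_lit 2, nat_lit 4, nat_lit 3],
  [nat_lit 3, nat_lit 1, nat_lit 2, nat_lit 0, nat_lit 1, nat_lit 4]], [([nat_lit 4, nat_lit 1, nat_lit 0, nat_lit 2, nat_lit 1, nat_lit 3, nat_lit 10, nat_lit 3, nat_lit 4, nat_lit 2, nat_lit 1, nat_lit 2, nat_lit 0, nat_lit 1, nat_lit 3, nat_lit 10, nat_lit 2, nat_lit 0], (nat_lit 0), false), ([nat_lit 4, nat_lit 1, nat_lit 0, nat_lit 2, nat_lit 1, nat_lit 3, nat_lit 10, nat_lit 3, nat_lit 4, nat_lit 2, nat_lit 1, nat_lit 2, nat_lit 0, nat_lit 1, nat_lit 3, nat_lit 10, nat_lit 2, nat_lit 0, nat_lit 3, nat_lit 1, nat_lit 0, nat_lit 2, nat_lit 1, nat_lit 3, nat_lit 10, nat_lit 3], (nat_lit 6), true)]), ([[nat_lit 8, nat_lit 0, nat_lit 2],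
  [nat_lit 8, nat_lit 0, nat_lit 2],
  [nat_lit 8]], [([nat_lit 9, nat_lit 8, nat_lit 0, nat_lit 2, nat_lit 9, nat_lit 8], (nat_lit 0), false), ([nat_lit 9, nat_lit 8], (nat_lit 0), false), ([nat_lit 2, nat_lit 0], (nat_lit 0), false), ([nat_lit 2, nat_lit 0], (nat_lit 9), false)]), ([[nat_lit 7],
  [nat_lit 7],
  [nat_lit 0, nat_lit 2, nat_lit 7]], [([nat_lit 8, nat_lit 2, nat_lit 0], (nat_lit 9), true)]), ([[nat_lit 7, nat_lit 0, nat_lit 2],
  [nat_lit 8],
  [nat_lit 7, nat_lit 0, nat_lit 2],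
  [nat_lit 8],
  [nat_lit 7, nat_lit 0, nat_lit 2],
  [nat_lit 8],
  [nat_lit 7, nat_lit 0, nat_lit 2],
  [nat_lit 8, nat_lit 2, nat_lit 0]], [([nat_lit 9, nat_lit 7, nat_lit 0, nat_lit 2, nat_lit 9, nat_lit 8, nat_lit 9, nat_lit 7, nat_lit 0, nat_lit 2, nat_lit 9, nat_lit 8, nat_lit 9, nat_lit 7, nat_lit 0, nat_lit 2, nat_lit 9, nat_lit 8, nat_lit 9, nat_lit 7], (nat_lit 0), false), ([nat_lit 9, nat_lit 7, nat_lit 0, nat_lit 2, nat_lit 9, nat_lit 8, nat_lit 9, nat_lit 7, nat_lit 0, nat_lit 2, nat_lit 9, nat_lit 8, nat_lit 9, nat_lit 7], (nat_lit 0), false), ([nat_lit 9, nat_lit 7, nat_lit 0, nat_lit 2, nat_lit 9, nat_lit 8, nat_lit 9, nat_lit 7], (nat_lit 0), false), ([nat_lit 9, nat_lit 7], (nat_lit 0), false), ([], (nat_lit 10), false)]), ([[nat_lit 8],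
  [nat_lit 7, nat_lit 0, nat_lit 2],
  [nat_lit 8],
  [nat_lit 7, nat_lit 0, nat_lit 2],
  [nat_lit 8],
  [nat_lit 7, nat_lit 0, nat_lit 2],
  [nat_lit 8, nat_lit 2, nat_lit 0],
  [nat_lit 7, nat_lit 0, nat_lit 2]], [([nat_lit 9, nat_lit 8, nat_lit 9, nat_lit 7, nat_lit 0, nat_lit 2, nat_lit 9, nat_lit 8, nat_lit 9, nat_lit 7, nat_lit 0, nat_lit 2, nat_lit 9, nat_lit 8, nat_lit 9, nat_lit 7], (nat_lit 0), false), ([nat_lit 9, nat_lit 8, nat_lit 9, nat_lit 7, nat_lit 0, nat_lit 2, nat_lit 9, nat_lit 8, nat_lit 9, nat_lit 7], (nat_lit 0), false), ([nat_lit 9, nat_lit 8, nat_lit 9, nat_lit 7], (nat_lit 0), false), ([nat_lit 2, nat_lit 0], (nat_lit 0), false), ([nat_lit 2, nat_lit 0, nat_lit 8, nat_lit 10], (nat_lit 10), false)]), ([[nat_lit 7, nat_lit 0, nat_lit 2],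
  [nat_lit 8],
  [nat_lit 7, nat_lit 0, nat_lit 2],
  [nat_lit 8],
  [nat_lit 7, nat_lit 0, nat_lit 2],
  [nat_lit 8, nat_lit 2, nat_lit 0],
  [nat_lit 7, nat_lit 0, nat_lit 2],
  [nat_lit 8]], [([nat_lit 9, nat_lit 7, nat_lit 0, nat_lit 2, nat_lit 9, nat_lit 8, nat_lit 9, nat_lit 7, nat_lit 0, nat_lit 2, nat_lit 9, nat_lit 8, nat_lit 9, nat_lit 7], (nat_lit 0), false), ([nat_lit 9, nat_lit 7, nat_lit 0, nat_lit 2, nat_lit 9, nat_lit 8, nat_lit 9, nat_lit 7], (nat_lit 0), false), ([nat_lit 9, nat_lit 7], (nat_lit 0), false), ([nat_lit 7, nat_lit 10, nat_lit 2, nat_lit 0], (nat_lit 0), false), ([nat_lit 7, nat_lit 10, nat_lit 2, nat_lit 0, nat_lit 8, nat_lit 10], (nat_lit 10), false)]), ([[nat_lit 8],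
  [nat_lit 7, nat_lit 0, nat_lit 2],
  [nat_lit 8],
  [nat_lit 7, nat_lit 0, nat_lit 2],
  [nat_lit 8, nat_lit 2, nat_lit 0],
  [nat_lit 7, nat_lit 0, nat_lit 2],
  [nat_lit 8],
  [nat_lit 7, nat_lit 0, nat_lit 2]], [([nat_lit 9, nat_lit 8, nat_lit 9, nat_lit 7, nat_lit 0, nat_lit 2, nat_lit 9, nat_lit 8, nat_lit 9, nat_lit 7], (nat_lit 0), false), ([nat_lit 9, nat_lit 8, nat_lit 9, nat_lit 7], (nat_lit 0), false), ([nat_lit 2, nat_lit 0], (nat_lit 0), false), ([nat_lit 2, nat_lit 0, nat_lit 8, nat_lit 10, nat_lit 7, nat_lit 10, nat_lit 2, nat_lit 0], (nat_lit 0), false), ([nat_lit 2, nat_lit 0, nat_lit 8, nat_lit 10, nat_lit 7, nat_lit 10, nat_lit 2, nat_lit 0, nat_lit 8, nat_lit 10], (nat_lit 10), false)]), ([[nat_lit 7, nat_lit 0, nat_lit 2],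
  [nat_lit 8],
  [nat_lit 7, nat_lit 0, nat_lit 2],
  [nat_lit 8, nat_lit 2, nat_lit 0],
  [nat_lit 7, nat_lit 0, nat_lit 2],
  [nat_lit 8],
  [nat_lit 7, nat_lit 0, nat_lit 2],
  [nat_lit 8]], [([nat_lit 9, nat_lit 7, nat_lit 0, nat_lit 2, nat_lit 9, nat_lit 8, nat_lit 9, nat_lit 7], (nat_lit 0), false), ([nat_lit 9, nat_lit 7], (nat_lit 0), false), ([nat_lit 7, nat_lit 10, nat_lit 2, nat_lit 0], (nat_lit 0), false), ([nat_lit 7, nat_lit 10, nat_lit 2, nat_lit 0, nat_lit 8, nat_lit 10, nat_lit 7, nat_lit 10, nat_lit 2, nat_lit 0], (nat_lit 0), false), ([nat_lit 7, nat_lit 10, nat_lit 2, nat_lit 0, nat_lit 8, nat_lit 10, nat_lit 7, nat_lit 10, nat_lit 2, nat_lit 0, nat_lit 8, nat_lit 10], (nat_lit 10), false)]), ([[nat_lit 8, nat_lit 8, nat_lit 3, nat_lit 7, nat_lit 7],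
  [nat_lit 8, nat_lit 8, nat_lit 3, nat_lit 7, nat_lit 7],
  [nat_lit 8, nat_lit 8, nat_lit 3, nat_lit 7, nat_lit 7],
  [nat_lit 8, nat_lit 8, nat_lit 3, nat_lit 0, nat_lit 2, nat_lit 3, nat_lit 2, nat_lit 3, nat_lit 8, nat_lit 4, nat_lit 3, nat_lit 2, nat_lit 3, nat_lit 4, nat_lit 7, nat_lit 7, nat_lit 7, nat_lit 4, nat_lit 3, nat_lit 2, nat_lit 3, nat_lit 4]], [([nat_lit 4, nat_lit 3, nat_lit 2, nat_lit 3, nat_lit 4, nat_lit 8, nat_lit 8, nat_lit 8, nat_lit 4, nat_lit 3, nat_lit 2, nat_lit 3, nat_lit 4, nat_lit 7, nat_lit 3, nat_lit 2, nat_lit 3, nat_lit 2, nat_lit 0], (nat_lit 11), false)]), ([[nat_lit 8, nat_lit 8, nat_lit 3, nat_lit 7, nat_lit 7],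
  [nat_lit 8, nat_lit 8, nat_lit 3, nat_lit 7, nat_lit 7],
  [nat_lit 8, nat_lit 8, nat_lit 3, nat_lit 0, nat_lit 2, nat_lit 3, nat_lit 2, nat_lit 3, nat_lit 8, nat_lit 4, nat_lit 3, nat_lit 2, nat_lit 3, nat_lit 4, nat_lit 7, nat_lit 7, nat_lit 7, nat_lit 4, nat_lit 3, nat_lit 2, nat_lit 3, nat_lit 4],
  [nat_lit 8, nat_lit 8, nat_lit 3, nat_lit 7, nat_lit 7]], [([nat_lit 8, nat_lit 8, nat_lit 3, nat_lit 7, nat_lit 7, nat_lit 10, nat_lit 4, nat_lit 3, nat_lit 2, nat_lit 3, nat_lit 4, nat_lit 8, nat_lit 8, nat_lit 8, nat_lit 4, nat_lit 3, nat_lit 2, nat_lit 3, nat_lit 4, nat_lit 7, nat_lit 3, nat_lit 2, nat_lit 3, nat_lit 2, nat_lit 0], (nat_lit 11), false)]), ([[nat_lit 8, nat_lit 8, nat_lit 3, nat_lit 7, nat_lit 7],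
  [nat_lit 8, nat_lit 8, nat_lit 3, nat_lit 0, nat_lit 2, nat_lit 3, nat_lit 2, nat_lit 3, nat_lit 8, nat_lit 4, nat_lit 3, nat_lit 2, nat_lit 3, nat_lit 4, nat_lit 7, nat_lit 7, nat_lit 7, nat_lit 4, nat_lit 3, nat_lit 2, nat_lit 3, nat_lit 4],
  [nat_lit 8, nat_lit 8, nat_lit 3, nat_lit 7, nat_lit 7],
  [nat_lit 8, nat_lit 8, nat_lit 3, nat_lit 7, nat_lit 7]], [([nat_lit 8, nat_lit 8, nat_lit 3, nat_lit 7, nat_lit 7, nat_lit 10, nat_lit 8, nat_lit 8, nat_lit 3, nat_lit 7, nat_lit 7, nat_lit 10, nat_lit 4, nat_lit 3, nat_lit 2, nat_lit 3, nat_lit 4, nat_lit 8, nat_lit 8, nat_lit 8, nat_lit 4, nat_lit 3, nat_lit 2, nat_lit 3, nat_lit 4, nat_lit 7, nat_lit 3, nat_lit 2, nat_lit 3, nat_lit 2, nat_lit 0], (nat_lit 11), false)]), ([[nat_lit 8, nat_lit 8, nat_lit 3, nat_lit 0, nat_lit 2, nat_lit 3, nat_lit 2, nat_lit 3, nat_lit 8, nat_lit 4, nat_lit 3, nat_lit 2, nat_lit 3, nat_lit 4, nat_lit 7, nat_lit 7, nat_lit 7, nat_lit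 4, nat_lit 3, nat_lit 2, nat_lit 3, nat_lit 4],
  [nat_lit 8, nat_lit 8, nat_lit 3, nat_lit 7, nat_lit 7],
  [nat_lit 8, nat_lit 8, nat_lit 3, nat_lit 7, nat_lit 7],
  [nat_lit 8, nat_lit 8, nat_lit 3, nat_lit 7, nat_lit 7]], [([nat_lit 8, nat_lit 8, nat_lit 3, nat_lit 7, nat_lit 7, nat_lit 10, nat_lit 8, nat_lit 8, nat_lit 3, nat_lit 7, nat_lit 7, nat_lit 10, nat_lit 8, nat_lit 8, nat_lit 3, nat_lit 7, nat_lit 7, nat_lit 10, nat_lit 4, nat_lit 3, nat_lit 2, nat_lit 3, nat_lit 4, nat_lit 8, nat_lit 8, nat_lit 8, nat_lit 4, nat_lit 3, nat_lit 2, nat_lit 3, nat_lit 4, nat_lit 7, nat_lit 3, nat_lit 2, nat_lit 3, nat_lit 2, nat_lit 0], (nat_lit 11), false)]), ([[nat_lit 8, nat_lit 8, nat_lit 3, nat_lit 7, nat_lit 7, nat_lit 0, nat_lit 2],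
  [nat_lit 8, nat_lit 8, nat_lit 3, nat_lit 7, nat_lit 7, nat_lit 0, nat_lit 2],
  [nat_lit 8, nat_lit 8, nat_lit 3, nat_lit 7, nat_lit 7, nat_lit 0, nat_lit 2],
  [nat_lit 4, nat_lit 3, nat_lit 2, nat_lit 3, nat_lit 4, nat_lit 8, nat_lit 8, nat_lit 8, nat_lit 4, nat_lit 3, nat_lit 2, nat_lit 3, nat_lit 4, nat_lit 7, nat_lit 3, nat_lit 2, nat_lit 3, nat_lit 2, nat_lit 0, nat_lit 3, nat_lit 7, nat_lit 7, nat_lit 0, nat_lit 2]], [([nat_lit 9, nat_lit 8, nat_lit 8, nat_lit 3, nat_lit 7, nat_lit 7, nat_lit 0, nat_lit 2, nat_lit 9, nat_lit 8, nat_lit 8, nat_lit 3, nat_lit 7, nat_lit 7, nat_lit 0, nat_lit 2, nat_lit 9, nat_lit 8, nat_lit 8, nat_lit 3, nat_lit 7, nat_lit 7], (nat_lit 0), false), ([nat_lit 9, nat_lit 8, nat_lit 8, nat_lit 3, nat_lit 7, nat_lit 7, nat_lit 0, nat_lit 2, nat_lit 9, nat_lit 8, nat_lit 8, nat_lit 3, nat_lit 7, nat_lit 7], (nat_lit 0), false), ([nat_lit 9, nat_lit 8, nat_lit 8, nat_lit 3, nat_lit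 7, nat_lit 7], (nat_lit 0), false), ([nat_lit 2, nat_lit 0], (nat_lit 0), false), ([nat_lit 2, nat_lit 0, nat_lit 8, nat_lit 8, nat_lit 3], (nat_lit 11), true)]), ([[nat_lit 8, nat_lit 8, nat_lit 3, nat_lit 7, nat_lit 7, nat_lit 0, nat_lit 2],
  [nat_lit 8, nat_lit 8, nat_lit 3, nat_lit 7, nat_lit 7, nat_lit 0, nat_lit 2],
  [nat_lit 4, nat_lit 3, nat_lit 2, nat_lit 3, nat_lit 4, nat_lit 8, nat_lit 8, nat_lit 8, nat_lit 4, nat_lit 3, nat_lit 2, nat_lit 3, nat_lit 4, nat_lit 7, nat_lit 3, nat_lit 2, nat_lit 3, nat_lit 2, nat_lit 0, nat_lit 3, nat_lit 7, nat_lit 7, nat_lit 0, nat_lit 2],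
  [nat_lit 8, nat_lit 8, nat_lit 3, nat_lit 7, nat_lit 7, nat_lit 0, nat_lit 2]], [([nat_lit 9, nat_lit 8, nat_lit 8, nat_lit 3, nat_lit 7, nat_lit 7, nat_lit 0, nat_lit 2, nat_lit 9, nat_lit 8, nat_lit 8, nat_lit 3, nat_lit 7, nat_lit 7], (nat_lit 0), false), ([nat_lit 9, nat_lit 8, nat_lit 8, nat_lit 3, nat_lit 7, nat_lit 7], (nat_lit 0), false), ([nat_lit 2, nat_lit 0], (nat_lit 0), false), ([nat_lit 2, nat_lit 0, nat_lit 8, nat_lit 8, nat_lit 3, nat_lit 7, nat_lit 7, nat_lit 10, nat_lit 2, nat_lit 0], (nat_lit 0), false), ([nat_lit 2, nat_lit 0, nat_lit 8, nat_lit 8, nat_lit 3, nat_lit 7, nat_lit 7, nat_lit 10, nat_lit 2, nat_lit 0, nat_lit 8, nat_lit 8, nat_lit 3], (nat_lit 11), true)]), ([[nat_lit 8, nat_lit 8, nat_lit 3, nat_lit 7, nat_lit 7, nat_lit 0, nat_lit 2],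
  [nat_lit 4, nat_lit 3, nat_lit 2, nat_lit 3, nat_lit 4, nat_lit 8, nat_lit 8, nat_lit 8, nat_lit 4, nat_lit 3, nat_lit 2, nat_lit 3, nat_lit 4, nat_lit 7, nat_lit 3, nat_lit 2, nat_lit 3, nat_lit 2, nat_lit 0, nat_lit 3, nat_lit 7, nat_lit 7, nat_lit 0, nat_lit 2],
  [nat_lit 8, nat_lit 8, nat_lit 3, nat_lit 7, nat_lit 7, nat_lit 0, nat_lit 2],
  [nat_lit 8, nat_lit 8, nat_lit 3, nat_lit 7, nat_lit 7, nat_lit 0, nat_lit 2]], [([nat_lit 9, nat_lit 8, nat_lit 8, nat_lit 3, nat_lit 7, nat_lit 7], (nat_lit 0), false), ([nat_lit 2, nat_lit 0], (nat_lit 0), false), ([nat_lit 2, nat_lit 0, nat_lit 8, nat_lit 8, nat_lit 3, nat_lit 7, nat_lit 7, nat_lit 10, nat_lit 2, nat_lit 0], (nat_lit 0), false), ([nat_lit 2, nat_lit 0, nat_lit 8, nat_lit 8, nat_lit 3, nat_lit 7, nat_lit 7, nat_lit 10, nat_lit 2, nat_lit 0, nat_lit 8, nat_lit 8, nat_lit 3, nat_lit 7, nat_lit 7, nat_lit 10, nat_lit 2, nat_lit 0], (nat_lit 0), false), ([nat_lit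 2, nat_lit 0, nat_lit 8, nat_lit 8, nat_lit 3, nat_lit 7, nat_lit 7, nat_lit 10, nat_lit 2, nat_lit 0, nat_lit 8, nat_lit 8, nat_lit 3, nat_lit 7, nat_lit 7, nat_lit 10, nat_lit 2, nat_lit 0, nat_lit 8, nat_lit 8, nat_lit 3], (nat_lit 11), true)]), ([[nat_lit 4, nat_lit 3, nat_lit 2, nat_lit 3, nat_lit 4, nat_lit 8, nat_lit 8, nat_lit 8, nat_lit 4, nat_lit 3, nat_lit 2, nat_lit 3, nat_lit 4, nat_lit 7, nat_lit 3, nat_lit 2, nat_lit 3, nat_lit 2, nat_lit 0, nat_lit 3, nat_lit 7, nat_lit 7, nat_lit 0, nat_lit 2],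
  [nat_lit 8, nat_lit 8, nat_lit 3, nat_lit 7, nat_lit 7, nat_lit 0, nat_lit 2],
  [nat_lit 8, nat_lit 8, nat_lit 3, nat_lit 7, nat_lit 7, nat_lit 0, nat_lit 2],
  [nat_lit 8, nat_lit 8, nat_lit 3, nat_lit 7, nat_lit 7, nat_lit 0, nat_lit 2]], [([nat_lit 2, nat_lit 0], (nat_lit 0), false), ([nat_lit 2, nat_lit 0, nat_lit 8, nat_lit 8, nat_lit 3, nat_lit 7, nat_lit 7, nat_lit 10, nat_lit 2, nat_lit 0], (nat_lit 0), false), ([nat_lit 2, nat_lit 0, nat_lit 8, nat_lit 8, nat_lit 3, nat_lit 7, nat_lit 7, nat_lit 10, nat_lit 2, nat_lit 0, nat_lit 8, nat_lit 8, nat_lit 3, nat_lit 7, nat_lit 7, nat_lit 10, nat_lit 2, nat_lit 0], (nat_lit 0), false), ([nat_lit 2, nat_lit 0, nat_lit 8, nat_lit 8, nat_lit 3, nat_lit 7, nat_lit 7, nat_lit 10, nat_lit 2, nat_lit 0, nat_lit 8, nat_lit 8, nat_lit 3, nat_lit 7, nat_lit 7, nat_lit 10, nat_lit 2, nat_lit 0, nat_lit 8, nat_lit 8, nat_lit 3, nat_lit 7, nat_lit 7, nat_lit 10, nat_lit 2,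 nat_lit 0], (nat_lit 0), false), ([nat_lit 2, nat_lit 0, nat_lit 8, nat_lit 8, nat_lit 3, nat_lit 7, nat_lit 7, nat_lit 10, nat_lit 2, nat_lit 0, nat_lit 8, nat_lit 8, nat_lit 3, nat_lit 7, nat_lit 7, nat_lit 10, nat_lit 2, nat_lit 0, nat_lit 8, nat_lit 8, nat_lit 3, nat_lit 7, nat_lit 7, nat_lit 10, nat_lit 2, nat_lit 0, nat_lit 8, nat_lit 8, nat_lit 3], (nat_lit 11), true)])]
noncomputable def P306 : List Pf := [.kb [nat_lit 0] [nat_lit 0] [([], (nat_lit 1), false)],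
  .kb [nat_lit 2] [nat_lit 2] [([], (nat_lit 2), false)],
  .kb [nat_lit 4] [nat_lit 4] [([], (nat_lit 3), false)],
  .kb [nat_lit 5] [nat_lit 6] [([], (nat_lit 7), false)],
  .kb [nat_lit 8, nat_lit 8, nat_lit 4, nat_lit 7, nat_lit 7] [nat_lit 8, nat_lit 8, nat_lit 4, nat_lit 7, nat_lit 7] [([nat_lit 9, nat_lit 8, nat_lit 8, nat_lit 4, nat_lit 7, nat_lit 7, nat_lit 10, nat_lit 8, nat_lit 8], (nat_lit 8), false)],
  .ki (nat_lit 0),
  .kp [nat_lit 8, nat_lit 8, nat_lit 0, nat_lit 0, nat_lit 8, nat_lit 8],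
  .ki (nat_lit 1),
  .kp [nat_lit 8, nat_lit 1, nat_lit 1, nat_lit 1, nat_lit 8, nat_lit 10, nat_lit 8, nat_lit 1],
  .ki (nat_lit 11),
  .kp [nat_lit 12, nat_lit 10, nat_lit 8, nat_lit 10, nat_lit 8, nat_lit 12],
  .ki (nat_lit 2),
  .kp [nat_lit 8, nat_lit 11, nat_lit 0, nat_lit 14, nat_lit 12, nat_lit 0],
  .ki (nat_lit 15),
  .kp [nat_lit 10, nat_lit 16, nat_lit 0, nat_lit 14, nat_lit 16],
  .ki (nat_lit 17),
  .kp [nat_lit 12, nat_lit 15, nat_lit 17, nat_lit 16, nat_lit 14, nat_lit 15, nat_lit 17, nat_lit 12, nat_lit 1, nat_lit 0, nat_lit 2, nat_lit 16, nat_lit 16],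
  .kp [nat_lit 12, nat_lit 18, nat_lit 12, nat_lit 15, nat_lit 8, nat_lit 1, nat_lit 15, nat_lit 16, nat_lit 14, nat_lit 12, nat_lit 1, nat_lit 15, nat_lit 0, nat_lit 2],
  .kp [nat_lit 12, nat_lit 16, nat_lit 12, nat_lit 15, nat_lit 3],
  .kp [nat_lit 15, nat_lit 15, nat_lit 15, nat_lit 8, nat_lit 1, nat_lit 1, nat_lit 4],
  .ki (nat_lit 5),
  .kp [nat_lit 8, nat_lit 16, nat_lit 23, nat_lit 16, nat_lit 2, nat_lit 8],
  .ki (nat_lit 24),
  .kp [nat_lit 16, nat_lit 16, nat_lit 24, nat_lit 18, nat_lit 8, nat_lit 1, nat_lit 5, nat_lit 14, nat_lit 17, nat_lit 8],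
  .ki (nat_lit 26),
  .kp [nat_lit 26, nat_lit 12, nat_lit 16, nat_lit 16, nat_lit 25, nat_lit 8, nat_lit 2, nat_lit 25, nat_lit 27, nat_lit 10, nat_lit 10, nat_lit 14, nat_lit 5, nat_lit 1, nat_lit 17, nat_lit 12, nat_lit 23],
  .kp [nat_lit 27, nat_lit 12, nat_lit 25, nat_lit 18, nat_lit 14, nat_lit 15, nat_lit 12, nat_lit 5, nat_lit 5, nat_lit 16, nat_lit 27, nat_lit 2, nat_lit 1, nat_lit 5, nat_lit 2, nat_lit 25, nat_lit 2, nat_lit 26, nat_lit 8],
  .kp [nat_lit 27, nat_lit 6],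
  .kp [nat_lit 26, nat_lit 25, nat_lit 25, nat_lit 14, nat_lit 23, nat_lit 7],
  .kp [nat_lit 26, nat_lit 18, nat_lit 15],
  .ki (nat_lit 32),
  .kp [nat_lit 24, nat_lit 12, nat_lit 17],
  .ki (nat_lit 34),
  .kp [nat_lit 35, nat_lit 18, nat_lit 26],
  .ki (nat_lit 36),
  .kp [nat_lit 0, nat_lit 2, nat_lit 27, nat_lit 18, nat_lit 11],
  .ki (nat_lit 38),
  .sb (nat_lit 0),
  .ss (nat_lit 0) [(nat_lit 40)] [],
  .sb (nat_lit 1),
  .ss (nat_lit 0) [(nat_lit 42)] [],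
  .ss (nat_lit 0) [] [nat_lit 42, nat_lit 42, nat_lit 41, nat_lit 42, nat_lit 40],
  .ss (nat_lit 0) [(nat_lit 44)] [],
  .sb (nat_lit 2),
  .ss (nat_lit 0) [(nat_lit 46)] [],
  .ss (nat_lit 0) [] [nat_lit 43, nat_lit 43, nat_lit 41, nat_lit 46, nat_lit 43, nat_lit 44, nat_lit 43, nat_lit 42, nat_lit 46],
  .ss (nat_lit 0) [(nat_lit 48)] [],
  .sb (nat_lit 3),
  .ss (nat_lit 0) [(nat_lit 50)] [],
  .ss (nat_lit 0) [] [nat_lit 43, nat_lit 51, nat_lit 50, nat_lit 48, nat_lit 51, nat_lit 46],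
  .ss (nat_lit 0) [(nat_lit 52)] [],
  .ss (nat_lit 0) [] [nat_lit 53, nat_lit 41, nat_lit 49, nat_lit 51, nat_lit 50, nat_lit 51, nat_lit 45, nat_lit 48, nat_lit 43],
  .ss (nat_lit 0) [(nat_lit 54)] [],
  .ss (nat_lit 0) [] [nat_lit 43, nat_lit 43, nat_lit 43],
  .ss (nat_lit 0) [] [nat_lit 47, nat_lit 40, nat_lit 43],
  .ss (nat_lit 0) [(nat_lit 57)] [],
  .sb (nat_lit 4),
  .ss (nat_lit 0) [(nat_lit 59)] [],
  .ss (nat_lit 0) [] [nat_lit 45, nat_lit 53, nat_lit 60, nat_lit 53, nat_lit 43, nat_lit 51, nat_lit 50, nat_lit 51, nat_lit 43, nat_lit 55, nat_lit 60, nat_lit 54, nat_lit 51, nat_lit 54, nat_lit 44],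
  .ss (nat_lit 0) [(nat_lit 61)] [],
  .ss (nat_lit 0) [] [nat_lit 59, nat_lit 51, nat_lit 50],
  .ss (nat_lit 0) [(nat_lit 63)] [],
  .ss (nat_lit 0) [] [nat_lit 51, nat_lit 51, nat_lit 46],
  .ss (nat_lit 0) [(nat_lit 65)] [],
  .ss (nat_lit 0) [] [nat_lit 56, nat_lit 64, nat_lit 43],
  .ss (nat_lit 0) [] [nat_lit 64, nat_lit 58, nat_lit 67],
  .ss (nat_lit 0) [(nat_lit 68)] [],
  .ss (nat_lit 0) [] [nat_lit 43, nat_lit 66, nat_lit 50],
  .ss (nat_lit 0) [(nat_lit 70)] [],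
  .ss (nat_lit 0) [] [nat_lit 67, nat_lit 63, nat_lit 59],
  .ss (nat_lit 0) [] [nat_lit 68, nat_lit 69, nat_lit 57],
  .ss (nat_lit 0) [] [nat_lit 63, nat_lit 59, nat_lit 72],
  .ss (nat_lit 0) [(nat_lit 74)] [],
  .ss (nat_lit 0) [] [nat_lit 73, nat_lit 57, nat_lit 67],
  .ss (nat_lit 0) [(nat_lit 76)] [],
  .sb (nat_lit 5),
  .ss (nat_lit 0) [(nat_lit 78)] [],
  .ss (nat_lit 0) [] [nat_lit 77, nat_lit 75, nat_lit 64],
  .ss (nat_lit 0) [(nat_lit 80)] [],
  .ss (nat_lit 0) [] [nat_lit 46, nat_lit 69, nat_lit 50],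
  .ss (nat_lit 0) [(nat_lit 82)] [],
  .sb (nat_lit 7),
  .ss (nat_lit 0) [] [nat_lit 78, nat_lit 84],
  .ss (nat_lit 0) [(nat_lit 85)] [],
  .ss (nat_lit 0) [(nat_lit 84)] [],
  .df,
  .cy (nat_lit 0) [] [] [] (nat_lit 88) [],
  .tr (nat_lit 88) [] [] [⟨[nat_lit 87, nat_lit 59, nat_lit 63, nat_lit 40, nat_lit 72, nat_lit 84], [nat_lit 14, nat_lit 26], (nat_lit 88)⟩],
  .ss (nat_lit 1) [(nat_lit 90)] [],
  .tr (nat_lit 88) [] [] [⟨[nat_lit 51, nat_lit 63, nat_lit 42, nat_lit 69, nat_lit 72, nat_lit 58, nat_lit 70], [nat_lit 37, nat_lit 34, nat_lit 24, nat_lit 26], (nat_lit 88)⟩],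
  .ss (nat_lit 1) [(nat_lit 92)] [],
  .ss (nat_lit 1) [] [nat_lit 91, nat_lit 93, nat_lit 91, nat_lit 93, nat_lit 92, nat_lit 93, nat_lit 90, nat_lit 93, nat_lit 90, nat_lit 93, nat_lit 93, nat_lit 92, nat_lit 91],
  .ss (nat_lit 1) [(nat_lit 94)] [],
  .tr (nat_lit 88) [] [] [⟨[nat_lit 72, nat_lit 68, nat_lit 72, nat_lit 82, nat_lit 80, nat_lit 59, nat_lit 71], [nat_lit 24, nat_lit 15, nat_lit 0, nat_lit 16, nat_lit 25], (nat_lit 88)⟩],
  .ss (nat_lit 1) [(nat_lit 96)] [],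
  .ss (nat_lit 1) [] [nat_lit 97, nat_lit 95, nat_lit 97, nat_lit 91, nat_lit 91, nat_lit 92, nat_lit 96, nat_lit 95, nat_lit 93],
  .ss (nat_lit 1) [(nat_lit 98)] [],
  .ss (nat_lit 1) [] [nat_lit 93, nat_lit 90, nat_lit 97],
  .ss (nat_lit 1) [(nat_lit 100)] [],
  .tr (nat_lit 88) [] [] [⟨[nat_lit 80, nat_lit 42, nat_lit 69], [nat_lit 15, nat_lit 5, nat_lit 18, nat_lit 36, nat_lit 11], (nat_lit 88)⟩],
  .ss (nat_lit 1) [] [nat_lit 91, nat_lit 99, nat_lit 91, nat_lit 102],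
  .ss (nat_lit 1) [(nat_lit 103)] [],
  .ss (nat_lit 1) [(nat_lit 102)] [],
  .tr (nat_lit 88) [] [] [⟨[nat_lit 60, nat_lit 79, nat_lit 57, nat_lit 47, nat_lit 47, nat_lit 76, nat_lit 41, nat_lit 81, nat_lit 40, nat_lit 42], [nat_lit 25, nat_lit 14, nat_lit 0, nat_lit 36, nat_lit 33, nat_lit 11], (nat_lit 88)⟩],
  .ss (nat_lit 1) [] [nat_lit 99, nat_lit 104, nat_lit 91, nat_lit 99, nat_lit 91, nat_lit 106],
  .ss (nat_lit 1) [(nat_lit 107)] [],
  .ss (nat_lit 1) [(nat_lit 106)] [],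
  .cy (nat_lit 13) [] [] [] (nat_lit 89) [⟨[nat_lit 84], [], (nat_lit 88)⟩],
  .cy (nat_lit 0) [] [] [] (nat_lit 110) [],
  .cy (nat_lit 13) [] [] [nat_lit 38] (nat_lit 89) [⟨[nat_lit 79, nat_lit 84], [nat_lit 25, nat_lit 2, nat_lit 0, nat_lit 36, nat_lit 17, nat_lit 27], (nat_lit 88)⟩, ⟨[], [nat_lit 26, nat_lit 2, nat_lit 0, nat_lit 25, nat_lit 37, nat_lit 17, nat_lit 27], (nat_lit 110)⟩],
  .ss (nat_lit 1) [] [nat_lit 108, nat_lit 112],
  .cy (nat_lit 14) [] [] [nat_lit 38] (nat_lit 110) [⟨[nat_lit 106], [nat_lit 2, nat_lit 36, nat_lit 25, nat_lit 11, nat_lit 27], (nat_lit 110)⟩, ⟨[nat_lit 106], [nat_lit 25, nat_lit 0, nat_lit 37, nat_lit 17], (nat_lit 110)⟩],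
  .ss (nat_lit 1) [] [nat_lit 107, nat_lit 99, nat_lit 104, nat_lit 114],
  .cy (nat_lit 15) [] [] [nat_lit 16, nat_lit 2, nat_lit 37, nat_lit 34, nat_lit 24, nat_lit 26] (nat_lit 88) [⟨[nat_lit 109], [nat_lit 0, nat_lit 2, nat_lit 37, nat_lit 18, nat_lit 27], (nat_lit 111)⟩, ⟨[nat_lit 109], [nat_lit 10, nat_lit 10, nat_lit 0, nat_lit 35, nat_lit 17, nat_lit 27], (nat_lit 110)⟩, ⟨[nat_lit 106], [nat_lit 18, nat_lit 15, nat_lit 0, nat_lit 26], (nat_lit 110)⟩, ⟨[], [nat_lit 0, nat_lit 2, nat_lit 24, nat_lit 36, nat_lit 11, nat_lit 26], (nat_lit 110)⟩, ⟨[nat_lit 109], [nat_lit 5, nat_lit 2, nat_lit 25, nat_lit 15, nat_lit 11, nat_lit 26], (nat_lit 110)⟩, ⟨[nat_lit 106], [nat_lit 5, nat_lit 2, nat_lit 0, nat_lit 37, nat_lit 37], (nat_lit 111)⟩, ⟨[], [nat_lit 24, nat_lit 0, nat_lit 32, nat_lit 36, nat_lit 16, nat_lit 26], (nat_lit 89)⟩],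
  .ss (nat_lit 0) [] [nat_lit 86, nat_lit 62, nat_lit 79, nat_lit 53, nat_lit 61, nat_lit 85, nat_lit 41, nat_lit 47, nat_lit 116],
  .df,
  .cy (nat_lit 0) [] [] [] (nat_lit 118) [],
  .tr (nat_lit 118) [] [] [⟨[nat_lit 106, nat_lit 101, nat_lit 106, nat_lit 100, nat_lit 106, nat_lit 90], [nat_lit 10, nat_lit 10, nat_lit 0, nat_lit 16, nat_lit 25, nat_lit 27], (nat_lit 118)⟩],
  .ss (nat_lit 2) [(nat_lit 120)] [],
  .tr (nat_lit 118) [] [] [⟨[nat_lit 100, nat_lit 97, nat_lit 100, nat_lit 91, nat_lit 100, nat_lit 100, nat_lit 90], [nat_lit 10, nat_lit 10, nat_lit 0, nat_lit 24, nat_lit 18, nat_lit 26], (nat_lit 118)⟩],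
  .ss (nat_lit 2) [(nat_lit 122)] [],
  .tr (nat_lit 118) [] [] [⟨[nat_lit 109, nat_lit 92, nat_lit 91, nat_lit 100, nat_lit 90, nat_lit 106], [nat_lit 10, nat_lit 10, nat_lit 0, nat_lit 17, nat_lit 17, nat_lit 15, nat_lit 27], (nat_lit 118)⟩],
  .ss (nat_lit 2) [(nat_lit 124)] [],
  .tr (nat_lit 118) [] [] [⟨[nat_lit 91, nat_lit 100, nat_lit 92, nat_lit 100], [nat_lit 10, nat_lit 10, nat_lit 0, nat_lit 33, nat_lit 33, nat_lit 26], (nat_lit 118)⟩],
  .ss (nat_lit 2) [(nat_lit 126)] [],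
  .tr (nat_lit 118) [] [] [⟨[nat_lit 92, nat_lit 100, nat_lit 101], [nat_lit 10, nat_lit 10, nat_lit 0, nat_lit 11], (nat_lit 118)⟩],
  .tr (nat_lit 118) [] [] [⟨[nat_lit 96, nat_lit 109, nat_lit 90, nat_lit 100, nat_lit 100, nat_lit 90], [nat_lit 25, nat_lit 37, nat_lit 17], (nat_lit 118)⟩],
  .ss (nat_lit 2) [(nat_lit 129)] [],
  .ss (nat_lit 2) [] [nat_lit 123, nat_lit 125, nat_lit 130, nat_lit 125, nat_lit 123, nat_lit 129, nat_lit 125, nat_lit 130, nat_lit 122, nat_lit 121, nat_lit 128],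
  .ss (nat_lit 2) [(nat_lit 131)] [],
  .cy (nat_lit 1) [] [] [nat_lit 24, nat_lit 2, nat_lit 37, nat_lit 11, nat_lit 15] (nat_lit 89) [⟨[nat_lit 84, nat_lit 59, nat_lit 87, nat_lit 59, nat_lit 50], [nat_lit 37, nat_lit 24, nat_lit 26], (nat_lit 88)⟩, ⟨[nat_lit 102], [nat_lit 10, nat_lit 10, nat_lit 0, nat_lit 33, nat_lit 35, nat_lit 11, nat_lit 26], (nat_lit 118)⟩],
  .cy (nat_lit 0) [] [] [] (nat_lit 133) [⟨[nat_lit 109, nat_lit 109, nat_lit 90], [nat_lit 15, nat_lit 5, nat_lit 33, nat_lit 37, nat_lit 11, nat_lit 26], (nat_lit 118)⟩],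
  .ss (nat_lit 2) [] [nat_lit 132, nat_lit 121, nat_lit 123, nat_lit 127, nat_lit 132, nat_lit 121, nat_lit 134],
  .ss (nat_lit 2) [(nat_lit 135)] [],
  .ss (nat_lit 2) [(nat_lit 134)] [],
  .cy (nat_lit 2) [] [] [nat_lit 15, nat_lit 0, nat_lit 15, nat_lit 35, nat_lit 27] (nat_lit 89) [⟨[nat_lit 87, nat_lit 82, nat_lit 70, nat_lit 76, nat_lit 84, nat_lit 59, nat_lit 50], [nat_lit 10, nat_lit 10, nat_lit 0, nat_lit 11, nat_lit 15, nat_lit 27], (nat_lit 88)⟩, ⟨[], [nat_lit 35, nat_lit 11], (nat_lit 118)⟩, ⟨[nat_lit 137], [nat_lit 18, nat_lit 18, nat_lit 26], (nat_lit 119)⟩],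
  .ss (nat_lit 1) [] [nat_lit 107, nat_lit 95, nat_lit 91, nat_lit 99, nat_lit 91, nat_lit 93, nat_lit 138],
  .cy (nat_lit 7) [] [] [nat_lit 24, nat_lit 2, nat_lit 15, nat_lit 24, nat_lit 27] (nat_lit 89) [⟨[nat_lit 87, nat_lit 83, nat_lit 59, nat_lit 84, nat_lit 71, nat_lit 50], [nat_lit 10, nat_lit 10, nat_lit 0, nat_lit 37, nat_lit 16, nat_lit 27], (nat_lit 88)⟩, ⟨[], [nat_lit 33, nat_lit 36, nat_lit 11, nat_lit 27], (nat_lit 118)⟩],
  .cy (nat_lit 0) [] [] [] (nat_lit 140) [],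
  .cy (nat_lit 10) [] [] [nat_lit 25, nat_lit 1, nat_lit 16, nat_lit 18, nat_lit 11] (nat_lit 89) [⟨[nat_lit 79, nat_lit 59, nat_lit 84, nat_lit 71, nat_lit 71, nat_lit 59, nat_lit 87, nat_lit 71, nat_lit 59, nat_lit 50], [nat_lit 37, nat_lit 17, nat_lit 11], (nat_lit 88)⟩, ⟨[], [nat_lit 25, nat_lit 14, nat_lit 0, nat_lit 18, nat_lit 36, nat_lit 26], (nat_lit 118)⟩, ⟨[nat_lit 122, nat_lit 120], [nat_lit 10, nat_lit 10, nat_lit 0, nat_lit 37, nat_lit 34, nat_lit 25, nat_lit 27], (nat_lit 140)⟩],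
  .ss (nat_lit 1) [] [nat_lit 108, nat_lit 95, nat_lit 104, nat_lit 107, nat_lit 91, nat_lit 93, nat_lit 97, nat_lit 95, nat_lit 97, nat_lit 104, nat_lit 108, nat_lit 142],
  .cy (nat_lit 1) [] [] [nat_lit 24, nat_lit 15, nat_lit 0, nat_lit 15, nat_lit 17, nat_lit 11] (nat_lit 118) [⟨[nat_lit 126, nat_lit 122], [nat_lit 10, nat_lit 10, nat_lit 0, nat_lit 24, nat_lit 24], (nat_lit 140)⟩, ⟨[nat_lit 102, nat_lit 90, nat_lit 92, nat_lit 102, nat_lit 90], [nat_lit 5, nat_lit 24, nat_lit 24, nat_lit 11], (nat_lit 141)⟩, ⟨[nat_lit 120], [nat_lit 5, nat_lit 35, nat_lit 17], (nat_lit 140)⟩],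
  .ss (nat_lit 1) [] [nat_lit 108, nat_lit 97, nat_lit 91, nat_lit 97, nat_lit 107, nat_lit 95, nat_lit 93, nat_lit 144],
  .cy (nat_lit 5) [] [] [nat_lit 1, nat_lit 24, nat_lit 0, nat_lit 34, nat_lit 24] (nat_lit 118) [⟨[nat_lit 126, nat_lit 122, nat_lit 120], [nat_lit 34, nat_lit 15, nat_lit 26], (nat_lit 140)⟩, ⟨[nat_lit 102, nat_lit 92, nat_lit 102, nat_lit 92], [nat_lit 10, nat_lit 10, nat_lit 0, nat_lit 33, nat_lit 35, nat_lit 11, nat_lit 27], (nat_lit 141)⟩],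
  .cy (nat_lit 0) [] [] [] (nat_lit 146) [],
  .cy (nat_lit 25) [] [] [nat_lit 24, nat_lit 2, nat_lit 15, nat_lit 32, nat_lit 11, nat_lit 26] (nat_lit 118) [⟨[nat_lit 137, nat_lit 129], [nat_lit 5, nat_lit 2, nat_lit 15, nat_lit 17, nat_lit 27], (nat_lit 146)⟩, ⟨[nat_lit 109, nat_lit 109], [nat_lit 11, nat_lit 5, nat_lit 2, nat_lit 34, nat_lit 27], (nat_lit 147)⟩, ⟨[nat_lit 130], [nat_lit 11, nat_lit 5, nat_lit 2, nat_lit 37, nat_lit 34, nat_lit 25, nat_lit 26], (nat_lit 146)⟩],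
  .ss (nat_lit 1) [] [nat_lit 95, nat_lit 104, nat_lit 91, nat_lit 93, nat_lit 99, nat_lit 104, nat_lit 97, nat_lit 148],
  .cy (nat_lit 22) [] [] [nat_lit 10, nat_lit 10, nat_lit 0, nat_lit 32, nat_lit 34, nat_lit 16, nat_lit 26] (nat_lit 119) [⟨[], [nat_lit 17, nat_lit 37, nat_lit 27], (nat_lit 111)⟩, ⟨[nat_lit 100, nat_lit 109, nat_lit 96], [nat_lit 2, nat_lit 25, nat_lit 15, nat_lit 11], (nat_lit 147)⟩],
  .cy (nat_lit 0) [] [] [] (nat_lit 150) [],
  .cy (nat_lit 14) [] [] [] (nat_lit 118) [⟨[nat_lit 137], [nat_lit 16, nat_lit 5, nat_lit 2, nat_lit 35, nat_lit 32, nat_lit 11, nat_lit 27], (nat_lit 151)⟩],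
  .cy (nat_lit 0) [] [] [] (nat_lit 152) [⟨[nat_lit 100, nat_lit 106, nat_lit 101], [nat_lit 24, nat_lit 2, nat_lit 34, nat_lit 17, nat_lit 33, nat_lit 27], (nat_lit 147)⟩],
  .ss (nat_lit 2) [] [nat_lit 123, nat_lit 129, nat_lit 136, nat_lit 153],
  .ss (nat_lit 2) [(nat_lit 153)] [],
  .tr (nat_lit 151) [] [] [⟨[nat_lit 153, nat_lit 137], [nat_lit 11, nat_lit 5, nat_lit 2, nat_lit 34, nat_lit 25, nat_lit 11, nat_lit 26], (nat_lit 150)⟩],
  .ss (nat_lit 2) [] [nat_lit 136, nat_lit 131, nat_lit 154, nat_lit 127, nat_lit 156],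
  .cy (nat_lit 13) [] [] [nat_lit 39] (nat_lit 147) [⟨[nat_lit 134], [nat_lit 1, nat_lit 1, nat_lit 15, nat_lit 27], (nat_lit 146)⟩],
  .df,
  .cy (nat_lit 0) [] [] [] (nat_lit 159) [],
  .tr (nat_lit 159) [] [] [⟨[nat_lit 101, nat_lit 91, nat_lit 100, nat_lit 96, nat_lit 100], [nat_lit 25, nat_lit 2, nat_lit 0, nat_lit 32, nat_lit 37, nat_lit 15], (nat_lit 159)⟩],
  .tr (nat_lit 159) [] [] [⟨[nat_lit 109, nat_lit 91, nat_lit 100, nat_lit 101, nat_lit 106, nat_lit 90], [nat_lit 5, nat_lit 0], (nat_lit 159)⟩],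
  .ss (nat_lit 3) [(nat_lit 162)] [],
  .tr (nat_lit 159) [] [] [⟨[nat_lit 93, nat_lit 109, nat_lit 106, nat_lit 101, nat_lit 96, nat_lit 100, nat_lit 90], [nat_lit 14, nat_lit 24, nat_lit 24, nat_lit 26], (nat_lit 159)⟩],
  .tr (nat_lit 159) [] [] [⟨[nat_lit 105, nat_lit 93, nat_lit 105, nat_lit 92, nat_lit 90, nat_lit 101, nat_lit 102, nat_lit 100], [nat_lit 5, nat_lit 2, nat_lit 24, nat_lit 24, nat_lit 27], (nat_lit 159)⟩],
  .ss (nat_lit 3) [(nat_lit 165)] [],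
  .tr (nat_lit 159) [] [] [⟨[nat_lit 96, nat_lit 91, nat_lit 96, nat_lit 92, nat_lit 105, nat_lit 109, nat_lit 101, nat_lit 101, nat_lit 91, nat_lit 106, nat_lit 90, nat_lit 93, nat_lit 106, nat_lit 102, nat_lit 100, nat_lit 109], [nat_lit 0], (nat_lit 159)⟩],
  .cy (nat_lit 14) [] [] [] (nat_lit 140) [⟨[nat_lit 100, nat_lit 106], [nat_lit 2, nat_lit 0, nat_lit 25, nat_lit 11, nat_lit 27], (nat_lit 159)⟩],
  .cy (nat_lit 0) [] [] [] (nat_lit 168) [],
  .cy (nat_lit 13) [] [] [nat_lit 39] (nat_lit 160) [⟨[nat_lit 106], [nat_lit 2, nat_lit 17, nat_lit 11, nat_lit 26], (nat_lit 159)⟩],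
  .cy (nat_lit 0) [] [] [] (nat_lit 170) [],
  .cy (nat_lit 8) [] [] [nat_lit 24, nat_lit 2, nat_lit 18, nat_lit 35, nat_lit 27] (nat_lit 118) [⟨[nat_lit 130], [nat_lit 10, nat_lit 10, nat_lit 0, nat_lit 33, nat_lit 16], (nat_lit 146)⟩, ⟨[nat_lit 100, nat_lit 109, nat_lit 100, nat_lit 92], [nat_lit 26, nat_lit 24, nat_lit 0, nat_lit 16, nat_lit 24, nat_lit 27], (nat_lit 159)⟩],
  .cy (nat_lit 0) [] [] [] (nat_lit 172) [],
  .cy (nat_lit 11) [] [] [nat_lit 5, nat_lit 2, nat_lit 24, nat_lit 18, nat_lit 18, nat_lit 26] (nat_lit 118) [⟨[nat_lit 130, nat_lit 153], [nat_lit 25, nat_lit 0, nat_lit 25, nat_lit 37, nat_lit 11, nat_lit 26], (nat_lit 146)⟩, ⟨[nat_lit 100, nat_lit 109, nat_lit 92, nat_lit 101], [nat_lit 26, nat_lit 2, nat_lit 0, nat_lit 34, nat_lit 17], (nat_lit 159)⟩],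
  .cy (nat_lit 0) [] [] [] (nat_lit 174) [⟨[nat_lit 109, nat_lit 90, nat_lit 109, nat_lit 100, nat_lit 90], [nat_lit 15, nat_lit 0, nat_lit 27, nat_lit 24, nat_lit 15, nat_lit 26], (nat_lit 159)⟩],
  .ss (nat_lit 3) [(nat_lit 175)] [],
  .cy (nat_lit 12) [] [] [nat_lit 0, nat_lit 2, nat_lit 36, nat_lit 15] (nat_lit 158) [⟨[nat_lit 100, nat_lit 109, nat_lit 96], [nat_lit 5, nat_lit 2, nat_lit 17, nat_lit 11, nat_lit 27], (nat_lit 147)⟩, ⟨[nat_lit 129, nat_lit 128, nat_lit 153, nat_lit 122], [nat_lit 10, nat_lit 10, nat_lit 0, nat_lit 37, nat_lit 18], (nat_lit 169)⟩],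
  .cy (nat_lit 0) [] [] [] (nat_lit 177) [⟨[nat_lit 96, nat_lit 100, nat_lit 109, nat_lit 92], [nat_lit 36, nat_lit 24, nat_lit 15, nat_lit 27], (nat_lit 173)⟩],
  .ss (nat_lit 3) [(nat_lit 178)] [],
  .cy (nat_lit 5) [] [] [nat_lit 25, nat_lit 14, nat_lit 0, nat_lit 36, nat_lit 25, nat_lit 26] (nat_lit 146) [⟨[nat_lit 102, nat_lit 90], [nat_lit 24, nat_lit 0, nat_lit 24, nat_lit 24, nat_lit 27], (nat_lit 158)⟩, ⟨[], [nat_lit 17, nat_lit 34, nat_lit 11], (nat_lit 173)⟩],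
  .cy (nat_lit 0) [] [] [] (nat_lit 180) [],
  .cy (nat_lit 1) [] [] [nat_lit 26, nat_lit 2, nat_lit 0, nat_lit 18, nat_lit 11, nat_lit 15] (nat_lit 160) [⟨[nat_lit 100, nat_lit 90, nat_lit 106, nat_lit 90], [nat_lit 14, nat_lit 33, nat_lit 25], (nat_lit 173)⟩, ⟨[nat_lit 175], [nat_lit 1, nat_lit 37, nat_lit 11, nat_lit 17], (nat_lit 170)⟩],
  .cy (nat_lit 0) [] [] [] (nat_lit 182) [],
  .cy (nat_lit 1) [] [] [nat_lit 17, nat_lit 24, nat_lit 0, nat_lit 16, nat_lit 25, nat_lit 26] (nat_lit 160) [⟨[nat_lit 100, nat_lit 106, nat_lit 102, nat_lit 90], [nat_lit 25, nat_lit 14, nat_lit 0, nat_lit 26, nat_lit 16, nat_lit 27], (nat_lit 147)⟩, ⟨[nat_lit 134, nat_lit 120, nat_lit 137], [nat_lit 26], (nat_lit 181)⟩],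
  .cy (nat_lit 3) [] [] [nat_lit 15, nat_lit 1, nat_lit 35, nat_lit 15, nat_lit 27] (nat_lit 160) [⟨[nat_lit 100, nat_lit 106, nat_lit 102, nat_lit 90], [nat_lit 5, nat_lit 0, nat_lit 26, nat_lit 36, nat_lit 26], (nat_lit 147)⟩, ⟨[nat_lit 137, nat_lit 128, nat_lit 134], [nat_lit 5, nat_lit 32, nat_lit 24, nat_lit 11, nat_lit 26], (nat_lit 181)⟩],
  .cy (nat_lit 0) [] [] [] (nat_lit 185) [],
  .cy (nat_lit 15) [] [] [nat_lit 16, nat_lit 5, nat_lit 0, nat_lit 25, nat_lit 36, nat_lit 27] (nat_lit 160) [⟨[nat_lit 90, nat_lit 96, nat_lit 109, nat_lit 100, nat_lit 92, nat_lit 90], [nat_lit 5, nat_lit 33, nat_lit 37], (nat_lit 173)⟩, ⟨[nat_lit 175], [nat_lit 16, nat_lit 5, nat_lit 2, nat_lit 26, nat_lit 15, nat_lit 26], (nat_lit 183)⟩, ⟨[nat_lit 178, nat_lit 176], [nat_lit 1, nat_lit 24, nat_lit 0, nat_lit 27, nat_lit 18, nat_lit 26], (nat_lit 186)⟩, ⟨[nat_lit 178, nat_lit 176], [nat_lit 14, nat_lit 0, nat_lit 27, nat_lit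 17], (nat_lit 171)⟩, ⟨[], [nat_lit 11, nat_lit 5, nat_lit 2, nat_lit 26, nat_lit 15], (nat_lit 168)⟩, ⟨[nat_lit 155, nat_lit 122, nat_lit 129, nat_lit 122], [nat_lit 16, nat_lit 5, nat_lit 2, nat_lit 33, nat_lit 35, nat_lit 11, nat_lit 27], (nat_lit 181)⟩],
  .cy (nat_lit 0) [] [] [] (nat_lit 187) [],
  .cy (nat_lit 16) [] [] [nat_lit 11, nat_lit 2, nat_lit 0, nat_lit 36, nat_lit 24, nat_lit 15, nat_lit 27] (nat_lit 160) [⟨[nat_lit 106], [nat_lit 2, nat_lit 37, nat_lit 37, nat_lit 16, nat_lit 27], (nat_lit 159)⟩, ⟨[], [nat_lit 14, nat_lit 0, nat_lit 32, nat_lit 35], (nat_lit 168)⟩, ⟨[nat_lit 124, nat_lit 130], [nat_lit 25, nat_lit 14, nat_lit 0, nat_lit 33, nat_lit 11, nat_lit 16, nat_lit 26], (nat_lit 169)⟩, ⟨[nat_lit 179, nat_lit 175], [nat_lit 5, nat_lit 0, nat_lit 32, nat_lit 36, nat_lit 16], (nat_lit 185)⟩, ⟨[nat_lit 179, nat_lit 175], [nat_lit 26, nat_lit 24, nat_lit 0, nat_lit 33, nat_lit 16, nat_lit 26], (nat_lit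 183)⟩, ⟨[], [nat_lit 14, nat_lit 0, nat_lit 37, nat_lit 32, nat_lit 27], (nat_lit 183)⟩],
  .cy (nat_lit 0) [] [] [] (nat_lit 189) [],
  .cy (nat_lit 20) [] [] [nat_lit 5, nat_lit 0, nat_lit 33, nat_lit 11] (nat_lit 160) [⟨[nat_lit 92, nat_lit 106, nat_lit 92, nat_lit 102, nat_lit 90], [nat_lit 16, nat_lit 5, nat_lit 2, nat_lit 17, nat_lit 34, nat_lit 11], (nat_lit 141)⟩, ⟨[nat_lit 130, nat_lit 124], [nat_lit 15, nat_lit 5, nat_lit 37, nat_lit 32, nat_lit 27], (nat_lit 169)⟩],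
  .cy (nat_lit 27) [] [] [nat_lit 25, nat_lit 0, nat_lit 34, nat_lit 17, nat_lit 33, nat_lit 26] (nat_lit 160) [⟨[nat_lit 100, nat_lit 109, nat_lit 102], [nat_lit 16, nat_lit 0, nat_lit 25, nat_lit 15, nat_lit 26], (nat_lit 158)⟩, ⟨[nat_lit 106, nat_lit 92, nat_lit 96], [nat_lit 10, nat_lit 10, nat_lit 0, nat_lit 37, nat_lit 16, nat_lit 27], (nat_lit 173)⟩],
  .cy (nat_lit 27) [] [] [nat_lit 1, nat_lit 25, nat_lit 11] (nat_lit 160) [⟨[nat_lit 100, nat_lit 106, nat_lit 90, nat_lit 106, nat_lit 101], [nat_lit 1, nat_lit 14, nat_lit 25, nat_lit 15, nat_lit 26], (nat_lit 159)⟩, ⟨[nat_lit 178, nat_lit 176], [nat_lit 26, nat_lit 2, nat_lit 37, nat_lit 34], (nat_lit 188)⟩],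
  .cy (nat_lit 0) [] [] [] (nat_lit 193) [],
  .cy (nat_lit 1) [] [] [nat_lit 24, nat_lit 1, nat_lit 15, nat_lit 26] (nat_lit 170) [⟨[nat_lit 179, nat_lit 175], [nat_lit 16, nat_lit 5, nat_lit 2, nat_lit 17], (nat_lit 182)⟩, ⟨[], [nat_lit 10, nat_lit 10, nat_lit 0, nat_lit 32, nat_lit 18, nat_lit 15, nat_lit 26], (nat_lit 187)⟩],
  .cy (nat_lit 0) [] [] [] (nat_lit 195) [],
  .cy (nat_lit 24) [] [] [nat_lit 1, nat_lit 25, nat_lit 15, nat_lit 26] (nat_lit 170) [⟨[nat_lit 178], [nat_lit 17, nat_lit 2, nat_lit 0, nat_lit 16, nat_lit 18, nat_lit 11, nat_lit 27], (nat_lit 184)⟩, ⟨[nat_lit 179], [nat_lit 5, nat_lit 14, nat_lit 15, nat_lit 32, nat_lit 27], (nat_lit 195)⟩],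
  .cy (nat_lit 3) [] [] [nat_lit 5, nat_lit 16, nat_lit 2, nat_lit 33, nat_lit 27] (nat_lit 168) [⟨[nat_lit 153, nat_lit 153, nat_lit 122], [nat_lit 24, nat_lit 2, nat_lit 34, nat_lit 17, nat_lit 27], (nat_lit 181)⟩, ⟨[nat_lit 179, nat_lit 175], [nat_lit 5, nat_lit 36, nat_lit 11], (nat_lit 196)⟩],
  .df,
  .cy (nat_lit 0) [] [] [] (nat_lit 199) [],
  .tr (nat_lit 199) [] [] [⟨[nat_lit 102, nat_lit 92, nat_lit 96, nat_lit 92, nat_lit 106], [nat_lit 26], (nat_lit 199)⟩],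
  .ss (nat_lit 4) [(nat_lit 201)] [],
  .tr (nat_lit 199) [] [] [⟨[nat_lit 109, nat_lit 90, nat_lit 101, nat_lit 93, nat_lit 96, nat_lit 101, nat_lit 101, nat_lit 96, nat_lit 92], [nat_lit 37, nat_lit 34, nat_lit 25], (nat_lit 199)⟩],
  .ss (nat_lit 4) [(nat_lit 203)] [],
  .tr (nat_lit 199) [] [] [⟨[nat_lit 96, nat_lit 93, nat_lit 92, nat_lit 109, nat_lit 92, nat_lit 90, nat_lit 109, nat_lit 91, nat_lit 90, nat_lit 106, nat_lit 101, nat_lit 101, nat_lit 90], [nat_lit 0, nat_lit 27], (nat_lit 199)⟩],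
  .ss (nat_lit 4) [(nat_lit 205)] [],
  .cy (nat_lit 5) [] [] [nat_lit 25, nat_lit 14, nat_lit 0, nat_lit 11, nat_lit 26] (nat_lit 141) [⟨[nat_lit 120], [nat_lit 5, nat_lit 35, nat_lit 35, nat_lit 11, nat_lit 27], (nat_lit 140)⟩, ⟨[nat_lit 100, nat_lit 90, nat_lit 96], [nat_lit 18, nat_lit 15, nat_lit 0, nat_lit 37, nat_lit 34, nat_lit 24, nat_lit 27], (nat_lit 199)⟩],
  .cy (nat_lit 0) [] [] [] (nat_lit 207) [⟨[nat_lit 100, nat_lit 90, nat_lit 109, nat_lit 90], [nat_lit 10, nat_lit 10, nat_lit 0, nat_lit 37, nat_lit 15, nat_lit 11, nat_lit 26], (nat_lit 199)⟩],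
  .ss (nat_lit 4) [(nat_lit 208)] [],
  .cy (nat_lit 8) [] [] [nat_lit 2, nat_lit 32, nat_lit 24] (nat_lit 168) [⟨[nat_lit 124], [nat_lit 1, nat_lit 24, nat_lit 0, nat_lit 25, nat_lit 11], (nat_lit 140)⟩, ⟨[nat_lit 100, nat_lit 106, nat_lit 90, nat_lit 106, nat_lit 90], [nat_lit 16, nat_lit 32, nat_lit 15, nat_lit 27], (nat_lit 199)⟩],
  .cy (nat_lit 0) [] [] [] (nat_lit 210) [],
  .cy (nat_lit 20) [] [] [nat_lit 36, nat_lit 25, nat_lit 11, nat_lit 26] (nat_lit 200) [⟨[nat_lit 106], [nat_lit 11, nat_lit 2, nat_lit 0, nat_lit 33, nat_lit 11, nat_lit 16, nat_lit 26], (nat_lit 159)⟩, ⟨[nat_lit 179, nat_lit 179, nat_lit 176], [nat_lit 33, nat_lit 37, nat_lit 11, nat_lit 27], (nat_lit 211)⟩],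
  .df,
  .cy (nat_lit 0) [] [] [] (nat_lit 213) [],
  .tr (nat_lit 213) [] [] [⟨[nat_lit 92, nat_lit 96, nat_lit 106, nat_lit 101, nat_lit 93, nat_lit 106, nat_lit 105, nat_lit 101, nat_lit 90, nat_lit 106, nat_lit 96, nat_lit 100], [nat_lit 1, nat_lit 5, nat_lit 15, nat_lit 15, nat_lit 15], (nat_lit 213)⟩],
  .ss (nat_lit 5) [(nat_lit 215)] [],
  .tr (nat_lit 213) [] [] [⟨[nat_lit 91, nat_lit 106, nat_lit 106, nat_lit 102, nat_lit 106, nat_lit 102, nat_lit 90], [nat_lit 37, nat_lit 34, nat_lit 25, nat_lit 26], (nat_lit 213)⟩],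
  .ss (nat_lit 5) [(nat_lit 217)] [],
  .cy (nat_lit 14) [] [] [] (nat_lit 200) [⟨[], [nat_lit 10, nat_lit 10, nat_lit 0, nat_lit 15, nat_lit 15, nat_lit 15], (nat_lit 213)⟩],
  .cy (nat_lit 0) [] [] [] (nat_lit 219) [],
  .cy (nat_lit 13) [] [] [nat_lit 39] (nat_lit 214) [⟨[nat_lit 109, nat_lit 109], [nat_lit 0, nat_lit 2, nat_lit 17, nat_lit 11, nat_lit 26], (nat_lit 213)⟩],
  .cy (nat_lit 0) [] [] [] (nat_lit 221) [],
  .cy (nat_lit 11) [] [] [nat_lit 0, nat_lit 25, nat_lit 11, nat_lit 27] (nat_lit 171) [⟨[nat_lit 176], [nat_lit 2, nat_lit 0, nat_lit 33, nat_lit 25], (nat_lit 172)⟩, ⟨[nat_lit 90, nat_lit 101, nat_lit 109, nat_lit 92], [nat_lit 14, nat_lit 0, nat_lit 17, nat_lit 37, nat_lit 11], (nat_lit 213)⟩],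
  .cy (nat_lit 0) [] [] [] (nat_lit 223) [],
  .cy (nat_lit 11) [] [] [nat_lit 17, nat_lit 2, nat_lit 0, nat_lit 33, nat_lit 33, nat_lit 11] (nat_lit 171) [⟨[nat_lit 178, nat_lit 176], [nat_lit 24, nat_lit 2, nat_lit 0, nat_lit 17, nat_lit 27], (nat_lit 183)⟩, ⟨[nat_lit 165], [nat_lit 11, nat_lit 36, nat_lit 27], (nat_lit 224)⟩],
  .cy (nat_lit 0) [] [] [] (nat_lit 225) [],
  .cy (nat_lit 5) [] [] [nat_lit 1, nat_lit 1, nat_lit 35, nat_lit 17, nat_lit 26] (nat_lit 172) [⟨[nat_lit 106, nat_lit 100, nat_lit 90], [nat_lit 24, nat_lit 2, nat_lit 36, nat_lit 26], (nat_lit 158)⟩, ⟨[nat_lit 106, nat_lit 90, nat_lit 106, nat_lit 90, nat_lit 100, nat_lit 90], [nat_lit 10, nat_lit 10, nat_lit 0, nat_lit 37, nat_lit 34, nat_lit 24, nat_lit 26], (nat_lit 213)⟩],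
  .cy (nat_lit 0) [] [] [] (nat_lit 227) [],
  .cy (nat_lit 10) [] [] [nat_lit 16, nat_lit 5, nat_lit 0, nat_lit 17, nat_lit 34, nat_lit 11] (nat_lit 172) [⟨[nat_lit 106, nat_lit 100, nat_lit 109, nat_lit 90], [nat_lit 11, nat_lit 2, nat_lit 0, nat_lit 32, nat_lit 24, nat_lit 11], (nat_lit 173)⟩, ⟨[nat_lit 165], [nat_lit 25, nat_lit 14, nat_lit 0, nat_lit 25, nat_lit 16, nat_lit 27], (nat_lit 228)⟩],
  .cy (nat_lit 0) [] [] [] (nat_lit 229) [],
  .cy (nat_lit 5) [] [] [nat_lit 5, nat_lit 2, nat_lit 0, nat_lit 32, nat_lit 34, nat_lit 11] (nat_lit 183) [⟨[nat_lit 178, nat_lit 176], [nat_lit 14, nat_lit 0, nat_lit 16, nat_lit 17, nat_lit 15, nat_lit 27], (nat_lit 171)⟩, ⟨[nat_lit 178, nat_lit 176], [nat_lit 25, nat_lit 35, nat_lit 11, nat_lit 27], (nat_lit 226)⟩],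
  .cy (nat_lit 0) [] [] [] (nat_lit 231) [],
  .cy (nat_lit 8) [] [] [nat_lit 16, nat_lit 2, nat_lit 24, nat_lit 36, nat_lit 11] (nat_lit 183) [⟨[nat_lit 178, nat_lit 176], [nat_lit 15, nat_lit 2, nat_lit 37, nat_lit 34, nat_lit 24], (nat_lit 195)⟩, ⟨[nat_lit 178, nat_lit 176, nat_lit 165], [nat_lit 10, nat_lit 10, nat_lit 0, nat_lit 24, nat_lit 26], (nat_lit 226)⟩],
  .cy (nat_lit 0) [] [] [] (nat_lit 233) [],
  .cy (nat_lit 8) [] [] [nat_lit 17, nat_lit 27] (nat_lit 183) [⟨[], [nat_lit 18, nat_lit 15, nat_lit 0, nat_lit 26, nat_lit 24, nat_lit 11, nat_lit 27], (nat_lit 171)⟩, ⟨[nat_lit 178, nat_lit 176, nat_lit 161], [nat_lit 10, nat_lit 10, nat_lit 0, nat_lit 32, nat_lit 34, nat_lit 16, nat_lit 27], (nat_lit 234)⟩],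
  .cy (nat_lit 0) [] [] [] (nat_lit 235) [],
  .cy (nat_lit 11) [] [] [nat_lit 1, nat_lit 24, nat_lit 0, nat_lit 16, nat_lit 18, nat_lit 15, nat_lit 26] (nat_lit 183) [⟨[nat_lit 178, nat_lit 176], [nat_lit 5, nat_lit 16, nat_lit 2, nat_lit 25, nat_lit 36, nat_lit 11, nat_lit 27], (nat_lit 171)⟩, ⟨[nat_lit 164, nat_lit 178, nat_lit 176], [nat_lit 24, nat_lit 36, nat_lit 27], (nat_lit 234)⟩],
  .cy (nat_lit 0) [] [] [] (nat_lit 237) [],
  .cy (nat_lit 8) [] [] [nat_lit 16, nat_lit 2, nat_lit 24, nat_lit 16, nat_lit 26] (nat_lit 185) [⟨[nat_lit 178, nat_lit 176], [nat_lit 1, nat_lit 14, nat_lit 24, nat_lit 17, nat_lit 27], (nat_lit 171)⟩, ⟨[nat_lit 178, nat_lit 176, nat_lit 167], [nat_lit 10, nat_lit 10, nat_lit 0, nat_lit 25, nat_lit 36, nat_lit 15, nat_lit 26], (nat_lit 234)⟩],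
  .cy (nat_lit 0) [] [] [] (nat_lit 239) [],
  .cy (nat_lit 8) [] [] [nat_lit 11, nat_lit 5, nat_lit 2, nat_lit 11, nat_lit 36] (nat_lit 187) [⟨[nat_lit 179], [nat_lit 15, nat_lit 2, nat_lit 11, nat_lit 17], (nat_lit 172)⟩, ⟨[nat_lit 92, nat_lit 101, nat_lit 90, nat_lit 109, nat_lit 96, nat_lit 90], [nat_lit 34, nat_lit 17, nat_lit 33, nat_lit 27], (nat_lit 213)⟩],
  .cy (nat_lit 0) [] [] [] (nat_lit 241) [],
  .cy (nat_lit 8) [] [] [nat_lit 15, nat_lit 5, nat_lit 15, nat_lit 24, nat_lit 11, nat_lit 27] (nat_lit 197) [⟨[nat_lit 179, nat_lit 175], [nat_lit 5, nat_lit 16, nat_lit 2, nat_lit 37, nat_lit 32, nat_lit 27], (nat_lit 196)⟩, ⟨[nat_lit 176, nat_lit 178], [nat_lit 10, nat_lit 10, nat_lit 0, nat_lit 25, nat_lit 37, nat_lit 11, nat_lit 26], (nat_lit 236)⟩],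
  .cy (nat_lit 0) [] [] [] (nat_lit 243) [],
  .cy (nat_lit 3) [] [] [nat_lit 0, nat_lit 33, nat_lit 37, nat_lit 11, nat_lit 27] (nat_lit 214) [⟨[nat_lit 92, nat_lit 106, nat_lit 100, nat_lit 100], [nat_lit 25, nat_lit 1, nat_lit 27, nat_lit 15, nat_lit 11, nat_lit 26], (nat_lit 173)⟩, ⟨[nat_lit 167, nat_lit 165], [nat_lit 15, nat_lit 5, nat_lit 36, nat_lit 24, nat_lit 27], (nat_lit 228)⟩],
  .cy (nat_lit 0) [] [] [] (nat_lit 245) [],
  .cy (nat_lit 3) [] [] [nat_lit 15, nat_lit 5, nat_lit 25, nat_lit 26] (nat_lit 214) [⟨[nat_lit 100, nat_lit 92, nat_lit 96, nat_lit 90, nat_lit 96, nat_lit 90], [nat_lit 5, nat_lit 36, nat_lit 16], (nat_lit 213)⟩, ⟨[nat_lit 215, nat_lit 217], [nat_lit 15, nat_lit 5, nat_lit 35, nat_lit 33], (nat_lit 246)⟩],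
  .cy (nat_lit 7) [] [] [nat_lit 10, nat_lit 10, nat_lit 0, nat_lit 37, nat_lit 33, nat_lit 11] (nat_lit 214) [⟨[nat_lit 102], [nat_lit 10, nat_lit 10, nat_lit 0, nat_lit 33, nat_lit 36, nat_lit 11, nat_lit 26], (nat_lit 213)⟩, ⟨[], [nat_lit 17, nat_lit 24, nat_lit 0, nat_lit 17, nat_lit 17, nat_lit 11, nat_lit 26], (nat_lit 247)⟩],
  .cy (nat_lit 8) [] [] [nat_lit 18, nat_lit 15, nat_lit 0, nat_lit 35, nat_lit 36, nat_lit 26] (nat_lit 214) [⟨[nat_lit 109, nat_lit 109, nat_lit 101, nat_lit 96, nat_lit 102], [nat_lit 0, nat_lit 34, nat_lit 25], (nat_lit 213)⟩, ⟨[], [nat_lit 14, nat_lit 15, nat_lit 0, nat_lit 17, nat_lit 33, nat_lit 26], (nat_lit 247)⟩],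
  .cy (nat_lit 0) [] [] [] (nat_lit 249) [],
  .cy (nat_lit 11) [] [] [nat_lit 17, nat_lit 24, nat_lit 0, nat_lit 25, nat_lit 15, nat_lit 11] (nat_lit 214) [⟨[nat_lit 92, nat_lit 106, nat_lit 100, nat_lit 100], [nat_lit 15, nat_lit 0, nat_lit 16, nat_lit 24], (nat_lit 173)⟩, ⟨[nat_lit 165, nat_lit 161], [nat_lit 10, nat_lit 10, nat_lit 0, nat_lit 17, nat_lit 11, nat_lit 17], (nat_lit 228)⟩],
  .cy (nat_lit 0) [] [] [] (nat_lit 251) [],
  .cy (nat_lit 21) [] [] [nat_lit 10, nat_lit 10, nat_lit 0, nat_lit 32, nat_lit 32, nat_lit 11] (nat_lit 214) [⟨[], [nat_lit 16, nat_lit 16, nat_lit 11], (nat_lit 159)⟩, ⟨[nat_lit 176, nat_lit 178, nat_lit 165], [nat_lit 37, nat_lit 18, nat_lit 27], (nat_lit 234)⟩],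
  .cy (nat_lit 13) [] [] [nat_lit 38] (nat_lit 210) [⟨[nat_lit 167, nat_lit 162, nat_lit 161], [nat_lit 24, nat_lit 2, nat_lit 0, nat_lit 16, nat_lit 18, nat_lit 27], (nat_lit 244)⟩],
  .cy (nat_lit 0) [] [] [] (nat_lit 254) [],
  .cy (nat_lit 13) [] [] [nat_lit 39] (nat_lit 210) [⟨[nat_lit 167], [nat_lit 2, nat_lit 0, nat_lit 24, nat_lit 37, nat_lit 15], (nat_lit 234)⟩],
  .cy (nat_lit 0) [] [] [] (nat_lit 256) [],
  .cy (nat_lit 14) [] [] [nat_lit 38] (nat_lit 210) [⟨[nat_lit 167, nat_lit 178, nat_lit 176], [nat_lit 2, nat_lit 0, nat_lit 16, nat_lit 26], (nat_lit 238)⟩],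
  .cy (nat_lit 0) [] [] [] (nat_lit 258) [],
  .cy (nat_lit 14) [] [] [] (nat_lit 247) [⟨[nat_lit 215], [nat_lit 5, nat_lit 14, nat_lit 18, nat_lit 36, nat_lit 27], (nat_lit 253)⟩],
  .cy (nat_lit 13) [] [] [nat_lit 39] (nat_lit 227) [⟨[nat_lit 175, nat_lit 165, nat_lit 161], [nat_lit 2, nat_lit 0, nat_lit 27, nat_lit 24, nat_lit 11, nat_lit 27], (nat_lit 224)⟩],
  .cy (nat_lit 0) [] [] [] (nat_lit 261) [],
  .cy (nat_lit 14) [] [] [] (nat_lit 227) [⟨[nat_lit 165, nat_lit 175, nat_lit 167], [nat_lit 16, nat_lit 18, nat_lit 27], (nat_lit 232)⟩],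
  .cy (nat_lit 0) [] [] [] (nat_lit 263) [],
  .cy (nat_lit 13) [] [] [nat_lit 39] (nat_lit 233) [⟨[nat_lit 178, nat_lit 176], [nat_lit 2, nat_lit 0, nat_lit 18, nat_lit 15, nat_lit 11], (nat_lit 238)⟩],
  .cy (nat_lit 0) [] [] [] (nat_lit 265) [],
  .cy (nat_lit 14) [] [] [] (nat_lit 233) [⟨[nat_lit 162, nat_lit 161], [nat_lit 26, nat_lit 17, nat_lit 15, nat_lit 27], (nat_lit 244)⟩],
  .cy (nat_lit 0) [] [] [] (nat_lit 267) [],
  .cy (nat_lit 14) [] [] [] (nat_lit 231) [⟨[nat_lit 167, nat_lit 162, nat_lit 161], [nat_lit 15, nat_lit 15], (nat_lit 224)⟩],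
  .cy (nat_lit 0) [] [] [] (nat_lit 269) [],
  .cy (nat_lit 13) [] [] [] (nat_lit 239) [⟨[nat_lit 176, nat_lit 178], [nat_lit 10, nat_lit 10, nat_lit 0, nat_lit 17, nat_lit 34, nat_lit 15], (nat_lit 226)⟩],
  .cy (nat_lit 0) [] [] [] (nat_lit 271) [],
  .cy (nat_lit 13) [] [] [nat_lit 38] (nat_lit 239) [⟨[nat_lit 178, nat_lit 176, nat_lit 164], [nat_lit 24, nat_lit 2, nat_lit 0, nat_lit 37, nat_lit 26], (nat_lit 240)⟩],
  .cy (nat_lit 0) [] [] [] (nat_lit 273) [],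
  .cy (nat_lit 13) [] [] [nat_lit 39] (nat_lit 239) [⟨[nat_lit 161, nat_lit 179, nat_lit 175], [nat_lit 2, nat_lit 0, nat_lit 32, nat_lit 27, nat_lit 17, nat_lit 27], (nat_lit 226)⟩],
  .cy (nat_lit 0) [] [] [] (nat_lit 275) [],
  .cy (nat_lit 14) [] [] [nat_lit 39] (nat_lit 239) [⟨[nat_lit 164, nat_lit 162], [nat_lit 18, nat_lit 15, nat_lit 0, nat_lit 37, nat_lit 18, nat_lit 15, nat_lit 26], (nat_lit 226)⟩],
  .cy (nat_lit 0) [] [] [] (nat_lit 277) [],
  .cy (nat_lit 14) [] [] [nat_lit 38] (nat_lit 243) [⟨[nat_lit 176, nat_lit 178, nat_lit 167], [nat_lit 2, nat_lit 0, nat_lit 16, nat_lit 18], (nat_lit 238)⟩],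
  .cy (nat_lit 0) [] [] [] (nat_lit 279) [],
  .cy (nat_lit 13) [] [] [nat_lit 39] (nat_lit 225) [⟨[nat_lit 175, nat_lit 179, nat_lit 164], [nat_lit 2, nat_lit 0, nat_lit 17, nat_lit 26], (nat_lit 226)⟩],
  .cy (nat_lit 0) [] [] [] (nat_lit 281) [],
  .cy (nat_lit 13) [] [] [] (nat_lit 241) [⟨[nat_lit 179, nat_lit 175, nat_lit 161], [nat_lit 10, nat_lit 10, nat_lit 0, nat_lit 33, nat_lit 34, nat_lit 26], (nat_lit 236)⟩],
  .cy (nat_lit 0) [] [] [] (nat_lit 283) [],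
  .cy (nat_lit 13) [] [] [nat_lit 38] (nat_lit 241) [⟨[nat_lit 164, nat_lit 178, nat_lit 176], [nat_lit 24, nat_lit 2, nat_lit 0, nat_lit 37, nat_lit 11, nat_lit 17], (nat_lit 242)⟩],
  .cy (nat_lit 0) [] [] [] (nat_lit 285) [],
  .cy (nat_lit 13) [] [] [nat_lit 39] (nat_lit 241) [⟨[nat_lit 164, nat_lit 162, nat_lit 161], [nat_lit 2, nat_lit 0, nat_lit 25, nat_lit 37, nat_lit 27], (nat_lit 236)⟩],
  .cy (nat_lit 0) [] [] [] (nat_lit 287) [],
  .cy (nat_lit 14) [] [] [nat_lit 39] (nat_lit 241) [⟨[nat_lit 176, nat_lit 178], [nat_lit 18, nat_lit 15, nat_lit 0, nat_lit 33, nat_lit 35, nat_lit 11, nat_lit 27], (nat_lit 236)⟩],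
  .cy (nat_lit 0) [] [] [] (nat_lit 289) [],
  .cy (nat_lit 13) [] [] [nat_lit 38] (nat_lit 235) [⟨[nat_lit 175, nat_lit 165, nat_lit 179], [nat_lit 24, nat_lit 2, nat_lit 0, nat_lit 18, nat_lit 27], (nat_lit 236)⟩],
  .cy (nat_lit 0) [] [] [] (nat_lit 291) [],
  .cy (nat_lit 7) [] [] [nat_lit 1, nat_lit 24, nat_lit 0, nat_lit 34, nat_lit 37, nat_lit 11, nat_lit 26] (nat_lit 140) [⟨[nat_lit 106, nat_lit 100, nat_lit 109, nat_lit 90, nat_lit 92, nat_lit 90], [nat_lit 24, nat_lit 36], (nat_lit 213)⟩, ⟨[], [nat_lit 26, nat_lit 2, nat_lit 0, nat_lit 16, nat_lit 16, nat_lit 11, nat_lit 27], (nat_lit 247)⟩],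
  .cy (nat_lit 0) [] [] [] (nat_lit 293) [],
  .cy (nat_lit 8) [] [] [nat_lit 1, nat_lit 5, nat_lit 37, nat_lit 18, nat_lit 15] (nat_lit 172) [⟨[nat_lit 100, nat_lit 109, nat_lit 101, nat_lit 102, nat_lit 90], [nat_lit 24, nat_lit 15, nat_lit 0, nat_lit 16, nat_lit 25, nat_lit 26], (nat_lit 213)⟩, ⟨[nat_lit 217, nat_lit 215], [nat_lit 1, nat_lit 1, nat_lit 18, nat_lit 18], (nat_lit 247)⟩],
  .cy (nat_lit 0) [] [] [] (nat_lit 295) [],
  .cy (nat_lit 7) [] [] [nat_lit 14, nat_lit 17, nat_lit 37, nat_lit 11, nat_lit 26] (nat_lit 200) [⟨[nat_lit 96, nat_lit 106, nat_lit 92], [nat_lit 17, nat_lit 2, nat_lit 0, nat_lit 36, nat_lit 25, nat_lit 11], (nat_lit 173)⟩, ⟨[], [nat_lit 32, nat_lit 16, nat_lit 26], (nat_lit 228)⟩],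
  .cy (nat_lit 0) [] [] [] (nat_lit 297) [],
  .cy (nat_lit 7) [] [] [nat_lit 15, nat_lit 5, nat_lit 27, nat_lit 37, nat_lit 26] (nat_lit 214) [⟨[nat_lit 96, nat_lit 90, nat_lit 106, nat_lit 90], [nat_lit 25, nat_lit 0, nat_lit 36, nat_lit 11, nat_lit 26], (nat_lit 173)⟩, ⟨[nat_lit 165, nat_lit 164], [nat_lit 10, nat_lit 10, nat_lit 0, nat_lit 26, nat_lit 16, nat_lit 11], (nat_lit 228)⟩],
  .cy (nat_lit 0) [] [] [] (nat_lit 299) [],
  .cy (nat_lit 8) [] [] [nat_lit 0, nat_lit 16, nat_lit 18] (nat_lit 214) [⟨[nat_lit 106, nat_lit 96, nat_lit 90, nat_lit 96], [nat_lit 24, nat_lit 0, nat_lit 37, nat_lit 11, nat_lit 15, nat_lit 26], (nat_lit 213)⟩, ⟨[nat_lit 215], [nat_lit 14, nat_lit 18, nat_lit 11, nat_lit 15, nat_lit 27], (nat_lit 268)⟩],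
  .cy (nat_lit 0) [] [] [] (nat_lit 301) [],
  .cy (nat_lit 10) [] [] [nat_lit 24, nat_lit 15, nat_lit 0, nat_lit 35, nat_lit 35, nat_lit 27] (nat_lit 214) [⟨[nat_lit 96, nat_lit 102], [nat_lit 25, nat_lit 1, nat_lit 32, nat_lit 11, nat_lit 27], (nat_lit 213)⟩, ⟨[], [nat_lit 25, nat_lit 0, nat_lit 25, nat_lit 36], (nat_lit 268)⟩],
  .cy (nat_lit 0) [] [] [] (nat_lit 303) [],
  .cy (nat_lit 11) [] [] [nat_lit 26, nat_lit 2, nat_lit 0, nat_lit 25, nat_lit 18, nat_lit 27] (nat_lit 214) [⟨[nat_lit 106, nat_lit 100, nat_lit 90], [nat_lit 1, nat_lit 5, nat_lit 33, nat_lit 24, nat_lit 11, nat_lit 27], (nat_lit 173)⟩, ⟨[nat_lit 164], [nat_lit 10, nat_lit 10, nat_lit 0, nat_lit 35, nat_lit 15, nat_lit 26], (nat_lit 228)⟩]]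
noncomputable def P521 : List Pf := [.cy (nat_lit 20) [] [] [nat_lit 16, nat_lit 0, nat_lit 33, nat_lit 37] (nat_lit 214) [⟨[nat_lit 109, nat_lit 100, nat_lit 90], [nat_lit 24, nat_lit 2, nat_lit 0, nat_lit 35, nat_lit 36, nat_lit 11, nat_lit 27], (nat_lit 173)⟩, ⟨[nat_lit 175, nat_lit 161], [nat_lit 34, nat_lit 11, nat_lit 17, nat_lit 26], (nat_lit 232)⟩],
  .cy (nat_lit 24) [] [] [nat_lit 1, nat_lit 14, nat_lit 17, nat_lit 34, nat_lit 11, nat_lit 26] (nat_lit 214) [⟨[nat_lit 90, nat_lit 100, nat_lit 102], [nat_lit 24, nat_lit 16, nat_lit 0, nat_lit 25, nat_lit 37, nat_lit 11], (nat_lit 141)⟩, ⟨[nat_lit 155, nat_lit 121, nat_lit 153, nat_lit 126], [nat_lit 25, nat_lit 36, nat_lit 27], (nat_lit 294)⟩],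
  .cy (nat_lit 1) [] [] [nat_lit 16, nat_lit 0, nat_lit 15, nat_lit 27, nat_lit 16] (nat_lit 247) [⟨[nat_lit 215], [nat_lit 35, nat_lit 16, nat_lit 16, nat_lit 26], (nat_lit 225)⟩, ⟨[nat_lit 164, nat_lit 162], [nat_lit 5, nat_lit 35, nat_lit 15], (nat_lit 226)⟩],
  .cy (nat_lit 0) [] [] [] (nat_lit 308) [],
  .cy (nat_lit 1) [] [] [nat_lit 26, nat_lit 2, nat_lit 24, nat_lit 15] (nat_lit 247) [⟨[nat_lit 215], [nat_lit 34, nat_lit 32, nat_lit 16, nat_lit 26], (nat_lit 233)⟩, ⟨[nat_lit 165, nat_lit 162, nat_lit 161], [nat_lit 15, nat_lit 5, nat_lit 11, nat_lit 37, nat_lit 26], (nat_lit 234)⟩],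
  .cy (nat_lit 0) [] [] [] (nat_lit 310) [],
  .cy (nat_lit 4) [] [] [nat_lit 16, nat_lit 2, nat_lit 37, nat_lit 37, nat_lit 27] (nat_lit 247) [⟨[], [nat_lit 15, nat_lit 5, nat_lit 35, nat_lit 16, nat_lit 16], (nat_lit 293)⟩, ⟨[nat_lit 137, nat_lit 128, nat_lit 134, nat_lit 121], [nat_lit 5, nat_lit 37, nat_lit 17, nat_lit 11, nat_lit 26], (nat_lit 294)⟩],
  .cy (nat_lit 0) [] [] [] (nat_lit 312) [],
  .cy (nat_lit 24) [] [] [nat_lit 14, nat_lit 0, nat_lit 11, nat_lit 17] (nat_lit 247) [⟨[], [nat_lit 11, nat_lit 2, nat_lit 0, nat_lit 25, nat_lit 37, nat_lit 17, nat_lit 26], (nat_lit 288)⟩, ⟨[nat_lit 215], [nat_lit 25, nat_lit 1, nat_lit 33, nat_lit 24, nat_lit 26], (nat_lit 260)⟩],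
  .cy (nat_lit 0) [] [] [] (nat_lit 314) [],
  .cy (nat_lit 26) [] [] [nat_lit 0, nat_lit 2, nat_lit 24, nat_lit 37, nat_lit 17, nat_lit 27] (nat_lit 247) [⟨[nat_lit 215], [nat_lit 25, nat_lit 14, nat_lit 0, nat_lit 25, nat_lit 37, nat_lit 17], (nat_lit 277)⟩, ⟨[nat_lit 215], [nat_lit 14, nat_lit 15, nat_lit 0, nat_lit 36, nat_lit 25, nat_lit 11, nat_lit 27], (nat_lit 260)⟩],
  .cy (nat_lit 0) [] [] [] (nat_lit 316) [],
  .cy (nat_lit 26) [] [] [nat_lit 16, nat_lit 5, nat_lit 0, nat_lit 25, nat_lit 16, nat_lit 16] (nat_lit 247) [⟨[nat_lit 215], [nat_lit 26, nat_lit 2, nat_lit 0, nat_lit 17, nat_lit 15, nat_lit 27], (nat_lit 276)⟩, ⟨[nat_lit 215], [nat_lit 25, nat_lit 1, nat_lit 32, nat_lit 37, nat_lit 15], (nat_lit 260)⟩],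
  .cy (nat_lit 0) [] [] [] (nat_lit 318) [],
  .cy (nat_lit 22) [] [] [nat_lit 15, nat_lit 1, nat_lit 34, nat_lit 15, nat_lit 27] (nat_lit 221) [⟨[nat_lit 215], [nat_lit 5, nat_lit 16, nat_lit 2, nat_lit 24, nat_lit 36, nat_lit 16, nat_lit 26], (nat_lit 293)⟩, ⟨[nat_lit 122, nat_lit 120, nat_lit 129, nat_lit 124], [nat_lit 5, nat_lit 34, nat_lit 24, nat_lit 17, nat_lit 27], (nat_lit 294)⟩],
  .cy (nat_lit 0) [] [] [] (nat_lit 320) [],
  .cy (nat_lit 26) [] [] [nat_lit 24, nat_lit 2, nat_lit 34, nat_lit 32, nat_lit 26] (nat_lit 227) [⟨[nat_lit 175], [nat_lit 16, nat_lit 5, nat_lit 2, nat_lit 37, nat_lit 37], (nat_lit 224)⟩, ⟨[], [nat_lit 24, nat_lit 16, nat_lit 0, nat_lit 26, nat_lit 17, nat_lit 15, nat_lit 27], (nat_lit 265)⟩],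
  .cy (nat_lit 0) [] [] [] (nat_lit 322) [],
  .cy (nat_lit 12) [] [] [nat_lit 10, nat_lit 0, nat_lit 36, nat_lit 16, nat_lit 11, nat_lit 27] (nat_lit 246) [⟨[nat_lit 217], [nat_lit 10, nat_lit 10, nat_lit 0, nat_lit 24, nat_lit 24, nat_lit 27], (nat_lit 295)⟩, ⟨[nat_lit 165, nat_lit 161], [nat_lit 15, nat_lit 5, nat_lit 32, nat_lit 18, nat_lit 15], (nat_lit 228)⟩],
  .cy (nat_lit 0) [] [] [] (nat_lit 324) [],
  .cy (nat_lit 27) [] [] [nat_lit 5, nat_lit 16, nat_lit 2, nat_lit 26, nat_lit 16, nat_lit 27] (nat_lit 246) [⟨[nat_lit 215], [nat_lit 1, nat_lit 1, nat_lit 16, nat_lit 25, nat_lit 27], (nat_lit 261)⟩, ⟨[], [nat_lit 5, nat_lit 16, nat_lit 2, nat_lit 25, nat_lit 33, nat_lit 15], (nat_lit 311)⟩],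
  .cy (nat_lit 0) [] [] [] (nat_lit 326) [],
  .cy (nat_lit 12) [] [] [nat_lit 1, nat_lit 5, nat_lit 33, nat_lit 26] (nat_lit 253) [⟨[nat_lit 215], [nat_lit 10, nat_lit 10, nat_lit 0, nat_lit 17, nat_lit 17], (nat_lit 271)⟩, ⟨[], [nat_lit 10, nat_lit 10, nat_lit 0, nat_lit 25, nat_lit 16], (nat_lit 263)⟩],
  .cy (nat_lit 0) [] [] [] (nat_lit 328) [],
  .cy (nat_lit 1) [] [] [nat_lit 26, nat_lit 24, nat_lit 0, nat_lit 35] (nat_lit 222) [⟨[nat_lit 215], [nat_lit 5, nat_lit 16, nat_lit 2, nat_lit 36, nat_lit 16, nat_lit 26], (nat_lit 326)⟩, ⟨[nat_lit 217, nat_lit 215], [nat_lit 16, nat_lit 2, nat_lit 34, nat_lit 16, nat_lit 26], (nat_lit 260)⟩],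
  .cy (nat_lit 0) [] [] [] (nat_lit 330) [],
  .cy (nat_lit 8) [] [] [nat_lit 24, nat_lit 1, nat_lit 33, nat_lit 18, nat_lit 11, nat_lit 26] (nat_lit 222) [⟨[nat_lit 215], [nat_lit 5, nat_lit 16, nat_lit 2, nat_lit 34, nat_lit 15, nat_lit 11, nat_lit 27], (nat_lit 253)⟩, ⟨[nat_lit 215], [nat_lit 5, nat_lit 0, nat_lit 25, nat_lit 36, nat_lit 11, nat_lit 26], (nat_lit 280)⟩],
  .cy (nat_lit 0) [] [] [] (nat_lit 332) [],
  .cy (nat_lit 20) [] [] [nat_lit 10, nat_lit 10, nat_lit 0, nat_lit 34, nat_lit 24, nat_lit 26] (nat_lit 264) [⟨[nat_lit 215], [nat_lit 15, nat_lit 0, nat_lit 27, nat_lit 15, nat_lit 26], (nat_lit 247)⟩, ⟨[], [nat_lit 10, nat_lit 10, nat_lit 0, nat_lit 33, nat_lit 37, nat_lit 11, nat_lit 26], (nat_lit 330)⟩],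
  .cy (nat_lit 0) [] [] [] (nat_lit 334) [],
  .cy (nat_lit 25) [] [] [nat_lit 24, nat_lit 2, nat_lit 17, nat_lit 17, nat_lit 26] (nat_lit 264) [⟨[], [nat_lit 5, nat_lit 16, nat_lit 2, nat_lit 27, nat_lit 15, nat_lit 11], (nat_lit 233)⟩, ⟨[nat_lit 176, nat_lit 167, nat_lit 178], [nat_lit 5, nat_lit 37, nat_lit 37, nat_lit 26], (nat_lit 238)⟩],
  .cy (nat_lit 0) [] [] [] (nat_lit 336) [],
  .cy (nat_lit 24) [] [] [nat_lit 5, nat_lit 2, nat_lit 36, nat_lit 32, nat_lit 11, nat_lit 27] (nat_lit 260) [⟨[nat_lit 215], [nat_lit 16, nat_lit 5, nat_lit 0, nat_lit 18, nat_lit 16, nat_lit 27], (nat_lit 280)⟩, ⟨[nat_lit 215], [nat_lit 14, nat_lit 0, nat_lit 24, nat_lit 18, nat_lit 18], (nat_lit 334)⟩],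
  .cy (nat_lit 0) [] [] [] (nat_lit 338) [],
  .cy (nat_lit 27) [] [] [nat_lit 15, nat_lit 0, nat_lit 37, nat_lit 33, nat_lit 11, nat_lit 26] (nat_lit 260) [⟨[], [nat_lit 11, nat_lit 2, nat_lit 0, nat_lit 17, nat_lit 15, nat_lit 27], (nat_lit 288)⟩, ⟨[nat_lit 215], [nat_lit 17, nat_lit 2, nat_lit 0, nat_lit 26, nat_lit 24, nat_lit 11, nat_lit 26], (nat_lit 334)⟩],
  .cy (nat_lit 0) [] [] [] (nat_lit 340) [],
  .cy (nat_lit 3) [] [] [nat_lit 5, nat_lit 16, nat_lit 2, nat_lit 35, nat_lit 17, nat_lit 26] (nat_lit 268) [⟨[nat_lit 215], [nat_lit 24, nat_lit 2, nat_lit 35, nat_lit 33, nat_lit 27], (nat_lit 313)⟩, ⟨[], [nat_lit 15, nat_lit 2, nat_lit 15, nat_lit 17, nat_lit 11], (nat_lit 219)⟩],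
  .cy (nat_lit 0) [] [] [] (nat_lit 342) [],
  .cy (nat_lit 12) [] [] [nat_lit 5, nat_lit 25, nat_lit 37, nat_lit 17, nat_lit 27] (nat_lit 268) [⟨[nat_lit 215], [nat_lit 5, nat_lit 18, nat_lit 16, nat_lit 11, nat_lit 26], (nat_lit 330)⟩, ⟨[nat_lit 215], [nat_lit 14, nat_lit 37, nat_lit 17, nat_lit 26], (nat_lit 251)⟩],
  .cy (nat_lit 0) [] [] [] (nat_lit 344) [],
  .cy (nat_lit 4) [] [] [nat_lit 24, nat_lit 2, nat_lit 25, nat_lit 15, nat_lit 11] (nat_lit 239) [⟨[nat_lit 179, nat_lit 175], [nat_lit 15, nat_lit 2, nat_lit 36, nat_lit 17, nat_lit 26], (nat_lit 240)⟩, ⟨[nat_lit 215], [nat_lit 5, nat_lit 2, nat_lit 17, nat_lit 34, nat_lit 11], (nat_lit 317)⟩],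
  .cy (nat_lit 20) [] [] [nat_lit 24, nat_lit 2, nat_lit 32, nat_lit 36, nat_lit 16, nat_lit 27] (nat_lit 239) [⟨[nat_lit 179, nat_lit 175], [nat_lit 5, nat_lit 16, nat_lit 2, nat_lit 34, nat_lit 25, nat_lit 26], (nat_lit 226)⟩, ⟨[nat_lit 215], [nat_lit 24, nat_lit 2, nat_lit 0, nat_lit 24, nat_lit 37, nat_lit 17, nat_lit 26], (nat_lit 290)⟩],
  .cy (nat_lit 0) [] [] [] (nat_lit 347) [],
  .cy (nat_lit 1) [] [] [nat_lit 0, nat_lit 2, nat_lit 17, nat_lit 17] (nat_lit 274) [⟨[], [nat_lit 1, nat_lit 24, nat_lit 0, nat_lit 37, nat_lit 15, nat_lit 11, nat_lit 27], (nat_lit 347)⟩, ⟨[], [nat_lit 26, nat_lit 24, nat_lit 0, nat_lit 33, nat_lit 25], (nat_lit 292)⟩],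
  .cy (nat_lit 25) [] [] [nat_lit 1, nat_lit 5, nat_lit 27, nat_lit 24] (nat_lit 274) [⟨[nat_lit 215], [nat_lit 5, nat_lit 14, nat_lit 18, nat_lit 15, nat_lit 26], (nat_lit 241)⟩, ⟨[nat_lit 175, nat_lit 161, nat_lit 179], [nat_lit 24, nat_lit 2, nat_lit 37, nat_lit 11, nat_lit 15, nat_lit 27], (nat_lit 242)⟩],
  .cy (nat_lit 0) [] [] [] (nat_lit 350) [],
  .cy (nat_lit 4) [] [] [nat_lit 5, nat_lit 2, nat_lit 0, nat_lit 36, nat_lit 17, nat_lit 27] (nat_lit 278) [⟨[], [nat_lit 25, nat_lit 14, nat_lit 0, nat_lit 35, nat_lit 16, nat_lit 16, nat_lit 26], (nat_lit 276)⟩, ⟨[nat_lit 215], [nat_lit 2, nat_lit 34, nat_lit 34, nat_lit 15, nat_lit 26], (nat_lit 315)⟩],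
  .cy (nat_lit 0) [] [] [] (nat_lit 352) [],
  .cy (nat_lit 2) [] [] [nat_lit 11, nat_lit 2, nat_lit 0, nat_lit 17, nat_lit 11, nat_lit 26] (nat_lit 273) [⟨[], [nat_lit 5, nat_lit 25, nat_lit 37, nat_lit 17, nat_lit 27], (nat_lit 349)⟩, ⟨[], [nat_lit 24, nat_lit 0, nat_lit 32], (nat_lit 274)⟩],
  .cy (nat_lit 26) [] [] [nat_lit 25, nat_lit 2, nat_lit 0, nat_lit 33, nat_lit 34, nat_lit 26] (nat_lit 273) [⟨[], [nat_lit 15, nat_lit 5, nat_lit 17, nat_lit 15, nat_lit 11], (nat_lit 271)⟩, ⟨[nat_lit 215], [nat_lit 5, nat_lit 14, nat_lit 16, nat_lit 11, nat_lit 27], (nat_lit 317)⟩],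
  .cy (nat_lit 2) [] [] [nat_lit 15, nat_lit 1, nat_lit 11, nat_lit 17, nat_lit 26] (nat_lit 276) [⟨[], [nat_lit 16, nat_lit 2, nat_lit 34, nat_lit 24, nat_lit 17, nat_lit 27], (nat_lit 272)⟩, ⟨[nat_lit 215], [nat_lit 5, nat_lit 14, nat_lit 24, nat_lit 36], (nat_lit 352)⟩],
  .cy (nat_lit 0) [] [] [] (nat_lit 356) [],
  .cy (nat_lit 8) [] [] [nat_lit 35, nat_lit 16, nat_lit 16, nat_lit 26] (nat_lit 271) [⟨[nat_lit 215], [nat_lit 0, nat_lit 2, nat_lit 17, nat_lit 11, nat_lit 26], (nat_lit 260)⟩, ⟨[nat_lit 215], [nat_lit 26, nat_lit 16, nat_lit 11, nat_lit 26], (nat_lit 269)⟩],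
  .cy (nat_lit 0) [] [] [] (nat_lit 358) [],
  .cy (nat_lit 25) [] [] [nat_lit 18, nat_lit 15, nat_lit 0, nat_lit 37, nat_lit 18, nat_lit 15] (nat_lit 280) [⟨[nat_lit 217], [nat_lit 17, nat_lit 34, nat_lit 11, nat_lit 26], (nat_lit 344)⟩, ⟨[], [nat_lit 17, nat_lit 2, nat_lit 0, nat_lit 15, nat_lit 18, nat_lit 26], (nat_lit 233)⟩],
  .cy (nat_lit 0) [] [] [] (nat_lit 360) [],
  .cy (nat_lit 12) [] [] [nat_lit 14, nat_lit 27, nat_lit 15, nat_lit 27] (nat_lit 269) [⟨[nat_lit 215], [nat_lit 11, nat_lit 5, nat_lit 2, nat_lit 11, nat_lit 17, nat_lit 27], (nat_lit 293)⟩, ⟨[nat_lit 128, nat_lit 137, nat_lit 130, nat_lit 120], [nat_lit 24, nat_lit 15, nat_lit 0, nat_lit 32, nat_lit 34, nat_lit 16, nat_lit 27], (nat_lit 294)⟩],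
  .cy (nat_lit 0) [] [] [] (nat_lit 362) [],
  .cy (nat_lit 23) [] [] [nat_lit 11, nat_lit 2, nat_lit 0, nat_lit 34, nat_lit 15, nat_lit 26] (nat_lit 261) [⟨[], [nat_lit 24, nat_lit 17, nat_lit 11], (nat_lit 299)⟩, ⟨[nat_lit 215], [nat_lit 26, nat_lit 2, nat_lit 0, nat_lit 15, nat_lit 27, nat_lit 16], (nat_lit 321)⟩],
  .cy (nat_lit 0) [] [] [] (nat_lit 364) [],
  .cy (nat_lit 5) [] [] [nat_lit 0, nat_lit 2, nat_lit 25, nat_lit 35] (nat_lit 267) [⟨[], [nat_lit 26, nat_lit 24, nat_lit 0, nat_lit 17, nat_lit 33], (nat_lit 214)⟩, ⟨[nat_lit 92, nat_lit 109, nat_lit 96, nat_lit 90, nat_lit 96], [nat_lit 24, nat_lit 2, nat_lit 0, nat_lit 15, nat_lit 32], (nat_lit 199)⟩],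
  .cy (nat_lit 0) [] [] [] (nat_lit 366) [],
  .cy (nat_lit 13) [] [] [] (nat_lit 342) [⟨[nat_lit 215], [nat_lit 14, nat_lit 24, nat_lit 11, nat_lit 27], (nat_lit 320)⟩],
  .cy (nat_lit 0) [] [] [] (nat_lit 368) [],
  .cy (nat_lit 13) [] [] [nat_lit 39] (nat_lit 342) [⟨[nat_lit 215], [nat_lit 0, nat_lit 34, nat_lit 34, nat_lit 11, nat_lit 26], (nat_lit 328)⟩],
  .cy (nat_lit 0) [] [] [] (nat_lit 370) [],
  .cy (nat_lit 14) [] [] [nat_lit 39] (nat_lit 342) [⟨[nat_lit 215], [nat_lit 1, nat_lit 1, nat_lit 36, nat_lit 33, nat_lit 24, nat_lit 27], (nat_lit 312)⟩],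
  .cy (nat_lit 0) [] [] [] (nat_lit 372) [],
  .cy (nat_lit 13) [] [] [nat_lit 38] (nat_lit 361) [⟨[nat_lit 179, nat_lit 164, nat_lit 176], [nat_lit 5, nat_lit 2, nat_lit 34, nat_lit 24, nat_lit 17, nat_lit 27], (nat_lit 360)⟩],
  .cy (nat_lit 0) [] [] [] (nat_lit 374) [],
  .cy (nat_lit 8) [] [] [nat_lit 17, nat_lit 2, nat_lit 0, nat_lit 11, nat_lit 37] (nat_lit 172) [⟨[nat_lit 90, nat_lit 101, nat_lit 109], [nat_lit 24, nat_lit 2, nat_lit 0, nat_lit 25, nat_lit 11, nat_lit 27], (nat_lit 213)⟩, ⟨[nat_lit 215], [nat_lit 2, nat_lit 17, nat_lit 17], (nat_lit 268)⟩],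
  .cy (nat_lit 0) [] [] [] (nat_lit 376) [],
  .cy (nat_lit 26) [] [] [nat_lit 25, nat_lit 2, nat_lit 0, nat_lit 25, nat_lit 37, nat_lit 17, nat_lit 27] (nat_lit 234) [⟨[nat_lit 217], [nat_lit 10, nat_lit 10, nat_lit 0, nat_lit 25, nat_lit 36, nat_lit 11], (nat_lit 304)⟩, ⟨[], [nat_lit 24, nat_lit 16, nat_lit 0, nat_lit 27, nat_lit 16, nat_lit 27], (nat_lit 280)⟩],
  .cy (nat_lit 0) [] [] [] (nat_lit 378) [],
  .cy (nat_lit 11) [] [] [nat_lit 26, nat_lit 24, nat_lit 0, nat_lit 24, nat_lit 18] (nat_lit 200) [⟨[nat_lit 106, nat_lit 102, nat_lit 100, nat_lit 109], [nat_lit 11, nat_lit 2, nat_lit 0, nat_lit 17, nat_lit 17, nat_lit 15, nat_lit 26], (nat_lit 213)⟩, ⟨[], [nat_lit 24, nat_lit 2, nat_lit 37, nat_lit 24, nat_lit 11, nat_lit 26], (nat_lit 268)⟩],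
  .cy (nat_lit 0) [] [] [] (nat_lit 380) [],
  .cy (nat_lit 8) [] [] [nat_lit 10, nat_lit 10, nat_lit 0, nat_lit 25, nat_lit 35, nat_lit 11, nat_lit 26] (nat_lit 212) [⟨[nat_lit 202], [nat_lit 10, nat_lit 10, nat_lit 0, nat_lit 26, nat_lit 15, nat_lit 26], (nat_lit 220)⟩, ⟨[nat_lit 217, nat_lit 215], [nat_lit 5, nat_lit 2, nat_lit 33, nat_lit 15], (nat_lit 334)⟩],
  .cy (nat_lit 0) [] [] [] (nat_lit 382) [],
  .cy (nat_lit 8) [] [] [nat_lit 17, nat_lit 2, nat_lit 0, nat_lit 36, nat_lit 16, nat_lit 26] (nat_lit 214) [⟨[nat_lit 102, nat_lit 96, nat_lit 100, nat_lit 106, nat_lit 106], [nat_lit 1, nat_lit 14, nat_lit 17, nat_lit 17, nat_lit 11, nat_lit 26], (nat_lit 213)⟩, ⟨[nat_lit 217, nat_lit 215], [nat_lit 24, nat_lit 0, nat_lit 34, nat_lit 34, nat_lit 15, nat_lit 27], (nat_lit 247)⟩],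
  .cy (nat_lit 0) [] [] [] (nat_lit 384) [],
  .cy (nat_lit 11) [] [] [nat_lit 24, nat_lit 2, nat_lit 0, nat_lit 16, nat_lit 16, nat_lit 27] (nat_lit 214) [⟨[nat_lit 102, nat_lit 96, nat_lit 100, nat_lit 92], [nat_lit 24, nat_lit 1, nat_lit 33, nat_lit 16, nat_lit 11, nat_lit 27], (nat_lit 213)⟩, ⟨[nat_lit 217], [nat_lit 5, nat_lit 2, nat_lit 15, nat_lit 35, nat_lit 11, nat_lit 27], (nat_lit 332)⟩],
  .cy (nat_lit 0) [] [] [] (nat_lit 386) [],
  .cy (nat_lit 8) [] [] [nat_lit 5, nat_lit 34, nat_lit 15, nat_lit 11] (nat_lit 247) [⟨[nat_lit 215, nat_lit 217], [nat_lit 5, nat_lit 18], (nat_lit 246)⟩, ⟨[nat_lit 217], [nat_lit 10, nat_lit 10, nat_lit 0, nat_lit 37, nat_lit 37, nat_lit 16, nat_lit 26], (nat_lit 384)⟩],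
  .cy (nat_lit 0) [] [] [] (nat_lit 388) [],
  .cy (nat_lit 11) [] [] [nat_lit 14, nat_lit 15, nat_lit 0, nat_lit 34, nat_lit 11, nat_lit 27] (nat_lit 247) [⟨[nat_lit 215], [nat_lit 5, nat_lit 0, nat_lit 33, nat_lit 24, nat_lit 11, nat_lit 27], (nat_lit 237)⟩, ⟨[nat_lit 162, nat_lit 176, nat_lit 164, nat_lit 161], [nat_lit 16, nat_lit 0, nat_lit 35, nat_lit 32, nat_lit 26], (nat_lit 360)⟩],
  .cy (nat_lit 0) [] [] [] (nat_lit 390) [],
  .cy (nat_lit 11) [] [] [nat_lit 14, nat_lit 34, nat_lit 17, nat_lit 33, nat_lit 27] (nat_lit 247) [⟨[], [nat_lit 25, nat_lit 14, nat_lit 0, nat_lit 37, nat_lit 11, nat_lit 17, nat_lit 26], (nat_lit 293)⟩, ⟨[nat_lit 124, nat_lit 137, nat_lit 153, nat_lit 130, nat_lit 121], [nat_lit 0, nat_lit 2, nat_lit 24, nat_lit 16, nat_lit 26], (nat_lit 294)⟩],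
  .cy (nat_lit 0) [] [] [] (nat_lit 392) [],
  .cy (nat_lit 12) [] [] [nat_lit 5, nat_lit 16, nat_lit 2, nat_lit 24, nat_lit 11, nat_lit 26] (nat_lit 246) [⟨[nat_lit 215], [nat_lit 5, nat_lit 16, nat_lit 2, nat_lit 37, nat_lit 18, nat_lit 15, nat_lit 26], (nat_lit 269)⟩, ⟨[nat_lit 217], [nat_lit 1, nat_lit 24, nat_lit 0, nat_lit 33, nat_lit 36, nat_lit 11, nat_lit 27], (nat_lit 310)⟩],
  .cy (nat_lit 0) [] [] [] (nat_lit 394) [],
  .cy (nat_lit 7) [] [] [nat_lit 37, nat_lit 18, nat_lit 15] (nat_lit 253) [⟨[], [nat_lit 5, nat_lit 2, nat_lit 26, nat_lit 36, nat_lit 26], (nat_lit 326)⟩, ⟨[nat_lit 217], [nat_lit 15, nat_lit 5, nat_lit 36, nat_lit 33, nat_lit 27], (nat_lit 332)⟩],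
  .cy (nat_lit 0) [] [] [] (nat_lit 396) [],
  .cy (nat_lit 12) [] [] [nat_lit 15, nat_lit 5, nat_lit 37, nat_lit 11, nat_lit 15, nat_lit 26] (nat_lit 368) [⟨[nat_lit 206, nat_lit 204, nat_lit 208], [nat_lit 16, nat_lit 2, nat_lit 35, nat_lit 35, nat_lit 11], (nat_lit 210)⟩, ⟨[nat_lit 175, nat_lit 164, nat_lit 178, nat_lit 161], [nat_lit 1, nat_lit 14, nat_lit 27, nat_lit 36, nat_lit 11, nat_lit 27], (nat_lit 360)⟩],
  .cy (nat_lit 0) [] [] [] (nat_lit 398) [],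
  .cy (nat_lit 11) [] [] [nat_lit 5, nat_lit 16, nat_lit 2, nat_lit 25, nat_lit 37, nat_lit 26] (nat_lit 322) [⟨[], [nat_lit 5, nat_lit 2, nat_lit 0, nat_lit 27, nat_lit 18, nat_lit 11, nat_lit 27], (nat_lit 245)⟩, ⟨[nat_lit 215, nat_lit 217, nat_lit 215], [nat_lit 33, nat_lit 36], (nat_lit 300)⟩],
  .cy (nat_lit 0) [] [] [] (nat_lit 400) [],
  .cy (nat_lit 11) [] [] [nat_lit 5, nat_lit 0, nat_lit 32, nat_lit 15, nat_lit 26] (nat_lit 260) [⟨[], [nat_lit 5, nat_lit 16, nat_lit 11], (nat_lit 222)⟩, ⟨[nat_lit 217], [nat_lit 16, nat_lit 5, nat_lit 2, nat_lit 26, nat_lit 34, nat_lit 26], (nat_lit 233)⟩],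
  .cy (nat_lit 0) [] [] [] (nat_lit 402) [],
  .cy (nat_lit 7) [] [] [nat_lit 25, nat_lit 0, nat_lit 24, nat_lit 17, nat_lit 11, nat_lit 26] (nat_lit 256) [⟨[nat_lit 209], [nat_lit 10, nat_lit 10, nat_lit 0, nat_lit 32, nat_lit 18, nat_lit 15], (nat_lit 342)⟩, ⟨[], [nat_lit 16, nat_lit 2, nat_lit 26, nat_lit 16, nat_lit 27], (nat_lit 268)⟩],
  .cy (nat_lit 0) [] [] [] (nat_lit 404) [],
  .cy (nat_lit 7) [] [] [nat_lit 25, nat_lit 14, nat_lit 0, nat_lit 18, nat_lit 11, nat_lit 26] (nat_lit 293) [⟨[nat_lit 130, nat_lit 155, nat_lit 126, nat_lit 130, nat_lit 121], [nat_lit 5, nat_lit 24, nat_lit 37, nat_lit 11, nat_lit 27], (nat_lit 294)⟩, ⟨[], [nat_lit 15, nat_lit 5, nat_lit 17, nat_lit 11, nat_lit 17, nat_lit 27], (nat_lit 312)⟩],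
  .cy (nat_lit 0) [] [] [] (nat_lit 406) [],
  .cy (nat_lit 2) [] [] [nat_lit 25, nat_lit 0, nat_lit 25, nat_lit 37, nat_lit 17] (nat_lit 332) [⟨[], [nat_lit 10, nat_lit 10, nat_lit 0, nat_lit 27, nat_lit 24, nat_lit 15, nat_lit 26], (nat_lit 396)⟩, ⟨[], [nat_lit 15, nat_lit 1, nat_lit 15, nat_lit 17, nat_lit 11, nat_lit 27], (nat_lit 268)⟩],
  .cy (nat_lit 0) [] [] [] (nat_lit 408) [],
  .cy (nat_lit 11) [] [] [nat_lit 15, nat_lit 1, nat_lit 27, nat_lit 24, nat_lit 27] (nat_lit 332) [⟨[nat_lit 217], [nat_lit 5, nat_lit 0, nat_lit 25, nat_lit 18, nat_lit 27], (nat_lit 403)⟩, ⟨[nat_lit 179, nat_lit 164, nat_lit 175], [nat_lit 0, nat_lit 37, nat_lit 33, nat_lit 11], (nat_lit 360)⟩],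
  .cy (nat_lit 0) [] [] [] (nat_lit 410) [],
  .cy (nat_lit 12) [] [] [nat_lit 2, nat_lit 15, nat_lit 35, nat_lit 26] (nat_lit 332) [⟨[], [nat_lit 1, nat_lit 24, nat_lit 0, nat_lit 15, nat_lit 24], (nat_lit 264)⟩, ⟨[nat_lit 217], [nat_lit 16, nat_lit 5, nat_lit 2, nat_lit 35, nat_lit 36, nat_lit 11, nat_lit 26], (nat_lit 263)⟩],
  .cy (nat_lit 0) [] [] [] (nat_lit 412) [],
  .cy (nat_lit 25) [] [] [nat_lit 16, nat_lit 0, nat_lit 32, nat_lit 18, nat_lit 11, nat_lit 26] (nat_lit 339) [⟨[nat_lit 215], [nat_lit 18, nat_lit 15], (nat_lit 405)⟩, ⟨[], [nat_lit 11, nat_lit 5, nat_lit 2, nat_lit 27, nat_lit 24, nat_lit 11], (nat_lit 280)⟩],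
  .cy (nat_lit 0) [] [] [] (nat_lit 414) [],
  .cy (nat_lit 5) [] [] [nat_lit 10, nat_lit 0, nat_lit 24, nat_lit 36] (nat_lit 343) [⟨[nat_lit 205, nat_lit 203, nat_lit 208, nat_lit 205], [nat_lit 25, nat_lit 2, nat_lit 0, nat_lit 34, nat_lit 11, nat_lit 27], (nat_lit 383)⟩, ⟨[], [nat_lit 1, nat_lit 5, nat_lit 11, nat_lit 16, nat_lit 26], (nat_lit 398)⟩],
  .cy (nat_lit 0) [] [] [] (nat_lit 416) [],
  .cy (nat_lit 8) [] [] [nat_lit 14, nat_lit 25, nat_lit 36, nat_lit 15, nat_lit 27] (nat_lit 338) [⟨[], [nat_lit 5, nat_lit 2, nat_lit 33, nat_lit 25, nat_lit 27], (nat_lit 312)⟩, ⟨[], [nat_lit 16, nat_lit 25, nat_lit 26], (nat_lit 406)⟩],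
  .cy (nat_lit 0) [] [] [] (nat_lit 418) [],
  .cy (nat_lit 21) [] [] [nat_lit 25, nat_lit 14, nat_lit 0, nat_lit 36, nat_lit 33, nat_lit 24, nat_lit 26] (nat_lit 338) [⟨[nat_lit 215], [nat_lit 15, nat_lit 32, nat_lit 11, nat_lit 26], (nat_lit 413)⟩, ⟨[nat_lit 215], [nat_lit 0, nat_lit 15, nat_lit 11, nat_lit 26], (nat_lit 358)⟩],
  .cy (nat_lit 0) [] [] [] (nat_lit 420) [],
  .cy (nat_lit 27) [] [] [nat_lit 0, nat_lit 2, nat_lit 15, nat_lit 11] (nat_lit 338) [⟨[nat_lit 215], [nat_lit 17, nat_lit 33, nat_lit 26], (nat_lit 409)⟩, ⟨[], [nat_lit 10, nat_lit 0, nat_lit 18, nat_lit 15, nat_lit 27], (nat_lit 280)⟩],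
  .cy (nat_lit 0) [] [] [] (nat_lit 422) [],
  .cy (nat_lit 21) [] [] [nat_lit 17, nat_lit 2, nat_lit 0, nat_lit 27, nat_lit 15] (nat_lit 231) [⟨[nat_lit 162, nat_lit 176, nat_lit 161], [nat_lit 10, nat_lit 10, nat_lit 0], (nat_lit 296)⟩, ⟨[], [nat_lit 1, nat_lit 14, nat_lit 35, nat_lit 33, nat_lit 27], (nat_lit 337)⟩],
  .cy (nat_lit 0) [] [] [] (nat_lit 424) [],
  .cy (nat_lit 23) [] [] [nat_lit 26, nat_lit 24, nat_lit 0, nat_lit 33, nat_lit 27] (nat_lit 231) [⟨[nat_lit 161, nat_lit 179, nat_lit 175, nat_lit 162], [nat_lit 1, nat_lit 5, nat_lit 25, nat_lit 27], (nat_lit 230)⟩, ⟨[nat_lit 215, nat_lit 217], [nat_lit 24, nat_lit 0, nat_lit 16, nat_lit 11], (nat_lit 419)⟩],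
  .cy (nat_lit 0) [] [] [] (nat_lit 426) [],
  .cy (nat_lit 11) [] [] [nat_lit 15, nat_lit 5, nat_lit 15, nat_lit 26] (nat_lit 312) [⟨[nat_lit 215], [nat_lit 1, nat_lit 1, nat_lit 25, nat_lit 37, nat_lit 17, nat_lit 26], (nat_lit 237)⟩, ⟨[nat_lit 162, nat_lit 176, nat_lit 164, nat_lit 161], [nat_lit 26, nat_lit 24, nat_lit 0, nat_lit 24, nat_lit 18, nat_lit 16, nat_lit 27], (nat_lit 360)⟩],
  .cy (nat_lit 0) [] [] [] (nat_lit 428) [],
  .cy (nat_lit 12) [] [] [nat_lit 15, nat_lit 0, nat_lit 26, nat_lit 34, nat_lit 11, nat_lit 27] (nat_lit 229) [⟨[nat_lit 161, nat_lit 179, nat_lit 165], [nat_lit 16, nat_lit 5, nat_lit 2, nat_lit 33, nat_lit 33, nat_lit 27], (nat_lit 379)⟩, ⟨[nat_lit 217, nat_lit 215], [nat_lit 14, nat_lit 17, nat_lit 36, nat_lit 15, nat_lit 26], (nat_lit 393)⟩],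
  .cy (nat_lit 0) [] [] [] (nat_lit 430) [],
  .cy (nat_lit 27) [] [] [nat_lit 16, nat_lit 5, nat_lit 0, nat_lit 15, nat_lit 27] (nat_lit 320) [⟨[nat_lit 217], [nat_lit 25, nat_lit 18, nat_lit 16, nat_lit 27], (nat_lit 325)⟩, ⟨[], [nat_lit 25, nat_lit 14, nat_lit 0, nat_lit 33, nat_lit 37], (nat_lit 337)⟩],
  .cy (nat_lit 0) [] [] [] (nat_lit 432) [],
  .cy (nat_lit 8) [] [] [nat_lit 14, nat_lit 33, nat_lit 24, nat_lit 27] (nat_lit 315) [⟨[], [nat_lit 5, nat_lit 11, nat_lit 37], (nat_lit 352)⟩, ⟨[], [nat_lit 25, nat_lit 14, nat_lit 0, nat_lit 17, nat_lit 17, nat_lit 11, nat_lit 27], (nat_lit 386)⟩],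
  .cy (nat_lit 0) [] [] [] (nat_lit 434) [],
  .cy (nat_lit 10) [] [] [nat_lit 15, nat_lit 2, nat_lit 35, nat_lit 15, nat_lit 27] (nat_lit 223) [⟨[nat_lit 176, nat_lit 167, nat_lit 165], [nat_lit 26, nat_lit 34, nat_lit 27], (nat_lit 230)⟩, ⟨[], [nat_lit 16, nat_lit 5, nat_lit 0, nat_lit 34, nat_lit 25, nat_lit 26], (nat_lit 227)⟩],
  .cy (nat_lit 0) [] [] [] (nat_lit 436) [],
  .cy (nat_lit 4) [] [] [nat_lit 14, nat_lit 0, nat_lit 32, nat_lit 24] (nat_lit 333) [⟨[], [nat_lit 5, nat_lit 35, nat_lit 17, nat_lit 16, nat_lit 27], (nat_lit 409)⟩, ⟨[nat_lit 215, nat_lit 217, nat_lit 215], [nat_lit 5, nat_lit 33, nat_lit 33], (nat_lit 367)⟩],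
  .cy (nat_lit 0) [] [] [] (nat_lit 438) [],
  .cy (nat_lit 5) [] [] [nat_lit 0, nat_lit 2, nat_lit 25, nat_lit 35, nat_lit 11, nat_lit 27] (nat_lit 333) [⟨[], [nat_lit 1, nat_lit 24, nat_lit 0, nat_lit 32, nat_lit 18, nat_lit 26], (nat_lit 268)⟩, ⟨[], [nat_lit 10, nat_lit 10, nat_lit 0, nat_lit 25, nat_lit 37, nat_lit 15, nat_lit 26], (nat_lit 422)⟩],
  .cy (nat_lit 0) [] [] [] (nat_lit 440) [],
  .cy (nat_lit 7) [] [] [nat_lit 14, nat_lit 17, nat_lit 17, nat_lit 15, nat_lit 26] (nat_lit 333) [⟨[nat_lit 217, nat_lit 215], [nat_lit 10, nat_lit 10, nat_lit 0, nat_lit 37, nat_lit 34, nat_lit 24, nat_lit 27], (nat_lit 304)⟩, ⟨[], [nat_lit 16, nat_lit 0, nat_lit 18, nat_lit 11, nat_lit 15, nat_lit 26], (nat_lit 267)⟩],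
  .cy (nat_lit 0) [] [] [] (nat_lit 442) [],
  .cy (nat_lit 10) [] [] [nat_lit 24, nat_lit 2, nat_lit 25, nat_lit 18, nat_lit 27] (nat_lit 333) [⟨[nat_lit 215, nat_lit 217, nat_lit 215], [nat_lit 34, nat_lit 25, nat_lit 26], (nat_lit 397)⟩, ⟨[], [nat_lit 14, nat_lit 15, nat_lit 0, nat_lit 37, nat_lit 26], (nat_lit 333)⟩],
  .cy (nat_lit 0) [] [] [] (nat_lit 444) [],
  .cy (nat_lit 5) [] [] [nat_lit 1, nat_lit 1, nat_lit 35, nat_lit 35, nat_lit 11, nat_lit 27] (nat_lit 330) [⟨[], [nat_lit 15, nat_lit 2, nat_lit 35, nat_lit 27, nat_lit 15, nat_lit 27], (nat_lit 260)⟩, ⟨[nat_lit 217, nat_lit 215], [nat_lit 16, nat_lit 18, nat_lit 27], (nat_lit 363)⟩],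
  .cy (nat_lit 0) [] [] [] (nat_lit 446) [],
  .cy (nat_lit 8) [] [] [nat_lit 5, nat_lit 14, nat_lit 16, nat_lit 16, nat_lit 11] (nat_lit 330) [⟨[], [nat_lit 15, nat_lit 2, nat_lit 36, nat_lit 33, nat_lit 24], (nat_lit 293)⟩, ⟨[nat_lit 128, nat_lit 137, nat_lit 128, nat_lit 155, nat_lit 121], [nat_lit 25, nat_lit 0, nat_lit 33, nat_lit 15, nat_lit 27], (nat_lit 294)⟩],
  .cy (nat_lit 0) [] [] [] (nat_lit 448) [],
  .cy (nat_lit 3) [] [] [nat_lit 15, nat_lit 1, nat_lit 34, nat_lit 16] (nat_lit 237) [⟨[nat_lit 179, nat_lit 175, nat_lit 167, nat_lit 162], [nat_lit 1, nat_lit 14, nat_lit 24, nat_lit 24, nat_lit 11, nat_lit 27], (nat_lit 377)⟩, ⟨[nat_lit 215, nat_lit 217, nat_lit 215], [nat_lit 1, nat_lit 14, nat_lit 18, nat_lit 16, nat_lit 11, nat_lit 26], (nat_lit 428)⟩],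
  .cy (nat_lit 0) [] [] [] (nat_lit 450) [],
  .cy (nat_lit 6) [] [] [nat_lit 24, nat_lit 2, nat_lit 0, nat_lit 26] (nat_lit 241) [⟨[nat_lit 175, nat_lit 165, nat_lit 161], [nat_lit 15, nat_lit 0, nat_lit 18, nat_lit 16, nat_lit 11, nat_lit 26], (nat_lit 228)⟩, ⟨[nat_lit 215], [nat_lit 14, nat_lit 15, nat_lit 0, nat_lit 36], (nat_lit 415)⟩],
  .cy (nat_lit 0) [] [] [] (nat_lit 452) [],
  .cy (nat_lit 11) [] [] [nat_lit 25, nat_lit 16, nat_lit 0, nat_lit 16, nat_lit 16, nat_lit 26] (nat_lit 277) [⟨[nat_lit 215], [nat_lit 26, nat_lit 2, nat_lit 0, nat_lit 15, nat_lit 32, nat_lit 15, nat_lit 26], (nat_lit 241)⟩, ⟨[nat_lit 175, nat_lit 167, nat_lit 162], [nat_lit 2, nat_lit 0, nat_lit 32, nat_lit 37, nat_lit 15], (nat_lit 377)⟩],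
  .cy (nat_lit 0) [] [] [] (nat_lit 454) [],
  .cy (nat_lit 9) [] [] [nat_lit 15, nat_lit 0, nat_lit 32, nat_lit 24, nat_lit 11, nat_lit 26] (nat_lit 235) [⟨[nat_lit 162, nat_lit 178], [nat_lit 26, nat_lit 2, nat_lit 27, nat_lit 18, nat_lit 27], (nat_lit 296)⟩, ⟨[nat_lit 217], [nat_lit 24, nat_lit 16, nat_lit 0, nat_lit 34, nat_lit 17, nat_lit 33, nat_lit 26], (nat_lit 356)⟩],
  .cy (nat_lit 0) [] [] [] (nat_lit 456) [],
  .cy (nat_lit 9) [] [] [nat_lit 11, nat_lit 2, nat_lit 0, nat_lit 33, nat_lit 35, nat_lit 11, nat_lit 27] (nat_lit 352) [⟨[nat_lit 215, nat_lit 217, nat_lit 215], [nat_lit 10, nat_lit 0, nat_lit 32, nat_lit 37, nat_lit 15], (nat_lit 439)⟩, ⟨[nat_lit 203, nat_lit 208, nat_lit 203], [nat_lit 1, nat_lit 1, nat_lit 15, nat_lit 15, nat_lit 11, nat_lit 26], (nat_lit 383)⟩],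
  .cy (nat_lit 0) [] [] [] (nat_lit 458) [],
  .cy (nat_lit 24) [] [] [nat_lit 5, nat_lit 25, nat_lit 15] (nat_lit 290) [⟨[], [nat_lit 10, nat_lit 10, nat_lit 0, nat_lit 27, nat_lit 17, nat_lit 27], (nat_lit 457)⟩, ⟨[nat_lit 217], [nat_lit 24, nat_lit 15, nat_lit 0, nat_lit 17, nat_lit 11, nat_lit 26], (nat_lit 440)⟩],
  .cy (nat_lit 0) [] [] [] (nat_lit 460) [],
  .cy (nat_lit 8) [] [] [nat_lit 15, nat_lit 5, nat_lit 36, nat_lit 33, nat_lit 11, nat_lit 27] (nat_lit 302) [⟨[], [nat_lit 15, nat_lit 5, nat_lit 18, nat_lit 16, nat_lit 26], (nat_lit 380)⟩, ⟨[nat_lit 206, nat_lit 209, nat_lit 204, nat_lit 208], [nat_lit 16, nat_lit 2, nat_lit 33, nat_lit 25], (nat_lit 366)⟩],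
  .cy (nat_lit 0) [] [] [] (nat_lit 462) [],
  .cy (nat_lit 26) [] [] [nat_lit 2, nat_lit 0, nat_lit 27, nat_lit 15, nat_lit 11, nat_lit 26] (nat_lit 375) [⟨[nat_lit 217, nat_lit 215], [nat_lit 24, nat_lit 0, nat_lit 16, nat_lit 18, nat_lit 27], (nat_lit 295)⟩, ⟨[nat_lit 175, nat_lit 167, nat_lit 178], [nat_lit 11, nat_lit 2, nat_lit 0, nat_lit 15, nat_lit 17, nat_lit 11, nat_lit 26], (nat_lit 402)⟩],
  .cy (nat_lit 0) [] [] [] (nat_lit 464) [],
  .cy (nat_lit 8) [] [] [nat_lit 24, nat_lit 0, nat_lit 18, nat_lit 16, nat_lit 27] (nat_lit 344) [⟨[nat_lit 217, nat_lit 215], [nat_lit 18, nat_lit 15, nat_lit 0, nat_lit 15, nat_lit 15, nat_lit 27], (nat_lit 406)⟩, ⟨[nat_lit 217, nat_lit 215], [nat_lit 15, nat_lit 0, nat_lit 17, nat_lit 11, nat_lit 27], (nat_lit 459)⟩],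
  .cy (nat_lit 0) [] [] [] (nat_lit 466) [],
  .cy (nat_lit 14) [] [] [nat_lit 39] (nat_lit 379) [⟨[], [nat_lit 18, nat_lit 15, nat_lit 0, nat_lit 32, nat_lit 34, nat_lit 16, nat_lit 26], (nat_lit 451)⟩],
  .cy (nat_lit 0) [] [] [] (nat_lit 468) [],
  .cy (nat_lit 13) [] [] [nat_lit 38] (nat_lit 298) [⟨[nat_lit 215], [nat_lit 24, nat_lit 16, nat_lit 0, nat_lit 17, nat_lit 36, nat_lit 27], (nat_lit 449)⟩],
  .cy (nat_lit 0) [] [] [] (nat_lit 470) [],
  .cy (nat_lit 13) [] [] [nat_lit 38] (nat_lit 385) [⟨[nat_lit 217], [nat_lit 10, nat_lit 10, nat_lit 0, nat_lit 17, nat_lit 34, nat_lit 26], (nat_lit 454)⟩],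
  .cy (nat_lit 0) [] [] [] (nat_lit 472) [],
  .cy (nat_lit 13) [] [] [nat_lit 38] (nat_lit 418) [⟨[], [nat_lit 24, nat_lit 2, nat_lit 0, nat_lit 35, nat_lit 16, nat_lit 16, nat_lit 26], (nat_lit 429)⟩],
  .cy (nat_lit 0) [] [] [] (nat_lit 474) [],
  .cy (nat_lit 14) [] [] [] (nat_lit 382) [⟨[nat_lit 205, nat_lit 209, nat_lit 205], [nat_lit 1, nat_lit 5, nat_lit 27, nat_lit 17, nat_lit 27], (nat_lit 381)⟩],
  .cy (nat_lit 0) [] [] [] (nat_lit 476) [],
  .cy (nat_lit 14) [] [] [nat_lit 38] (nat_lit 395) [⟨[nat_lit 215, nat_lit 217, nat_lit 215], [nat_lit 5, nat_lit 2, nat_lit 36, nat_lit 24, nat_lit 15, nat_lit 26], (nat_lit 461)⟩],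
  .cy (nat_lit 0) [] [] [] (nat_lit 478) [],
  .cy (nat_lit 14) [] [] [] (nat_lit 384) [⟨[nat_lit 215, nat_lit 217, nat_lit 215], [nat_lit 33, nat_lit 15, nat_lit 11, nat_lit 26], (nat_lit 391)⟩],
  .cy (nat_lit 0) [] [] [] (nat_lit 480) [],
  .cy (nat_lit 13) [] [] [nat_lit 39] (nat_lit 403) [⟨[nat_lit 179, nat_lit 165], [nat_lit 5, nat_lit 15, nat_lit 18, nat_lit 11, nat_lit 27], (nat_lit 402)⟩],
  .cy (nat_lit 0) [] [] [] (nat_lit 482) [],
  .cy (nat_lit 14) [] [] [nat_lit 39] (nat_lit 378) [⟨[nat_lit 165, nat_lit 164, nat_lit 161], [nat_lit 1, nat_lit 18, nat_lit 11, nat_lit 26], (nat_lit 377)⟩],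
  .cy (nat_lit 0) [] [] [] (nat_lit 484) [],
  .cy (nat_lit 14) [] [] [nat_lit 39] (nat_lit 455) [⟨[nat_lit 217], [nat_lit 2, nat_lit 33, nat_lit 18, nat_lit 11, nat_lit 27], (nat_lit 481)⟩],
  .cy (nat_lit 0) [] [] [] (nat_lit 486) [],
  .cy (nat_lit 14) [] [] [nat_lit 39] (nat_lit 423) [⟨[nat_lit 217, nat_lit 215], [nat_lit 5, nat_lit 14, nat_lit 15, nat_lit 35, nat_lit 26], (nat_lit 457)⟩],
  .cy (nat_lit 0) [] [] [] (nat_lit 488) [],
  .cy (nat_lit 14) [] [] [nat_lit 38] (nat_lit 450) [⟨[], [nat_lit 25, nat_lit 16, nat_lit 0, nat_lit 33, nat_lit 33, nat_lit 11, nat_lit 27], (nat_lit 485)⟩],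
  .cy (nat_lit 0) [] [] [] (nat_lit 490) [],
  .cy (nat_lit 14) [] [] [nat_lit 39] (nat_lit 417) [⟨[], [nat_lit 26, nat_lit 2, nat_lit 33, nat_lit 15], (nat_lit 433)⟩],
  .cy (nat_lit 0) [] [] [] (nat_lit 492) [],
  .cy (nat_lit 14) [] [] [nat_lit 39] (nat_lit 416) [⟨[nat_lit 215, nat_lit 217], [nat_lit 18, nat_lit 15, nat_lit 0, nat_lit 26, nat_lit 34, nat_lit 32, nat_lit 26], (nat_lit 433)⟩],
  .cy (nat_lit 0) [] [] [] (nat_lit 494) [],
  .cy (nat_lit 14) [] [] [] (nat_lit 432) [⟨[], [nat_lit 5, nat_lit 16, nat_lit 2, nat_lit 32, nat_lit 34], (nat_lit 495)⟩],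
  .cy (nat_lit 0) [] [] [] (nat_lit 496) [],
  .cy (nat_lit 11) [] [] [nat_lit 5, nat_lit 0, nat_lit 37, nat_lit 18, nat_lit 27] (nat_lit 183) [⟨[nat_lit 164, nat_lit 161], [nat_lit 5, nat_lit 0, nat_lit 24, nat_lit 36, nat_lit 16], (nat_lit 224)⟩, ⟨[nat_lit 215, nat_lit 217, nat_lit 215], [nat_lit 25, nat_lit 0, nat_lit 25, nat_lit 15, nat_lit 26], (nat_lit 476)⟩],
  .cy (nat_lit 0) [] [] [] (nat_lit 498) [],
  .cy (nat_lit 27) [] [] [nat_lit 25, nat_lit 14, nat_lit 0, nat_lit 24, nat_lit 37, nat_lit 17, nat_lit 26] (nat_lit 234) [⟨[nat_lit 215, nat_lit 217, nat_lit 215], [nat_lit 18, nat_lit 11, nat_lit 27], (nat_lit 397)⟩, ⟨[nat_lit 215], [nat_lit 14, nat_lit 15, nat_lit 0, nat_lit 36, nat_lit 24], (nat_lit 358)⟩],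
  .cy (nat_lit 0) [] [] [] (nat_lit 500) [],
  .cy (nat_lit 26) [] [] [nat_lit 24, nat_lit 1, nat_lit 25] (nat_lit 238) [⟨[nat_lit 215, nat_lit 217, nat_lit 215], [nat_lit 24, nat_lit 2, nat_lit 0, nat_lit 18, nat_lit 36, nat_lit 26], (nat_lit 485)⟩, ⟨[nat_lit 215, nat_lit 217, nat_lit 215], [nat_lit 1, nat_lit 5, nat_lit 35, nat_lit 36], (nat_lit 474)⟩],
  .cy (nat_lit 0) [] [] [] (nat_lit 502) [],
  .cy (nat_lit 8) [] [] [nat_lit 5, nat_lit 14, nat_lit 27, nat_lit 36] (nat_lit 469) [⟨[], [nat_lit 25, nat_lit 14, nat_lit 0, nat_lit 24, nat_lit 36, nat_lit 11, nat_lit 27], (nat_lit 353)⟩, ⟨[], [nat_lit 24, nat_lit 2, nat_lit 25, nat_lit 35], (nat_lit 314)⟩],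
  .cy (nat_lit 0) [] [] [] (nat_lit 504) [],
  .cy (nat_lit 23) [] [] [nat_lit 16, nat_lit 5, nat_lit 2, nat_lit 32, nat_lit 34] (nat_lit 469) [⟨[nat_lit 215], [nat_lit 17, nat_lit 24, nat_lit 0, nat_lit 35, nat_lit 33, nat_lit 11, nat_lit 26], (nat_lit 340)⟩, ⟨[nat_lit 215], [nat_lit 24, nat_lit 0, nat_lit 15, nat_lit 18, nat_lit 16, nat_lit 27], (nat_lit 386)⟩],
  .cy (nat_lit 0) [] [] [] (nat_lit 506) [],
  .cy (nat_lit 9) [] [] [nat_lit 16, nat_lit 0, nat_lit 25, nat_lit 37, nat_lit 26] (nat_lit 377) [⟨[nat_lit 215, nat_lit 217], [nat_lit 2, nat_lit 32, nat_lit 34, nat_lit 27], (nat_lit 367)⟩, ⟨[nat_lit 209, nat_lit 204, nat_lit 205, nat_lit 203], [nat_lit 2, nat_lit 18, nat_lit 15, nat_lit 11], (nat_lit 438)⟩],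
  .cy (nat_lit 0) [] [] [] (nat_lit 508) [],
  .cy (nat_lit 5) [] [] [nat_lit 26, nat_lit 24, nat_lit 0, nat_lit 24, nat_lit 17, nat_lit 11] (nat_lit 226) [⟨[], [nat_lit 11, nat_lit 2, nat_lit 0, nat_lit 15, nat_lit 32, nat_lit 15], (nat_lit 273)⟩, ⟨[nat_lit 215], [nat_lit 33, nat_lit 37, nat_lit 11, nat_lit 27], (nat_lit 461)⟩],
  .cy (nat_lit 0) [] [] [] (nat_lit 510) [],
  .cy (nat_lit 8) [] [] [nat_lit 14, nat_lit 15, nat_lit 0, nat_lit 18, nat_lit 36, nat_lit 11] (nat_lit 200) [⟨[nat_lit 96, nat_lit 90, nat_lit 109, nat_lit 92, nat_lit 102], [nat_lit 16, nat_lit 0, nat_lit 36, nat_lit 17, nat_lit 27], (nat_lit 213)⟩, ⟨[], [nat_lit 5, nat_lit 16, nat_lit 2, nat_lit 24, nat_lit 37, nat_lit 17, nat_lit 26], (nat_lit 332)⟩],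
  .cy (nat_lit 0) [] [] [] (nat_lit 512) [],
  .cy (nat_lit 8) [] [] [nat_lit 1, nat_lit 1, nat_lit 37, nat_lit 34, nat_lit 25, nat_lit 27] (nat_lit 220) [⟨[nat_lit 217], [nat_lit 5, nat_lit 36, nat_lit 33, nat_lit 27], (nat_lit 322)⟩, ⟨[nat_lit 215], [nat_lit 24, nat_lit 0, nat_lit 25, nat_lit 36, nat_lit 11], (nat_lit 494)⟩],
  .cy (nat_lit 0) [] [] [] (nat_lit 514) [],
  .cy (nat_lit 11) [] [] [nat_lit 1, nat_lit 5, nat_lit 32, nat_lit 18, nat_lit 11, nat_lit 26] (nat_lit 220) [⟨[nat_lit 217, nat_lit 215], [nat_lit 25, nat_lit 2, nat_lit 0, nat_lit 34, nat_lit 15], (nat_lit 312)⟩, ⟨[nat_lit 217], [nat_lit 33, nat_lit 18, nat_lit 11, nat_lit 26], (nat_lit 393)⟩],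
  .cy (nat_lit 0) [] [] [] (nat_lit 516) [],
  .cy (nat_lit 8) [] [] [nat_lit 1, nat_lit 5, nat_lit 15, nat_lit 35, nat_lit 27] (nat_lit 212) [⟨[nat_lit 209, nat_lit 201], [nat_lit 5, nat_lit 2, nat_lit 0, nat_lit 27, nat_lit 16], (nat_lit 220)⟩, ⟨[nat_lit 215], [nat_lit 15, nat_lit 5, nat_lit 37, nat_lit 11, nat_lit 27], (nat_lit 322)⟩],
  .cy (nat_lit 0) [] [] [] (nat_lit 518) [],
  .cy (nat_lit 7) [] [] [nat_lit 11, nat_lit 5, nat_lit 2, nat_lit 24, nat_lit 15] (nat_lit 373) [⟨[nat_lit 217, nat_lit 215], [nat_lit 25, nat_lit 16, nat_lit 0, nat_lit 15, nat_lit 15, nat_lit 11], (nat_lit 317)⟩, ⟨[nat_lit 215, nat_lit 217], [nat_lit 15, nat_lit 2, nat_lit 25, nat_lit 36, nat_lit 15, nat_lit 27], (nat_lit 478)⟩]]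
noncomputable def P714 : List Pf := [.cy (nat_lit 0) [] [] [] (nat_lit 520) [],
  .cy (nat_lit 12) [] [] [nat_lit 25, nat_lit 2, nat_lit 0, nat_lit 33, nat_lit 36, nat_lit 11, nat_lit 27] (nat_lit 259) [⟨[], [nat_lit 24, nat_lit 15, nat_lit 0, nat_lit 37, nat_lit 24, nat_lit 15], (nat_lit 280)⟩, ⟨[nat_lit 215, nat_lit 217], [nat_lit 0, nat_lit 15, nat_lit 15], (nat_lit 508)⟩, ⟨[nat_lit 175, nat_lit 162, nat_lit 161], [nat_lit 25, nat_lit 1, nat_lit 15, nat_lit 27, nat_lit 16, nat_lit 27], (nat_lit 211)⟩],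
  .ss (nat_lit 4) [(nat_lit 522)] [],
  .cy (nat_lit 5) [] [] [nat_lit 2, nat_lit 0, nat_lit 36, nat_lit 32, nat_lit 11, nat_lit 26] (nat_lit 369) [⟨[nat_lit 215], [nat_lit 11, nat_lit 5, nat_lit 2, nat_lit 25, nat_lit 18, nat_lit 18], (nat_lit 334)⟩, ⟨[nat_lit 217, nat_lit 215], [nat_lit 5, nat_lit 2, nat_lit 26, nat_lit 16, nat_lit 27], (nat_lit 374)⟩],
  .cy (nat_lit 0) [] [] [] (nat_lit 524) [],
  .cy (nat_lit 5) [] [] [nat_lit 14, nat_lit 36, nat_lit 24, nat_lit 15] (nat_lit 257) [⟨[nat_lit 215], [nat_lit 5, nat_lit 14, nat_lit 27, nat_lit 18, nat_lit 27], (nat_lit 293)⟩, ⟨[nat_lit 121, nat_lit 155, nat_lit 122, nat_lit 130], [nat_lit 16, nat_lit 5, nat_lit 0, nat_lit 37, nat_lit 34, nat_lit 24, nat_lit 26], (nat_lit 294)⟩],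
  .cy (nat_lit 0) [] [] [] (nat_lit 526) [],
  .cy (nat_lit 11) [] [] [nat_lit 2, nat_lit 33, nat_lit 16, nat_lit 11, nat_lit 27] (nat_lit 438) [⟨[], [nat_lit 17, nat_lit 24, nat_lit 0, nat_lit 25, nat_lit 18], (nat_lit 508)⟩, ⟨[nat_lit 176, nat_lit 179, nat_lit 164], [nat_lit 14, nat_lit 37, nat_lit 11, nat_lit 26], (nat_lit 402)⟩],
  .cy (nat_lit 0) [] [] [] (nat_lit 528) [],
  .cy (nat_lit 8) [] [] [nat_lit 1, nat_lit 14, nat_lit 15, nat_lit 18, nat_lit 16, nat_lit 26] (nat_lit 221) [⟨[nat_lit 215], [nat_lit 15, nat_lit 5, nat_lit 32, nat_lit 32, nat_lit 11, nat_lit 26], (nat_lit 331)⟩, ⟨[nat_lit 217], [nat_lit 10, nat_lit 10, nat_lit 0, nat_lit 35, nat_lit 17, nat_lit 27], (nat_lit 447)⟩],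
  .cy (nat_lit 0) [] [] [] (nat_lit 530) [],
  .cy (nat_lit 10) [] [] [nat_lit 5, nat_lit 36, nat_lit 25, nat_lit 11, nat_lit 27] (nat_lit 219) [⟨[nat_lit 205, nat_lit 523], [nat_lit 15, nat_lit 2, nat_lit 34, nat_lit 17, nat_lit 11, nat_lit 27], (nat_lit 438)⟩, ⟨[], [nat_lit 14, nat_lit 15, nat_lit 0, nat_lit 35, nat_lit 35, nat_lit 11, nat_lit 27], (nat_lit 508)⟩],
  .cy (nat_lit 0) [] [] [] (nat_lit 532) [],
  .cy (nat_lit 11) [] [] [nat_lit 1, nat_lit 1, nat_lit 33, nat_lit 18, nat_lit 11] (nat_lit 219) [⟨[nat_lit 204, nat_lit 206], [nat_lit 25, nat_lit 14, nat_lit 0, nat_lit 16, nat_lit 18, nat_lit 27], (nat_lit 369)⟩, ⟨[nat_lit 215, nat_lit 217, nat_lit 215], [nat_lit 36, nat_lit 16, nat_lit 11, nat_lit 27], (nat_lit 399)⟩],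
  .cy (nat_lit 0) [] [] [] (nat_lit 534) [],
  .cy (nat_lit 8) [] [] [nat_lit 1, nat_lit 32, nat_lit 15, nat_lit 27] (nat_lit 246) [⟨[nat_lit 217, nat_lit 215], [nat_lit 0, nat_lit 2, nat_lit 32, nat_lit 34, nat_lit 11], (nat_lit 297)⟩, ⟨[nat_lit 203, nat_lit 201], [nat_lit 0, nat_lit 2, nat_lit 33, nat_lit 33], (nat_lit 471)⟩],
  .cy (nat_lit 0) [] [] [] (nat_lit 536) [],
  .cy (nat_lit 11) [] [] [nat_lit 26, nat_lit 24, nat_lit 0, nat_lit 25, nat_lit 35] (nat_lit 246) [⟨[], [nat_lit 5, nat_lit 0, nat_lit 25, nat_lit 16], (nat_lit 295)⟩, ⟨[nat_lit 178, nat_lit 162, nat_lit 175], [nat_lit 2, nat_lit 34, nat_lit 34, nat_lit 11], (nat_lit 499)⟩],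
  .cy (nat_lit 0) [] [] [] (nat_lit 538) [],
  .cy (nat_lit 11) [] [] [nat_lit 0, nat_lit 2, nat_lit 11, nat_lit 36, nat_lit 27] (nat_lit 222) [⟨[nat_lit 215], [nat_lit 15, nat_lit 1, nat_lit 25, nat_lit 37, nat_lit 11, nat_lit 26], (nat_lit 326)⟩, ⟨[nat_lit 217, nat_lit 215], [nat_lit 1, nat_lit 14, nat_lit 18, nat_lit 18, nat_lit 26], (nat_lit 475)⟩],
  .cy (nat_lit 0) [] [] [] (nat_lit 540) [],
  .cy (nat_lit 12) [] [] [nat_lit 10, nat_lit 10, nat_lit 0, nat_lit 36, nat_lit 32] (nat_lit 264) [⟨[nat_lit 215], [nat_lit 5, nat_lit 14, nat_lit 34, nat_lit 25, nat_lit 26], (nat_lit 260)⟩, ⟨[nat_lit 215], [nat_lit 17, nat_lit 2, nat_lit 0, nat_lit 27, nat_lit 37, nat_lit 27], (nat_lit 496)⟩],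
  .cy (nat_lit 0) [] [] [] (nat_lit 542) [],
  .cy (nat_lit 10) [] [] [nat_lit 24, nat_lit 0, nat_lit 24, nat_lit 15] (nat_lit 297) [⟨[nat_lit 523, nat_lit 209, nat_lit 205], [nat_lit 5, nat_lit 2, nat_lit 34, nat_lit 24, nat_lit 15, nat_lit 26], (nat_lit 373)⟩, ⟨[nat_lit 217, nat_lit 215], [nat_lit 1, nat_lit 1, nat_lit 37, nat_lit 37, nat_lit 11, nat_lit 27], (nat_lit 492)⟩],
  .cy (nat_lit 0) [] [] [] (nat_lit 544) [],
  .cy (nat_lit 11) [] [] [nat_lit 1, nat_lit 5, nat_lit 35, nat_lit 33, nat_lit 11] (nat_lit 297) [⟨[nat_lit 522, nat_lit 206, nat_lit 522, nat_lit 206], [nat_lit 24, nat_lit 0, nat_lit 37, nat_lit 24, nat_lit 27], (nat_lit 525)⟩, ⟨[nat_lit 215, nat_lit 217, nat_lit 215], [nat_lit 5, nat_lit 2, nat_lit 0, nat_lit 27, nat_lit 24, nat_lit 15, nat_lit 27], (nat_lit 492)⟩],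
  .cy (nat_lit 0) [] [] [] (nat_lit 546) [],
  .cy (nat_lit 5) [] [] [nat_lit 24, nat_lit 2, nat_lit 0, nat_lit 17, nat_lit 24, nat_lit 27] (nat_lit 314) [⟨[nat_lit 215], [nat_lit 24, nat_lit 2, nat_lit 16, nat_lit 32, nat_lit 15], (nat_lit 235)⟩, ⟨[nat_lit 162, nat_lit 175, nat_lit 167], [nat_lit 10, nat_lit 10, nat_lit 0, nat_lit 24, nat_lit 35], (nat_lit 469)⟩],
  .cy (nat_lit 0) [] [] [] (nat_lit 548) [],
  .cy (nat_lit 5) [] [] [nat_lit 5, nat_lit 0, nat_lit 18, nat_lit 35, nat_lit 15, nat_lit 26] (nat_lit 314) [⟨[nat_lit 215], [nat_lit 15, nat_lit 0, nat_lit 17, nat_lit 15, nat_lit 26], (nat_lit 274)⟩, ⟨[nat_lit 217], [nat_lit 15, nat_lit 0, nat_lit 32, nat_lit 34, nat_lit 11], (nat_lit 446)⟩],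
  .cy (nat_lit 0) [] [] [] (nat_lit 550) [],
  .cy (nat_lit 12) [] [] [nat_lit 1, nat_lit 24, nat_lit 0, nat_lit 17, nat_lit 15, nat_lit 27] (nat_lit 314) [⟨[nat_lit 215], [nat_lit 14, nat_lit 18, nat_lit 15, nat_lit 27], (nat_lit 235)⟩, ⟨[nat_lit 175, nat_lit 161, nat_lit 179], [nat_lit 25, nat_lit 2, nat_lit 0, nat_lit 35, nat_lit 33, nat_lit 11, nat_lit 26], (nat_lit 507)⟩],
  .cy (nat_lit 0) [] [] [] (nat_lit 552) [],
  .cy (nat_lit 8) [] [] [nat_lit 14, nat_lit 0, nat_lit 24] (nat_lit 307) [⟨[nat_lit 217], [nat_lit 24, nat_lit 16, nat_lit 0, nat_lit 26, nat_lit 16, nat_lit 11], (nat_lit 370)⟩, ⟨[nat_lit 522, nat_lit 205, nat_lit 209], [nat_lit 18, nat_lit 15, nat_lit 0, nat_lit 34, nat_lit 24, nat_lit 15, nat_lit 26], (nat_lit 517)⟩],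
  .cy (nat_lit 0) [] [] [] (nat_lit 554) [],
  .cy (nat_lit 10) [] [] [nat_lit 10, nat_lit 10, nat_lit 0, nat_lit 17, nat_lit 36, nat_lit 15] (nat_lit 256) [⟨[nat_lit 523, nat_lit 202, nat_lit 522, nat_lit 201], [nat_lit 25, nat_lit 16, nat_lit 0, nat_lit 37, nat_lit 17, nat_lit 11, nat_lit 26], (nat_lit 369)⟩, ⟨[nat_lit 217], [nat_lit 16, nat_lit 5, nat_lit 2, nat_lit 15, nat_lit 18, nat_lit 11, nat_lit 27], (nat_lit 479)⟩],
  .cy (nat_lit 0) [] [] [] (nat_lit 556) [],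
  .cy (nat_lit 12) [] [] [nat_lit 15, nat_lit 1, nat_lit 34, nat_lit 17, nat_lit 11, nat_lit 26] (nat_lit 256) [⟨[nat_lit 201], [nat_lit 24, nat_lit 16, nat_lit 0, nat_lit 36, nat_lit 16, nat_lit 27], (nat_lit 257)⟩, ⟨[nat_lit 215, nat_lit 217, nat_lit 215], [nat_lit 10, nat_lit 10, nat_lit 0, nat_lit 33, nat_lit 36, nat_lit 27], (nat_lit 399)⟩],
  .cy (nat_lit 0) [] [] [] (nat_lit 558) [],
  .cy (nat_lit 5) [] [] [nat_lit 1, nat_lit 1, nat_lit 35, nat_lit 15, nat_lit 27] (nat_lit 293) [⟨[nat_lit 124], [nat_lit 16, nat_lit 0, nat_lit 32, nat_lit 15, nat_lit 26], (nat_lit 169)⟩, ⟨[nat_lit 165, nat_lit 178, nat_lit 161], [nat_lit 16, nat_lit 5, nat_lit 0, nat_lit 33, nat_lit 15, nat_lit 26], (nat_lit 436)⟩],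
  .cy (nat_lit 0) [] [] [] (nat_lit 560) [],
  .cy (nat_lit 10) [] [] [nat_lit 17, nat_lit 24, nat_lit 0, nat_lit 24, nat_lit 37, nat_lit 17, nat_lit 27] (nat_lit 293) [⟨[nat_lit 122, nat_lit 153, nat_lit 134], [nat_lit 5, nat_lit 2, nat_lit 0, nat_lit 25, nat_lit 26], (nat_lit 169)⟩, ⟨[nat_lit 175, nat_lit 179, nat_lit 164], [nat_lit 5, nat_lit 0, nat_lit 37, nat_lit 18, nat_lit 27], (nat_lit 238)⟩],
  .cy (nat_lit 0) [] [] [] (nat_lit 562) [],
  .cy (nat_lit 12) [] [] [nat_lit 34, nat_lit 11, nat_lit 17] (nat_lit 293) [⟨[nat_lit 124], [nat_lit 17, nat_lit 24, nat_lit 0, nat_lit 37, nat_lit 24, nat_lit 27], (nat_lit 169)⟩, ⟨[nat_lit 176, nat_lit 165, nat_lit 179], [nat_lit 2, nat_lit 0, nat_lit 15, nat_lit 32, nat_lit 11, nat_lit 27], (nat_lit 402)⟩],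
  .cy (nat_lit 0) [] [] [] (nat_lit 564) [],
  .cy (nat_lit 27) [] [] [nat_lit 10, nat_lit 0, nat_lit 24, nat_lit 24, nat_lit 11] (nat_lit 293) [⟨[nat_lit 129, nat_lit 122, nat_lit 153, nat_lit 126], [nat_lit 18, nat_lit 15, nat_lit 0, nat_lit 16, nat_lit 11, nat_lit 26], (nat_lit 294)⟩, ⟨[], [nat_lit 10, nat_lit 10, nat_lit 0, nat_lit 33, nat_lit 15, nat_lit 11, nat_lit 27], (nat_lit 419)⟩],
  .cy (nat_lit 0) [] [] [] (nat_lit 566) [],
  .cy (nat_lit 27) [] [] [nat_lit 18, nat_lit 15, nat_lit 0, nat_lit 35, nat_lit 17, nat_lit 16, nat_lit 26] (nat_lit 293) [⟨[nat_lit 129, nat_lit 124, nat_lit 126, nat_lit 155], [nat_lit 10, nat_lit 0, nat_lit 37, nat_lit 32, nat_lit 11, nat_lit 27], (nat_lit 294)⟩, ⟨[nat_lit 217], [nat_lit 5, nat_lit 2, nat_lit 15, nat_lit 15, nat_lit 11, nat_lit 27], (nat_lit 418)⟩],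
  .cy (nat_lit 0) [] [] [] (nat_lit 568) [],
  .cy (nat_lit 8) [] [] [nat_lit 24, nat_lit 1, nat_lit 25, nat_lit 37, nat_lit 17] (nat_lit 332) [⟨[], [nat_lit 36, nat_lit 17], (nat_lit 439)⟩, ⟨[nat_lit 523, nat_lit 205, nat_lit 203], [nat_lit 1, nat_lit 24, nat_lit 0, nat_lit 27, nat_lit 24, nat_lit 15, nat_lit 26], (nat_lit 298)⟩],
  .cy (nat_lit 0) [] [] [] (nat_lit 570) [],
  .cy (nat_lit 23) [] [] [nat_lit 26, nat_lit 2, nat_lit 0, nat_lit 26, nat_lit 16, nat_lit 11, nat_lit 27] (nat_lit 332) [⟨[nat_lit 217], [nat_lit 16, nat_lit 5, nat_lit 0, nat_lit 25, nat_lit 18, nat_lit 18, nat_lit 27], (nat_lit 508)⟩, ⟨[nat_lit 175, nat_lit 167, nat_lit 162], [nat_lit 10, nat_lit 0, nat_lit 37, nat_lit 24, nat_lit 11, nat_lit 26], (nat_lit 402)⟩],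
  .cy (nat_lit 0) [] [] [] (nat_lit 572) [],
  .cy (nat_lit 11) [] [] [nat_lit 0, nat_lit 2, nat_lit 25, nat_lit 35, nat_lit 11, nat_lit 26] (nat_lit 245) [⟨[], [nat_lit 5, nat_lit 0, nat_lit 24, nat_lit 33, nat_lit 15, nat_lit 26], (nat_lit 387)⟩, ⟨[], [nat_lit 25, nat_lit 1, nat_lit 36, nat_lit 33, nat_lit 11, nat_lit 26], (nat_lit 353)⟩],
  .cy (nat_lit 0) [] [] [] (nat_lit 574) [],
  .cy (nat_lit 21) [] [] [nat_lit 14, nat_lit 15, nat_lit 0, nat_lit 33, nat_lit 36, nat_lit 11] (nat_lit 339) [⟨[], [nat_lit 10, nat_lit 0, nat_lit 26, nat_lit 24, nat_lit 11], (nat_lit 489)⟩, ⟨[nat_lit 215, nat_lit 217, nat_lit 215], [nat_lit 15, nat_lit 1, nat_lit 34, nat_lit 11, nat_lit 26], (nat_lit 566)⟩],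
  .cy (nat_lit 0) [] [] [] (nat_lit 576) [],
  .cy (nat_lit 3) [] [] [nat_lit 1, nat_lit 14, nat_lit 27, nat_lit 36, nat_lit 11, nat_lit 26] (nat_lit 343) [⟨[nat_lit 209, nat_lit 206], [nat_lit 26, nat_lit 24, nat_lit 0, nat_lit 33, nat_lit 18, nat_lit 26], (nat_lit 519)⟩, ⟨[nat_lit 215], [nat_lit 24, nat_lit 0, nat_lit 32, nat_lit 32, nat_lit 11, nat_lit 27], (nat_lit 537)⟩],
  .cy (nat_lit 0) [] [] [] (nat_lit 578) [],
  .cy (nat_lit 8) [] [] [nat_lit 0, nat_lit 36, nat_lit 18] (nat_lit 343) [⟨[nat_lit 209, nat_lit 201], [nat_lit 25, nat_lit 0, nat_lit 34, nat_lit 25, nat_lit 11, nat_lit 26], (nat_lit 519)⟩, ⟨[nat_lit 215], [nat_lit 1, nat_lit 1, nat_lit 17, nat_lit 24, nat_lit 26], (nat_lit 485)⟩],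
  .cy (nat_lit 0) [] [] [] (nat_lit 580) [],
  .cy (nat_lit 8) [] [] [nat_lit 25, nat_lit 1, nat_lit 32, nat_lit 34, nat_lit 27] (nat_lit 268) [⟨[], [nat_lit 32, nat_lit 27], (nat_lit 367)⟩, ⟨[nat_lit 201, nat_lit 522, nat_lit 209, nat_lit 203], [nat_lit 2, nat_lit 0, nat_lit 27, nat_lit 15, nat_lit 26], (nat_lit 298)⟩],
  .cy (nat_lit 0) [] [] [] (nat_lit 582) [],
  .cy (nat_lit 6) [] [] [nat_lit 24, nat_lit 1, nat_lit 18, nat_lit 15] (nat_lit 270) [⟨[nat_lit 215, nat_lit 217, nat_lit 215], [nat_lit 24, nat_lit 15, nat_lit 0, nat_lit 18, nat_lit 11, nat_lit 15, nat_lit 26], (nat_lit 576)⟩, ⟨[nat_lit 217], [nat_lit 1, nat_lit 1, nat_lit 26, nat_lit 24, nat_lit 11, nat_lit 26], (nat_lit 555)⟩],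
  .cy (nat_lit 0) [] [] [] (nat_lit 584) [],
  .cy (nat_lit 5) [] [] [nat_lit 15, nat_lit 1, nat_lit 18, nat_lit 16, nat_lit 27] (nat_lit 233) [⟨[nat_lit 165], [nat_lit 11, nat_lit 5, nat_lit 2, nat_lit 25, nat_lit 16, nat_lit 26], (nat_lit 211)⟩, ⟨[nat_lit 203, nat_lit 523], [nat_lit 15, nat_lit 5, nat_lit 35, nat_lit 16, nat_lit 16, nat_lit 27], (nat_lit 255)⟩],
  .cy (nat_lit 0) [] [] [] (nat_lit 586) [],
  .cy (nat_lit 9) [] [] [nat_lit 11, nat_lit 2, nat_lit 0, nat_lit 34, nat_lit 16, nat_lit 11, nat_lit 27] (nat_lit 233) [⟨[nat_lit 179, nat_lit 164, nat_lit 162], [nat_lit 26, nat_lit 24, nat_lit 0, nat_lit 25], (nat_lit 230)⟩, ⟨[nat_lit 217], [nat_lit 1, nat_lit 1, nat_lit 36, nat_lit 16], (nat_lit 453)⟩],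
  .cy (nat_lit 0) [] [] [] (nat_lit 588) [],
  .cy (nat_lit 12) [] [] [nat_lit 2, nat_lit 36, nat_lit 36, nat_lit 17, nat_lit 27] (nat_lit 233) [⟨[nat_lit 165], [nat_lit 1, nat_lit 24, nat_lit 0, nat_lit 16, nat_lit 25, nat_lit 26], (nat_lit 211)⟩, ⟨[nat_lit 208, nat_lit 522, nat_lit 204], [nat_lit 15, nat_lit 2, nat_lit 17, nat_lit 15, nat_lit 26], (nat_lit 438)⟩],
  .cy (nat_lit 0) [] [] [] (nat_lit 590) [],
  .cy (nat_lit 20) [] [] [nat_lit 15, nat_lit 1, nat_lit 32, nat_lit 32, nat_lit 11, nat_lit 27] (nat_lit 233) [⟨[nat_lit 178, nat_lit 176], [nat_lit 10, nat_lit 10, nat_lit 0, nat_lit 36, nat_lit 24, nat_lit 15], (nat_lit 503)⟩, ⟨[], [nat_lit 16, nat_lit 0, nat_lit 24, nat_lit 16, nat_lit 26], (nat_lit 418)⟩],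
  .cy (nat_lit 0) [] [] [] (nat_lit 592) [],
  .cy (nat_lit 23) [] [] [nat_lit 11, nat_lit 2, nat_lit 0, nat_lit 37, nat_lit 37, nat_lit 11, nat_lit 27] (nat_lit 233) [⟨[nat_lit 179, nat_lit 179, nat_lit 161], [nat_lit 25, nat_lit 1, nat_lit 16, nat_lit 37, nat_lit 27], (nat_lit 503)⟩, ⟨[nat_lit 217, nat_lit 215], [nat_lit 25, nat_lit 14, nat_lit 0, nat_lit 35, nat_lit 35, nat_lit 11], (nat_lit 530)⟩],
  .cy (nat_lit 0) [] [] [] (nat_lit 594) [],
  .cy (nat_lit 23) [] [] [nat_lit 25, nat_lit 16, nat_lit 0, nat_lit 33, nat_lit 36, nat_lit 27] (nat_lit 233) [⟨[nat_lit 167], [nat_lit 15, nat_lit 0, nat_lit 34, nat_lit 24, nat_lit 17, nat_lit 26], (nat_lit 377)⟩, ⟨[], [nat_lit 14, nat_lit 0, nat_lit 32, nat_lit 34, nat_lit 16, nat_lit 27], (nat_lit 530)⟩],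
  .cy (nat_lit 0) [] [] [] (nat_lit 596) [],
  .cy (nat_lit 25) [] [] [nat_lit 26, nat_lit 2, nat_lit 0, nat_lit 32, nat_lit 18] (nat_lit 233) [⟨[nat_lit 178, nat_lit 164, nat_lit 175, nat_lit 161], [nat_lit 16, nat_lit 5, nat_lit 0, nat_lit 17, nat_lit 17], (nat_lit 360)⟩, ⟨[nat_lit 217, nat_lit 215], [nat_lit 14, nat_lit 15, nat_lit 0, nat_lit 37, nat_lit 25], (nat_lit 566)⟩],
  .cy (nat_lit 0) [] [] [] (nat_lit 598) [],
  .cy (nat_lit 22) [] [] [nat_lit 24, nat_lit 2, nat_lit 0, nat_lit 37, nat_lit 24, nat_lit 15] (nat_lit 231) [⟨[nat_lit 176, nat_lit 165, nat_lit 164], [nat_lit 1, nat_lit 5, nat_lit 32, nat_lit 15, nat_lit 27], (nat_lit 379)⟩, ⟨[nat_lit 217], [nat_lit 10, nat_lit 0, nat_lit 11, nat_lit 16], (nat_lit 569)⟩],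
  .cy (nat_lit 0) [] [] [] (nat_lit 600) [],
  .cy (nat_lit 10) [] [] [nat_lit 25, nat_lit 14, nat_lit 0, nat_lit 25, nat_lit 18, nat_lit 26] (nat_lit 327) [⟨[], [nat_lit 26, nat_lit 2, nat_lit 24, nat_lit 37, nat_lit 17, nat_lit 27], (nat_lit 588)⟩, ⟨[], [nat_lit 18, nat_lit 15, nat_lit 0, nat_lit 33, nat_lit 37, nat_lit 27], (nat_lit 442)⟩],
  .cy (nat_lit 0) [] [] [] (nat_lit 602) [],
  .cy (nat_lit 23) [] [] [nat_lit 16, nat_lit 0, nat_lit 26, nat_lit 16, nat_lit 11] (nat_lit 327) [⟨[nat_lit 217, nat_lit 215], [nat_lit 1, nat_lit 24, nat_lit 0, nat_lit 33, nat_lit 24, nat_lit 11], (nat_lit 534)⟩, ⟨[nat_lit 215], [nat_lit 24, nat_lit 2, nat_lit 24, nat_lit 18, nat_lit 26], (nat_lit 419)⟩],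
  .cy (nat_lit 27) [] [] [nat_lit 25, nat_lit 1, nat_lit 27, nat_lit 25, nat_lit 26] (nat_lit 327) [⟨[nat_lit 215, nat_lit 217], [nat_lit 17, nat_lit 2, nat_lit 0, nat_lit 32, nat_lit 18, nat_lit 15, nat_lit 27], (nat_lit 475)⟩, ⟨[nat_lit 217, nat_lit 215], [nat_lit 15, nat_lit 5, nat_lit 18, nat_lit 36, nat_lit 27], (nat_lit 418)⟩],
  .cy (nat_lit 2) [] [] [nat_lit 16, nat_lit 5, nat_lit 0, nat_lit 16, nat_lit 17, nat_lit 15, nat_lit 26] (nat_lit 312) [⟨[], [nat_lit 10, nat_lit 10, nat_lit 0, nat_lit 36, nat_lit 15, nat_lit 26], (nat_lit 393)⟩, ⟨[nat_lit 217], [nat_lit 26, nat_lit 24, nat_lit 0, nat_lit 36, nat_lit 24, nat_lit 15], (nat_lit 429)⟩],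
  .cy (nat_lit 0) [] [] [] (nat_lit 606) [],
  .cy (nat_lit 1) [] [] [nat_lit 18, nat_lit 15, nat_lit 0, nat_lit 24, nat_lit 17, nat_lit 11] (nat_lit 310) [⟨[], [nat_lit 24, nat_lit 2, nat_lit 0, nat_lit 37, nat_lit 37, nat_lit 27], (nat_lit 508)⟩, ⟨[nat_lit 175, nat_lit 178, nat_lit 165], [nat_lit 11, nat_lit 2, nat_lit 0, nat_lit 11, nat_lit 37, nat_lit 27], (nat_lit 244)⟩],
  .cy (nat_lit 0) [] [] [] (nat_lit 608) [],
  .cy (nat_lit 8) [] [] [nat_lit 14, nat_lit 0, nat_lit 32, nat_lit 36, nat_lit 16] (nat_lit 310) [⟨[], [nat_lit 18, nat_lit 15, nat_lit 0, nat_lit 32, nat_lit 18, nat_lit 15, nat_lit 27], (nat_lit 508)⟩, ⟨[nat_lit 167, nat_lit 178, nat_lit 176], [nat_lit 14, nat_lit 15, nat_lit 27, nat_lit 16], (nat_lit 503)⟩],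
  .cy (nat_lit 0) [] [] [] (nat_lit 610) [],
  .cy (nat_lit 6) [] [] [nat_lit 24, nat_lit 16, nat_lit 0, nat_lit 33, nat_lit 35, nat_lit 11, nat_lit 26] (nat_lit 239) [⟨[nat_lit 179, nat_lit 175, nat_lit 164, nat_lit 161], [nat_lit 1, nat_lit 24, nat_lit 0, nat_lit 35, nat_lit 33, nat_lit 27], (nat_lit 469)⟩, ⟨[nat_lit 215, nat_lit 217], [nat_lit 1, nat_lit 14, nat_lit 33, nat_lit 33, nat_lit 26], (nat_lit 413)⟩],
  .cy (nat_lit 0) [] [] [] (nat_lit 612) [],
  .cy (nat_lit 11) [] [] [nat_lit 1, nat_lit 24, nat_lit 0, nat_lit 34, nat_lit 17, nat_lit 11, nat_lit 26] (nat_lit 239) [⟨[nat_lit 176, nat_lit 178], [nat_lit 25, nat_lit 0, nat_lit 34, nat_lit 11, nat_lit 26], (nat_lit 240)⟩, ⟨[], [nat_lit 25, nat_lit 2, nat_lit 0, nat_lit 25, nat_lit 26], (nat_lit 613)⟩],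
  .cy (nat_lit 0) [] [] [] (nat_lit 614) [],
  .cy (nat_lit 10) [] [] [nat_lit 14, nat_lit 34, nat_lit 15] (nat_lit 229) [⟨[nat_lit 167, nat_lit 162, nat_lit 161], [nat_lit 26, nat_lit 24, nat_lit 0, nat_lit 33, nat_lit 24, nat_lit 11, nat_lit 26], (nat_lit 507)⟩, ⟨[nat_lit 217, nat_lit 215], [nat_lit 24, nat_lit 2, nat_lit 0, nat_lit 34, nat_lit 32, nat_lit 11], (nat_lit 479)⟩],
  .cy (nat_lit 0) [] [] [] (nat_lit 616) [],
  .cy (nat_lit 21) [] [] [nat_lit 24, nat_lit 16, nat_lit 0, nat_lit 17, nat_lit 16, nat_lit 26] (nat_lit 229) [⟨[nat_lit 178, nat_lit 164, nat_lit 161], [nat_lit 18, nat_lit 15, nat_lit 0, nat_lit 33, nat_lit 24, nat_lit 11, nat_lit 26], (nat_lit 501)⟩, ⟨[nat_lit 217], [nat_lit 5, nat_lit 2, nat_lit 32, nat_lit 34, nat_lit 11, nat_lit 27], (nat_lit 426)⟩],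
  .cy (nat_lit 0) [] [] [] (nat_lit 618) [],
  .cy (nat_lit 5) [] [] [nat_lit 17, nat_lit 2, nat_lit 0, nat_lit 16, nat_lit 18, nat_lit 11, nat_lit 27] (nat_lit 266) [⟨[nat_lit 215], [nat_lit 16, nat_lit 5, nat_lit 2, nat_lit 17, nat_lit 25, nat_lit 15], (nat_lit 227)⟩, ⟨[nat_lit 165, nat_lit 178, nat_lit 178], [nat_lit 15, nat_lit 0, nat_lit 33, nat_lit 26], (nat_lit 505)⟩],
  .cy (nat_lit 0) [] [] [] (nat_lit 620) [],
  .cy (nat_lit 24) [] [] [nat_lit 14, nat_lit 0, nat_lit 25, nat_lit 18, nat_lit 16, nat_lit 26] (nat_lit 320) [⟨[nat_lit 217, nat_lit 215], [nat_lit 26, nat_lit 24, nat_lit 0, nat_lit 35, nat_lit 33], (nat_lit 479)⟩, ⟨[nat_lit 215], [nat_lit 17, nat_lit 2, nat_lit 0, nat_lit 17, nat_lit 16, nat_lit 26], (nat_lit 530)⟩],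
  .cy (nat_lit 0) [] [] [] (nat_lit 622) [],
  .cy (nat_lit 24) [] [] [nat_lit 1, nat_lit 24, nat_lit 0, nat_lit 34, nat_lit 15, nat_lit 27] (nat_lit 274) [⟨[nat_lit 217], [nat_lit 16, nat_lit 5, nat_lit 0, nat_lit 25, nat_lit 35, nat_lit 26], (nat_lit 557)⟩, ⟨[nat_lit 215, nat_lit 217], [nat_lit 26, nat_lit 2, nat_lit 17, nat_lit 17, nat_lit 11, nat_lit 26], (nat_lit 441)⟩],
  .cy (nat_lit 0) [] [] [] (nat_lit 624) [],
  .cy (nat_lit 20) [] [] [nat_lit 15, nat_lit 5, nat_lit 17, nat_lit 16] (nat_lit 400) [⟨[nat_lit 215, nat_lit 217, nat_lit 215], [nat_lit 16, nat_lit 5, nat_lit 0, nat_lit 34, nat_lit 15, nat_lit 11, nat_lit 26], (nat_lit 585)⟩, ⟨[], [nat_lit 24, nat_lit 0, nat_lit 25, nat_lit 16, nat_lit 16], (nat_lit 451)⟩],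
  .cy (nat_lit 0) [] [] [] (nat_lit 626) [],
  .cy (nat_lit 10) [] [] [nat_lit 24, nat_lit 2, nat_lit 16, nat_lit 26] (nat_lit 370) [⟨[nat_lit 201, nat_lit 522, nat_lit 206], [nat_lit 1, nat_lit 5, nat_lit 33, nat_lit 15, nat_lit 11, nat_lit 26], (nat_lit 383)⟩, ⟨[nat_lit 215, nat_lit 217], [nat_lit 11, nat_lit 5, nat_lit 2, nat_lit 36, nat_lit 33], (nat_lit 492)⟩],
  .cy (nat_lit 0) [] [] [] (nat_lit 628) [],
  .cy (nat_lit 21) [] [] [nat_lit 1, nat_lit 25, nat_lit 37, nat_lit 27] (nat_lit 442) [⟨[nat_lit 215, nat_lit 217], [nat_lit 24, nat_lit 2, nat_lit 0, nat_lit 37, nat_lit 24, nat_lit 11], (nat_lit 533)⟩, ⟨[nat_lit 178, nat_lit 176, nat_lit 165], [nat_lit 15, nat_lit 1, nat_lit 18, nat_lit 16, nat_lit 27], (nat_lit 224)⟩],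
  .cy (nat_lit 0) [] [] [] (nat_lit 630) [],
  .cy (nat_lit 6) [] [] [nat_lit 15, nat_lit 0, nat_lit 36, nat_lit 24, nat_lit 15, nat_lit 27] (nat_lit 337) [⟨[nat_lit 217, nat_lit 215], [nat_lit 25, nat_lit 14, nat_lit 0, nat_lit 35, nat_lit 15], (nat_lit 551)⟩, ⟨[nat_lit 217], [nat_lit 0, nat_lit 2, nat_lit 15, nat_lit 15, nat_lit 11, nat_lit 26], (nat_lit 252)⟩],
  .cy (nat_lit 0) [] [] [] (nat_lit 632) [],
  .cy (nat_lit 22) [] [] [nat_lit 16, nat_lit 0, nat_lit 16, nat_lit 18, nat_lit 11, nat_lit 26] (nat_lit 358) [⟨[nat_lit 215], [nat_lit 10, nat_lit 10, nat_lit 0, nat_lit 11, nat_lit 18, nat_lit 27], (nat_lit 447)⟩, ⟨[nat_lit 215], [nat_lit 17, nat_lit 2, nat_lit 0, nat_lit 24, nat_lit 11], (nat_lit 531)⟩],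
  .cy (nat_lit 0) [] [] [] (nat_lit 634) [],
  .cy (nat_lit 5) [] [] [nat_lit 1, nat_lit 14, nat_lit 24, nat_lit 36, nat_lit 27] (nat_lit 278) [⟨[], [nat_lit 1, nat_lit 24, nat_lit 0, nat_lit 32, nat_lit 36, nat_lit 16, nat_lit 27], (nat_lit 353)⟩, ⟨[nat_lit 217], [nat_lit 24, nat_lit 16, nat_lit 0, nat_lit 34, nat_lit 15, nat_lit 11, nat_lit 27], (nat_lit 422)⟩],
  .cy (nat_lit 0) [] [] [] (nat_lit 636) [],
  .cy (nat_lit 1) [] [] [nat_lit 25, nat_lit 0, nat_lit 18, nat_lit 11, nat_lit 15] (nat_lit 276) [⟨[nat_lit 215, nat_lit 217], [nat_lit 33, nat_lit 35], (nat_lit 504)⟩, ⟨[nat_lit 167, nat_lit 178, nat_lit 176], [nat_lit 11, nat_lit 2, nat_lit 0, nat_lit 15, nat_lit 32, nat_lit 26], (nat_lit 503)⟩],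
  .cy (nat_lit 0) [] [] [] (nat_lit 638) [],
  .cy (nat_lit 3) [] [] [nat_lit 10, nat_lit 0, nat_lit 25, nat_lit 15, nat_lit 11, nat_lit 27] (nat_lit 415) [⟨[], [nat_lit 26, nat_lit 15, nat_lit 15], (nat_lit 452)⟩, ⟨[], [nat_lit 24, nat_lit 15, nat_lit 0, nat_lit 15, nat_lit 18, nat_lit 16, nat_lit 26], (nat_lit 563)⟩],
  .cy (nat_lit 0) [] [] [] (nat_lit 640) [],
  .cy (nat_lit 27) [] [] [nat_lit 5, nat_lit 17, nat_lit 15, nat_lit 11] (nat_lit 415) [⟨[nat_lit 215, nat_lit 217, nat_lit 215], [nat_lit 1, nat_lit 24, nat_lit 0, nat_lit 33, nat_lit 37, nat_lit 27], (nat_lit 451)⟩, ⟨[nat_lit 217, nat_lit 215], [nat_lit 14, nat_lit 15, nat_lit 0, nat_lit 17, nat_lit 33], (nat_lit 614)⟩],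
  .cy (nat_lit 0) [] [] [] (nat_lit 642) [],
  .cy (nat_lit 3) [] [] [nat_lit 5, nat_lit 2, nat_lit 11] (nat_lit 479) [⟨[], [nat_lit 24, nat_lit 36, nat_lit 27], (nat_lit 556)⟩, ⟨[nat_lit 215, nat_lit 217, nat_lit 215], [nat_lit 24, nat_lit 2, nat_lit 0, nat_lit 37, nat_lit 16], (nat_lit 597)⟩],
  .cy (nat_lit 0) [] [] [] (nat_lit 644) [],
  .cy (nat_lit 26) [] [] [nat_lit 1, nat_lit 24, nat_lit 0, nat_lit 37, nat_lit 17, nat_lit 27] (nat_lit 454) [⟨[], [nat_lit 2, nat_lit 27, nat_lit 18, nat_lit 11, nat_lit 27], (nat_lit 457)⟩, ⟨[], [nat_lit 16, nat_lit 5, nat_lit 0, nat_lit 34, nat_lit 32, nat_lit 27], (nat_lit 571)⟩],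
  .cy (nat_lit 0) [] [] [] (nat_lit 646) [],
  .cy (nat_lit 8) [] [] [nat_lit 25, nat_lit 1, nat_lit 34, nat_lit 17] (nat_lit 324) [⟨[nat_lit 217], [nat_lit 15, nat_lit 1, nat_lit 34, nat_lit 24, nat_lit 15, nat_lit 26], (nat_lit 463)⟩, ⟨[nat_lit 215, nat_lit 217, nat_lit 215], [nat_lit 25, nat_lit 16, nat_lit 0, nat_lit 36, nat_lit 32, nat_lit 11, nat_lit 27], (nat_lit 542)⟩],
  .cy (nat_lit 0) [] [] [] (nat_lit 648) [],
  .cy (nat_lit 8) [] [] [nat_lit 24, nat_lit 15, nat_lit 0, nat_lit 36] (nat_lit 315) [⟨[], [nat_lit 27, nat_lit 37, nat_lit 26], (nat_lit 549)⟩, ⟨[nat_lit 215], [nat_lit 1, nat_lit 5, nat_lit 27, nat_lit 18, nat_lit 27], (nat_lit 616)⟩],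
  .cy (nat_lit 0) [] [] [] (nat_lit 650) [],
  .cy (nat_lit 6) [] [] [nat_lit 15, nat_lit 1, nat_lit 16, nat_lit 24] (nat_lit 280) [⟨[nat_lit 215], [nat_lit 5, nat_lit 0, nat_lit 37, nat_lit 34, nat_lit 25], (nat_lit 616)⟩, ⟨[nat_lit 215, nat_lit 217, nat_lit 215], [nat_lit 5, nat_lit 2, nat_lit 33, nat_lit 37], (nat_lit 634)⟩],
  .cy (nat_lit 0) [] [] [] (nat_lit 652) [],
  .cy (nat_lit 22) [] [] [nat_lit 10, nat_lit 10, nat_lit 0, nat_lit 36, nat_lit 11] (nat_lit 280) [⟨[nat_lit 217], [nat_lit 24, nat_lit 2, nat_lit 0, nat_lit 32, nat_lit 27, nat_lit 17], (nat_lit 457)⟩, ⟨[nat_lit 215, nat_lit 217, nat_lit 215], [nat_lit 2, nat_lit 0, nat_lit 25, nat_lit 15], (nat_lit 566)⟩],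
  .cy (nat_lit 0) [] [] [] (nat_lit 654) [],
  .cy (nat_lit 5) [] [] [nat_lit 26, nat_lit 24, nat_lit 0, nat_lit 32, nat_lit 15, nat_lit 27] (nat_lit 311) [⟨[nat_lit 217], [nat_lit 15, nat_lit 5, nat_lit 34, nat_lit 32, nat_lit 11, nat_lit 26], (nat_lit 327)⟩, ⟨[nat_lit 217], [nat_lit 26, nat_lit 24, nat_lit 0, nat_lit 24, nat_lit 27], (nat_lit 548)⟩],
  .cy (nat_lit 0) [] [] [] (nat_lit 656) [],
  .cy (nat_lit 21) [] [] [nat_lit 11, nat_lit 2, nat_lit 0, nat_lit 25, nat_lit 16, nat_lit 16] (nat_lit 311) [⟨[nat_lit 215], [nat_lit 5, nat_lit 2, nat_lit 0, nat_lit 34, nat_lit 25], (nat_lit 489)⟩, ⟨[nat_lit 215, nat_lit 217, nat_lit 215], [nat_lit 17, nat_lit 2, nat_lit 0, nat_lit 26, nat_lit 16, nat_lit 26], (nat_lit 565)⟩],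
  .cy (nat_lit 0) [] [] [] (nat_lit 658) [],
  .cy (nat_lit 12) [] [] [nat_lit 5, nat_lit 14, nat_lit 36, nat_lit 27] (nat_lit 483) [⟨[], [nat_lit 16, nat_lit 2, nat_lit 15, nat_lit 32, nat_lit 27], (nat_lit 659)⟩, ⟨[nat_lit 217], [nat_lit 11, nat_lit 2, nat_lit 0, nat_lit 25, nat_lit 36, nat_lit 11, nat_lit 26], (nat_lit 602)⟩],
  .cy (nat_lit 0) [] [] [] (nat_lit 660) [],
  .cy (nat_lit 25) [] [] [nat_lit 25, nat_lit 1, nat_lit 18, nat_lit 16, nat_lit 11, nat_lit 27] (nat_lit 483) [⟨[nat_lit 217, nat_lit 215], [nat_lit 5, nat_lit 16, nat_lit 2, nat_lit 24, nat_lit 37, nat_lit 17, nat_lit 27], (nat_lit 446)⟩, ⟨[nat_lit 217], [nat_lit 5, nat_lit 33, nat_lit 11, nat_lit 26], (nat_lit 443)⟩],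
  .cy (nat_lit 0) [] [] [] (nat_lit 662) [],
  .cy (nat_lit 27) [] [] [nat_lit 16, nat_lit 0, nat_lit 18, nat_lit 36, nat_lit 11] (nat_lit 483) [⟨[nat_lit 217], [nat_lit 5, nat_lit 14, nat_lit 34, nat_lit 25, nat_lit 11, nat_lit 27], (nat_lit 596)⟩, ⟨[nat_lit 215, nat_lit 217, nat_lit 215], [nat_lit 24, nat_lit 2, nat_lit 11], (nat_lit 442)⟩],
  .cy (nat_lit 0) [] [] [] (nat_lit 664) [],
  .cy (nat_lit 25) [] [] [nat_lit 17, nat_lit 24, nat_lit 0, nat_lit 15, nat_lit 27, nat_lit 16, nat_lit 27] (nat_lit 385) [⟨[nat_lit 215, nat_lit 217, nat_lit 215], [nat_lit 1, nat_lit 36, nat_lit 16, nat_lit 11, nat_lit 27], (nat_lit 623)⟩, ⟨[nat_lit 217, nat_lit 215], [nat_lit 1, nat_lit 5, nat_lit 15, nat_lit 35, nat_lit 11], (nat_lit 597)⟩],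
  .cy (nat_lit 0) [] [] [] (nat_lit 666) [],
  .cy (nat_lit 22) [] [] [nat_lit 25, nat_lit 0, nat_lit 34, nat_lit 24, nat_lit 15, nat_lit 26] (nat_lit 418) [⟨[], [nat_lit 25, nat_lit 37, nat_lit 11], (nat_lit 450)⟩, ⟨[], [nat_lit 24, nat_lit 0, nat_lit 17, nat_lit 17, nat_lit 15], (nat_lit 279)⟩],
  .cy (nat_lit 0) [] [] [] (nat_lit 668) [],
  .cy (nat_lit 22) [] [] [nat_lit 5, nat_lit 2, nat_lit 16, nat_lit 18, nat_lit 11] (nat_lit 406) [⟨[nat_lit 215, nat_lit 217], [nat_lit 5, nat_lit 2, nat_lit 36, nat_lit 33, nat_lit 11, nat_lit 26], (nat_lit 480)⟩, ⟨[], [nat_lit 5, nat_lit 2, nat_lit 18, nat_lit 35, nat_lit 15], (nat_lit 449)⟩],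
  .cy (nat_lit 0) [] [] [] (nat_lit 670) [],
  .cy (nat_lit 7) [] [] [nat_lit 2, nat_lit 0, nat_lit 24, nat_lit 37, nat_lit 17] (nat_lit 382) [⟨[nat_lit 205, nat_lit 203], [nat_lit 14, nat_lit 25, nat_lit 37, nat_lit 11, nat_lit 27], (nat_lit 529)⟩, ⟨[nat_lit 217], [nat_lit 11, nat_lit 5, nat_lit 2, nat_lit 27, nat_lit 36, nat_lit 11, nat_lit 26], (nat_lit 663)⟩],
  .cy (nat_lit 0) [] [] [] (nat_lit 672) [],
  .cy (nat_lit 7) [] [] [nat_lit 5, nat_lit 2, nat_lit 0, nat_lit 11, nat_lit 37] (nat_lit 382) [⟨[nat_lit 204, nat_lit 522], [nat_lit 16, nat_lit 5, nat_lit 0, nat_lit 25, nat_lit 35], (nat_lit 366)⟩, ⟨[nat_lit 217], [nat_lit 5, nat_lit 16, nat_lit 2, nat_lit 24, nat_lit 17, nat_lit 11], (nat_lit 410)⟩],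
  .cy (nat_lit 7) [] [] [nat_lit 25, nat_lit 16, nat_lit 0, nat_lit 37, nat_lit 18, nat_lit 15] (nat_lit 382) [⟨[nat_lit 522, nat_lit 203, nat_lit 522, nat_lit 204], [nat_lit 15, nat_lit 1, nat_lit 32, nat_lit 15], (nat_lit 519)⟩, ⟨[nat_lit 215], [nat_lit 26, nat_lit 2, nat_lit 0, nat_lit 34, nat_lit 32, nat_lit 11], (nat_lit 537)⟩],
  .cy (nat_lit 0) [] [] [] (nat_lit 675) [],
  .cy (nat_lit 8) [] [] [nat_lit 0, nat_lit 2, nat_lit 35, nat_lit 11, nat_lit 27] (nat_lit 382) [⟨[nat_lit 205, nat_lit 522, nat_lit 208, nat_lit 201], [nat_lit 14, nat_lit 0, nat_lit 24, nat_lit 15, nat_lit 26], (nat_lit 366)⟩, ⟨[], [nat_lit 5, nat_lit 2, nat_lit 17, nat_lit 17, nat_lit 15], (nat_lit 608)⟩],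
  .cy (nat_lit 0) [] [] [] (nat_lit 677) [],
  .cy (nat_lit 10) [] [] [nat_lit 1, nat_lit 24, nat_lit 0, nat_lit 33, nat_lit 16, nat_lit 11, nat_lit 27] (nat_lit 382) [⟨[nat_lit 522, nat_lit 206, nat_lit 523, nat_lit 201], [nat_lit 24, nat_lit 2, nat_lit 34, nat_lit 24, nat_lit 27], (nat_lit 342)⟩, ⟨[], [nat_lit 0, nat_lit 35, nat_lit 36, nat_lit 11], (nat_lit 321)⟩],
  .cy (nat_lit 0) [] [] [] (nat_lit 679) [],
  .cy (nat_lit 3) [] [] [nat_lit 0, nat_lit 32, nat_lit 24] (nat_lit 481) [⟨[nat_lit 217, nat_lit 215], [nat_lit 15, nat_lit 1, nat_lit 15, nat_lit 17], (nat_lit 389)⟩, ⟨[nat_lit 215, nat_lit 217], [nat_lit 25, nat_lit 14, nat_lit 0, nat_lit 33, nat_lit 18, nat_lit 11, nat_lit 27], (nat_lit 600)⟩],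
  .cy (nat_lit 0) [] [] [] (nat_lit 681) [],
  .cy (nat_lit 26) [] [] [nat_lit 1, nat_lit 24, nat_lit 0, nat_lit 15, nat_lit 24] (nat_lit 395) [⟨[nat_lit 215], [nat_lit 24, nat_lit 15, nat_lit 0, nat_lit 36, nat_lit 26], (nat_lit 476)⟩, ⟨[nat_lit 215, nat_lit 217, nat_lit 215], [nat_lit 15, nat_lit 1, nat_lit 34, nat_lit 11, nat_lit 17, nat_lit 26], (nat_lit 607)⟩],
  .cy (nat_lit 0) [] [] [] (nat_lit 683) [],
  .cy (nat_lit 12) [] [] [nat_lit 24, nat_lit 11, nat_lit 26] (nat_lit 295) [⟨[nat_lit 164], [nat_lit 1, nat_lit 33, nat_lit 16, nat_lit 11, nat_lit 26], (nat_lit 228)⟩, ⟨[nat_lit 217], [nat_lit 26, nat_lit 2, nat_lit 0, nat_lit 17, nat_lit 11, nat_lit 17, nat_lit 26], (nat_lit 615)⟩],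
  .cy (nat_lit 0) [] [] [] (nat_lit 685) [],
  .cy (nat_lit 20) [] [] [nat_lit 14, nat_lit 15, nat_lit 0, nat_lit 33, nat_lit 33, nat_lit 26] (nat_lit 295) [⟨[nat_lit 176, nat_lit 165, nat_lit 161], [nat_lit 25, nat_lit 0, nat_lit 15, nat_lit 32, nat_lit 15], (nat_lit 360)⟩, ⟨[nat_lit 215], [nat_lit 24, nat_lit 2, nat_lit 0, nat_lit 32, nat_lit 24, nat_lit 11, nat_lit 27], (nat_lit 456)⟩],
  .cy (nat_lit 0) [] [] [] (nat_lit 687) [],
  .cy (nat_lit 21) [] [] [nat_lit 25, nat_lit 16, nat_lit 0, nat_lit 35, nat_lit 26] (nat_lit 295) [⟨[nat_lit 179, nat_lit 175, nat_lit 167, nat_lit 162], [nat_lit 14, nat_lit 16, nat_lit 18, nat_lit 11, nat_lit 27], (nat_lit 379)⟩, ⟨[nat_lit 217, nat_lit 215], [nat_lit 24, nat_lit 0, nat_lit 35, nat_lit 36], (nat_lit 457)⟩],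
  .cy (nat_lit 0) [] [] [] (nat_lit 689) [],
  .cy (nat_lit 6) [] [] [nat_lit 15, nat_lit 0, nat_lit 25, nat_lit 16, nat_lit 26] (nat_lit 285) [⟨[nat_lit 215, nat_lit 217, nat_lit 215], [nat_lit 5, nat_lit 2, nat_lit 0, nat_lit 33, nat_lit 15], (nat_lit 533)⟩, ⟨[nat_lit 162, nat_lit 179, nat_lit 161], [nat_lit 10, nat_lit 0, nat_lit 18, nat_lit 27], (nat_lit 360)⟩],
  .cy (nat_lit 0) [] [] [] (nat_lit 691) [],
  .cy (nat_lit 11) [] [] [nat_lit 5, nat_lit 0, nat_lit 33, nat_lit 25, nat_lit 26] (nat_lit 285) [⟨[nat_lit 215], [nat_lit 5, nat_lit 2, nat_lit 0, nat_lit 24, nat_lit 11, nat_lit 26], (nat_lit 347)⟩, ⟨[nat_lit 217, nat_lit 215], [nat_lit 5, nat_lit 2, nat_lit 32, nat_lit 36, nat_lit 16, nat_lit 26], (nat_lit 460)⟩],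
  .cy (nat_lit 0) [] [] [] (nat_lit 693) [],
  .cy (nat_lit 26) [] [] [nat_lit 2, nat_lit 37, nat_lit 25, nat_lit 26] (nat_lit 285) [⟨[nat_lit 215, nat_lit 217, nat_lit 215], [nat_lit 25, nat_lit 0, nat_lit 34, nat_lit 25, nat_lit 27], (nat_lit 394)⟩, ⟨[nat_lit 215, nat_lit 217], [nat_lit 25, nat_lit 2, nat_lit 0, nat_lit 24, nat_lit 17, nat_lit 26], (nat_lit 506)⟩],
  .cy (nat_lit 0) [] [] [] (nat_lit 695) [],
  .cy (nat_lit 8) [] [] [nat_lit 5, nat_lit 16, nat_lit 2, nat_lit 32, nat_lit 27] (nat_lit 336) [⟨[], [nat_lit 25, nat_lit 14, nat_lit 0, nat_lit 17, nat_lit 16, nat_lit 26], (nat_lit 372)⟩, ⟨[nat_lit 203, nat_lit 522, nat_lit 208, nat_lit 205], [nat_lit 26, nat_lit 24, nat_lit 0, nat_lit 26, nat_lit 36, nat_lit 26], (nat_lit 527)⟩],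
  .cy (nat_lit 0) [] [] [] (nat_lit 697) [],
  .cy (nat_lit 2) [] [] [nat_lit 24, nat_lit 16, nat_lit 0, nat_lit 35, nat_lit 16, nat_lit 16, nat_lit 26] (nat_lit 243) [⟨[nat_lit 165, nat_lit 179, nat_lit 176], [nat_lit 15, nat_lit 1, nat_lit 15, nat_lit 17, nat_lit 26], (nat_lit 509)⟩, ⟨[nat_lit 217], [nat_lit 25, nat_lit 2, nat_lit 0, nat_lit 35, nat_lit 33, nat_lit 27], (nat_lit 508)⟩],
  .cy (nat_lit 0) [] [] [] (nat_lit 699) [],
  .cy (nat_lit 12) [] [] [nat_lit 15, nat_lit 2, nat_lit 17, nat_lit 15, nat_lit 27] (nat_lit 243) [⟨[], [nat_lit 11, nat_lit 5, nat_lit 2, nat_lit 11, nat_lit 36, nat_lit 27], (nat_lit 211)⟩, ⟨[nat_lit 201, nat_lit 522], [nat_lit 14, nat_lit 0, nat_lit 32, nat_lit 35], (nat_lit 210)⟩],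
  .cy (nat_lit 0) [] [] [] (nat_lit 701) [],
  .cy (nat_lit 22) [] [] [nat_lit 16, nat_lit 0, nat_lit 26, nat_lit 24, nat_lit 11, nat_lit 27] (nat_lit 243) [⟨[nat_lit 175, nat_lit 162, nat_lit 176, nat_lit 161], [nat_lit 15, nat_lit 1, nat_lit 24], (nat_lit 469)⟩, ⟨[], [nat_lit 18, nat_lit 15, nat_lit 0, nat_lit 16, nat_lit 27], (nat_lit 429)⟩],
  .cy (nat_lit 0) [] [] [] (nat_lit 703) [],
  .cy (nat_lit 22) [] [] [nat_lit 24, nat_lit 1, nat_lit 33, nat_lit 18, nat_lit 27] (nat_lit 243) [⟨[nat_lit 178, nat_lit 162, nat_lit 175], [nat_lit 1, nat_lit 15, nat_lit 11, nat_lit 15], (nat_lit 701)⟩, ⟨[], [nat_lit 15, nat_lit 5, nat_lit 35, nat_lit 27, nat_lit 15, nat_lit 27], (nat_lit 403)⟩],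
  .cy (nat_lit 0) [] [] [] (nat_lit 705) [],
  .cy (nat_lit 8) [] [] [nat_lit 1, nat_lit 25, nat_lit 18, nat_lit 16] (nat_lit 333) [⟨[], [nat_lit 17, nat_lit 37, nat_lit 11, nat_lit 27], (nat_lit 409)⟩, ⟨[nat_lit 217, nat_lit 215], [nat_lit 14, nat_lit 15, nat_lit 0, nat_lit 32, nat_lit 18, nat_lit 15], (nat_lit 676)⟩],
  .cy (nat_lit 0) [] [] [] (nat_lit 707) [],
  .cy (nat_lit 8) [] [] [nat_lit 5, nat_lit 2, nat_lit 0, nat_lit 37, nat_lit 15, nat_lit 26] (nat_lit 333) [⟨[nat_lit 215, nat_lit 217, nat_lit 215], [nat_lit 10, nat_lit 10, nat_lit 0, nat_lit 34, nat_lit 11, nat_lit 26], (nat_lit 409)⟩, ⟨[nat_lit 215, nat_lit 217], [nat_lit 25, nat_lit 2, nat_lit 0, nat_lit 35, nat_lit 15, nat_lit 27], (nat_lit 548)⟩],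
  .cy (nat_lit 0) [] [] [] (nat_lit 709) [],
  .cy (nat_lit 20) [] [] [nat_lit 25, nat_lit 14, nat_lit 0, nat_lit 36, nat_lit 15] (nat_lit 333) [⟨[nat_lit 215], [nat_lit 25, nat_lit 37, nat_lit 17, nat_lit 26], (nat_lit 533)⟩, ⟨[nat_lit 165, nat_lit 164, nat_lit 161], [nat_lit 1, nat_lit 14, nat_lit 33, nat_lit 18, nat_lit 11, nat_lit 27], (nat_lit 360)⟩],
  .cy (nat_lit 0) [] [] [] (nat_lit 711) [],
  .cy (nat_lit 5) [] [] [nat_lit 5, nat_lit 2, nat_lit 0, nat_lit 37, nat_lit 37] (nat_lit 252) [⟨[], [nat_lit 26, nat_lit 2, nat_lit 18, nat_lit 11, nat_lit 15, nat_lit 27], (nat_lit 328)⟩, ⟨[nat_lit 217, nat_lit 215], [nat_lit 17, nat_lit 24, nat_lit 0, nat_lit 15, nat_lit 18, nat_lit 27], (nat_lit 631)⟩]]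
noncomputable def P903 : List Pf := [.cy (nat_lit 0) [] [] [] (nat_lit 713) [],
  .cy (nat_lit 21) [] [] [nat_lit 1, nat_lit 14, nat_lit 25, nat_lit 15, nat_lit 26] (nat_lit 252) [⟨[nat_lit 217], [nat_lit 35, nat_lit 32], (nat_lit 577)⟩, ⟨[nat_lit 215, nat_lit 217, nat_lit 215], [nat_lit 5, nat_lit 0, nat_lit 24, nat_lit 11, nat_lit 26], (nat_lit 564)⟩],
  .cy (nat_lit 0) [] [] [] (nat_lit 715) [],
  .cy (nat_lit 4) [] [] [nat_lit 1, nat_lit 1, nat_lit 35, nat_lit 27] (nat_lit 359) [⟨[], [nat_lit 5, nat_lit 16, nat_lit 2, nat_lit 33, nat_lit 11], (nat_lit 652)⟩, ⟨[nat_lit 215], [nat_lit 15, nat_lit 0, nat_lit 27, nat_lit 36, nat_lit 27], (nat_lit 456)⟩],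
  .cy (nat_lit 0) [] [] [] (nat_lit 717) [],
  .cy (nat_lit 6) [] [] [nat_lit 1, nat_lit 5, nat_lit 33, nat_lit 33, nat_lit 11, nat_lit 27] (nat_lit 359) [⟨[nat_lit 217, nat_lit 215], [nat_lit 11, nat_lit 5, nat_lit 2, nat_lit 33, nat_lit 11, nat_lit 16], (nat_lit 628)⟩, ⟨[nat_lit 217, nat_lit 215], [nat_lit 16, nat_lit 2, nat_lit 27, nat_lit 15, nat_lit 11, nat_lit 27], (nat_lit 581)⟩],
  .cy (nat_lit 0) [] [] [] (nat_lit 719) [],
  .cy (nat_lit 1) [] [] [nat_lit 5, nat_lit 11, nat_lit 26] (nat_lit 258) [⟨[nat_lit 205, nat_lit 523, nat_lit 201], [nat_lit 25, nat_lit 2, nat_lit 0, nat_lit 24, nat_lit 24], (nat_lit 513)⟩, ⟨[], [nat_lit 16, nat_lit 5, nat_lit 0, nat_lit 26, nat_lit 34, nat_lit 11, nat_lit 26], (nat_lit 673)⟩],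
  .cy (nat_lit 0) [] [] [] (nat_lit 721) [],
  .cy (nat_lit 2) [] [] [nat_lit 5, nat_lit 16, nat_lit 2, nat_lit 26, nat_lit 17, nat_lit 15, nat_lit 27] (nat_lit 258) [⟨[nat_lit 522], [nat_lit 24, nat_lit 2, nat_lit 0, nat_lit 33, nat_lit 35, nat_lit 27], (nat_lit 210)⟩, ⟨[nat_lit 162, nat_lit 176, nat_lit 161], [nat_lit 25, nat_lit 14, nat_lit 0, nat_lit 34, nat_lit 24, nat_lit 26], (nat_lit 699)⟩],
  .cy (nat_lit 0) [] [] [] (nat_lit 723) [],
  .cy (nat_lit 2) [] [] [nat_lit 11, nat_lit 2, nat_lit 0, nat_lit 24, nat_lit 15] (nat_lit 258) [⟨[nat_lit 205, nat_lit 523, nat_lit 206], [nat_lit 1, nat_lit 1, nat_lit 17, nat_lit 16], (nat_lit 210)⟩, ⟨[], [nat_lit 1, nat_lit 24, nat_lit 0, nat_lit 34, nat_lit 25, nat_lit 11, nat_lit 26], (nat_lit 509)⟩],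
  .cy (nat_lit 0) [] [] [] (nat_lit 725) [],
  .cy (nat_lit 3) [] [] [nat_lit 16, nat_lit 5, nat_lit 2, nat_lit 36, nat_lit 33, nat_lit 11, nat_lit 27] (nat_lit 258) [⟨[nat_lit 208, nat_lit 203, nat_lit 522, nat_lit 204], [nat_lit 25, nat_lit 14, nat_lit 0, nat_lit 15, nat_lit 35, nat_lit 26], (nat_lit 381)⟩, ⟨[nat_lit 215], [nat_lit 25, nat_lit 14, nat_lit 0, nat_lit 36, nat_lit 24, nat_lit 26], (nat_lit 609)⟩],
  .cy (nat_lit 0) [] [] [] (nat_lit 727) [],
  .cy (nat_lit 5) [] [] [nat_lit 5, nat_lit 0, nat_lit 26, nat_lit 15, nat_lit 27] (nat_lit 258) [⟨[nat_lit 205, nat_lit 523, nat_lit 201], [nat_lit 0, nat_lit 2, nat_lit 24, nat_lit 37, nat_lit 15, nat_lit 27], (nat_lit 513)⟩, ⟨[], [nat_lit 2, nat_lit 17, nat_lit 11], (nat_lit 405)⟩],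
  .cy (nat_lit 0) [] [] [] (nat_lit 729) [],
  .cy (nat_lit 10) [] [] [nat_lit 14, nat_lit 35] (nat_lit 258) [⟨[nat_lit 209, nat_lit 202, nat_lit 523], [nat_lit 5, nat_lit 0, nat_lit 24, nat_lit 35], (nat_lit 373)⟩, ⟨[], [nat_lit 18, nat_lit 15, nat_lit 0, nat_lit 36, nat_lit 24, nat_lit 15], (nat_lit 337)⟩],
  .cy (nat_lit 0) [] [] [] (nat_lit 731) [],
  .cy (nat_lit 11) [] [] [nat_lit 15, nat_lit 1, nat_lit 18] (nat_lit 258) [⟨[nat_lit 205, nat_lit 522, nat_lit 206], [nat_lit 1, nat_lit 14, nat_lit 25, nat_lit 37, nat_lit 15, nat_lit 27], (nat_lit 210)⟩, ⟨[nat_lit 175, nat_lit 178, nat_lit 164], [nat_lit 5, nat_lit 14, nat_lit 15, nat_lit 15, nat_lit 11], (nat_lit 532)⟩],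
  .cy (nat_lit 0) [] [] [] (nat_lit 733) [],
  .cy (nat_lit 22) [] [] [nat_lit 15, nat_lit 0, nat_lit 33, nat_lit 37, nat_lit 26] (nat_lit 258) [⟨[nat_lit 208, nat_lit 201, nat_lit 522, nat_lit 204], [nat_lit 2, nat_lit 35, nat_lit 17, nat_lit 16], (nat_lit 438)⟩, ⟨[nat_lit 217, nat_lit 215], [nat_lit 1, nat_lit 24, nat_lit 0, nat_lit 11, nat_lit 37, nat_lit 26], (nat_lit 652)⟩],
  .cy (nat_lit 0) [] [] [] (nat_lit 735) [],
  .cy (nat_lit 7) [] [] [nat_lit 24, nat_lit 0, nat_lit 37, nat_lit 15, nat_lit 11, nat_lit 27] (nat_lit 330) [⟨[], [nat_lit 24, nat_lit 2, nat_lit 0, nat_lit 34, nat_lit 32, nat_lit 16], (nat_lit 361)⟩, ⟨[nat_lit 175, nat_lit 164, nat_lit 178], [nat_lit 14, nat_lit 0, nat_lit 32, nat_lit 18, nat_lit 15], (nat_lit 469)⟩],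
  .cy (nat_lit 0) [] [] [] (nat_lit 737) [],
  .cy (nat_lit 12) [] [] [nat_lit 37, nat_lit 25, nat_lit 27] (nat_lit 330) [⟨[], [nat_lit 14, nat_lit 33, nat_lit 15, nat_lit 11], (nat_lit 260)⟩, ⟨[nat_lit 217, nat_lit 215], [nat_lit 11, nat_lit 2, nat_lit 0, nat_lit 25, nat_lit 35, nat_lit 11, nat_lit 26], (nat_lit 484)⟩],
  .cy (nat_lit 0) [] [] [] (nat_lit 739) [],
  .cy (nat_lit 27) [] [] [nat_lit 18, nat_lit 15, nat_lit 0, nat_lit 35, nat_lit 36, nat_lit 11] (nat_lit 330) [⟨[nat_lit 217, nat_lit 215], [nat_lit 5, nat_lit 25, nat_lit 37, nat_lit 11], (nat_lit 609)⟩, ⟨[nat_lit 215, nat_lit 217, nat_lit 215], [nat_lit 25, nat_lit 0, nat_lit 25, nat_lit 37, nat_lit 17, nat_lit 26], (nat_lit 375)⟩],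
  .cy (nat_lit 0) [] [] [] (nat_lit 741) [],
  .cy (nat_lit 23) [] [] [nat_lit 25, nat_lit 0, nat_lit 37, nat_lit 37, nat_lit 16, nat_lit 26] (nat_lit 281) [⟨[nat_lit 215], [nat_lit 17, nat_lit 17, nat_lit 11, nat_lit 26], (nat_lit 504)⟩, ⟨[nat_lit 165, nat_lit 178, nat_lit 176, nat_lit 161], [nat_lit 5, nat_lit 0, nat_lit 25, nat_lit 18, nat_lit 18, nat_lit 27], (nat_lit 507)⟩],
  .cy (nat_lit 0) [] [] [] (nat_lit 743) [],
  .cy (nat_lit 7) [] [] [nat_lit 2, nat_lit 0, nat_lit 33, nat_lit 37, nat_lit 27] (nat_lit 248) [⟨[nat_lit 215, nat_lit 217, nat_lit 215], [nat_lit 5, nat_lit 2, nat_lit 0, nat_lit 32, nat_lit 18, nat_lit 11, nat_lit 26], (nat_lit 442)⟩, ⟨[nat_lit 217, nat_lit 215], [nat_lit 26, nat_lit 24, nat_lit 0, nat_lit 26, nat_lit 15, nat_lit 26], (nat_lit 738)⟩],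
  .cy (nat_lit 0) [] [] [] (nat_lit 745) [],
  .cy (nat_lit 2) [] [] [nat_lit 25, nat_lit 1, nat_lit 37] (nat_lit 323) [⟨[nat_lit 217], [nat_lit 10, nat_lit 0, nat_lit 36, nat_lit 25, nat_lit 11], (nat_lit 656)⟩, ⟨[nat_lit 215, nat_lit 217, nat_lit 215], [nat_lit 25, nat_lit 2, nat_lit 0, nat_lit 33, nat_lit 36, nat_lit 11, nat_lit 26], (nat_lit 660)⟩],
  .cy (nat_lit 0) [] [] [] (nat_lit 747) [],
  .cy (nat_lit 21) [] [] [nat_lit 25, nat_lit 0, nat_lit 26, nat_lit 17, nat_lit 15] (nat_lit 323) [⟨[nat_lit 217, nat_lit 215], [nat_lit 5, nat_lit 15, nat_lit 18, nat_lit 26], (nat_lit 684)⟩, ⟨[nat_lit 215], [nat_lit 0, nat_lit 2, nat_lit 32, nat_lit 32, nat_lit 11, nat_lit 26], (nat_lit 562)⟩],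
  .cy (nat_lit 0) [] [] [] (nat_lit 749) [],
  .cy (nat_lit 20) [] [] [nat_lit 1, nat_lit 5, nat_lit 34, nat_lit 11, nat_lit 17, nat_lit 26] (nat_lit 237) [⟨[nat_lit 176, nat_lit 165, nat_lit 179], [nat_lit 11, nat_lit 2, nat_lit 0, nat_lit 37, nat_lit 17, nat_lit 26], (nat_lit 695)⟩, ⟨[], [nat_lit 17, nat_lit 24, nat_lit 0, nat_lit 32, nat_lit 16, nat_lit 27], (nat_lit 535)⟩],
  .cy (nat_lit 0) [] [] [] (nat_lit 751) [],
  .cy (nat_lit 23) [] [] [nat_lit 25, nat_lit 14, nat_lit 0, nat_lit 33, nat_lit 24] (nat_lit 237) [⟨[nat_lit 175, nat_lit 165, nat_lit 162], [nat_lit 24, nat_lit 15, nat_lit 0, nat_lit 17, nat_lit 25, nat_lit 15, nat_lit 26], (nat_lit 503)⟩, ⟨[nat_lit 215], [nat_lit 15, nat_lit 1, nat_lit 35, nat_lit 35, nat_lit 11, nat_lit 26], (nat_lit 474)⟩],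
  .cy (nat_lit 0) [] [] [] (nat_lit 753) [],
  .cy (nat_lit 6) [] [] [nat_lit 16, nat_lit 0, nat_lit 34, nat_lit 24, nat_lit 17, nat_lit 27] (nat_lit 254) [⟨[nat_lit 209, nat_lit 205, nat_lit 201], [nat_lit 33, nat_lit 18], (nat_lit 529)⟩, ⟨[nat_lit 215, nat_lit 217], [nat_lit 14, nat_lit 0, nat_lit 25, nat_lit 37, nat_lit 11], (nat_lit 561)⟩],
  .cy (nat_lit 0) [] [] [] (nat_lit 755) [],
  .cy (nat_lit 7) [] [] [nat_lit 11, nat_lit 5, nat_lit 2, nat_lit 27, nat_lit 17] (nat_lit 254) [⟨[nat_lit 522, nat_lit 209], [nat_lit 10, nat_lit 10, nat_lit 0, nat_lit 24, nat_lit 18, nat_lit 27], (nat_lit 529)⟩, ⟨[nat_lit 217], [nat_lit 1, nat_lit 5, nat_lit 15, nat_lit 18, nat_lit 11, nat_lit 27], (nat_lit 483)⟩],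
  .cy (nat_lit 0) [] [] [] (nat_lit 757) [],
  .cy (nat_lit 7) [] [] [nat_lit 16, nat_lit 5, nat_lit 2, nat_lit 37, nat_lit 33, nat_lit 26] (nat_lit 254) [⟨[nat_lit 208, nat_lit 204, nat_lit 205, nat_lit 203], [nat_lit 24, nat_lit 2, nat_lit 15, nat_lit 11, nat_lit 27], (nat_lit 438)⟩, ⟨[], [nat_lit 14, nat_lit 15, nat_lit 0, nat_lit 33, nat_lit 35, nat_lit 27], (nat_lit 508)⟩],
  .cy (nat_lit 0) [] [] [] (nat_lit 759) [],
  .cy (nat_lit 10) [] [] [nat_lit 24, nat_lit 16, nat_lit 0, nat_lit 16, nat_lit 27] (nat_lit 254) [⟨[nat_lit 206, nat_lit 204, nat_lit 208, nat_lit 205], [nat_lit 25, nat_lit 2, nat_lit 0, nat_lit 37, nat_lit 24], (nat_lit 255)⟩, ⟨[], [nat_lit 24, nat_lit 2, nat_lit 35, nat_lit 17, nat_lit 16, nat_lit 26], (nat_lit 375)⟩],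
  .cy (nat_lit 0) [] [] [] (nat_lit 761) [],
  .cy (nat_lit 20) [] [] [nat_lit 14, nat_lit 0, nat_lit 35, nat_lit 36, nat_lit 27] (nat_lit 254) [⟨[nat_lit 205, nat_lit 523, nat_lit 206], [nat_lit 0, nat_lit 2, nat_lit 33, nat_lit 33, nat_lit 11, nat_lit 26], (nat_lit 259)⟩, ⟨[], [nat_lit 17, nat_lit 17, nat_lit 15, nat_lit 26], (nat_lit 660)⟩],
  .cy (nat_lit 0) [] [] [] (nat_lit 763) [],
  .cy (nat_lit 24) [] [] [nat_lit 5, nat_lit 24, nat_lit 11, nat_lit 26] (nat_lit 254) [⟨[nat_lit 522], [nat_lit 17, nat_lit 24, nat_lit 0, nat_lit 33, nat_lit 36, nat_lit 11], (nat_lit 210)⟩, ⟨[nat_lit 176, nat_lit 164, nat_lit 179], [nat_lit 5, nat_lit 18, nat_lit 27], (nat_lit 699)⟩],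
  .cy (nat_lit 8) [] [] [nat_lit 25, nat_lit 1, nat_lit 37, nat_lit 33] (nat_lit 482) [⟨[nat_lit 217], [nat_lit 15, nat_lit 32, nat_lit 27], (nat_lit 528)⟩, ⟨[nat_lit 209, nat_lit 204, nat_lit 208, nat_lit 205], [nat_lit 11, nat_lit 2, nat_lit 0, nat_lit 27, nat_lit 18], (nat_lit 513)⟩],
  .cy (nat_lit 0) [] [] [] (nat_lit 766) [],
  .cy (nat_lit 8) [] [] [nat_lit 24, nat_lit 16, nat_lit 0, nat_lit 37, nat_lit 24, nat_lit 11, nat_lit 26] (nat_lit 482) [⟨[nat_lit 217], [nat_lit 25, nat_lit 14, nat_lit 0, nat_lit 17, nat_lit 34, nat_lit 26], (nat_lit 702)⟩, ⟨[nat_lit 161, nat_lit 179, nat_lit 165], [nat_lit 1, nat_lit 1, nat_lit 18, nat_lit 27], (nat_lit 469)⟩],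
  .cy (nat_lit 0) [] [] [] (nat_lit 768) [],
  .cy (nat_lit 17) [] [] [nat_lit 5, nat_lit 2, nat_lit 32, nat_lit 18, nat_lit 11] (nat_lit 482) [⟨[], [nat_lit 15, nat_lit 1, nat_lit 16, nat_lit 24, nat_lit 27], (nat_lit 482)⟩, ⟨[nat_lit 215], [nat_lit 25, nat_lit 16, nat_lit 0, nat_lit 25, nat_lit 33, nat_lit 15], (nat_lit 652)⟩, ⟨[], [nat_lit 5, nat_lit 2, nat_lit 0, nat_lit 33, nat_lit 33, nat_lit 11, nat_lit 27], (nat_lit 361)⟩, ⟨[nat_lit 179, nat_lit 164, nat_lit 176], [nat_lit 17, nat_lit 2, nat_lit 0, nat_lit 36, nat_lit 18, nat_lit 27], (nat_lit 360)⟩, ⟨[nat_lit 215, nat_lit 217, nat_lit 215], [nat_lit 24, nat_lit 16, nat_lit 0, nat_lit 24, nat_lit 11, nat_lit 27], (nat_lit 700)⟩, ⟨[nat_lit 164, nat_lit 178, nat_lit 162], [nat_lit 5, nat_lit 14, nat_lit 24, nat_lit 11], (nat_lit 699)⟩],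
  .cy (nat_lit 0) [] [] [] (nat_lit 770) [],
  .cy (nat_lit 10) [] [] [nat_lit 25, nat_lit 2, nat_lit 0, nat_lit 33, nat_lit 24, nat_lit 27] (nat_lit 403) [⟨[nat_lit 165, nat_lit 179], [nat_lit 16, nat_lit 2, nat_lit 37, nat_lit 18, nat_lit 15, nat_lit 26], (nat_lit 211)⟩, ⟨[nat_lit 209, nat_lit 203, nat_lit 205], [nat_lit 0, nat_lit 24, nat_lit 18, nat_lit 27], (nat_lit 369)⟩],
  .cy (nat_lit 0) [] [] [] (nat_lit 772) [],
  .cy (nat_lit 22) [] [] [nat_lit 5, nat_lit 2, nat_lit 0, nat_lit 18, nat_lit 25] (nat_lit 403) [⟨[nat_lit 176, nat_lit 162], [nat_lit 26, nat_lit 2, nat_lit 0, nat_lit 32, nat_lit 34, nat_lit 11], (nat_lit 360)⟩, ⟨[nat_lit 217, nat_lit 215], [nat_lit 1, nat_lit 24, nat_lit 0, nat_lit 33, nat_lit 11, nat_lit 16, nat_lit 27], (nat_lit 688)⟩],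
  .cy (nat_lit 0) [] [] [] (nat_lit 774) [],
  .cy (nat_lit 23) [] [] [nat_lit 14, nat_lit 15, nat_lit 0, nat_lit 27, nat_lit 24, nat_lit 11, nat_lit 26] (nat_lit 403) [⟨[nat_lit 161, nat_lit 179, nat_lit 175, nat_lit 162], [nat_lit 17, nat_lit 24, nat_lit 0, nat_lit 34, nat_lit 17, nat_lit 33, nat_lit 26], (nat_lit 701)⟩, ⟨[nat_lit 217], [nat_lit 11, nat_lit 5, nat_lit 2, nat_lit 33, nat_lit 33], (nat_lit 482)⟩],
  .cy (nat_lit 0) [] [] [] (nat_lit 776) [],
  .cy (nat_lit 27) [] [] [nat_lit 1, nat_lit 5, nat_lit 11, nat_lit 37] (nat_lit 403) [⟨[nat_lit 176, nat_lit 165, nat_lit 162, nat_lit 161], [nat_lit 25, nat_lit 0, nat_lit 18, nat_lit 35, nat_lit 11, nat_lit 26], (nat_lit 759)⟩, ⟨[nat_lit 215], [nat_lit 24, nat_lit 0, nat_lit 25, nat_lit 36, nat_lit 11, nat_lit 27], (nat_lit 755)⟩],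
  .cy (nat_lit 0) [] [] [] (nat_lit 778) [],
  .cy (nat_lit 3) [] [] [nat_lit 0, nat_lit 2, nat_lit 33, nat_lit 36, nat_lit 26] (nat_lit 391) [⟨[nat_lit 215, nat_lit 217, nat_lit 215], [nat_lit 5, nat_lit 2, nat_lit 0, nat_lit 24, nat_lit 16, nat_lit 27], (nat_lit 690)⟩, ⟨[nat_lit 217, nat_lit 215], [nat_lit 10, nat_lit 0, nat_lit 34, nat_lit 24, nat_lit 17], (nat_lit 732)⟩],
  .cy (nat_lit 0) [] [] [] (nat_lit 780) [],
  .cy (nat_lit 5) [] [] [nat_lit 5, nat_lit 2, nat_lit 0, nat_lit 37, nat_lit 11, nat_lit 27] (nat_lit 391) [⟨[nat_lit 215], [nat_lit 1, nat_lit 1, nat_lit 11, nat_lit 26], (nat_lit 380)⟩, ⟨[nat_lit 205, nat_lit 201], [nat_lit 1, nat_lit 1, nat_lit 25, nat_lit 37, nat_lit 15], (nat_lit 210)⟩],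
  .cy (nat_lit 0) [] [] [] (nat_lit 782) [],
  .cy (nat_lit 6) [] [] [nat_lit 24, nat_lit 2, nat_lit 0, nat_lit 33, nat_lit 36, nat_lit 26] (nat_lit 391) [⟨[nat_lit 215], [nat_lit 0, nat_lit 15, nat_lit 17, nat_lit 11, nat_lit 26], (nat_lit 361)⟩, ⟨[nat_lit 164, nat_lit 162], [nat_lit 5, nat_lit 0, nat_lit 33, nat_lit 15], (nat_lit 402)⟩],
  .cy (nat_lit 0) [] [] [] (nat_lit 784) [],
  .cy (nat_lit 3) [] [] [nat_lit 26, nat_lit 34] (nat_lit 470) [⟨[nat_lit 522, nat_lit 205, nat_lit 522, nat_lit 201], [nat_lit 16, nat_lit 5, nat_lit 0, nat_lit 25, nat_lit 15, nat_lit 11, nat_lit 26], (nat_lit 515)⟩, ⟨[nat_lit 215], [nat_lit 15, nat_lit 1, nat_lit 37, nat_lit 15, nat_lit 11], (nat_lit 460)⟩],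
  .cy (nat_lit 0) [] [] [] (nat_lit 786) [],
  .cy (nat_lit 6) [] [] [nat_lit 10, nat_lit 0, nat_lit 16, nat_lit 32, nat_lit 15] (nat_lit 470) [⟨[nat_lit 204, nat_lit 523, nat_lit 205], [nat_lit 5, nat_lit 2, nat_lit 34, nat_lit 32, nat_lit 11, nat_lit 27], (nat_lit 517)⟩, ⟨[nat_lit 215, nat_lit 217, nat_lit 215], [nat_lit 17, nat_lit 2, nat_lit 0, nat_lit 34, nat_lit 17, nat_lit 11, nat_lit 27], (nat_lit 446)⟩],
  .cy (nat_lit 0) [] [] [] (nat_lit 788) [],
  .cy (nat_lit 8) [] [] [nat_lit 26, nat_lit 24, nat_lit 0, nat_lit 17, nat_lit 11, nat_lit 17] (nat_lit 470) [⟨[nat_lit 523, nat_lit 201, nat_lit 522, nat_lit 205], [nat_lit 16, nat_lit 0, nat_lit 33, nat_lit 35, nat_lit 11, nat_lit 26], (nat_lit 298)⟩, ⟨[], [nat_lit 1, nat_lit 14, nat_lit 37, nat_lit 33, nat_lit 11, nat_lit 27], (nat_lit 325)⟩],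
  .cy (nat_lit 0) [] [] [] (nat_lit 790) [],
  .cy (nat_lit 25) [] [] [nat_lit 14, nat_lit 0, nat_lit 11, nat_lit 36, nat_lit 27] (nat_lit 301) [⟨[nat_lit 217, nat_lit 215], [nat_lit 26, nat_lit 2, nat_lit 0, nat_lit 36, nat_lit 33, nat_lit 24, nat_lit 27], (nat_lit 725)⟩, ⟨[nat_lit 217], [nat_lit 15, nat_lit 5, nat_lit 33, nat_lit 36, nat_lit 27], (nat_lit 392)⟩],
  .cy (nat_lit 0) [] [] [] (nat_lit 792) [],
  .cy (nat_lit 2) [] [] [nat_lit 5, nat_lit 14, nat_lit 33, nat_lit 11, nat_lit 16] (nat_lit 448) [⟨[nat_lit 215, nat_lit 217, nat_lit 215], [nat_lit 14, nat_lit 0, nat_lit 32, nat_lit 32, nat_lit 26], (nat_lit 543)⟩, ⟨[nat_lit 215, nat_lit 217, nat_lit 215], [nat_lit 15, nat_lit 2, nat_lit 18, nat_lit 25, nat_lit 27], (nat_lit 462)⟩],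
  .cy (nat_lit 0) [] [] [] (nat_lit 794) [],
  .cy (nat_lit 12) [] [] [nat_lit 16, nat_lit 2, nat_lit 17, nat_lit 15, nat_lit 11, nat_lit 26] (nat_lit 448) [⟨[nat_lit 215, nat_lit 217, nat_lit 215], [nat_lit 26, nat_lit 24, nat_lit 0, nat_lit 25, nat_lit 37, nat_lit 11], (nat_lit 543)⟩, ⟨[nat_lit 215, nat_lit 217], [nat_lit 18, nat_lit 15, nat_lit 0, nat_lit 17, nat_lit 17, nat_lit 26], (nat_lit 693)⟩],
  .cy (nat_lit 0) [] [] [] (nat_lit 796) [],
  .cy (nat_lit 12) [] [] [nat_lit 11, nat_lit 2, nat_lit 0, nat_lit 26, nat_lit 24, nat_lit 11] (nat_lit 451) [⟨[], [nat_lit 15, nat_lit 0, nat_lit 26, nat_lit 24, nat_lit 11, nat_lit 26], (nat_lit 671)⟩, ⟨[nat_lit 215, nat_lit 217, nat_lit 215], [nat_lit 15, nat_lit 5, nat_lit 34, nat_lit 34, nat_lit 26], (nat_lit 717)⟩],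
  .cy (nat_lit 0) [] [] [] (nat_lit 798) [],
  .cy (nat_lit 26) [] [] [nat_lit 5, nat_lit 33, nat_lit 15, nat_lit 27] (nat_lit 451) [⟨[], [nat_lit 5, nat_lit 14, nat_lit 34, nat_lit 24, nat_lit 27], (nat_lit 592)⟩, ⟨[], [nat_lit 2, nat_lit 34, nat_lit 25, nat_lit 11, nat_lit 26], (nat_lit 597)⟩],
  .cy (nat_lit 0) [] [] [] (nat_lit 800) [],
  .cy (nat_lit 11) [] [] [nat_lit 24, nat_lit 15, nat_lit 0, nat_lit 26, nat_lit 34] (nat_lit 378) [⟨[nat_lit 165, nat_lit 178, nat_lit 176, nat_lit 161], [nat_lit 16, nat_lit 5, nat_lit 2, nat_lit 17, nat_lit 17, nat_lit 11], (nat_lit 379)⟩, ⟨[nat_lit 217, nat_lit 215], [nat_lit 5, nat_lit 16, nat_lit 2, nat_lit 16, nat_lit 18, nat_lit 26], (nat_lit 717)⟩],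
  .cy (nat_lit 0) [] [] [] (nat_lit 802) [],
  .cy (nat_lit 25) [] [] [nat_lit 14, nat_lit 35, nat_lit 11, nat_lit 26] (nat_lit 378) [⟨[nat_lit 178, nat_lit 165, nat_lit 175], [nat_lit 5, nat_lit 14, nat_lit 32, nat_lit 18, nat_lit 15, nat_lit 27], (nat_lit 759)⟩, ⟨[nat_lit 215, nat_lit 217, nat_lit 215], [nat_lit 5, nat_lit 0, nat_lit 37, nat_lit 15, nat_lit 11, nat_lit 26], (nat_lit 575)⟩],
  .cy (nat_lit 0) [] [] [] (nat_lit 804) [],
  .cy (nat_lit 3) [] [] [nat_lit 17, nat_lit 25, nat_lit 15, nat_lit 26] (nat_lit 410) [⟨[nat_lit 215, nat_lit 217], [nat_lit 24, nat_lit 1, nat_lit 27, nat_lit 24, nat_lit 26], (nat_lit 415)⟩, ⟨[nat_lit 215, nat_lit 217, nat_lit 215], [nat_lit 25, nat_lit 14, nat_lit 0, nat_lit 25, nat_lit 37, nat_lit 15, nat_lit 26], (nat_lit 410)⟩],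
  .cy (nat_lit 0) [] [] [] (nat_lit 806) [],
  .cy (nat_lit 10) [] [] [nat_lit 16, nat_lit 5, nat_lit 0, nat_lit 34, nat_lit 11, nat_lit 17] (nat_lit 410) [⟨[nat_lit 215, nat_lit 217], [nat_lit 2, nat_lit 0, nat_lit 32, nat_lit 34, nat_lit 11, nat_lit 26], (nat_lit 762)⟩, ⟨[nat_lit 215, nat_lit 217, nat_lit 215], [nat_lit 1, nat_lit 14, nat_lit 27, nat_lit 36, nat_lit 11], (nat_lit 616)⟩],
  .cy (nat_lit 0) [] [] [] (nat_lit 808) [],
  .cy (nat_lit 20) [] [] [nat_lit 0, nat_lit 2, nat_lit 37, nat_lit 37, nat_lit 11, nat_lit 27] (nat_lit 410) [⟨[nat_lit 215, nat_lit 217, nat_lit 215], [nat_lit 24, nat_lit 0, nat_lit 17, nat_lit 34, nat_lit 11, nat_lit 27], (nat_lit 536)⟩, ⟨[nat_lit 215], [nat_lit 24, nat_lit 1, nat_lit 15, nat_lit 18, nat_lit 16], (nat_lit 411)⟩],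
  .cy (nat_lit 0) [] [] [] (nat_lit 810) [],
  .cy (nat_lit 24) [] [] [nat_lit 5, nat_lit 14, nat_lit 24, nat_lit 36] (nat_lit 427) [⟨[nat_lit 217, nat_lit 215], [nat_lit 16, nat_lit 5, nat_lit 2, nat_lit 36, nat_lit 18, nat_lit 15], (nat_lit 788)⟩, ⟨[], [nat_lit 10, nat_lit 0, nat_lit 17, nat_lit 17, nat_lit 27], (nat_lit 597)⟩],
  .cy (nat_lit 0) [] [] [] (nat_lit 812) [],
  .cy (nat_lit 1) [] [] [nat_lit 5, nat_lit 2, nat_lit 15, nat_lit 32, nat_lit 26] (nat_lit 407) [⟨[], [nat_lit 26, nat_lit 2, nat_lit 33, nat_lit 16], (nat_lit 512)⟩, ⟨[nat_lit 204, nat_lit 205, nat_lit 523], [nat_lit 17, nat_lit 2, nat_lit 0, nat_lit 16, nat_lit 16], (nat_lit 525)⟩],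
  .cy (nat_lit 0) [] [] [] (nat_lit 814) [],
  .cy (nat_lit 2) [] [] [nat_lit 14, nat_lit 15, nat_lit 0, nat_lit 26, nat_lit 34, nat_lit 32, nat_lit 26] (nat_lit 407) [⟨[nat_lit 217, nat_lit 215], [nat_lit 5, nat_lit 0, nat_lit 34, nat_lit 25, nat_lit 11, nat_lit 27], (nat_lit 784)⟩, ⟨[nat_lit 215, nat_lit 217, nat_lit 215], [nat_lit 26, nat_lit 24, nat_lit 0, nat_lit 35, nat_lit 33, nat_lit 27], (nat_lit 533)⟩],
  .cy (nat_lit 0) [] [] [] (nat_lit 816) [],
  .cy (nat_lit 7) [] [] [nat_lit 17, nat_lit 24, nat_lit 0, nat_lit 37, nat_lit 11, nat_lit 15] (nat_lit 407) [⟨[nat_lit 217, nat_lit 215], [nat_lit 16, nat_lit 2, nat_lit 32, nat_lit 11], (nat_lit 627)⟩, ⟨[nat_lit 217], [nat_lit 15, nat_lit 1, nat_lit 25, nat_lit 36, nat_lit 27], (nat_lit 666)⟩],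
  .cy (nat_lit 0) [] [] [] (nat_lit 818) [],
  .cy (nat_lit 10) [] [] [nat_lit 24, nat_lit 16, nat_lit 0, nat_lit 36, nat_lit 25, nat_lit 11, nat_lit 27] (nat_lit 407) [⟨[], [nat_lit 17, nat_lit 2, nat_lit 0, nat_lit 27, nat_lit 18], (nat_lit 711)⟩, ⟨[], [nat_lit 25, nat_lit 16, nat_lit 0, nat_lit 32, nat_lit 27], (nat_lit 654)⟩],
  .cy (nat_lit 0) [] [] [] (nat_lit 820) [],
  .cy (nat_lit 11) [] [] [nat_lit 0, nat_lit 18, nat_lit 15, nat_lit 27] (nat_lit 407) [⟨[nat_lit 217, nat_lit 215], [nat_lit 24, nat_lit 2, nat_lit 35, nat_lit 32, nat_lit 11, nat_lit 26], (nat_lit 784)⟩, ⟨[nat_lit 215, nat_lit 217], [nat_lit 14, nat_lit 36, nat_lit 33, nat_lit 11], (nat_lit 516)⟩],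
  .cy (nat_lit 0) [] [] [] (nat_lit 822) [],
  .cy (nat_lit 23) [] [] [nat_lit 2, nat_lit 0, nat_lit 15, nat_lit 32, nat_lit 15, nat_lit 26] (nat_lit 407) [⟨[nat_lit 217, nat_lit 215], [nat_lit 24, nat_lit 15, nat_lit 0, nat_lit 33, nat_lit 24, nat_lit 11], (nat_lit 777)⟩, ⟨[nat_lit 215, nat_lit 217, nat_lit 215], [nat_lit 1, nat_lit 34, nat_lit 15, nat_lit 11, nat_lit 27], (nat_lit 460)⟩],
  .cy (nat_lit 0) [] [] [] (nat_lit 824) [],
  .cy (nat_lit 2) [] [] [nat_lit 14, nat_lit 33, nat_lit 33, nat_lit 11] (nat_lit 466) [⟨[nat_lit 215], [nat_lit 24, nat_lit 0, nat_lit 37, nat_lit 16], (nat_lit 802)⟩, ⟨[nat_lit 215, nat_lit 217, nat_lit 215], [nat_lit 5, nat_lit 16, nat_lit 2, nat_lit 25, nat_lit 37, nat_lit 15], (nat_lit 543)⟩],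
  .cy (nat_lit 0) [] [] [] (nat_lit 826) [],
  .cy (nat_lit 7) [] [] [nat_lit 34, nat_lit 32, nat_lit 27] (nat_lit 466) [⟨[nat_lit 217], [nat_lit 5, nat_lit 0, nat_lit 18, nat_lit 16, nat_lit 11, nat_lit 26], (nat_lit 548)⟩, ⟨[nat_lit 215, nat_lit 217, nat_lit 215], [nat_lit 1, nat_lit 14, nat_lit 15, nat_lit 32, nat_lit 15, nat_lit 26], (nat_lit 812)⟩],
  .cy (nat_lit 0) [] [] [] (nat_lit 828) [],
  .cy (nat_lit 1) [] [] [nat_lit 10, nat_lit 10, nat_lit 0, nat_lit 36, nat_lit 18, nat_lit 15, nat_lit 26] (nat_lit 489) [⟨[nat_lit 217], [nat_lit 5, nat_lit 0, nat_lit 37, nat_lit 33, nat_lit 11, nat_lit 26], (nat_lit 437)⟩, ⟨[nat_lit 179, nat_lit 176, nat_lit 164, nat_lit 161], [nat_lit 11, nat_lit 5, nat_lit 2, nat_lit 17, nat_lit 37, nat_lit 26], (nat_lit 507)⟩],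
  .cy (nat_lit 0) [] [] [] (nat_lit 830) [],
  .cy (nat_lit 2) [] [] [nat_lit 15, nat_lit 5, nat_lit 27, nat_lit 15, nat_lit 27] (nat_lit 489) [⟨[nat_lit 217], [nat_lit 1, nat_lit 5, nat_lit 37, nat_lit 11, nat_lit 26], (nat_lit 437)⟩, ⟨[nat_lit 176, nat_lit 178], [nat_lit 11, nat_lit 5, nat_lit 2, nat_lit 11, nat_lit 27], (nat_lit 695)⟩],
  .cy (nat_lit 0) [] [] [] (nat_lit 832) [],
  .cy (nat_lit 20) [] [] [nat_lit 15, nat_lit 0, nat_lit 27, nat_lit 17, nat_lit 27] (nat_lit 489) [⟨[nat_lit 215, nat_lit 217], [nat_lit 25, nat_lit 14, nat_lit 0, nat_lit 37, nat_lit 11, nat_lit 15, nat_lit 27], (nat_lit 452)⟩, ⟨[nat_lit 217], [nat_lit 14, nat_lit 15, nat_lit 0, nat_lit 35, nat_lit 33, nat_lit 11, nat_lit 27], (nat_lit 619)⟩],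
  .cy (nat_lit 0) [] [] [] (nat_lit 834) [],
  .cy (nat_lit 20) [] [] [nat_lit 25, nat_lit 0, nat_lit 35, nat_lit 33] (nat_lit 455) [⟨[nat_lit 217, nat_lit 215], [nat_lit 25, nat_lit 1, nat_lit 27, nat_lit 24, nat_lit 11], (nat_lit 297)⟩, ⟨[nat_lit 208, nat_lit 203, nat_lit 205, nat_lit 203], [nat_lit 5, nat_lit 14, nat_lit 33, nat_lit 36, nat_lit 27], (nat_lit 822)⟩],
  .cy (nat_lit 0) [] [] [] (nat_lit 836) [],
  .cy (nat_lit 5) [] [] [nat_lit 11, nat_lit 2, nat_lit 0, nat_lit 26, nat_lit 24, nat_lit 27] (nat_lit 367) [⟨[nat_lit 523, nat_lit 209, nat_lit 203, nat_lit 201], [nat_lit 25, nat_lit 14, nat_lit 0, nat_lit 33, nat_lit 24, nat_lit 11, nat_lit 26], (nat_lit 383)⟩, ⟨[nat_lit 215], [nat_lit 25, nat_lit 16, nat_lit 0, nat_lit 11, nat_lit 37, nat_lit 26], (nat_lit 264)⟩],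
  .cy (nat_lit 0) [] [] [] (nat_lit 838) [],
  .cy (nat_lit 6) [] [] [nat_lit 0, nat_lit 2, nat_lit 36, nat_lit 33, nat_lit 24, nat_lit 27] (nat_lit 367) [⟨[nat_lit 208, nat_lit 522, nat_lit 202], [nat_lit 25, nat_lit 14, nat_lit 0, nat_lit 15, nat_lit 15, nat_lit 11], (nat_lit 822)⟩, ⟨[], [nat_lit 14, nat_lit 0, nat_lit 15, nat_lit 17, nat_lit 26], (nat_lit 813)⟩],
  .cy (nat_lit 0) [] [] [] (nat_lit 840) [],
  .cy (nat_lit 8) [] [] [nat_lit 14, nat_lit 0, nat_lit 24, nat_lit 33, nat_lit 15] (nat_lit 367) [⟨[nat_lit 523, nat_lit 204, nat_lit 523, nat_lit 205], [nat_lit 11, nat_lit 2, nat_lit 0, nat_lit 34, nat_lit 17, nat_lit 27], (nat_lit 822)⟩, ⟨[nat_lit 215, nat_lit 217, nat_lit 215], [nat_lit 11, nat_lit 2, nat_lit 0, nat_lit 18, nat_lit 16], (nat_lit 829)⟩],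
  .cy (nat_lit 0) [] [] [] (nat_lit 842) [],
  .cy (nat_lit 9) [] [] [nat_lit 25, nat_lit 1, nat_lit 27, nat_lit 16] (nat_lit 367) [⟨[nat_lit 523, nat_lit 202], [nat_lit 25, nat_lit 16, nat_lit 0, nat_lit 33, nat_lit 11, nat_lit 27], (nat_lit 212)⟩, ⟨[nat_lit 204, nat_lit 206], [nat_lit 15, nat_lit 0, nat_lit 16, nat_lit 24, nat_lit 27], (nat_lit 383)⟩],
  .cy (nat_lit 0) [] [] [] (nat_lit 844) [],
  .cy (nat_lit 10) [] [] [nat_lit 15, nat_lit 1, nat_lit 37, nat_lit 37, nat_lit 11] (nat_lit 367) [⟨[nat_lit 523, nat_lit 202], [nat_lit 26, nat_lit 2, nat_lit 0, nat_lit 25, nat_lit 36, nat_lit 27], (nat_lit 212)⟩, ⟨[nat_lit 209, nat_lit 204, nat_lit 206], [nat_lit 2, nat_lit 0, nat_lit 35, nat_lit 17, nat_lit 27], (nat_lit 342)⟩],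
  .cy (nat_lit 0) [] [] [] (nat_lit 846) [],
  .cy (nat_lit 11) [] [] [nat_lit 14, nat_lit 0, nat_lit 25, nat_lit 15, nat_lit 11, nat_lit 26] (nat_lit 367) [⟨[nat_lit 209, nat_lit 523, nat_lit 202], [nat_lit 5, nat_lit 14, nat_lit 15, nat_lit 17, nat_lit 27], (nat_lit 383)⟩, ⟨[nat_lit 215], [nat_lit 25, nat_lit 14, nat_lit 0, nat_lit 25, nat_lit 15, nat_lit 11, nat_lit 27], (nat_lit 720)⟩],
  .cy (nat_lit 0) [] [] [] (nat_lit 848) [],
  .cy (nat_lit 20) [] [] [nat_lit 25, nat_lit 2, nat_lit 0, nat_lit 26, nat_lit 15, nat_lit 27] (nat_lit 367) [⟨[nat_lit 205, nat_lit 522], [nat_lit 16, nat_lit 5, nat_lit 0, nat_lit 18, nat_lit 35, nat_lit 27], (nat_lit 373)⟩, ⟨[], [nat_lit 16, nat_lit 5, nat_lit 0, nat_lit 36, nat_lit 32, nat_lit 11, nat_lit 26], (nat_lit 736)⟩],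
  .cy (nat_lit 1) [] [] [nat_lit 17, nat_lit 2, nat_lit 0, nat_lit 32, nat_lit 18, nat_lit 15, nat_lit 27] (nat_lit 453) [⟨[nat_lit 215, nat_lit 217, nat_lit 215], [nat_lit 1, nat_lit 24, nat_lit 0, nat_lit 34, nat_lit 25, nat_lit 11], (nat_lit 647)⟩, ⟨[nat_lit 217, nat_lit 215], [nat_lit 25, nat_lit 0, nat_lit 37, nat_lit 11, nat_lit 17, nat_lit 26], (nat_lit 712)⟩],
  .cy (nat_lit 0) [] [] [] (nat_lit 851) [],
  .cy (nat_lit 3) [] [] [nat_lit 25, nat_lit 16, nat_lit 0, nat_lit 37, nat_lit 33, nat_lit 11, nat_lit 26] (nat_lit 453) [⟨[nat_lit 217], [nat_lit 10, nat_lit 10, nat_lit 0, nat_lit 32, nat_lit 34, nat_lit 11, nat_lit 27], (nat_lit 746)⟩, ⟨[], [nat_lit 16, nat_lit 2, nat_lit 36, nat_lit 33, nat_lit 11], (nat_lit 737)⟩],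
  .cy (nat_lit 0) [] [] [] (nat_lit 853) [],
  .cy (nat_lit 7) [] [] [nat_lit 1, nat_lit 14, nat_lit 36, nat_lit 32, nat_lit 26] (nat_lit 453) [⟨[nat_lit 215], [nat_lit 16, nat_lit 5, nat_lit 2, nat_lit 24, nat_lit 24], (nat_lit 272)⟩, ⟨[], [nat_lit 24, nat_lit 2, nat_lit 0, nat_lit 32, nat_lit 34, nat_lit 26], (nat_lit 292)⟩],
  .cy (nat_lit 0) [] [] [] (nat_lit 855) [],
  .cy (nat_lit 20) [] [] [nat_lit 15, nat_lit 0, nat_lit 26, nat_lit 34, nat_lit 11] (nat_lit 453) [⟨[], [nat_lit 25, nat_lit 2, nat_lit 0, nat_lit 37, nat_lit 15], (nat_lit 318)⟩, ⟨[nat_lit 217], [nat_lit 32, nat_lit 35, nat_lit 27], (nat_lit 551)⟩],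
  .cy (nat_lit 0) [] [] [] (nat_lit 857) [],
  .cy (nat_lit 12) [] [] [nat_lit 26, nat_lit 2, nat_lit 24, nat_lit 18, nat_lit 16] (nat_lit 304) [⟨[], [nat_lit 16, nat_lit 5, nat_lit 2, nat_lit 36, nat_lit 18], (nat_lit 702)⟩, ⟨[nat_lit 179, nat_lit 176, nat_lit 167], [nat_lit 15, nat_lit 0, nat_lit 36, nat_lit 18, nat_lit 15, nat_lit 26], (nat_lit 511)⟩],
  .cy (nat_lit 0) [] [] [] (nat_lit 859) [],
  .cy (nat_lit 22) [] [] [nat_lit 14, nat_lit 32, nat_lit 18, nat_lit 27] (nat_lit 409) [⟨[nat_lit 215, nat_lit 217, nat_lit 215], [nat_lit 15, nat_lit 2, nat_lit 18, nat_lit 15, nat_lit 27], (nat_lit 700)⟩, ⟨[nat_lit 179], [nat_lit 2, nat_lit 37, nat_lit 24, nat_lit 11, nat_lit 26], (nat_lit 503)⟩],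
  .cy (nat_lit 0) [] [] [] (nat_lit 861) [],
  .cy (nat_lit 23) [] [] [nat_lit 24, nat_lit 2, nat_lit 25, nat_lit 16, nat_lit 16] (nat_lit 409) [⟨[], [nat_lit 15, nat_lit 2, nat_lit 35, nat_lit 17, nat_lit 27], (nat_lit 374)⟩, ⟨[], [nat_lit 27, nat_lit 24, nat_lit 11, nat_lit 27], (nat_lit 691)⟩],
  .cy (nat_lit 0) [] [] [] (nat_lit 863) [],
  .cy (nat_lit 22) [] [] [nat_lit 26, nat_lit 2, nat_lit 15, nat_lit 17, nat_lit 11] (nat_lit 491) [⟨[nat_lit 215, nat_lit 217, nat_lit 215], [nat_lit 15, nat_lit 2, nat_lit 26, nat_lit 24], (nat_lit 365)⟩, ⟨[], [nat_lit 14, nat_lit 26, nat_lit 16, nat_lit 11, nat_lit 27], (nat_lit 607)⟩],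
  .cy (nat_lit 0) [] [] [] (nat_lit 865) [],
  .cy (nat_lit 22) [] [] [nat_lit 15, nat_lit 2, nat_lit 25, nat_lit 35, nat_lit 27] (nat_lit 491) [⟨[], [nat_lit 5, nat_lit 2, nat_lit 32, nat_lit 35, nat_lit 27], (nat_lit 261)⟩, ⟨[nat_lit 217, nat_lit 215], [nat_lit 1, nat_lit 14, nat_lit 26, nat_lit 15, nat_lit 27], (nat_lit 667)⟩],
  .cy (nat_lit 23) [] [] [nat_lit 5, nat_lit 14, nat_lit 24, nat_lit 16, nat_lit 26] (nat_lit 491) [⟨[], [nat_lit 1, nat_lit 24, nat_lit 0, nat_lit 18, nat_lit 35, nat_lit 26], (nat_lit 301)⟩, ⟨[nat_lit 215, nat_lit 217], [nat_lit 24, nat_lit 2, nat_lit 35, nat_lit 35, nat_lit 11, nat_lit 26], (nat_lit 601)⟩],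
  .cy (nat_lit 0) [] [] [] (nat_lit 868) [],
  .cy (nat_lit 4) [] [] [nat_lit 5, nat_lit 2, nat_lit 0, nat_lit 35, nat_lit 35, nat_lit 27] (nat_lit 468) [⟨[nat_lit 165, nat_lit 178, nat_lit 161], [nat_lit 10, nat_lit 10, nat_lit 0, nat_lit 33, nat_lit 18, nat_lit 11, nat_lit 27], (nat_lit 701)⟩, ⟨[], [nat_lit 1, nat_lit 14, nat_lit 34, nat_lit 17, nat_lit 33, nat_lit 26], (nat_lit 243)⟩],
  .cy (nat_lit 0) [] [] [] (nat_lit 870) [],
  .cy (nat_lit 4) [] [] [nat_lit 17, nat_lit 24, nat_lit 0, nat_lit 27, nat_lit 36, nat_lit 11, nat_lit 26] (nat_lit 468) [⟨[nat_lit 179, nat_lit 164, nat_lit 176], [nat_lit 26, nat_lit 2, nat_lit 0, nat_lit 15, nat_lit 17, nat_lit 11], (nat_lit 360)⟩, ⟨[nat_lit 215, nat_lit 217], [nat_lit 15, nat_lit 0, nat_lit 26, nat_lit 16, nat_lit 26], (nat_lit 786)⟩],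
  .cy (nat_lit 0) [] [] [] (nat_lit 872) [],
  .cy (nat_lit 6) [] [] [nat_lit 32, nat_lit 18, nat_lit 27] (nat_lit 468) [⟨[nat_lit 164, nat_lit 179], [nat_lit 16, nat_lit 5, nat_lit 2, nat_lit 26, nat_lit 15, nat_lit 15, nat_lit 26], (nat_lit 236)⟩, ⟨[nat_lit 217, nat_lit 215], [nat_lit 25, nat_lit 16, nat_lit 0, nat_lit 37, nat_lit 32, nat_lit 26], (nat_lit 446)⟩],
  .cy (nat_lit 0) [] [] [] (nat_lit 874) [],
  .cy (nat_lit 7) [] [] [nat_lit 24, nat_lit 15, nat_lit 0, nat_lit 27, nat_lit 25, nat_lit 26] (nat_lit 468) [⟨[nat_lit 179, nat_lit 167, nat_lit 164], [nat_lit 25, nat_lit 0, nat_lit 18, nat_lit 16, nat_lit 11, nat_lit 26], (nat_lit 499)⟩, ⟨[nat_lit 215, nat_lit 217], [nat_lit 11, nat_lit 5, nat_lit 2, nat_lit 34, nat_lit 24, nat_lit 17, nat_lit 26], (nat_lit 563)⟩],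
  .cy (nat_lit 0) [] [] [] (nat_lit 876) [],
  .cy (nat_lit 20) [] [] [nat_lit 10, nat_lit 10, nat_lit 0, nat_lit 26, nat_lit 16, nat_lit 27] (nat_lit 468) [⟨[nat_lit 179, nat_lit 162, nat_lit 161], [nat_lit 5, nat_lit 2, nat_lit 0, nat_lit 34, nat_lit 24, nat_lit 17, nat_lit 26], (nat_lit 236)⟩, ⟨[nat_lit 217], [nat_lit 26, nat_lit 24, nat_lit 0, nat_lit 36, nat_lit 24, nat_lit 15, nat_lit 26], (nat_lit 754)⟩],
  .cy (nat_lit 0) [] [] [] (nat_lit 878) [],
  .cy (nat_lit 22) [] [] [nat_lit 24, nat_lit 15, nat_lit 0, nat_lit 34, nat_lit 15, nat_lit 11, nat_lit 26] (nat_lit 468) [⟨[nat_lit 178, nat_lit 176, nat_lit 162], [nat_lit 0, nat_lit 2, nat_lit 37, nat_lit 24, nat_lit 11, nat_lit 27], (nat_lit 759)⟩, ⟨[nat_lit 215, nat_lit 217, nat_lit 215], [nat_lit 1, nat_lit 32, nat_lit 34, nat_lit 11, nat_lit 26], (nat_lit 229)⟩],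
  .cy (nat_lit 0) [] [] [] (nat_lit 880) [],
  .cy (nat_lit 23) [] [] [nat_lit 15, nat_lit 1, nat_lit 34, nat_lit 11, nat_lit 17] (nat_lit 468) [⟨[nat_lit 167, nat_lit 178, nat_lit 164], [nat_lit 26, nat_lit 2, nat_lit 0, nat_lit 25, nat_lit 37, nat_lit 15], (nat_lit 503)⟩, ⟨[nat_lit 215], [nat_lit 11, nat_lit 5, nat_lit 2, nat_lit 16, nat_lit 25, nat_lit 26], (nat_lit 703)⟩],
  .cy (nat_lit 0) [] [] [] (nat_lit 882) [],
  .cy (nat_lit 24) [] [] [nat_lit 15, nat_lit 0, nat_lit 26, nat_lit 34, nat_lit 11] (nat_lit 468) [⟨[nat_lit 176, nat_lit 165, nat_lit 179], [nat_lit 25, nat_lit 1, nat_lit 25, nat_lit 36, nat_lit 11, nat_lit 26], (nat_lit 532)⟩, ⟨[], [nat_lit 5, nat_lit 2, nat_lit 0, nat_lit 11, nat_lit 36], (nat_lit 658)⟩],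
  .cy (nat_lit 0) [] [] [] (nat_lit 884) [],
  .cy (nat_lit 24) [] [] [nat_lit 5, nat_lit 14, nat_lit 18, nat_lit 11, nat_lit 27] (nat_lit 468) [⟨[nat_lit 178, nat_lit 178, nat_lit 175], [nat_lit 15, nat_lit 5, nat_lit 17, nat_lit 37, nat_lit 11, nat_lit 26], (nat_lit 782)⟩, ⟨[nat_lit 215], [nat_lit 18, nat_lit 15, nat_lit 0, nat_lit 34, nat_lit 17, nat_lit 33, nat_lit 27], (nat_lit 400)⟩],
  .cy (nat_lit 0) [] [] [] (nat_lit 886) [],
  .cy (nat_lit 7) [] [] [nat_lit 14, nat_lit 15, nat_lit 0, nat_lit 35, nat_lit 11, nat_lit 26] (nat_lit 431) [⟨[nat_lit 215], [nat_lit 1, nat_lit 33, nat_lit 18], (nat_lit 689)⟩, ⟨[nat_lit 215, nat_lit 217, nat_lit 215], [nat_lit 26, nat_lit 24, nat_lit 0, nat_lit 18, nat_lit 36, nat_lit 11, nat_lit 26], (nat_lit 390)⟩],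
  .cy (nat_lit 0) [] [] [] (nat_lit 888) [],
  .cy (nat_lit 7) [] [] [nat_lit 17, nat_lit 2, nat_lit 0, nat_lit 37, nat_lit 32, nat_lit 26] (nat_lit 431) [⟨[], [nat_lit 24, nat_lit 15, nat_lit 0, nat_lit 26, nat_lit 34, nat_lit 11, nat_lit 26], (nat_lit 823)⟩, ⟨[nat_lit 209, nat_lit 201, nat_lit 523], [nat_lit 25, nat_lit 2, nat_lit 0, nat_lit 18, nat_lit 15, nat_lit 11, nat_lit 27], (nat_lit 373)⟩],
  .cy (nat_lit 0) [] [] [] (nat_lit 890) [],
  .cy (nat_lit 22) [] [] [nat_lit 26, nat_lit 2, nat_lit 0, nat_lit 34, nat_lit 25, nat_lit 11] (nat_lit 431) [⟨[nat_lit 215], [nat_lit 15, nat_lit 2, nat_lit 15, nat_lit 32, nat_lit 15, nat_lit 27], (nat_lit 683)⟩, ⟨[nat_lit 215, nat_lit 217, nat_lit 215], [nat_lit 24, nat_lit 2, nat_lit 33, nat_lit 35], (nat_lit 300)⟩],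
  .cy (nat_lit 0) [] [] [] (nat_lit 892) [],
  .cy (nat_lit 25) [] [] [nat_lit 1, nat_lit 5, nat_lit 24, nat_lit 36, nat_lit 16, nat_lit 27] (nat_lit 431) [⟨[nat_lit 217], [nat_lit 0, nat_lit 2, nat_lit 24, nat_lit 17, nat_lit 11], (nat_lit 644)⟩, ⟨[nat_lit 215, nat_lit 217], [nat_lit 0, nat_lit 15, nat_lit 32, nat_lit 15, nat_lit 27], (nat_lit 611)⟩],
  .cy (nat_lit 0) [] [] [] (nat_lit 894) [],
  .cy (nat_lit 26) [] [] [nat_lit 5, nat_lit 37, nat_lit 24, nat_lit 11, nat_lit 26] (nat_lit 431) [⟨[], [nat_lit 1, nat_lit 5, nat_lit 17, nat_lit 24, nat_lit 27], (nat_lit 772)⟩, ⟨[nat_lit 215, nat_lit 217, nat_lit 215], [nat_lit 5, nat_lit 37, nat_lit 15, nat_lit 26], (nat_lit 865)⟩],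
  .cy (nat_lit 0) [] [] [] (nat_lit 896) [],
  .cy (nat_lit 1) [] [] [nat_lit 0, nat_lit 25, nat_lit 16] (nat_lit 467) [⟨[], [nat_lit 18, nat_lit 15, nat_lit 0, nat_lit 15, nat_lit 18, nat_lit 16], (nat_lit 708)⟩, ⟨[nat_lit 217], [nat_lit 24, nat_lit 2, nat_lit 0, nat_lit 27, nat_lit 16, nat_lit 26], (nat_lit 473)⟩],
  .cy (nat_lit 0) [] [] [] (nat_lit 898) [],
  .cy (nat_lit 7) [] [] [nat_lit 10, nat_lit 10, nat_lit 0, nat_lit 33, nat_lit 36, nat_lit 11, nat_lit 26] (nat_lit 467) [⟨[nat_lit 215, nat_lit 217], [nat_lit 25, nat_lit 16, nat_lit 0, nat_lit 37, nat_lit 24, nat_lit 15, nat_lit 27], (nat_lit 492)⟩, ⟨[], [nat_lit 36, nat_lit 27], (nat_lit 544)⟩],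
  .cy (nat_lit 0) [] [] [] (nat_lit 900) [],
  .cy (nat_lit 11) [] [] [nat_lit 10, nat_lit 10, nat_lit 0, nat_lit 15, nat_lit 15, nat_lit 11] (nat_lit 467) [⟨[], [nat_lit 5, nat_lit 16, nat_lit 2, nat_lit 33, nat_lit 26], (nat_lit 382)⟩, ⟨[nat_lit 208, nat_lit 204, nat_lit 205, nat_lit 203], [nat_lit 5, nat_lit 14, nat_lit 25, nat_lit 18], (nat_lit 529)⟩]]
noncomputable def P1100 : List Pf := [.cy (nat_lit 0) [] [] [] (nat_lit 902) [],
  .cy (nat_lit 11) [] [] [nat_lit 5, nat_lit 16, nat_lit 2, nat_lit 24, nat_lit 27] (nat_lit 387) [⟨[nat_lit 215], [nat_lit 1, nat_lit 26, nat_lit 15, nat_lit 15, nat_lit 27], (nat_lit 496)⟩, ⟨[nat_lit 215], [nat_lit 11, nat_lit 5, nat_lit 2, nat_lit 25, nat_lit 36, nat_lit 15, nat_lit 26], (nat_lit 514)⟩],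
  .cy (nat_lit 0) [] [] [] (nat_lit 904) [],
  .cy (nat_lit 10) [] [] [nat_lit 16, nat_lit 2, nat_lit 17, nat_lit 15, nat_lit 11, nat_lit 26] (nat_lit 249) [⟨[nat_lit 217], [nat_lit 24, nat_lit 1, nat_lit 18, nat_lit 16, nat_lit 27], (nat_lit 832)⟩, ⟨[nat_lit 217, nat_lit 215], [nat_lit 11, nat_lit 2, nat_lit 0, nat_lit 36, nat_lit 11, nat_lit 26], (nat_lit 704)⟩],
  .cy (nat_lit 0) [] [] [] (nat_lit 906) [],
  .cy (nat_lit 20) [] [] [nat_lit 0, nat_lit 2, nat_lit 36, nat_lit 36, nat_lit 17, nat_lit 26] (nat_lit 249) [⟨[nat_lit 215, nat_lit 217, nat_lit 215], [nat_lit 24, nat_lit 16, nat_lit 0, nat_lit 15, nat_lit 24, nat_lit 11], (nat_lit 480)⟩, ⟨[nat_lit 217], [nat_lit 25, nat_lit 16, nat_lit 0, nat_lit 25, nat_lit 36, nat_lit 11, nat_lit 26], (nat_lit 709)⟩],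
  .cy (nat_lit 0) [] [] [] (nat_lit 908) [],
  .cy (nat_lit 23) [] [] [nat_lit 1, nat_lit 1, nat_lit 36, nat_lit 18] (nat_lit 249) [⟨[], [nat_lit 0, nat_lit 18, nat_lit 15, nat_lit 26], (nat_lit 885)⟩, ⟨[nat_lit 215], [nat_lit 37, nat_lit 24, nat_lit 27], (nat_lit 489)⟩],
  .cy (nat_lit 0) [] [] [] (nat_lit 910) [],
  .cy (nat_lit 26) [] [] [nat_lit 16, nat_lit 5, nat_lit 0, nat_lit 34, nat_lit 24, nat_lit 26] (nat_lit 249) [⟨[], [nat_lit 10, nat_lit 10, nat_lit 0, nat_lit 25, nat_lit 18], (nat_lit 834)⟩, ⟨[], [nat_lit 26, nat_lit 24, nat_lit 0, nat_lit 15], (nat_lit 423)⟩],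
  .cy (nat_lit 0) [] [] [] (nat_lit 912) [],
  .cy (nat_lit 2) [] [] [nat_lit 15, nat_lit 5, nat_lit 34, nat_lit 32, nat_lit 26] (nat_lit 493) [⟨[nat_lit 215], [nat_lit 5, nat_lit 33], (nat_lit 890)⟩, ⟨[nat_lit 217, nat_lit 215], [nat_lit 26, nat_lit 2, nat_lit 26, nat_lit 34, nat_lit 32, nat_lit 26], (nat_lit 907)⟩],
  .cy (nat_lit 0) [] [] [] (nat_lit 914) [],
  .cy (nat_lit 5) [] [] [nat_lit 26, nat_lit 2, nat_lit 16, nat_lit 18, nat_lit 11, nat_lit 26] (nat_lit 493) [⟨[nat_lit 215, nat_lit 217, nat_lit 215], [nat_lit 5, nat_lit 2, nat_lit 32, nat_lit 16], (nat_lit 674)⟩, ⟨[nat_lit 217], [nat_lit 32, nat_lit 34, nat_lit 16], (nat_lit 806)⟩],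
  .cy (nat_lit 0) [] [] [] (nat_lit 916) [],
  .cy (nat_lit 9) [] [] [nat_lit 24, nat_lit 2, nat_lit 25, nat_lit 36, nat_lit 11, nat_lit 26] (nat_lit 493) [⟨[nat_lit 217, nat_lit 215], [nat_lit 15, nat_lit 2, nat_lit 33, nat_lit 35, nat_lit 27], (nat_lit 476)⟩, ⟨[nat_lit 215], [nat_lit 25, nat_lit 16, nat_lit 0, nat_lit 37, nat_lit 11, nat_lit 17], (nat_lit 318)⟩],
  .cy (nat_lit 0) [] [] [] (nat_lit 918) [],
  .cy (nat_lit 11) [] [] [nat_lit 10, nat_lit 10, nat_lit 0, nat_lit 15, nat_lit 24, nat_lit 11, nat_lit 27] (nat_lit 493) [⟨[nat_lit 215], [nat_lit 1, nat_lit 1, nat_lit 24, nat_lit 18, nat_lit 18, nat_lit 27], (nat_lit 890)⟩, ⟨[nat_lit 217], [nat_lit 0, nat_lit 26, nat_lit 16, nat_lit 11, nat_lit 26], (nat_lit 538)⟩],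
  .cy (nat_lit 0) [] [] [] (nat_lit 920) [],
  .cy (nat_lit 11) [] [] [nat_lit 25, nat_lit 14, nat_lit 0, nat_lit 25, nat_lit 35, nat_lit 11] (nat_lit 493) [⟨[nat_lit 217, nat_lit 215], [nat_lit 14, nat_lit 36, nat_lit 32, nat_lit 27], (nat_lit 778)⟩, ⟨[nat_lit 215, nat_lit 217], [nat_lit 10, nat_lit 0, nat_lit 11, nat_lit 36, nat_lit 26], (nat_lit 535)⟩],
  .cy (nat_lit 0) [] [] [] (nat_lit 922) [],
  .cy (nat_lit 2) [] [] [nat_lit 24, nat_lit 15, nat_lit 0, nat_lit 24, nat_lit 18, nat_lit 18, nat_lit 26] (nat_lit 495) [⟨[nat_lit 215, nat_lit 217, nat_lit 215], [nat_lit 15, nat_lit 2, nat_lit 18, nat_lit 11, nat_lit 15, nat_lit 26], (nat_lit 432)⟩, ⟨[nat_lit 217], [nat_lit 16, nat_lit 2, nat_lit 34, nat_lit 34, nat_lit 27], (nat_lit 495)⟩],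
  .cy (nat_lit 0) [] [] [] (nat_lit 924) [],
  .cy (nat_lit 9) [] [] [nat_lit 1, nat_lit 1, nat_lit 24, nat_lit 18, nat_lit 18] (nat_lit 495) [⟨[nat_lit 215, nat_lit 217], [nat_lit 24, nat_lit 15, nat_lit 0, nat_lit 24, nat_lit 16], (nat_lit 418)⟩, ⟨[nat_lit 217, nat_lit 215], [nat_lit 24, nat_lit 1, nat_lit 26, nat_lit 17, nat_lit 15, nat_lit 26], (nat_lit 851)⟩],
  .cy (nat_lit 0) [] [] [] (nat_lit 926) [],
  .cy (nat_lit 11) [] [] [nat_lit 25, nat_lit 16, nat_lit 0, nat_lit 18, nat_lit 35, nat_lit 11, nat_lit 26] (nat_lit 495) [⟨[nat_lit 215, nat_lit 217], [nat_lit 14, nat_lit 0, nat_lit 34, nat_lit 11], (nat_lit 890)⟩, ⟨[nat_lit 215, nat_lit 217], [nat_lit 2, nat_lit 0, nat_lit 36, nat_lit 25, nat_lit 11, nat_lit 27], (nat_lit 558)⟩],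
  .cy (nat_lit 0) [] [] [] (nat_lit 928) [],
  .cy (nat_lit 26) [] [] [nat_lit 10, nat_lit 10, nat_lit 0, nat_lit 15, nat_lit 18, nat_lit 16, nat_lit 27] (nat_lit 495) [⟨[nat_lit 215], [nat_lit 5, nat_lit 2, nat_lit 26, nat_lit 15, nat_lit 27], (nat_lit 514)⟩, ⟨[nat_lit 522, nat_lit 206, nat_lit 204], [nat_lit 24, nat_lit 0, nat_lit 34, nat_lit 24, nat_lit 17], (nat_lit 525)⟩],
  .cy (nat_lit 0) [] [] [] (nat_lit 930) [],
  .cy (nat_lit 10) [] [] [nat_lit 10, nat_lit 0, nat_lit 36, nat_lit 32, nat_lit 27] (nat_lit 444) [⟨[nat_lit 217], [nat_lit 15, nat_lit 1, nat_lit 36, nat_lit 15], (nat_lit 463)⟩, ⟨[nat_lit 215, nat_lit 217], [nat_lit 1, nat_lit 1, nat_lit 25, nat_lit 18, nat_lit 18, nat_lit 26], (nat_lit 417)⟩],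
  .cy (nat_lit 0) [] [] [] (nat_lit 932) [],
  .cy (nat_lit 11) [] [] [nat_lit 5, nat_lit 27] (nat_lit 444) [⟨[nat_lit 215], [nat_lit 1, nat_lit 1, nat_lit 36, nat_lit 11, nat_lit 26], (nat_lit 420)⟩, ⟨[nat_lit 215, nat_lit 217, nat_lit 215], [nat_lit 1, nat_lit 37, nat_lit 24, nat_lit 15, nat_lit 27], (nat_lit 787)⟩],
  .cy (nat_lit 0) [] [] [] (nat_lit 934) [],
  .cy (nat_lit 20) [] [] [nat_lit 24, nat_lit 0, nat_lit 34, nat_lit 32, nat_lit 11, nat_lit 27] (nat_lit 444) [⟨[], [nat_lit 24, nat_lit 2, nat_lit 36, nat_lit 17], (nat_lit 557)⟩, ⟨[], [nat_lit 16, nat_lit 5, nat_lit 0, nat_lit 32, nat_lit 24, nat_lit 27], (nat_lit 441)⟩],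
  .cy (nat_lit 0) [] [] [] (nat_lit 936) [],
  .cy (nat_lit 2) [] [] [nat_lit 15, nat_lit 2, nat_lit 34, nat_lit 34, nat_lit 26] (nat_lit 405) [⟨[nat_lit 215, nat_lit 217, nat_lit 215], [nat_lit 16, nat_lit 2, nat_lit 17, nat_lit 34, nat_lit 11, nat_lit 27], (nat_lit 761)⟩, ⟨[nat_lit 217], [nat_lit 10, nat_lit 0, nat_lit 17, nat_lit 34, nat_lit 15, nat_lit 26], (nat_lit 530)⟩],
  .cy (nat_lit 0) [] [] [] (nat_lit 938) [],
  .cy (nat_lit 10) [] [] [nat_lit 5, nat_lit 2, nat_lit 0, nat_lit 37, nat_lit 34, nat_lit 11] (nat_lit 405) [⟨[nat_lit 215, nat_lit 217], [nat_lit 17, nat_lit 24, nat_lit 0, nat_lit 15, nat_lit 18, nat_lit 11], (nat_lit 475)⟩, ⟨[nat_lit 215], [nat_lit 15, nat_lit 1, nat_lit 32, nat_lit 34, nat_lit 11], (nat_lit 586)⟩],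
  .cy (nat_lit 0) [] [] [] (nat_lit 940) [],
  .cy (nat_lit 23) [] [] [nat_lit 24, nat_lit 2, nat_lit 35, nat_lit 33] (nat_lit 405) [⟨[nat_lit 215, nat_lit 217, nat_lit 215], [nat_lit 16, nat_lit 5, nat_lit 2, nat_lit 27, nat_lit 37, nat_lit 27], (nat_lit 668)⟩, ⟨[nat_lit 215, nat_lit 217], [nat_lit 18, nat_lit 15, nat_lit 0, nat_lit 18, nat_lit 36, nat_lit 27], (nat_lit 829)⟩],
  .cy (nat_lit 0) [] [] [] (nat_lit 942) [],
  .cy (nat_lit 26) [] [] [nat_lit 2, nat_lit 36, nat_lit 27] (nat_lit 405) [⟨[], [nat_lit 14, nat_lit 37, nat_lit 25], (nat_lit 770)⟩, ⟨[], [nat_lit 16, nat_lit 5, nat_lit 0, nat_lit 16, nat_lit 32, nat_lit 15, nat_lit 26], (nat_lit 311)⟩],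
  .cy (nat_lit 5) [] [] [nat_lit 25, nat_lit 14, nat_lit 0, nat_lit 15, nat_lit 18, nat_lit 16] (nat_lit 397) [⟨[], [nat_lit 5, nat_lit 37, nat_lit 17, nat_lit 11, nat_lit 26], (nat_lit 439)⟩, ⟨[nat_lit 206, nat_lit 209, nat_lit 203], [nat_lit 26, nat_lit 24, nat_lit 0, nat_lit 36, nat_lit 11, nat_lit 26], (nat_lit 527)⟩],
  .cy (nat_lit 0) [] [] [] (nat_lit 945) [],
  .cy (nat_lit 7) [] [] [nat_lit 26, nat_lit 24, nat_lit 0, nat_lit 15, nat_lit 32, nat_lit 11] (nat_lit 397) [⟨[nat_lit 215], [nat_lit 18, nat_lit 15, nat_lit 0, nat_lit 34, nat_lit 16, nat_lit 11], (nat_lit 907)⟩, ⟨[], [nat_lit 17, nat_lit 2, nat_lit 0, nat_lit 33, nat_lit 25, nat_lit 26], (nat_lit 528)⟩],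
  .cy (nat_lit 0) [] [] [] (nat_lit 947) [],
  .cy (nat_lit 23) [] [] [nat_lit 15, nat_lit 2, nat_lit 36, nat_lit 25, nat_lit 11, nat_lit 26] (nat_lit 397) [⟨[nat_lit 217], [nat_lit 17, nat_lit 24, nat_lit 0, nat_lit 24, nat_lit 37, nat_lit 11, nat_lit 26], (nat_lit 508)⟩, ⟨[nat_lit 164, nat_lit 175, nat_lit 179], [nat_lit 14, nat_lit 0, nat_lit 24, nat_lit 17, nat_lit 11], (nat_lit 503)⟩],
  .cy (nat_lit 0) [] [] [] (nat_lit 949) [],
  .cy (nat_lit 26) [] [] [nat_lit 5, nat_lit 16, nat_lit 2, nat_lit 26, nat_lit 15] (nat_lit 397) [⟨[nat_lit 217], [nat_lit 5, nat_lit 2, nat_lit 11, nat_lit 37, nat_lit 27], (nat_lit 482)⟩, ⟨[nat_lit 215], [nat_lit 17, nat_lit 2, nat_lit 0, nat_lit 24, nat_lit 37, nat_lit 17, nat_lit 26], (nat_lit 708)⟩],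
  .cy (nat_lit 0) [] [] [] (nat_lit 951) [],
  .cy (nat_lit 2) [] [] [nat_lit 24, nat_lit 16, nat_lit 0, nat_lit 16, nat_lit 32, nat_lit 15] (nat_lit 413) [⟨[nat_lit 215], [nat_lit 26, nat_lit 2, nat_lit 34, nat_lit 17, nat_lit 33], (nat_lit 909)⟩, ⟨[nat_lit 215], [nat_lit 15, nat_lit 1, nat_lit 15, nat_lit 17], (nat_lit 627)⟩],
  .cy (nat_lit 0) [] [] [] (nat_lit 953) [],
  .cy (nat_lit 4) [] [] [nat_lit 1, nat_lit 1, nat_lit 15, nat_lit 27] (nat_lit 413) [⟨[], [nat_lit 5, nat_lit 24, nat_lit 17, nat_lit 11], (nat_lit 612)⟩, ⟨[nat_lit 217, nat_lit 215], [nat_lit 11, nat_lit 2, nat_lit 0, nat_lit 36, nat_lit 17, nat_lit 26], (nat_lit 866)⟩],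
  .cy (nat_lit 0) [] [] [] (nat_lit 955) [],
  .cy (nat_lit 9) [] [] [nat_lit 2, nat_lit 15, nat_lit 17, nat_lit 26] (nat_lit 413) [⟨[nat_lit 215], [nat_lit 5, nat_lit 16, nat_lit 2, nat_lit 34, nat_lit 37, nat_lit 11, nat_lit 27], (nat_lit 478)⟩, ⟨[nat_lit 215, nat_lit 217], [nat_lit 24, nat_lit 16, nat_lit 0, nat_lit 37, nat_lit 32, nat_lit 26], (nat_lit 679)⟩],
  .cy (nat_lit 0) [] [] [] (nat_lit 957) [],
  .cy (nat_lit 10) [] [] [nat_lit 15, nat_lit 1, nat_lit 35, nat_lit 32, nat_lit 11, nat_lit 27] (nat_lit 413) [⟨[], [nat_lit 16, nat_lit 2, nat_lit 27, nat_lit 24, nat_lit 15, nat_lit 26], (nat_lit 929)⟩, ⟨[nat_lit 217], [nat_lit 0, nat_lit 37, nat_lit 11, nat_lit 17, nat_lit 27], (nat_lit 764)⟩],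
  .cy (nat_lit 0) [] [] [] (nat_lit 959) [],
  .cy (nat_lit 24) [] [] [nat_lit 17, nat_lit 2, nat_lit 0, nat_lit 25, nat_lit 16, nat_lit 16, nat_lit 27] (nat_lit 413) [⟨[nat_lit 217], [nat_lit 15, nat_lit 1, nat_lit 18, nat_lit 16, nat_lit 27], (nat_lit 601)⟩, ⟨[nat_lit 215], [nat_lit 24, nat_lit 0, nat_lit 33, nat_lit 25, nat_lit 27], (nat_lit 865)⟩],
  .cy (nat_lit 0) [] [] [] (nat_lit 961) [],
  .cy (nat_lit 20) [] [] [nat_lit 17, nat_lit 2, nat_lit 0, nat_lit 33, nat_lit 16, nat_lit 11, nat_lit 27] (nat_lit 388) [⟨[], [nat_lit 24, nat_lit 15, nat_lit 0, nat_lit 32, nat_lit 18, nat_lit 11], (nat_lit 842)⟩, ⟨[nat_lit 217], [nat_lit 5, nat_lit 0, nat_lit 11, nat_lit 27], (nat_lit 491)⟩],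
  .cy (nat_lit 0) [] [] [] (nat_lit 963) [],
  .cy (nat_lit 23) [] [] [nat_lit 0, nat_lit 2, nat_lit 37, nat_lit 15, nat_lit 11] (nat_lit 388) [⟨[nat_lit 217, nat_lit 215], [nat_lit 25, nat_lit 1, nat_lit 17, nat_lit 34], (nat_lit 477)⟩, ⟨[], [nat_lit 5, nat_lit 16, nat_lit 2, nat_lit 18, nat_lit 36], (nat_lit 363)⟩],
  .cy (nat_lit 0) [] [] [] (nat_lit 965) [],
  .cy (nat_lit 4) [] [] [nat_lit 1, nat_lit 24, nat_lit 0, nat_lit 17, nat_lit 11, nat_lit 17] (nat_lit 401) [⟨[nat_lit 215, nat_lit 217, nat_lit 215], [nat_lit 17, nat_lit 2, nat_lit 0, nat_lit 25, nat_lit 15, nat_lit 11, nat_lit 27], (nat_lit 803)⟩, ⟨[nat_lit 215, nat_lit 217, nat_lit 215], [nat_lit 2, nat_lit 0, nat_lit 33, nat_lit 18], (nat_lit 776)⟩],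
  .cy (nat_lit 0) [] [] [] (nat_lit 967) [],
  .cy (nat_lit 4) [] [] [nat_lit 1, nat_lit 1, nat_lit 26, nat_lit 16, nat_lit 11] (nat_lit 401) [⟨[], [nat_lit 11, nat_lit 2, nat_lit 0, nat_lit 35, nat_lit 32, nat_lit 11, nat_lit 27], (nat_lit 739)⟩, ⟨[nat_lit 217], [nat_lit 5, nat_lit 2, nat_lit 37, nat_lit 34, nat_lit 26], (nat_lit 613)⟩],
  .cy (nat_lit 0) [] [] [] (nat_lit 969) [],
  .cy (nat_lit 21) [] [] [nat_lit 1, nat_lit 27, nat_lit 24, nat_lit 15, nat_lit 26] (nat_lit 401) [⟨[nat_lit 215], [nat_lit 0, nat_lit 18, nat_lit 35, nat_lit 11, nat_lit 27], (nat_lit 959)⟩, ⟨[nat_lit 215, nat_lit 217], [nat_lit 25, nat_lit 2, nat_lit 0, nat_lit 37, nat_lit 34, nat_lit 11, nat_lit 27], (nat_lit 753)⟩],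
  .cy (nat_lit 0) [] [] [] (nat_lit 971) [],
  .cy (nat_lit 23) [] [] [nat_lit 16, nat_lit 0, nat_lit 36, nat_lit 24, nat_lit 15] (nat_lit 401) [⟨[nat_lit 215, nat_lit 217, nat_lit 215], [nat_lit 1, nat_lit 34, nat_lit 16, nat_lit 11, nat_lit 26], (nat_lit 817)⟩, ⟨[nat_lit 178, nat_lit 176, nat_lit 167], [nat_lit 1, nat_lit 27, nat_lit 24, nat_lit 11, nat_lit 26], (nat_lit 501)⟩],
  .cy (nat_lit 0) [] [] [] (nat_lit 973) [],
  .cy (nat_lit 8) [] [] [nat_lit 24, nat_lit 2, nat_lit 25, nat_lit 11, nat_lit 26] (nat_lit 282) [⟨[nat_lit 217, nat_lit 215], [nat_lit 1, nat_lit 25, nat_lit 15, nat_lit 26], (nat_lit 465)⟩, ⟨[nat_lit 215, nat_lit 217, nat_lit 215], [nat_lit 24, nat_lit 2, nat_lit 37, nat_lit 11, nat_lit 15, nat_lit 27], (nat_lit 547)⟩],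
  .cy (nat_lit 0) [] [] [] (nat_lit 975) [],
  .cy (nat_lit 6) [] [] [nat_lit 10, nat_lit 0, nat_lit 36, nat_lit 15, nat_lit 27] (nat_lit 308) [⟨[], [nat_lit 15, nat_lit 2, nat_lit 24], (nat_lit 919)⟩, ⟨[nat_lit 215, nat_lit 217], [nat_lit 26, nat_lit 2, nat_lit 0, nat_lit 36, nat_lit 24], (nat_lit 479)⟩],
  .cy (nat_lit 0) [] [] [] (nat_lit 977) [],
  .cy (nat_lit 9) [] [] [nat_lit 14, nat_lit 15, nat_lit 0, nat_lit 27, nat_lit 25] (nat_lit 308) [⟨[nat_lit 215, nat_lit 217], [nat_lit 24, nat_lit 16, nat_lit 0, nat_lit 32, nat_lit 18, nat_lit 11, nat_lit 26], (nat_lit 738)⟩, ⟨[nat_lit 215, nat_lit 217], [nat_lit 14, nat_lit 0, nat_lit 26, nat_lit 16], (nat_lit 407)⟩],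
  .cy (nat_lit 0) [] [] [] (nat_lit 979) [],
  .cy (nat_lit 11) [] [] [nat_lit 26, nat_lit 2, nat_lit 37, nat_lit 11, nat_lit 17, nat_lit 26] (nat_lit 308) [⟨[nat_lit 215], [nat_lit 18, nat_lit 15, nat_lit 0, nat_lit 36, nat_lit 25], (nat_lit 347)⟩, ⟨[nat_lit 217, nat_lit 215], [nat_lit 1, nat_lit 24, nat_lit 0, nat_lit 15, nat_lit 32, nat_lit 15], (nat_lit 460)⟩],
  .cy (nat_lit 0) [] [] [] (nat_lit 981) [],
  .cy (nat_lit 11) [] [] [nat_lit 11, nat_lit 2, nat_lit 0, nat_lit 37, nat_lit 37] (nat_lit 308) [⟨[], [nat_lit 15, nat_lit 2, nat_lit 15, nat_lit 18, nat_lit 26], (nat_lit 956)⟩, ⟨[nat_lit 215], [nat_lit 5, nat_lit 0, nat_lit 24, nat_lit 17, nat_lit 11], (nat_lit 709)⟩],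
  .cy (nat_lit 0) [] [] [] (nat_lit 983) [],
  .cy (nat_lit 12) [] [] [nat_lit 24, nat_lit 2, nat_lit 37, nat_lit 32, nat_lit 11, nat_lit 26] (nat_lit 308) [⟨[nat_lit 215], [nat_lit 15, nat_lit 5, nat_lit 17, nat_lit 25, nat_lit 15], (nat_lit 357)⟩, ⟨[], [nat_lit 17, nat_lit 2, nat_lit 0, nat_lit 27, nat_lit 25, nat_lit 27], (nat_lit 487)⟩],
  .cy (nat_lit 0) [] [] [] (nat_lit 985) [],
  .cy (nat_lit 23) [] [] [nat_lit 25, nat_lit 1, nat_lit 16, nat_lit 18, nat_lit 27] (nat_lit 308) [⟨[nat_lit 215], [nat_lit 15, nat_lit 5, nat_lit 36, nat_lit 16], (nat_lit 879)⟩, ⟨[nat_lit 215, nat_lit 217, nat_lit 215], [nat_lit 25, nat_lit 16, nat_lit 0, nat_lit 15, nat_lit 18], (nat_lit 900)⟩],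
  .cy (nat_lit 0) [] [] [] (nat_lit 987) [],
  .cy (nat_lit 12) [] [] [nat_lit 1, nat_lit 14, nat_lit 25, nat_lit 36, nat_lit 27] (nat_lit 341) [⟨[nat_lit 217, nat_lit 215], [nat_lit 5, nat_lit 36, nat_lit 33, nat_lit 11, nat_lit 26], (nat_lit 879)⟩, ⟨[nat_lit 215], [nat_lit 16, nat_lit 0, nat_lit 34, nat_lit 34, nat_lit 11], (nat_lit 968)⟩],
  .cy (nat_lit 0) [] [] [] (nat_lit 989) [],
  .cy (nat_lit 12) [] [] [nat_lit 11, nat_lit 5, nat_lit 2, nat_lit 27, nat_lit 24, nat_lit 11, nat_lit 26] (nat_lit 357) [⟨[nat_lit 215], [nat_lit 14, nat_lit 0, nat_lit 37, nat_lit 33], (nat_lit 307)⟩, ⟨[nat_lit 217], [nat_lit 17, nat_lit 2, nat_lit 0, nat_lit 35, nat_lit 27, nat_lit 15], (nat_lit 716)⟩],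
  .cy (nat_lit 0) [] [] [] (nat_lit 991) [],
  .cy (nat_lit 21) [] [] [nat_lit 1, nat_lit 1, nat_lit 17, nat_lit 34, nat_lit 11, nat_lit 26] (nat_lit 357) [⟨[nat_lit 215], [nat_lit 37, nat_lit 25], (nat_lit 549)⟩, ⟨[nat_lit 215], [nat_lit 11, nat_lit 2, nat_lit 0, nat_lit 25, nat_lit 36, nat_lit 15, nat_lit 26], (nat_lit 956)⟩],
  .cy (nat_lit 0) [] [] [] (nat_lit 993) [],
  .cy (nat_lit 22) [] [] [nat_lit 10, nat_lit 0, nat_lit 24, nat_lit 24] (nat_lit 357) [⟨[nat_lit 215, nat_lit 217], [nat_lit 10, nat_lit 10, nat_lit 0, nat_lit 17, nat_lit 16, nat_lit 26], (nat_lit 553)⟩, ⟨[nat_lit 217], [nat_lit 1, nat_lit 15, nat_lit 27, nat_lit 16, nat_lit 26], (nat_lit 955)⟩],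
  .cy (nat_lit 0) [] [] [] (nat_lit 995) [],
  .cy (nat_lit 2) [] [] [nat_lit 24, nat_lit 2, nat_lit 0, nat_lit 16, nat_lit 16, nat_lit 26] (nat_lit 241) [⟨[nat_lit 165, nat_lit 176, nat_lit 179, nat_lit 161], [nat_lit 10, nat_lit 10, nat_lit 0, nat_lit 37, nat_lit 15, nat_lit 11, nat_lit 26], (nat_lit 469)⟩, ⟨[], [nat_lit 24, nat_lit 0, nat_lit 33, nat_lit 34], (nat_lit 875)⟩],
  .cy (nat_lit 0) [] [] [] (nat_lit 997) [],
  .cy (nat_lit 5) [] [] [nat_lit 24, nat_lit 2, nat_lit 0, nat_lit 17, nat_lit 36, nat_lit 15, nat_lit 26] (nat_lit 241) [⟨[nat_lit 164, nat_lit 162], [nat_lit 2, nat_lit 33, nat_lit 18], (nat_lit 236)⟩, ⟨[nat_lit 215, nat_lit 217], [nat_lit 33, nat_lit 37, nat_lit 11], (nat_lit 549)⟩],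
  .cy (nat_lit 0) [] [] [] (nat_lit 999) [],
  .cy (nat_lit 5) [] [] [nat_lit 24, nat_lit 1, nat_lit 24, nat_lit 18, nat_lit 27] (nat_lit 241) [⟨[nat_lit 175, nat_lit 179, nat_lit 179], [nat_lit 15, nat_lit 0, nat_lit 27, nat_lit 24, nat_lit 27], (nat_lit 501)⟩, ⟨[nat_lit 217], [nat_lit 15, nat_lit 0, nat_lit 36, nat_lit 32, nat_lit 11], (nat_lit 913)⟩],
  .cy (nat_lit 0) [] [] [] (nat_lit 1001) [],
  .cy (nat_lit 9) [] [] [nat_lit 5, nat_lit 2, nat_lit 0, nat_lit 18, nat_lit 35] (nat_lit 241) [⟨[nat_lit 175, nat_lit 178, nat_lit 161], [nat_lit 2, nat_lit 0, nat_lit 15, nat_lit 15, nat_lit 15, nat_lit 26], (nat_lit 238)⟩, ⟨[nat_lit 215], [nat_lit 2, nat_lit 0, nat_lit 32, nat_lit 18, nat_lit 27], (nat_lit 851)⟩],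
  .cy (nat_lit 0) [] [] [] (nat_lit 1003) [],
  .cy (nat_lit 11) [] [] [nat_lit 1, nat_lit 27, nat_lit 18, nat_lit 27] (nat_lit 241) [⟨[nat_lit 179, nat_lit 179, nat_lit 175], [nat_lit 15, nat_lit 5, nat_lit 34, nat_lit 25, nat_lit 11, nat_lit 26], (nat_lit 501)⟩, ⟨[nat_lit 215, nat_lit 217], [nat_lit 15, nat_lit 5, nat_lit 35, nat_lit 16, nat_lit 16, nat_lit 26], (nat_lit 443)⟩],
  .cy (nat_lit 0) [] [] [] (nat_lit 1005) [],
  .cy (nat_lit 22) [] [] [nat_lit 1, nat_lit 35, nat_lit 36, nat_lit 27] (nat_lit 241) [⟨[nat_lit 165, nat_lit 178], [nat_lit 25, nat_lit 1, nat_lit 25, nat_lit 37, nat_lit 17, nat_lit 26], (nat_lit 705)⟩, ⟨[nat_lit 217], [nat_lit 16, nat_lit 5, nat_lit 0, nat_lit 25, nat_lit 11, nat_lit 26], (nat_lit 444)⟩],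
  .cy (nat_lit 0) [] [] [] (nat_lit 1007) [],
  .cy (nat_lit 25) [] [] [nat_lit 15, nat_lit 1, nat_lit 24, nat_lit 35] (nat_lit 241) [⟨[nat_lit 162, nat_lit 175, nat_lit 162], [nat_lit 37, nat_lit 18, nat_lit 15, nat_lit 26], (nat_lit 469)⟩, ⟨[nat_lit 215], [nat_lit 1, nat_lit 14, nat_lit 25, nat_lit 18, nat_lit 27], (nat_lit 956)⟩],
  .cy (nat_lit 0) [] [] [] (nat_lit 1009) [],
  .cy (nat_lit 6) [] [] [nat_lit 15, nat_lit 5, nat_lit 37, nat_lit 32, nat_lit 11, nat_lit 26] (nat_lit 372) [⟨[nat_lit 208, nat_lit 204, nat_lit 206], [nat_lit 16, nat_lit 2, nat_lit 36, nat_lit 25, nat_lit 26], (nat_lit 366)⟩, ⟨[nat_lit 215, nat_lit 217, nat_lit 215], [nat_lit 14, nat_lit 24, nat_lit 18, nat_lit 16], (nat_lit 771)⟩],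
  .cy (nat_lit 0) [] [] [] (nat_lit 1011) [],
  .cy (nat_lit 7) [] [] [nat_lit 26, nat_lit 24, nat_lit 0, nat_lit 17, nat_lit 17, nat_lit 26] (nat_lit 372) [⟨[nat_lit 522, nat_lit 205, nat_lit 209], [nat_lit 11, nat_lit 5, nat_lit 2, nat_lit 25, nat_lit 36, nat_lit 11, nat_lit 27], (nat_lit 366)⟩, ⟨[nat_lit 215, nat_lit 217, nat_lit 215], [nat_lit 11, nat_lit 5, nat_lit 2, nat_lit 15, nat_lit 17, nat_lit 11], (nat_lit 374)⟩],
  .cy (nat_lit 0) [] [] [] (nat_lit 1013) [],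
  .cy (nat_lit 8) [] [] [nat_lit 1, nat_lit 27, nat_lit 36] (nat_lit 372) [⟨[nat_lit 522, nat_lit 206, nat_lit 523], [nat_lit 17, nat_lit 2, nat_lit 0, nat_lit 24, nat_lit 16, nat_lit 27], (nat_lit 822)⟩, ⟨[nat_lit 215, nat_lit 217, nat_lit 215], [nat_lit 26, nat_lit 24, nat_lit 0, nat_lit 15, nat_lit 32, nat_lit 15], (nat_lit 829)⟩],
  .cy (nat_lit 0) [] [] [] (nat_lit 1015) [],
  .cy (nat_lit 10) [] [] [nat_lit 11, nat_lit 5, nat_lit 2, nat_lit 33, nat_lit 36, nat_lit 11, nat_lit 26] (nat_lit 372) [⟨[nat_lit 522, nat_lit 206, nat_lit 523, nat_lit 201], [nat_lit 11, nat_lit 5, nat_lit 2, nat_lit 24, nat_lit 35, nat_lit 27], (nat_lit 519)⟩, ⟨[nat_lit 215, nat_lit 217], [nat_lit 15, nat_lit 5, nat_lit 32], (nat_lit 731)⟩],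
  .cy (nat_lit 0) [] [] [] (nat_lit 1017) [],
  .cy (nat_lit 6) [] [] [nat_lit 11, nat_lit 2, nat_lit 0, nat_lit 24, nat_lit 33, nat_lit 15] (nat_lit 265) [⟨[nat_lit 217, nat_lit 215], [nat_lit 5, nat_lit 36, nat_lit 36, nat_lit 17], (nat_lit 923)⟩, ⟨[nat_lit 215, nat_lit 217, nat_lit 215], [nat_lit 14, nat_lit 15, nat_lit 0, nat_lit 18, nat_lit 36, nat_lit 26], (nat_lit 693)⟩],
  .cy (nat_lit 0) [] [] [] (nat_lit 1019) [],
  .cy (nat_lit 5) [] [] [nat_lit 25, nat_lit 1, nat_lit 32, nat_lit 16, nat_lit 26] (nat_lit 275) [⟨[nat_lit 215], [nat_lit 17, nat_lit 2, nat_lit 0, nat_lit 33, nat_lit 37, nat_lit 26], (nat_lit 335)⟩, ⟨[nat_lit 215], [nat_lit 17, nat_lit 2, nat_lit 0, nat_lit 25, nat_lit 35, nat_lit 11], (nat_lit 386)⟩],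
  .cy (nat_lit 0) [] [] [] (nat_lit 1021) [],
  .cy (nat_lit 21) [] [] [nat_lit 34, nat_lit 15, nat_lit 26] (nat_lit 275) [⟨[nat_lit 215, nat_lit 217, nat_lit 215], [nat_lit 10, nat_lit 10, nat_lit 0, nat_lit 25, nat_lit 18], (nat_lit 637)⟩, ⟨[nat_lit 217, nat_lit 215], [nat_lit 26, nat_lit 2, nat_lit 0, nat_lit 25, nat_lit 35, nat_lit 11], (nat_lit 987)⟩],
  .cy (nat_lit 0) [] [] [] (nat_lit 1023) [],
  .cy (nat_lit 2) [] [] [nat_lit 15, nat_lit 5, nat_lit 36, nat_lit 32, nat_lit 27] (nat_lit 277) [⟨[nat_lit 215, nat_lit 217, nat_lit 215], [nat_lit 25, nat_lit 15, nat_lit 11, nat_lit 27], (nat_lit 637)⟩, ⟨[nat_lit 215], [nat_lit 5, nat_lit 16, nat_lit 2, nat_lit 33, nat_lit 11, nat_lit 16, nat_lit 27], (nat_lit 539)⟩],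
  .cy (nat_lit 0) [] [] [] (nat_lit 1025) [],
  .cy (nat_lit 5) [] [] [nat_lit 5, nat_lit 14, nat_lit 15, nat_lit 18, nat_lit 26] (nat_lit 277) [⟨[], [nat_lit 10, nat_lit 10, nat_lit 0, nat_lit 25, nat_lit 37, nat_lit 11, nat_lit 26], (nat_lit 353)⟩, ⟨[nat_lit 217, nat_lit 215], [nat_lit 1, nat_lit 24, nat_lit 0, nat_lit 36, nat_lit 16, nat_lit 26], (nat_lit 887)⟩],
  .cy (nat_lit 0) [] [] [] (nat_lit 1027) [],
  .cy (nat_lit 10) [] [] [nat_lit 5, nat_lit 0, nat_lit 15, nat_lit 18, nat_lit 16] (nat_lit 277) [⟨[nat_lit 217], [nat_lit 24, nat_lit 15, nat_lit 0, nat_lit 33, nat_lit 18, nat_lit 27], (nat_lit 667)⟩, ⟨[nat_lit 217], [nat_lit 25, nat_lit 2, nat_lit 0, nat_lit 35, nat_lit 32, nat_lit 11, nat_lit 27], (nat_lit 626)⟩],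
  .cy (nat_lit 0) [] [] [] (nat_lit 1029) [],
  .cy (nat_lit 1) [] [] [nat_lit 24, nat_lit 15, nat_lit 0, nat_lit 37, nat_lit 32, nat_lit 26] (nat_lit 351) [⟨[], [nat_lit 5, nat_lit 2, nat_lit 0, nat_lit 16, nat_lit 25, nat_lit 26], (nat_lit 834)⟩, ⟨[nat_lit 215], [nat_lit 2, nat_lit 0, nat_lit 16, nat_lit 16, nat_lit 11, nat_lit 27], (nat_lit 929)⟩],
  .cy (nat_lit 0) [] [] [] (nat_lit 1031) [],
  .cy (nat_lit 10) [] [] [nat_lit 15, nat_lit 0, nat_lit 34, nat_lit 15, nat_lit 11] (nat_lit 351) [⟨[nat_lit 215, nat_lit 217], [nat_lit 15, nat_lit 2, nat_lit 35, nat_lit 15, nat_lit 27], (nat_lit 840)⟩, ⟨[nat_lit 215, nat_lit 217], [nat_lit 17, nat_lit 24, nat_lit 0, nat_lit 36, nat_lit 25, nat_lit 26], (nat_lit 935)⟩],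
  .cy (nat_lit 0) [] [] [] (nat_lit 1033) [],
  .cy (nat_lit 10) [] [] [nat_lit 25, nat_lit 2, nat_lit 0, nat_lit 18, nat_lit 15, nat_lit 11, nat_lit 27] (nat_lit 235) [⟨[nat_lit 176, nat_lit 164, nat_lit 161], [nat_lit 18, nat_lit 15, nat_lit 0, nat_lit 15, nat_lit 27], (nat_lit 507)⟩, ⟨[nat_lit 215], [nat_lit 1, nat_lit 14, nat_lit 32, nat_lit 32, nat_lit 26], (nat_lit 556)⟩],
  .cy (nat_lit 0) [] [] [] (nat_lit 1035) [],
  .cy (nat_lit 21) [] [] [nat_lit 25, nat_lit 14, nat_lit 0, nat_lit 36, nat_lit 17, nat_lit 27] (nat_lit 235) [⟨[nat_lit 179], [nat_lit 5, nat_lit 2, nat_lit 0, nat_lit 36, nat_lit 25, nat_lit 11, nat_lit 27], (nat_lit 880)⟩, ⟨[], [nat_lit 26, nat_lit 24, nat_lit 0, nat_lit 17, nat_lit 15, nat_lit 27], (nat_lit 681)⟩],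
  .cy (nat_lit 0) [] [] [] (nat_lit 1037) [],
  .cy (nat_lit 26) [] [] [nat_lit 5, nat_lit 0, nat_lit 18, nat_lit 36, nat_lit 11, nat_lit 26] (nat_lit 235) [⟨[nat_lit 165, nat_lit 176, nat_lit 161], [nat_lit 16, nat_lit 5, nat_lit 0, nat_lit 17, nat_lit 15], (nat_lit 501)⟩, ⟨[nat_lit 215, nat_lit 217, nat_lit 215], [nat_lit 2, nat_lit 0, nat_lit 34, nat_lit 26], (nat_lit 858)⟩],
  .cy (nat_lit 0) [] [] [] (nat_lit 1039) [],
  .cy (nat_lit 11) [] [] [nat_lit 26, nat_lit 2, nat_lit 32, nat_lit 34, nat_lit 11, nat_lit 26] (nat_lit 352) [⟨[], [nat_lit 5, nat_lit 0, nat_lit 37, nat_lit 11], (nat_lit 356)⟩, ⟨[nat_lit 215, nat_lit 217], [nat_lit 11, nat_lit 5, nat_lit 2, nat_lit 27, nat_lit 24, nat_lit 15], (nat_lit 802)⟩],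
  .cy (nat_lit 0) [] [] [] (nat_lit 1041) [],
  .cy (nat_lit 21) [] [] [nat_lit 2, nat_lit 0, nat_lit 17, nat_lit 11, nat_lit 27] (nat_lit 352) [⟨[nat_lit 215, nat_lit 217], [nat_lit 16, nat_lit 0, nat_lit 33, nat_lit 24, nat_lit 11], (nat_lit 956)⟩, ⟨[nat_lit 217], [nat_lit 24, nat_lit 15, nat_lit 0, nat_lit 37, nat_lit 37, nat_lit 11, nat_lit 26], (nat_lit 441)⟩],
  .cy (nat_lit 0) [] [] [] (nat_lit 1043) [],
  .cy (nat_lit 1) [] [] [nat_lit 10, nat_lit 0, nat_lit 24, nat_lit 17, nat_lit 11, nat_lit 26] (nat_lit 317) [⟨[nat_lit 217], [nat_lit 24, nat_lit 11], (nat_lit 1044)⟩, ⟨[nat_lit 215, nat_lit 217, nat_lit 215], [nat_lit 5, nat_lit 2, nat_lit 0, nat_lit 36, nat_lit 17, nat_lit 27], (nat_lit 847)⟩],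
  .cy (nat_lit 0) [] [] [] (nat_lit 1045) [],
  .cy (nat_lit 5) [] [] [nat_lit 26, nat_lit 2, nat_lit 0, nat_lit 36, nat_lit 16, nat_lit 26] (nat_lit 317) [⟨[nat_lit 215], [nat_lit 24, nat_lit 2, nat_lit 0, nat_lit 25, nat_lit 18, nat_lit 16], (nat_lit 291)⟩, ⟨[], [nat_lit 5, nat_lit 2, nat_lit 34, nat_lit 15, nat_lit 11, nat_lit 27], (nat_lit 538)⟩],
  .cy (nat_lit 0) [] [] [] (nat_lit 1047) [],
  .cy (nat_lit 8) [] [] [nat_lit 16, nat_lit 2, nat_lit 34, nat_lit 15, nat_lit 26] (nat_lit 284) [⟨[], [nat_lit 11, nat_lit 5, nat_lit 2, nat_lit 33, nat_lit 18, nat_lit 11], (nat_lit 353)⟩, ⟨[nat_lit 215, nat_lit 217], [nat_lit 16, nat_lit 0, nat_lit 33, nat_lit 18], (nat_lit 957)⟩],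
  .cy (nat_lit 0) [] [] [] (nat_lit 1049) [],
  .cy (nat_lit 11) [] [] [nat_lit 16, nat_lit 5, nat_lit 0, nat_lit 24, nat_lit 16, nat_lit 26] (nat_lit 284) [⟨[nat_lit 215, nat_lit 217, nat_lit 215], [nat_lit 26, nat_lit 15], (nat_lit 713)⟩, ⟨[], [nat_lit 24, nat_lit 15, nat_lit 0, nat_lit 17, nat_lit 36, nat_lit 26], (nat_lit 252)⟩],
  .cy (nat_lit 23) [] [] [nat_lit 26, nat_lit 24, nat_lit 0, nat_lit 34, nat_lit 16, nat_lit 11, nat_lit 27] (nat_lit 284) [⟨[nat_lit 215, nat_lit 217, nat_lit 215], [nat_lit 16, nat_lit 0, nat_lit 15, nat_lit 11, nat_lit 15, nat_lit 27], (nat_lit 670)⟩, ⟨[nat_lit 215, nat_lit 217, nat_lit 215], [nat_lit 26, nat_lit 24, nat_lit 0, nat_lit 35, nat_lit 15, nat_lit 27], (nat_lit 819)⟩],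
  .cy (nat_lit 0) [] [] [] (nat_lit 1052) [],
  .cy (nat_lit 26) [] [] [nat_lit 5, nat_lit 0, nat_lit 34, nat_lit 25, nat_lit 11, nat_lit 26] (nat_lit 284) [⟨[], [nat_lit 26, nat_lit 2, nat_lit 0, nat_lit 36, nat_lit 24, nat_lit 15, nat_lit 27], (nat_lit 1043)⟩, ⟨[], [nat_lit 15, nat_lit 1, nat_lit 36, nat_lit 18, nat_lit 15], (nat_lit 922)⟩],
  .cy (nat_lit 22) [] [] [nat_lit 1, nat_lit 14, nat_lit 34, nat_lit 37] (nat_lit 318) [⟨[nat_lit 217], [nat_lit 5, nat_lit 2, nat_lit 0, nat_lit 32, nat_lit 16], (nat_lit 636)⟩, ⟨[], [nat_lit 5, nat_lit 0, nat_lit 11, nat_lit 18, nat_lit 26], (nat_lit 878)⟩],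
  .cy (nat_lit 0) [] [] [] (nat_lit 1055) [],
  .cy (nat_lit 11) [] [] [nat_lit 24, nat_lit 16, nat_lit 0, nat_lit 15, nat_lit 11, nat_lit 15] (nat_lit 355) [⟨[], [nat_lit 25, nat_lit 14, nat_lit 0, nat_lit 34, nat_lit 26], (nat_lit 982)⟩, ⟨[nat_lit 215], [nat_lit 17, nat_lit 2, nat_lit 0, nat_lit 18, nat_lit 35, nat_lit 27], (nat_lit 630)⟩],
  .cy (nat_lit 0) [] [] [] (nat_lit 1057) [],
  .cy (nat_lit 1) [] [] [nat_lit 15, nat_lit 1, nat_lit 15, nat_lit 32, nat_lit 11, nat_lit 27] (nat_lit 283) [⟨[nat_lit 217], [nat_lit 5, nat_lit 2, nat_lit 24, nat_lit 36, nat_lit 26], (nat_lit 832)⟩, ⟨[nat_lit 215, nat_lit 217], [nat_lit 1, nat_lit 1, nat_lit 15, nat_lit 17, nat_lit 11, nat_lit 26], (nat_lit 1048)⟩],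
  .cy (nat_lit 0) [] [] [] (nat_lit 1059) [],
  .cy (nat_lit 12) [] [] [nat_lit 16, nat_lit 5, nat_lit 2, nat_lit 18, nat_lit 36, nat_lit 11] (nat_lit 283) [⟨[], [nat_lit 2, nat_lit 24, nat_lit 37, nat_lit 15, nat_lit 27], (nat_lit 305)⟩, ⟨[nat_lit 215], [nat_lit 15, nat_lit 5, nat_lit 33], (nat_lit 957)⟩],
  .cy (nat_lit 0) [] [] [] (nat_lit 1061) [],
  .cy (nat_lit 20) [] [] [nat_lit 0, nat_lit 2, nat_lit 24, nat_lit 26] (nat_lit 283) [⟨[], [nat_lit 25, nat_lit 37, nat_lit 17, nat_lit 26], (nat_lit 998)⟩, ⟨[nat_lit 215, nat_lit 217, nat_lit 215], [nat_lit 11, nat_lit 5, nat_lit 2, nat_lit 26, nat_lit 34, nat_lit 11], (nat_lit 954)⟩],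
  .cy (nat_lit 0) [] [] [] (nat_lit 1063) [],
  .cy (nat_lit 20) [] [] [nat_lit 16, nat_lit 0, nat_lit 32, nat_lit 34] (nat_lit 283) [⟨[nat_lit 215, nat_lit 217], [nat_lit 15, nat_lit 2, nat_lit 26, nat_lit 34], (nat_lit 878)⟩, ⟨[], [nat_lit 26, nat_lit 24, nat_lit 0, nat_lit 16, nat_lit 17, nat_lit 15, nat_lit 27], (nat_lit 819)⟩],
  .cy (nat_lit 0) [] [] [] (nat_lit 1065) [],
  .cy (nat_lit 23) [] [] [nat_lit 17, nat_lit 24, nat_lit 0, nat_lit 34, nat_lit 32, nat_lit 11, nat_lit 27] (nat_lit 283) [⟨[nat_lit 217], [nat_lit 0, nat_lit 25, nat_lit 36, nat_lit 15], (nat_lit 960)⟩, ⟨[nat_lit 215, nat_lit 217, nat_lit 215], [nat_lit 16, nat_lit 5, nat_lit 2], (nat_lit 818)⟩],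
  .cy (nat_lit 0) [] [] [] (nat_lit 1067) [],
  .cy (nat_lit 25) [] [] [nat_lit 24, nat_lit 1, nat_lit 33, nat_lit 25, nat_lit 27] (nat_lit 283) [⟨[], [nat_lit 14, nat_lit 15, nat_lit 0, nat_lit 36, nat_lit 18, nat_lit 27], (nat_lit 994)⟩, ⟨[], [nat_lit 15, nat_lit 1, nat_lit 32, nat_lit 34], (nat_lit 922)⟩],
  .cy (nat_lit 0) [] [] [] (nat_lit 1069) [],
  .cy (nat_lit 5) [] [] [nat_lit 16, nat_lit 2, nat_lit 36, nat_lit 32, nat_lit 26] (nat_lit 290) [⟨[nat_lit 215], [nat_lit 5, nat_lit 0, nat_lit 16, nat_lit 18, nat_lit 11, nat_lit 26], (nat_lit 334)⟩, ⟨[nat_lit 217], [nat_lit 15, nat_lit 5, nat_lit 24, nat_lit 18, nat_lit 26], (nat_lit 1046)⟩],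
  .cy (nat_lit 0) [] [] [] (nat_lit 1071) [],
  .cy (nat_lit 11) [] [] [nat_lit 2, nat_lit 0, nat_lit 36, nat_lit 24, nat_lit 15, nat_lit 27] (nat_lit 290) [⟨[nat_lit 215], [nat_lit 24, nat_lit 0, nat_lit 32, nat_lit 18, nat_lit 15], (nat_lit 248)⟩, ⟨[nat_lit 215], [nat_lit 0, nat_lit 2, nat_lit 33, nat_lit 35, nat_lit 11, nat_lit 26], (nat_lit 570)⟩],
  .cy (nat_lit 0) [] [] [] (nat_lit 1073) [],
  .cy (nat_lit 12) [] [] [nat_lit 1, nat_lit 1, nat_lit 32, nat_lit 32, nat_lit 11] (nat_lit 290) [⟨[nat_lit 215], [nat_lit 5, nat_lit 14, nat_lit 16, nat_lit 37, nat_lit 27], (nat_lit 352)⟩, ⟨[nat_lit 215], [nat_lit 5, nat_lit 18, nat_lit 16, nat_lit 11, nat_lit 27], (nat_lit 957)⟩],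
  .cy (nat_lit 0) [] [] [] (nat_lit 1075) [],
  .cy (nat_lit 20) [] [] [nat_lit 26, nat_lit 2, nat_lit 37, nat_lit 37, nat_lit 16] (nat_lit 288) [⟨[], [nat_lit 10, nat_lit 10, nat_lit 0, nat_lit 25, nat_lit 11], (nat_lit 1062)⟩, ⟨[nat_lit 215, nat_lit 217, nat_lit 215], [nat_lit 26, nat_lit 24, nat_lit 0, nat_lit 17, nat_lit 11, nat_lit 17, nat_lit 27], (nat_lit 444)⟩],
  .cy (nat_lit 0) [] [] [] (nat_lit 1077) [],
  .cy (nat_lit 21) [] [] [nat_lit 15, nat_lit 5, nat_lit 25, nat_lit 33, nat_lit 15, nat_lit 27] (nat_lit 288) [⟨[nat_lit 215], [nat_lit 15, nat_lit 35, nat_lit 11], (nat_lit 1074)⟩, ⟨[nat_lit 217, nat_lit 215], [nat_lit 24, nat_lit 1, nat_lit 37, nat_lit 15, nat_lit 11], (nat_lit 857)⟩],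
  .cy (nat_lit 0) [] [] [] (nat_lit 1079) [],
  .cy (nat_lit 3) [] [] [nat_lit 25, nat_lit 16, nat_lit 0, nat_lit 18, nat_lit 11, nat_lit 26] (nat_lit 309) [⟨[], [nat_lit 10, nat_lit 10, nat_lit 0, nat_lit 17, nat_lit 17], (nat_lit 980)⟩, ⟨[], [nat_lit 17, nat_lit 2, nat_lit 0, nat_lit 36, nat_lit 18], (nat_lit 538)⟩],
  .cy (nat_lit 0) [] [] [] (nat_lit 1081) [],
  .cy (nat_lit 10) [] [] [nat_lit 16, nat_lit 5, nat_lit 0, nat_lit 26, nat_lit 15, nat_lit 27] (nat_lit 309) [⟨[nat_lit 217], [nat_lit 0, nat_lit 2, nat_lit 34, nat_lit 16, nat_lit 27], (nat_lit 364)⟩, ⟨[nat_lit 215, nat_lit 217], [nat_lit 5, nat_lit 14, nat_lit 32, nat_lit 32, nat_lit 26], (nat_lit 818)⟩],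
  .cy (nat_lit 0) [] [] [] (nat_lit 1083) [],
  .cy (nat_lit 25) [] [] [nat_lit 24, nat_lit 1, nat_lit 25, nat_lit 36, nat_lit 11] (nat_lit 309) [⟨[nat_lit 215, nat_lit 217], [nat_lit 26, nat_lit 16, nat_lit 11, nat_lit 27], (nat_lit 694)⟩, ⟨[nat_lit 217], [nat_lit 5, nat_lit 2, nat_lit 0, nat_lit 26, nat_lit 34, nat_lit 11, nat_lit 27], (nat_lit 900)⟩],
  .cy (nat_lit 0) [] [] [] (nat_lit 1085) [],
  .cy (nat_lit 4) [] [] [nat_lit 11, nat_lit 2, nat_lit 0, nat_lit 17, nat_lit 17, nat_lit 15, nat_lit 26] (nat_lit 353) [⟨[nat_lit 217], [nat_lit 5, nat_lit 32, nat_lit 11, nat_lit 26], (nat_lit 459)⟩, ⟨[nat_lit 217, nat_lit 215], [nat_lit 1, nat_lit 16, nat_lit 16, nat_lit 26], (nat_lit 1049)⟩],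
  .cy (nat_lit 0) [] [] [] (nat_lit 1087) [],
  .cy (nat_lit 5) [] [] [nat_lit 2, nat_lit 0, nat_lit 34, nat_lit 37, nat_lit 11, nat_lit 26] (nat_lit 353) [⟨[nat_lit 215], [nat_lit 15, nat_lit 2, nat_lit 37, nat_lit 37, nat_lit 27], (nat_lit 357)⟩, ⟨[nat_lit 217], [nat_lit 5, nat_lit 2, nat_lit 0, nat_lit 37, nat_lit 32, nat_lit 11, nat_lit 27], (nat_lit 394)⟩],
  .cy (nat_lit 0) [] [] [] (nat_lit 1089) [],
  .cy (nat_lit 11) [] [] [nat_lit 1, nat_lit 24, nat_lit 0, nat_lit 37, nat_lit 24, nat_lit 26] (nat_lit 353) [⟨[nat_lit 215], [nat_lit 5, nat_lit 2, nat_lit 0, nat_lit 24, nat_lit 36, nat_lit 16, nat_lit 26], (nat_lit 239)⟩, ⟨[nat_lit 178, nat_lit 167, nat_lit 178], [nat_lit 25, nat_lit 16, nat_lit 0, nat_lit 32, nat_lit 16, nat_lit 27], (nat_lit 503)⟩],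
  .cy (nat_lit 0) [] [] [] (nat_lit 1091) [],
  .cy (nat_lit 25) [] [] [nat_lit 16, nat_lit 5, nat_lit 0, nat_lit 36, nat_lit 25, nat_lit 11] (nat_lit 353) [⟨[nat_lit 217], [nat_lit 25, nat_lit 37, nat_lit 15, nat_lit 27], (nat_lit 694)⟩, ⟨[nat_lit 217, nat_lit 215], [nat_lit 25, nat_lit 1, nat_lit 35, nat_lit 33, nat_lit 27], (nat_lit 1054)⟩],
  .cy (nat_lit 0) [] [] [] (nat_lit 1093) [],
  .cy (nat_lit 1) [] [] [nat_lit 16, nat_lit 5, nat_lit 2, nat_lit 17, nat_lit 15, nat_lit 11] (nat_lit 428) [⟨[nat_lit 215, nat_lit 217], [nat_lit 14, nat_lit 34, nat_lit 24, nat_lit 15, nat_lit 26], (nat_lit 560)⟩, ⟨[nat_lit 215, nat_lit 217], [nat_lit 15, nat_lit 5, nat_lit 26, nat_lit 34, nat_lit 11], (nat_lit 534)⟩],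
  .cy (nat_lit 0) [] [] [] (nat_lit 1095) [],
  .cy (nat_lit 1) [] [] [nat_lit 26, nat_lit 2, nat_lit 0, nat_lit 18, nat_lit 36, nat_lit 27] (nat_lit 428) [⟨[nat_lit 215, nat_lit 217], [nat_lit 5, nat_lit 16, nat_lit 2, nat_lit 37, nat_lit 11, nat_lit 17], (nat_lit 948)⟩, ⟨[nat_lit 206, nat_lit 523, nat_lit 201], [nat_lit 10, nat_lit 0, nat_lit 36, nat_lit 25], (nat_lit 904)⟩],
  .cy (nat_lit 0) [] [] [] (nat_lit 1097) [],
  .cy (nat_lit 2) [] [] [nat_lit 26, nat_lit 2, nat_lit 0, nat_lit 35, nat_lit 11] (nat_lit 428) [⟨[nat_lit 217], [nat_lit 34, nat_lit 17, nat_lit 33, nat_lit 27], (nat_lit 516)⟩, ⟨[nat_lit 203, nat_lit 208, nat_lit 201], [nat_lit 0, nat_lit 2, nat_lit 24, nat_lit 33, nat_lit 15], (nat_lit 257)⟩]]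
noncomputable def P1294 : List Pf := [.cy (nat_lit 0) [] [] [] (nat_lit 1099) [],
  .cy (nat_lit 7) [] [] [nat_lit 2, nat_lit 0, nat_lit 15, nat_lit 17, nat_lit 26] (nat_lit 428) [⟨[], [nat_lit 5, nat_lit 0, nat_lit 25, nat_lit 35, nat_lit 11], (nat_lit 506)⟩, ⟨[nat_lit 179, nat_lit 176, nat_lit 167], [nat_lit 5, nat_lit 16, nat_lit 2, nat_lit 11, nat_lit 17, nat_lit 26], (nat_lit 469)⟩],
  .cy (nat_lit 0) [] [] [] (nat_lit 1101) [],
  .cy (nat_lit 10) [] [] [nat_lit 26, nat_lit 2, nat_lit 0, nat_lit 37, nat_lit 34, nat_lit 26] (nat_lit 428) [⟨[nat_lit 215, nat_lit 217, nat_lit 215], [nat_lit 26, nat_lit 2, nat_lit 0, nat_lit 37, nat_lit 37, nat_lit 27], (nat_lit 748)⟩, ⟨[nat_lit 215], [nat_lit 25, nat_lit 1, nat_lit 24, nat_lit 17, nat_lit 26], (nat_lit 559)⟩],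
  .cy (nat_lit 0) [] [] [] (nat_lit 1103) [],
  .cy (nat_lit 22) [] [] [nat_lit 18, nat_lit 15, nat_lit 0, nat_lit 34, nat_lit 32, nat_lit 11, nat_lit 27] (nat_lit 428) [⟨[], [nat_lit 15, nat_lit 5, nat_lit 25, nat_lit 36, nat_lit 15], (nat_lit 881)⟩, ⟨[nat_lit 179, nat_lit 167, nat_lit 165], [nat_lit 15, nat_lit 5, nat_lit 17, nat_lit 15, nat_lit 11, nat_lit 26], (nat_lit 402)⟩],
  .cy (nat_lit 0) [] [] [] (nat_lit 1105) [],
  .cy (nat_lit 10) [] [] [nat_lit 16, nat_lit 5, nat_lit 2, nat_lit 35, nat_lit 35, nat_lit 11, nat_lit 27] (nat_lit 348) [⟨[nat_lit 215, nat_lit 217], [nat_lit 10, nat_lit 10, nat_lit 0, nat_lit 35, nat_lit 32, nat_lit 11], (nat_lit 1082)⟩, ⟨[], [nat_lit 16, nat_lit 5, nat_lit 0, nat_lit 17, nat_lit 36, nat_lit 15, nat_lit 27], (nat_lit 539)⟩],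
  .cy (nat_lit 0) [] [] [] (nat_lit 1107) [],
  .cy (nat_lit 4) [] [] [nat_lit 11, nat_lit 5, nat_lit 2, nat_lit 24, nat_lit 37, nat_lit 15, nat_lit 27] (nat_lit 464) [⟨[], [nat_lit 25, nat_lit 2, nat_lit 0, nat_lit 37, nat_lit 18, nat_lit 15, nat_lit 26], (nat_lit 254)⟩, ⟨[nat_lit 202, nat_lit 522, nat_lit 208, nat_lit 202], [nat_lit 1, nat_lit 1, nat_lit 37, nat_lit 25], (nat_lit 513)⟩],
  .cy (nat_lit 0) [] [] [] (nat_lit 1109) [],
  .cy (nat_lit 7) [] [] [nat_lit 16, nat_lit 5, nat_lit 2, nat_lit 24, nat_lit 18, nat_lit 27] (nat_lit 464) [⟨[nat_lit 215], [nat_lit 5, nat_lit 16, nat_lit 2, nat_lit 34, nat_lit 32, nat_lit 11, nat_lit 27], (nat_lit 850)⟩, ⟨[nat_lit 215, nat_lit 217, nat_lit 215], [nat_lit 26, nat_lit 24, nat_lit 0, nat_lit 36, nat_lit 32, nat_lit 11, nat_lit 26], (nat_lit 689)⟩],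
  .cy (nat_lit 0) [] [] [] (nat_lit 1111) [],
  .cy (nat_lit 8) [] [] [nat_lit 16, nat_lit 5, nat_lit 2, nat_lit 35, nat_lit 27, nat_lit 15, nat_lit 27] (nat_lit 464) [⟨[], [nat_lit 0, nat_lit 18, nat_lit 16, nat_lit 11], (nat_lit 254)⟩, ⟨[nat_lit 204, nat_lit 522, nat_lit 206, nat_lit 203], [nat_lit 5, nat_lit 34, nat_lit 16, nat_lit 11], (nat_lit 529)⟩],
  .cy (nat_lit 0) [] [] [] (nat_lit 1113) [],
  .cy (nat_lit 12) [] [] [nat_lit 36, nat_lit 36, nat_lit 17, nat_lit 26] (nat_lit 464) [⟨[nat_lit 215, nat_lit 217, nat_lit 215], [nat_lit 26, nat_lit 2, nat_lit 11, nat_lit 18], (nat_lit 700)⟩, ⟨[nat_lit 179, nat_lit 176, nat_lit 167, nat_lit 162], [nat_lit 25, nat_lit 0, nat_lit 37, nat_lit 37, nat_lit 27], (nat_lit 870)⟩],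
  .cy (nat_lit 0) [] [] [] (nat_lit 1115) [],
  .cy (nat_lit 24) [] [] [nat_lit 5, nat_lit 0, nat_lit 18, nat_lit 11, nat_lit 26] (nat_lit 464) [⟨[nat_lit 215], [nat_lit 11, nat_lit 2, nat_lit 0, nat_lit 15, nat_lit 24, nat_lit 11, nat_lit 26], (nat_lit 448)⟩, ⟨[nat_lit 217], [nat_lit 17, nat_lit 2, nat_lit 0, nat_lit 35, nat_lit 16, nat_lit 16], (nat_lit 773)⟩],
  .cy (nat_lit 0) [] [] [] (nat_lit 1117) [],
  .cy (nat_lit 26) [] [] [nat_lit 15, nat_lit 2, nat_lit 15, nat_lit 11] (nat_lit 464) [⟨[nat_lit 217], [nat_lit 24, nat_lit 2, nat_lit 25, nat_lit 16, nat_lit 27], (nat_lit 928)⟩, ⟨[nat_lit 215, nat_lit 217], [nat_lit 26, nat_lit 2, nat_lit 18, nat_lit 36, nat_lit 27], (nat_lit 752)⟩],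
  .cy (nat_lit 0) [] [] [] (nat_lit 1119) [],
  .cy (nat_lit 20) [] [] [nat_lit 15, nat_lit 0, nat_lit 33, nat_lit 35, nat_lit 27] (nat_lit 424) [⟨[nat_lit 215, nat_lit 217, nat_lit 215], [nat_lit 17, nat_lit 2, nat_lit 0, nat_lit 33, nat_lit 24, nat_lit 11, nat_lit 27], (nat_lit 617)⟩, ⟨[], [nat_lit 26, nat_lit 24, nat_lit 0, nat_lit 26, nat_lit 15, nat_lit 15, nat_lit 26], (nat_lit 666)⟩],
  .cy (nat_lit 0) [] [] [] (nat_lit 1121) [],
  .cy (nat_lit 21) [] [] [nat_lit 5, nat_lit 0, nat_lit 26, nat_lit 24, nat_lit 11, nat_lit 26] (nat_lit 424) [⟨[nat_lit 217], [nat_lit 5, nat_lit 2, nat_lit 0, nat_lit 37, nat_lit 18, nat_lit 15], (nat_lit 630)⟩, ⟨[nat_lit 215, nat_lit 217], [nat_lit 24, nat_lit 16, nat_lit 0, nat_lit 25, nat_lit 37, nat_lit 11, nat_lit 26], (nat_lit 1103)⟩],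
  .cy (nat_lit 0) [] [] [] (nat_lit 1123) [],
  .cy (nat_lit 27) [] [] [nat_lit 24, nat_lit 1, nat_lit 15, nat_lit 18, nat_lit 16, nat_lit 26] (nat_lit 424) [⟨[nat_lit 217], [nat_lit 11, nat_lit 2, nat_lit 0, nat_lit 32, nat_lit 34, nat_lit 11], (nat_lit 1112)⟩, ⟨[nat_lit 217], [nat_lit 5, nat_lit 2, nat_lit 0, nat_lit 25, nat_lit 33, nat_lit 15, nat_lit 26], (nat_lit 1053)⟩],
  .cy (nat_lit 0) [] [] [] (nat_lit 1125) [],
  .cy (nat_lit 2) [] [] [nat_lit 5, nat_lit 14, nat_lit 33, nat_lit 11] (nat_lit 485) [⟨[], [nat_lit 17], (nat_lit 963)⟩, ⟨[nat_lit 215, nat_lit 217], [nat_lit 16, nat_lit 5, nat_lit 0, nat_lit 33, nat_lit 15, nat_lit 11], (nat_lit 846)⟩],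
  .cy (nat_lit 0) [] [] [] (nat_lit 1127) [],
  .cy (nat_lit 11) [] [] [nat_lit 2, nat_lit 37, nat_lit 24, nat_lit 27] (nat_lit 485) [⟨[], [nat_lit 5, nat_lit 0, nat_lit 32, nat_lit 18, nat_lit 11, nat_lit 27], (nat_lit 963)⟩, ⟨[], [nat_lit 25, nat_lit 16, nat_lit 0, nat_lit 32, nat_lit 32, nat_lit 11, nat_lit 26], (nat_lit 1005)⟩],
  .cy (nat_lit 0) [] [] [] (nat_lit 1129) [],
  .cy (nat_lit 21) [] [] [nat_lit 26, nat_lit 24, nat_lit 0, nat_lit 15, nat_lit 15, nat_lit 11, nat_lit 27] (nat_lit 485) [⟨[nat_lit 217, nat_lit 215], [nat_lit 2, nat_lit 34, nat_lit 16, nat_lit 26], (nat_lit 824)⟩, ⟨[nat_lit 215, nat_lit 217, nat_lit 215], [nat_lit 24, nat_lit 2, nat_lit 0, nat_lit 34, nat_lit 32, nat_lit 16], (nat_lit 1091)⟩],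
  .cy (nat_lit 0) [] [] [] (nat_lit 1131) [],
  .cy (nat_lit 22) [] [] [nat_lit 11, nat_lit 5, nat_lit 2, nat_lit 37, nat_lit 33] (nat_lit 485) [⟨[nat_lit 215, nat_lit 217, nat_lit 215], [nat_lit 1, nat_lit 1, nat_lit 18, nat_lit 15, nat_lit 27], (nat_lit 877)⟩, ⟨[nat_lit 215, nat_lit 217], [nat_lit 34, nat_lit 11, nat_lit 17], (nat_lit 489)⟩],
  .cy (nat_lit 0) [] [] [] (nat_lit 1133) [],
  .cy (nat_lit 27) [] [] [nat_lit 25, nat_lit 16, nat_lit 0, nat_lit 33, nat_lit 36] (nat_lit 485) [⟨[], [nat_lit 15, nat_lit 5, nat_lit 24, nat_lit 36, nat_lit 11], (nat_lit 698)⟩, ⟨[nat_lit 217], [nat_lit 5, nat_lit 2, nat_lit 0, nat_lit 17, nat_lit 36, nat_lit 15, nat_lit 26], (nat_lit 1092)⟩],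
  .cy (nat_lit 0) [] [] [] (nat_lit 1135) [],
  .cy (nat_lit 3) [] [] [nat_lit 11, nat_lit 5, nat_lit 2, nat_lit 35, nat_lit 17, nat_lit 16, nat_lit 27] (nat_lit 345) [⟨[nat_lit 215, nat_lit 217], [nat_lit 16, nat_lit 2, nat_lit 34, nat_lit 17], (nat_lit 752)⟩, ⟨[], [nat_lit 11, nat_lit 2, nat_lit 0, nat_lit 25, nat_lit 37, nat_lit 26], (nat_lit 1021)⟩],
  .cy (nat_lit 0) [] [] [] (nat_lit 1137) [],
  .cy (nat_lit 9) [] [] [nat_lit 26, nat_lit 2, nat_lit 27] (nat_lit 345) [⟨[nat_lit 217, nat_lit 215], [nat_lit 25, nat_lit 14, nat_lit 0, nat_lit 27, nat_lit 36, nat_lit 11, nat_lit 26], (nat_lit 589)⟩, ⟨[nat_lit 217, nat_lit 215], [nat_lit 26, nat_lit 24, nat_lit 0, nat_lit 11, nat_lit 16], (nat_lit 989)⟩],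
  .cy (nat_lit 0) [] [] [] (nat_lit 1139) [],
  .cy (nat_lit 24) [] [] [nat_lit 16, nat_lit 0, nat_lit 34, nat_lit 17, nat_lit 33, nat_lit 27] (nat_lit 345) [⟨[nat_lit 215, nat_lit 217, nat_lit 215], [nat_lit 25, nat_lit 16, nat_lit 0, nat_lit 27, nat_lit 17, nat_lit 27], (nat_lit 641)⟩, ⟨[nat_lit 215], [nat_lit 15, nat_lit 1, nat_lit 37, nat_lit 32, nat_lit 11, nat_lit 27], (nat_lit 787)⟩],
  .cy (nat_lit 0) [] [] [] (nat_lit 1141) [],
  .cy (nat_lit 24) [] [] [nat_lit 5, nat_lit 2, nat_lit 0, nat_lit 37, nat_lit 34] (nat_lit 345) [⟨[nat_lit 217], [nat_lit 1, nat_lit 1, nat_lit 35, nat_lit 16, nat_lit 16, nat_lit 26], (nat_lit 884)⟩, ⟨[nat_lit 215, nat_lit 217, nat_lit 215], [nat_lit 25, nat_lit 0, nat_lit 24, nat_lit 37, nat_lit 15], (nat_lit 555)⟩],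
  .cy (nat_lit 0) [] [] [] (nat_lit 1143) [],
  .cy (nat_lit 6) [] [] [nat_lit 25, nat_lit 14, nat_lit 0, nat_lit 25, nat_lit 35, nat_lit 11] (nat_lit 423) [⟨[nat_lit 215], [nat_lit 25, nat_lit 14, nat_lit 0, nat_lit 37, nat_lit 11, nat_lit 17, nat_lit 26], (nat_lit 1073)⟩, ⟨[nat_lit 217], [nat_lit 25, nat_lit 2, nat_lit 0, nat_lit 37, nat_lit 17], (nat_lit 1133)⟩],
  .cy (nat_lit 0) [] [] [] (nat_lit 1145) [],
  .cy (nat_lit 11) [] [] [nat_lit 1, nat_lit 1, nat_lit 34, nat_lit 32] (nat_lit 423) [⟨[], [nat_lit 10, nat_lit 0, nat_lit 25, nat_lit 37, nat_lit 17], (nat_lit 1030)⟩, ⟨[], [nat_lit 0, nat_lit 2, nat_lit 37, nat_lit 15, nat_lit 27], (nat_lit 812)⟩],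
  .cy (nat_lit 0) [] [] [] (nat_lit 1147) [],
  .cy (nat_lit 15) [] [] [nat_lit 5, nat_lit 2, nat_lit 0, nat_lit 18, nat_lit 16] (nat_lit 423) [⟨[nat_lit 217, nat_lit 215], [nat_lit 11, nat_lit 5, nat_lit 2, nat_lit 34, nat_lit 15, nat_lit 11], (nat_lit 457)⟩, ⟨[nat_lit 215, nat_lit 217], [nat_lit 25, nat_lit 2, nat_lit 0, nat_lit 27, nat_lit 16, nat_lit 26], (nat_lit 588)⟩, ⟨[nat_lit 215, nat_lit 217, nat_lit 215], [nat_lit 5, nat_lit 0, nat_lit 27, nat_lit 36, nat_lit 27], (nat_lit 397)⟩, ⟨[nat_lit 215], [nat_lit 0, nat_lit 35, nat_lit 35, nat_lit 11, nat_lit 26], (nat_lit 635)⟩, ⟨[nat_lit 217, nat_lit 215], [nat_lit 24, nat_lit 2, nat_lit 15, nat_lit 17, nat_lit 11], (nat_lit 1071)⟩, ⟨[nat_lit 217], [nat_lit 11, nat_lit 5, nat_lit 2, nat_lit 37, nat_lit 33, nat_lit 11], (nat_lit 1000)⟩],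
  .cy (nat_lit 0) [] [] [] (nat_lit 1149) [],
  .cy (nat_lit 20) [] [] [nat_lit 24, nat_lit 2, nat_lit 25] (nat_lit 423) [⟨[nat_lit 215], [nat_lit 16, nat_lit 5, nat_lit 2, nat_lit 37, nat_lit 32, nat_lit 11, nat_lit 26], (nat_lit 1014)⟩, ⟨[], [nat_lit 16, nat_lit 5, nat_lit 2, nat_lit 37, nat_lit 32, nat_lit 11], (nat_lit 704)⟩],
  .cy (nat_lit 0) [] [] [] (nat_lit 1151) [],
  .cy (nat_lit 21) [] [] [nat_lit 11, nat_lit 5, nat_lit 2, nat_lit 33, nat_lit 33, nat_lit 26] (nat_lit 472) [⟨[], [nat_lit 11, nat_lit 5, nat_lit 2, nat_lit 34, nat_lit 34], (nat_lit 1001)⟩, ⟨[], [nat_lit 5, nat_lit 2, nat_lit 16, nat_lit 17, nat_lit 15, nat_lit 26], (nat_lit 1000)⟩],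
  .cy (nat_lit 0) [] [] [] (nat_lit 1153) [],
  .cy (nat_lit 23) [] [] [nat_lit 5, nat_lit 16, nat_lit 2, nat_lit 35, nat_lit 26] (nat_lit 472) [⟨[nat_lit 217], [nat_lit 25, nat_lit 0, nat_lit 37, nat_lit 17, nat_lit 11, nat_lit 27], (nat_lit 1002)⟩, ⟨[], [nat_lit 5, nat_lit 2, nat_lit 0, nat_lit 34, nat_lit 26], (nat_lit 453)⟩],
  .cy (nat_lit 0) [] [] [] (nat_lit 1155) [],
  .cy (nat_lit 3) [] [] [nat_lit 1, nat_lit 14, nat_lit 17, nat_lit 36, nat_lit 27] (nat_lit 450) [⟨[nat_lit 215, nat_lit 217, nat_lit 215], [nat_lit 5, nat_lit 0, nat_lit 33, nat_lit 16, nat_lit 11, nat_lit 27], (nat_lit 470)⟩, ⟨[nat_lit 205, nat_lit 523], [nat_lit 0, nat_lit 2, nat_lit 17, nat_lit 11, nat_lit 17, nat_lit 27], (nat_lit 517)⟩],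
  .cy (nat_lit 0) [] [] [] (nat_lit 1157) [],
  .cy (nat_lit 7) [] [] [nat_lit 2, nat_lit 17, nat_lit 17, nat_lit 11] (nat_lit 450) [⟨[nat_lit 217], [nat_lit 11, nat_lit 5, nat_lit 2, nat_lit 35, nat_lit 27], (nat_lit 416)⟩, ⟨[nat_lit 215], [nat_lit 16, nat_lit 2, nat_lit 16, nat_lit 25, nat_lit 26], (nat_lit 391)⟩],
  .cy (nat_lit 21) [] [] [nat_lit 2, nat_lit 32, nat_lit 11, nat_lit 26] (nat_lit 450) [⟨[nat_lit 217], [nat_lit 16, nat_lit 5, nat_lit 2, nat_lit 32, nat_lit 34, nat_lit 27], (nat_lit 344)⟩, ⟨[nat_lit 215, nat_lit 217, nat_lit 215], [nat_lit 15, nat_lit 5, nat_lit 18, nat_lit 18], (nat_lit 597)⟩],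
  .cy (nat_lit 0) [] [] [] (nat_lit 1160) [],
  .cy (nat_lit 5) [] [] [nat_lit 14, nat_lit 0, nat_lit 32, nat_lit 18, nat_lit 11, nat_lit 27] (nat_lit 461) [⟨[nat_lit 215, nat_lit 217], [nat_lit 24, nat_lit 2, nat_lit 37, nat_lit 34, nat_lit 25, nat_lit 27], (nat_lit 986)⟩, ⟨[nat_lit 217, nat_lit 215], [nat_lit 15, nat_lit 5, nat_lit 34, nat_lit 17, nat_lit 27], (nat_lit 1158)⟩],
  .cy (nat_lit 0) [] [] [] (nat_lit 1162) [],
  .cy (nat_lit 6) [] [] [nat_lit 1, nat_lit 5, nat_lit 34, nat_lit 25] (nat_lit 461) [⟨[nat_lit 215, nat_lit 217, nat_lit 215], [nat_lit 5, nat_lit 36, nat_lit 27], (nat_lit 766)⟩, ⟨[nat_lit 217], [nat_lit 1, nat_lit 14, nat_lit 15, nat_lit 35, nat_lit 26], (nat_lit 602)⟩],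
  .cy (nat_lit 0) [] [] [] (nat_lit 1164) [],
  .cy (nat_lit 10) [] [] [nat_lit 24, nat_lit 1, nat_lit 17, nat_lit 17, nat_lit 27] (nat_lit 461) [⟨[], [nat_lit 2, nat_lit 0], (nat_lit 1075)⟩, ⟨[nat_lit 217, nat_lit 215], [nat_lit 16, nat_lit 2, nat_lit 25, nat_lit 37, nat_lit 15], (nat_lit 684)⟩],
  .cy (nat_lit 0) [] [] [] (nat_lit 1166) [],
  .cy (nat_lit 8) [] [] [nat_lit 24, nat_lit 2, nat_lit 33, nat_lit 27] (nat_lit 364) [⟨[nat_lit 215, nat_lit 217, nat_lit 215], [nat_lit 14, nat_lit 15, nat_lit 0, nat_lit 17, nat_lit 34], (nat_lit 484)⟩, ⟨[nat_lit 217, nat_lit 215], [nat_lit 25, nat_lit 2, nat_lit 0, nat_lit 16, nat_lit 18, nat_lit 15], (nat_lit 457)⟩],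
  .cy (nat_lit 0) [] [] [] (nat_lit 1168) [],
  .cy (nat_lit 10) [] [] [nat_lit 26, nat_lit 2, nat_lit 37, nat_lit 32, nat_lit 11, nat_lit 27] (nat_lit 364) [⟨[], [nat_lit 10, nat_lit 0, nat_lit 25, nat_lit 37, nat_lit 15], (nat_lit 676)⟩, ⟨[nat_lit 215], [nat_lit 25, nat_lit 1, nat_lit 17, nat_lit 34, nat_lit 11, nat_lit 26], (nat_lit 777)⟩],
  .cy (nat_lit 0) [] [] [] (nat_lit 1170) [],
  .cy (nat_lit 23) [] [] [nat_lit 5, nat_lit 14, nat_lit 27, nat_lit 18, nat_lit 26] (nat_lit 364) [⟨[nat_lit 215, nat_lit 217, nat_lit 215], [nat_lit 25, nat_lit 2, nat_lit 0, nat_lit 18, nat_lit 16], (nat_lit 895)⟩, ⟨[], [nat_lit 1, nat_lit 14, nat_lit 26, nat_lit 36, nat_lit 27], (nat_lit 675)⟩],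
  .cy (nat_lit 0) [] [] [] (nat_lit 1172) [],
  .cy (nat_lit 6) [] [] [nat_lit 16, nat_lit 5, nat_lit 0, nat_lit 17, nat_lit 11] (nat_lit 392) [⟨[nat_lit 217, nat_lit 215], [nat_lit 1, nat_lit 24, nat_lit 0, nat_lit 25, nat_lit 18, nat_lit 27], (nat_lit 1007)⟩, ⟨[nat_lit 215, nat_lit 217], [nat_lit 2, nat_lit 32, nat_lit 18, nat_lit 11, nat_lit 27], (nat_lit 1164)⟩],
  .cy (nat_lit 0) [] [] [] (nat_lit 1174) [],
  .cy (nat_lit 12) [] [] [nat_lit 5, nat_lit 2, nat_lit 0, nat_lit 32, nat_lit 11] (nat_lit 392) [⟨[nat_lit 217], [nat_lit 25, nat_lit 0, nat_lit 36, nat_lit 16, nat_lit 11, nat_lit 26], (nat_lit 920)⟩, ⟨[nat_lit 217], [nat_lit 18, nat_lit 15, nat_lit 0, nat_lit 32, nat_lit 18, nat_lit 15, nat_lit 27], (nat_lit 879)⟩],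
  .cy (nat_lit 0) [] [] [] (nat_lit 1176) [],
  .cy (nat_lit 20) [] [] [nat_lit 5, nat_lit 16, nat_lit 2, nat_lit 37, nat_lit 16] (nat_lit 392) [⟨[nat_lit 215], [nat_lit 5, nat_lit 24, nat_lit 33, nat_lit 15, nat_lit 27], (nat_lit 437)⟩, ⟨[nat_lit 167, nat_lit 164], [nat_lit 15, nat_lit 1, nat_lit 16, nat_lit 24], (nat_lit 469)⟩],
  .cy (nat_lit 0) [] [] [] (nat_lit 1178) [],
  .cy (nat_lit 26) [] [] [nat_lit 16, nat_lit 2, nat_lit 24, nat_lit 18, nat_lit 16, nat_lit 27] (nat_lit 392) [⟨[nat_lit 215], [nat_lit 26, nat_lit 2, nat_lit 34, nat_lit 32, nat_lit 11, nat_lit 27], (nat_lit 731)⟩, ⟨[nat_lit 217, nat_lit 215], [nat_lit 26, nat_lit 24, nat_lit 0, nat_lit 26, nat_lit 17, nat_lit 15], (nat_lit 408)⟩],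
  .cy (nat_lit 0) [] [] [] (nat_lit 1180) [],
  .cy (nat_lit 27) [] [] [nat_lit 24, nat_lit 2, nat_lit 0, nat_lit 35, nat_lit 27, nat_lit 15] (nat_lit 392) [⟨[nat_lit 215], [nat_lit 25, nat_lit 14, nat_lit 0, nat_lit 24, nat_lit 37, nat_lit 27], (nat_lit 563)⟩, ⟨[nat_lit 215, nat_lit 217], [nat_lit 14, nat_lit 35, nat_lit 35, nat_lit 26], (nat_lit 820)⟩],
  .cy (nat_lit 0) [] [] [] (nat_lit 1182) [],
  .cy (nat_lit 27) [] [] [nat_lit 1, nat_lit 1, nat_lit 24, nat_lit 33, nat_lit 15, nat_lit 27] (nat_lit 392) [⟨[nat_lit 215, nat_lit 217], [nat_lit 14, nat_lit 0, nat_lit 34, nat_lit 15, nat_lit 11, nat_lit 26], (nat_lit 686)⟩, ⟨[nat_lit 217], [nat_lit 24, nat_lit 0, nat_lit 35, nat_lit 35, nat_lit 11, nat_lit 27], (nat_lit 1040)⟩],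
  .cy (nat_lit 0) [] [] [] (nat_lit 1184) [],
  .cy (nat_lit 3) [] [] [nat_lit 25, nat_lit 2, nat_lit 0, nat_lit 24, nat_lit 36, nat_lit 11] (nat_lit 475) [⟨[], [nat_lit 16, nat_lit 0, nat_lit 26, nat_lit 15, nat_lit 15, nat_lit 27], (nat_lit 327)⟩, ⟨[nat_lit 215], [nat_lit 24, nat_lit 2, nat_lit 33, nat_lit 37, nat_lit 26], (nat_lit 530)⟩],
  .cy (nat_lit 5) [] [] [nat_lit 16, nat_lit 5, nat_lit 2, nat_lit 26, nat_lit 17, nat_lit 15, nat_lit 27] (nat_lit 475) [⟨[nat_lit 215], [nat_lit 5, nat_lit 2, nat_lit 0, nat_lit 32, nat_lit 34, nat_lit 11], (nat_lit 765)⟩, ⟨[nat_lit 215, nat_lit 217], [nat_lit 25, nat_lit 1, nat_lit 24, nat_lit 15, nat_lit 27], (nat_lit 392)⟩],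
  .cy (nat_lit 0) [] [] [] (nat_lit 1187) [],
  .cy (nat_lit 7) [] [] [nat_lit 24, nat_lit 0, nat_lit 33, nat_lit 34, nat_lit 27] (nat_lit 475) [⟨[nat_lit 215], [nat_lit 11, nat_lit 2, nat_lit 0, nat_lit 26, nat_lit 36], (nat_lit 894)⟩, ⟨[nat_lit 217, nat_lit 215], [nat_lit 26, nat_lit 2, nat_lit 0, nat_lit 15, nat_lit 26], (nat_lit 442)⟩],
  .cy (nat_lit 0) [] [] [] (nat_lit 1189) [],
  .cy (nat_lit 12) [] [] [nat_lit 17, nat_lit 24, nat_lit 0, nat_lit 33, nat_lit 25] (nat_lit 475) [⟨[nat_lit 217], [nat_lit 24, nat_lit 2, nat_lit 25, nat_lit 11], (nat_lit 535)⟩, ⟨[nat_lit 215, nat_lit 217, nat_lit 215], [nat_lit 16, nat_lit 2, nat_lit 17, nat_lit 17], (nat_lit 1136)⟩],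
  .cy (nat_lit 0) [] [] [] (nat_lit 1191) [],
  .cy (nat_lit 23) [] [] [nat_lit 1, nat_lit 5, nat_lit 35, nat_lit 35, nat_lit 11, nat_lit 26] (nat_lit 475) [⟨[], [nat_lit 10, nat_lit 10, nat_lit 0, nat_lit 37, nat_lit 11, nat_lit 17], (nat_lit 703)⟩, ⟨[], [nat_lit 14, nat_lit 15, nat_lit 0, nat_lit 24, nat_lit 17], (nat_lit 267)⟩],
  .cy (nat_lit 0) [] [] [] (nat_lit 1193) [],
  .cy (nat_lit 7) [] [] [nat_lit 10, nat_lit 0, nat_lit 24, nat_lit 37, nat_lit 15] (nat_lit 363) [⟨[nat_lit 215, nat_lit 217, nat_lit 215], [nat_lit 24, nat_lit 15, nat_lit 0, nat_lit 16, nat_lit 11, nat_lit 27], (nat_lit 647)⟩, ⟨[], [nat_lit 25, nat_lit 16, nat_lit 0, nat_lit 32, nat_lit 15, nat_lit 26], (nat_lit 730)⟩],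
  .cy (nat_lit 0) [] [] [] (nat_lit 1195) [],
  .cy (nat_lit 20) [] [] [nat_lit 1, nat_lit 14, nat_lit 32, nat_lit 34] (nat_lit 363) [⟨[nat_lit 217, nat_lit 215], [nat_lit 25, nat_lit 16, nat_lit 0, nat_lit 27, nat_lit 25], (nat_lit 590)⟩, ⟨[nat_lit 215], [nat_lit 25, nat_lit 0, nat_lit 37, nat_lit 33, nat_lit 27], (nat_lit 738)⟩],
  .cy (nat_lit 0) [] [] [] (nat_lit 1197) [],
  .cy (nat_lit 22) [] [] [nat_lit 15, nat_lit 5, nat_lit 36, nat_lit 16, nat_lit 27] (nat_lit 363) [⟨[nat_lit 217, nat_lit 215], [nat_lit 1, nat_lit 33, nat_lit 16, nat_lit 11], (nat_lit 1141)⟩, ⟨[], [nat_lit 5, nat_lit 0, nat_lit 25, nat_lit 37, nat_lit 15, nat_lit 26], (nat_lit 574)⟩],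
  .cy (nat_lit 0) [] [] [] (nat_lit 1199) [],
  .cy (nat_lit 1) [] [] [nat_lit 5, nat_lit 0, nat_lit 37, nat_lit 33] (nat_lit 494) [⟨[nat_lit 215, nat_lit 217], [nat_lit 25, nat_lit 2, nat_lit 0, nat_lit 36], (nat_lit 439)⟩, ⟨[nat_lit 206, nat_lit 522, nat_lit 209], [nat_lit 5, nat_lit 0, nat_lit 26, nat_lit 15], (nat_lit 527)⟩],
  .cy (nat_lit 0) [] [] [] (nat_lit 1201) [],
  .cy (nat_lit 2) [] [] [nat_lit 15, nat_lit 0, nat_lit 15, nat_lit 24, nat_lit 11] (nat_lit 494) [⟨[nat_lit 215], [nat_lit 25, nat_lit 2, nat_lit 0, nat_lit 15], (nat_lit 536)⟩, ⟨[nat_lit 217], [nat_lit 14, nat_lit 0, nat_lit 15, nat_lit 18, nat_lit 16, nat_lit 27], (nat_lit 433)⟩],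
  .cy (nat_lit 0) [] [] [] (nat_lit 1203) [],
  .cy (nat_lit 8) [] [] [nat_lit 16, nat_lit 2, nat_lit 24, nat_lit 36, nat_lit 27] (nat_lit 494) [⟨[nat_lit 217, nat_lit 215], [nat_lit 1, nat_lit 11], (nat_lit 859)⟩, ⟨[nat_lit 215], [nat_lit 25, nat_lit 2, nat_lit 0, nat_lit 25, nat_lit 18, nat_lit 27], (nat_lit 423)⟩],
  .cy (nat_lit 0) [] [] [] (nat_lit 1205) [],
  .cy (nat_lit 10) [] [] [nat_lit 16, nat_lit 5, nat_lit 0, nat_lit 36, nat_lit 25, nat_lit 11] (nat_lit 494) [⟨[nat_lit 215], [nat_lit 16, nat_lit 2, nat_lit 36, nat_lit 25, nat_lit 26], (nat_lit 957)⟩, ⟨[nat_lit 215], [nat_lit 24, nat_lit 1, nat_lit 34, nat_lit 25, nat_lit 26], (nat_lit 1104)⟩],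
  .cy (nat_lit 0) [] [] [] (nat_lit 1207) [],
  .cy (nat_lit 20) [] [] [nat_lit 0, nat_lit 2, nat_lit 24, nat_lit 15] (nat_lit 494) [⟨[nat_lit 215], [nat_lit 26, nat_lit 2, nat_lit 0, nat_lit 25, nat_lit 27], (nat_lit 1087)⟩, ⟨[nat_lit 217, nat_lit 215], [nat_lit 15, nat_lit 0, nat_lit 27, nat_lit 36, nat_lit 27], (nat_lit 495)⟩],
  .cy (nat_lit 0) [] [] [] (nat_lit 1209) [],
  .cy (nat_lit 25) [] [] [nat_lit 5, nat_lit 2, nat_lit 18, nat_lit 15, nat_lit 11] (nat_lit 494) [⟨[nat_lit 215], [nat_lit 1, nat_lit 1, nat_lit 32, nat_lit 18, nat_lit 27], (nat_lit 343)⟩, ⟨[nat_lit 522, nat_lit 201], [nat_lit 16, nat_lit 0, nat_lit 37, nat_lit 11, nat_lit 15, nat_lit 26], (nat_lit 525)⟩],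
  .cy (nat_lit 11) [] [] [nat_lit 15, nat_lit 1, nat_lit 11, nat_lit 36, nat_lit 27] (nat_lit 458) [⟨[nat_lit 217, nat_lit 215], [nat_lit 25, nat_lit 0, nat_lit 35, nat_lit 35, nat_lit 26], (nat_lit 390)⟩, ⟨[nat_lit 215], [nat_lit 25, nat_lit 2, nat_lit 0, nat_lit 18, nat_lit 18], (nat_lit 640)⟩],
  .cy (nat_lit 0) [] [] [] (nat_lit 1212) [],
  .cy (nat_lit 11) [] [] [nat_lit 24, nat_lit 1, nat_lit 16, nat_lit 37] (nat_lit 458) [⟨[nat_lit 215, nat_lit 217], [nat_lit 25, nat_lit 2, nat_lit 0, nat_lit 18, nat_lit 35, nat_lit 11, nat_lit 27], (nat_lit 407)⟩, ⟨[nat_lit 215, nat_lit 217, nat_lit 215], [nat_lit 1, nat_lit 1, nat_lit 17, nat_lit 34, nat_lit 11], (nat_lit 916)⟩],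
  .cy (nat_lit 0) [] [] [] (nat_lit 1214) [],
  .cy (nat_lit 24) [] [] [nat_lit 5, nat_lit 14, nat_lit 15, nat_lit 32, nat_lit 26] (nat_lit 458) [⟨[nat_lit 217], [nat_lit 24, nat_lit 15, nat_lit 0, nat_lit 37, nat_lit 34, nat_lit 11, nat_lit 26], (nat_lit 1159)⟩, ⟨[nat_lit 217], [nat_lit 15, nat_lit 5, nat_lit 36, nat_lit 11], (nat_lit 459)⟩],
  .cy (nat_lit 0) [] [] [] (nat_lit 1216) [],
  .cy (nat_lit 27) [] [] [nat_lit 26, nat_lit 2, nat_lit 32, nat_lit 34, nat_lit 16, nat_lit 27] (nat_lit 458) [⟨[nat_lit 215], [nat_lit 18, nat_lit 15, nat_lit 0, nat_lit 37, nat_lit 24, nat_lit 15, nat_lit 27], (nat_lit 1114)⟩, ⟨[nat_lit 217, nat_lit 215], [nat_lit 24, nat_lit 2, nat_lit 34, nat_lit 16, nat_lit 27], (nat_lit 459)⟩],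
  .cy (nat_lit 0) [] [] [] (nat_lit 1218) [],
  .cy (nat_lit 1) [] [] [nat_lit 5, nat_lit 2, nat_lit 0, nat_lit 33, nat_lit 15, nat_lit 26] (nat_lit 399) [⟨[nat_lit 217], [nat_lit 1, nat_lit 24, nat_lit 18, nat_lit 26], (nat_lit 814)⟩, ⟨[], [nat_lit 17, nat_lit 2, nat_lit 0, nat_lit 36, nat_lit 16, nat_lit 11, nat_lit 26], (nat_lit 388)⟩],
  .cy (nat_lit 0) [] [] [] (nat_lit 1220) [],
  .cy (nat_lit 2) [] [] [nat_lit 1, nat_lit 24, nat_lit 0, nat_lit 15, nat_lit 15, nat_lit 27] (nat_lit 399) [⟨[nat_lit 217], [nat_lit 17, nat_lit 2, nat_lit 0, nat_lit 37, nat_lit 34, nat_lit 25, nat_lit 26], (nat_lit 1198)⟩, ⟨[nat_lit 215, nat_lit 217, nat_lit 215], [nat_lit 24, nat_lit 15, nat_lit 0, nat_lit 34, nat_lit 25, nat_lit 26], (nat_lit 928)⟩],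
  .cy (nat_lit 0) [] [] [] (nat_lit 1222) [],
  .cy (nat_lit 4) [] [] [nat_lit 1, nat_lit 24, nat_lit 0, nat_lit 34, nat_lit 34, nat_lit 11] (nat_lit 399) [⟨[nat_lit 215, nat_lit 217, nat_lit 215], [nat_lit 25, nat_lit 14, nat_lit 0, nat_lit 24, nat_lit 35, nat_lit 26], (nat_lit 1163)⟩, ⟨[nat_lit 217, nat_lit 215], [nat_lit 26, nat_lit 2, nat_lit 37, nat_lit 34, nat_lit 11], (nat_lit 917)⟩],
  .cy (nat_lit 0) [] [] [] (nat_lit 1224) [],
  .cy (nat_lit 7) [] [] [nat_lit 15, nat_lit 1, nat_lit 18, nat_lit 16] (nat_lit 399) [⟨[nat_lit 215, nat_lit 217], [nat_lit 15, nat_lit 5, nat_lit 34, nat_lit 11, nat_lit 27], (nat_lit 934)⟩, ⟨[], [nat_lit 16, nat_lit 0, nat_lit 18, nat_lit 26], (nat_lit 1161)⟩],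
  .cy (nat_lit 0) [] [] [] (nat_lit 1226) [],
  .cy (nat_lit 9) [] [] [nat_lit 5, nat_lit 16, nat_lit 2, nat_lit 37, nat_lit 34, nat_lit 25, nat_lit 27] (nat_lit 399) [⟨[nat_lit 215], [nat_lit 16, nat_lit 0, nat_lit 35, nat_lit 33, nat_lit 27], (nat_lit 472)⟩, ⟨[nat_lit 217], [nat_lit 26, nat_lit 2, nat_lit 0, nat_lit 27, nat_lit 25], (nat_lit 674)⟩],
  .cy (nat_lit 0) [] [] [] (nat_lit 1228) [],
  .cy (nat_lit 11) [] [] [nat_lit 16, nat_lit 2, nat_lit 36, nat_lit 18, nat_lit 26] (nat_lit 399) [⟨[], [nat_lit 25, nat_lit 2, nat_lit 0, nat_lit 32, nat_lit 18], (nat_lit 806)⟩, ⟨[nat_lit 215, nat_lit 217], [nat_lit 25, nat_lit 2, nat_lit 0, nat_lit 25, nat_lit 37, nat_lit 15, nat_lit 27], (nat_lit 1119)⟩],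
  .cy (nat_lit 0) [] [] [] (nat_lit 1230) [],
  .cy (nat_lit 20) [] [] [nat_lit 1, nat_lit 5, nat_lit 37, nat_lit 15] (nat_lit 399) [⟨[nat_lit 217], [nat_lit 1, nat_lit 33, nat_lit 11, nat_lit 27], (nat_lit 1176)⟩, ⟨[nat_lit 217], [nat_lit 1, nat_lit 14, nat_lit 15, nat_lit 15, nat_lit 15, nat_lit 27], (nat_lit 898)⟩],
  .cy (nat_lit 0) [] [] [] (nat_lit 1232) [],
  .cy (nat_lit 22) [] [] [nat_lit 1, nat_lit 27, nat_lit 17] (nat_lit 399) [⟨[nat_lit 217, nat_lit 215], [nat_lit 5, nat_lit 0, nat_lit 33, nat_lit 15, nat_lit 11, nat_lit 27], (nat_lit 447)⟩, ⟨[nat_lit 217, nat_lit 215], [nat_lit 1, nat_lit 24, nat_lit 0, nat_lit 17, nat_lit 36, nat_lit 15, nat_lit 26], (nat_lit 866)⟩],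
  .cy (nat_lit 0) [] [] [] (nat_lit 1234) [],
  .cy (nat_lit 22) [] [] [nat_lit 24, nat_lit 16, nat_lit 0, nat_lit 27, nat_lit 37, nat_lit 26] (nat_lit 399) [⟨[nat_lit 215, nat_lit 217], [nat_lit 1, nat_lit 1, nat_lit 36, nat_lit 17, nat_lit 27], (nat_lit 560)⟩, ⟨[], [nat_lit 25, nat_lit 0, nat_lit 36, nat_lit 33, nat_lit 27], (nat_lit 420)⟩],
  .cy (nat_lit 0) [] [] [] (nat_lit 1236) [],
  .cy (nat_lit 23) [] [] [nat_lit 17, nat_lit 24, nat_lit 0, nat_lit 26, nat_lit 34, nat_lit 11, nat_lit 26] (nat_lit 399) [⟨[], [nat_lit 5, nat_lit 2, nat_lit 0, nat_lit 16, nat_lit 16], (nat_lit 418)⟩, ⟨[nat_lit 217, nat_lit 215], [nat_lit 26, nat_lit 2, nat_lit 32, nat_lit 15], (nat_lit 431)⟩],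
  .cy (nat_lit 0) [] [] [] (nat_lit 1238) [],
  .cy (nat_lit 25) [] [] [nat_lit 25, nat_lit 16, nat_lit 0, nat_lit 25, nat_lit 37, nat_lit 17, nat_lit 26] (nat_lit 399) [⟨[nat_lit 217], [nat_lit 5, nat_lit 16, nat_lit 2, nat_lit 24, nat_lit 24, nat_lit 26], (nat_lit 713)⟩, ⟨[nat_lit 215, nat_lit 217], [nat_lit 5, nat_lit 17, nat_lit 11, nat_lit 17, nat_lit 27], (nat_lit 420)⟩],
  .cy (nat_lit 0) [] [] [] (nat_lit 1240) [],
  .cy (nat_lit 25) [] [] [nat_lit 1, nat_lit 24, nat_lit 0, nat_lit 24, nat_lit 33, nat_lit 15, nat_lit 26] (nat_lit 399) [⟨[], [nat_lit 16, nat_lit 0, nat_lit 35, nat_lit 36, nat_lit 11], (nat_lit 411)⟩, ⟨[nat_lit 217], [nat_lit 17, nat_lit 2, nat_lit 0, nat_lit 15, nat_lit 17, nat_lit 11], (nat_lit 866)⟩],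
  .cy (nat_lit 0) [] [] [] (nat_lit 1242) [],
  .cy (nat_lit 1) [] [] [nat_lit 1, nat_lit 24, nat_lit 0, nat_lit 15, nat_lit 15] (nat_lit 474) [⟨[], [nat_lit 10, nat_lit 10, nat_lit 0, nat_lit 15, nat_lit 26], (nat_lit 1188)⟩, ⟨[], [nat_lit 25, nat_lit 2, nat_lit 0, nat_lit 33, nat_lit 24, nat_lit 27], (nat_lit 1055)⟩],
  .cy (nat_lit 0) [] [] [] (nat_lit 1244) [],
  .cy (nat_lit 2) [] [] [nat_lit 16, nat_lit 2, nat_lit 15, nat_lit 27, nat_lit 16, nat_lit 27] (nat_lit 474) [⟨[], [nat_lit 35, nat_lit 35, nat_lit 11], (nat_lit 1188)⟩, ⟨[nat_lit 217], [nat_lit 24, nat_lit 1, nat_lit 33, nat_lit 11, nat_lit 16], (nat_lit 920)⟩],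
  .cy (nat_lit 0) [] [] [] (nat_lit 1246) [],
  .cy (nat_lit 7) [] [] [nat_lit 18, nat_lit 15, nat_lit 0, nat_lit 27, nat_lit 24, nat_lit 11, nat_lit 27] (nat_lit 474) [⟨[nat_lit 215, nat_lit 217, nat_lit 215], [nat_lit 15, nat_lit 1, nat_lit 17, nat_lit 37, nat_lit 27], (nat_lit 1055)⟩, ⟨[], [nat_lit 36, nat_lit 18, nat_lit 15, nat_lit 26], (nat_lit 1244)⟩],
  .cy (nat_lit 0) [] [] [] (nat_lit 1248) [],
  .cy (nat_lit 9) [] [] [nat_lit 16, nat_lit 2, nat_lit 15, nat_lit 15, nat_lit 15, nat_lit 27] (nat_lit 474) [⟨[], [nat_lit 2, nat_lit 27, nat_lit 18], (nat_lit 480)⟩, ⟨[nat_lit 215, nat_lit 217, nat_lit 215], [nat_lit 5, nat_lit 16, nat_lit 2, nat_lit 34, nat_lit 24, nat_lit 15, nat_lit 26], (nat_lit 1155)⟩],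
  .cy (nat_lit 0) [] [] [] (nat_lit 1250) [],
  .cy (nat_lit 11) [] [] [nat_lit 5, nat_lit 16, nat_lit 2, nat_lit 26, nat_lit 24, nat_lit 11, nat_lit 26] (nat_lit 474) [⟨[nat_lit 215], [nat_lit 18, nat_lit 15, nat_lit 0, nat_lit 34, nat_lit 17, nat_lit 11, nat_lit 27], (nat_lit 1195)⟩, ⟨[nat_lit 217], [nat_lit 18, nat_lit 15, nat_lit 0, nat_lit 26, nat_lit 24, nat_lit 26], (nat_lit 539)⟩],
  .cy (nat_lit 0) [] [] [] (nat_lit 1252) [],
  .cy (nat_lit 26) [] [] [nat_lit 17, nat_lit 2, nat_lit 0, nat_lit 18, nat_lit 16, nat_lit 11] (nat_lit 474) [⟨[], [nat_lit 5, nat_lit 2, nat_lit 33, nat_lit 33, nat_lit 27], (nat_lit 861)⟩, ⟨[nat_lit 215, nat_lit 217, nat_lit 215], [nat_lit 1, nat_lit 24, nat_lit 0, nat_lit 32, nat_lit 37, nat_lit 15, nat_lit 26], (nat_lit 864)⟩],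
  .cy (nat_lit 0) [] [] [] (nat_lit 1254) [],
  .cy (nat_lit 3) [] [] [nat_lit 2, nat_lit 0, nat_lit 15, nat_lit 17, nat_lit 11, nat_lit 26] (nat_lit 433) [⟨[], [nat_lit 2, nat_lit 0, nat_lit 15, nat_lit 17], (nat_lit 863)⟩, ⟨[nat_lit 215, nat_lit 217], [nat_lit 24, nat_lit 15, nat_lit 0, nat_lit 34, nat_lit 32, nat_lit 11], (nat_lit 649)⟩],
  .cy (nat_lit 0) [] [] [] (nat_lit 1256) [],
  .cy (nat_lit 8) [] [] [nat_lit 1, nat_lit 1, nat_lit 25, nat_lit 26] (nat_lit 433) [⟨[], [nat_lit 10, nat_lit 10, nat_lit 0, nat_lit 27, nat_lit 24, nat_lit 27], (nat_lit 1209)⟩, ⟨[nat_lit 215, nat_lit 217, nat_lit 215], [nat_lit 1, nat_lit 1, nat_lit 35, nat_lit 26], (nat_lit 980)⟩],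
  .cy (nat_lit 10) [] [] [nat_lit 17, nat_lit 2, nat_lit 0, nat_lit 37, nat_lit 15, nat_lit 11] (nat_lit 433) [⟨[nat_lit 217, nat_lit 215], [nat_lit 10, nat_lit 10, nat_lit 0, nat_lit 17, nat_lit 15, nat_lit 11], (nat_lit 1175)⟩, ⟨[], [nat_lit 26, nat_lit 24, nat_lit 0, nat_lit 34, nat_lit 25], (nat_lit 1165)⟩],
  .cy (nat_lit 0) [] [] [] (nat_lit 1259) [],
  .cy (nat_lit 20) [] [] [nat_lit 1, nat_lit 14, nat_lit 15, nat_lit 35, nat_lit 26] (nat_lit 433) [⟨[nat_lit 217], [nat_lit 18, nat_lit 15, nat_lit 0, nat_lit 36, nat_lit 32, nat_lit 11, nat_lit 27], (nat_lit 898)⟩, ⟨[nat_lit 215], [nat_lit 5, nat_lit 0, nat_lit 16, nat_lit 37], (nat_lit 1087)⟩],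
  .cy (nat_lit 0) [] [] [] (nat_lit 1261) [],
  .cy (nat_lit 25) [] [] [nat_lit 16, nat_lit 5, nat_lit 0, nat_lit 11, nat_lit 16, nat_lit 26] (nat_lit 433) [⟨[nat_lit 215, nat_lit 217, nat_lit 215], [nat_lit 14, nat_lit 0, nat_lit 17, nat_lit 11, nat_lit 17, nat_lit 27], (nat_lit 411)⟩, ⟨[nat_lit 217], [nat_lit 25, nat_lit 2, nat_lit 0, nat_lit 37, nat_lit 25, nat_lit 27], (nat_lit 325)⟩],
  .cy (nat_lit 0) [] [] [] (nat_lit 1263) [],
  .cy (nat_lit 27) [] [] [nat_lit 1, nat_lit 14, nat_lit 37, nat_lit 17, nat_lit 27] (nat_lit 433) [⟨[nat_lit 217, nat_lit 215], [nat_lit 15, nat_lit 1, nat_lit 37, nat_lit 17], (nat_lit 1259)⟩, ⟨[nat_lit 217, nat_lit 215], [nat_lit 25, nat_lit 0, nat_lit 17, nat_lit 33], (nat_lit 1218)⟩],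
  .cy (nat_lit 0) [] [] [] (nat_lit 1265) [],
  .cy (nat_lit 3) [] [] [nat_lit 2, nat_lit 0, nat_lit 25, nat_lit 37, nat_lit 11, nat_lit 26] (nat_lit 440) [⟨[nat_lit 215, nat_lit 217, nat_lit 215], [nat_lit 1, nat_lit 1, nat_lit 35, nat_lit 11, nat_lit 27], (nat_lit 1247)⟩, ⟨[], [nat_lit 25, nat_lit 2, nat_lit 0, nat_lit 24, nat_lit 18, nat_lit 18, nat_lit 26], (nat_lit 923)⟩],
  .cy (nat_lit 0) [] [] [] (nat_lit 1267) [],
  .cy (nat_lit 6) [] [] [nat_lit 1, nat_lit 5, nat_lit 33, nat_lit 35, nat_lit 11] (nat_lit 440) [⟨[nat_lit 215, nat_lit 217], [nat_lit 5, nat_lit 2, nat_lit 0, nat_lit 32, nat_lit 11], (nat_lit 856)⟩, ⟨[nat_lit 215, nat_lit 217], [nat_lit 1, nat_lit 5, nat_lit 35, nat_lit 36], (nat_lit 1101)⟩],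
  .cy (nat_lit 0) [] [] [] (nat_lit 1269) [],
  .cy (nat_lit 9) [] [] [nat_lit 26, nat_lit 2, nat_lit 0, nat_lit 36, nat_lit 33, nat_lit 24, nat_lit 26] (nat_lit 440) [⟨[nat_lit 215], [nat_lit 1, nat_lit 5, nat_lit 25, nat_lit 15, nat_lit 27], (nat_lit 693)⟩, ⟨[nat_lit 215, nat_lit 217, nat_lit 215], [nat_lit 5, nat_lit 17, nat_lit 37, nat_lit 26], (nat_lit 485)⟩],
  .cy (nat_lit 0) [] [] [] (nat_lit 1271) [],
  .cy (nat_lit 12) [] [] [nat_lit 25, nat_lit 0, nat_lit 35, nat_lit 26] (nat_lit 440) [⟨[nat_lit 217], [nat_lit 16, nat_lit 5, nat_lit 2, nat_lit 17, nat_lit 34, nat_lit 11, nat_lit 26], (nat_lit 988)⟩, ⟨[], [nat_lit 25, nat_lit 2, nat_lit 0, nat_lit 35, nat_lit 17, nat_lit 16, nat_lit 26], (nat_lit 794)⟩],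
  .cy (nat_lit 0) [] [] [] (nat_lit 1273) [],
  .cy (nat_lit 20) [] [] [nat_lit 1, nat_lit 24, nat_lit 0, nat_lit 35, nat_lit 27, nat_lit 15, nat_lit 26] (nat_lit 440) [⟨[nat_lit 215, nat_lit 217], [nat_lit 10, nat_lit 10, nat_lit 0, nat_lit 16, nat_lit 32, nat_lit 15], (nat_lit 1023)⟩, ⟨[], [nat_lit 15, nat_lit 0, nat_lit 25, nat_lit 37], (nat_lit 225)⟩],
  .cy (nat_lit 0) [] [] [] (nat_lit 1275) [],
  .cy (nat_lit 22) [] [] [nat_lit 16, nat_lit 0, nat_lit 17, nat_lit 11] (nat_lit 440) [⟨[nat_lit 217], [nat_lit 1, nat_lit 24, nat_lit 0, nat_lit 15, nat_lit 24, nat_lit 11], (nat_lit 980)⟩, ⟨[nat_lit 215, nat_lit 217], [nat_lit 16, nat_lit 5, nat_lit 0, nat_lit 37, nat_lit 11, nat_lit 15], (nat_lit 857)⟩],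
  .cy (nat_lit 0) [] [] [] (nat_lit 1277) [],
  .cy (nat_lit 6) [] [] [nat_lit 24, nat_lit 2, nat_lit 27, nat_lit 25, nat_lit 26] (nat_lit 425) [⟨[nat_lit 217, nat_lit 215], [nat_lit 15, nat_lit 1, nat_lit 37, nat_lit 17, nat_lit 26], (nat_lit 1126)⟩, ⟨[nat_lit 217], [nat_lit 24, nat_lit 2, nat_lit 36, nat_lit 25], (nat_lit 802)⟩],
  .cy (nat_lit 0) [] [] [] (nat_lit 1279) [],
  .cy (nat_lit 7) [] [] [nat_lit 15, nat_lit 2, nat_lit 15, nat_lit 24, nat_lit 11, nat_lit 26] (nat_lit 425) [⟨[nat_lit 217, nat_lit 215], [nat_lit 25, nat_lit 16, nat_lit 0, nat_lit 37, nat_lit 15, nat_lit 27], (nat_lit 1126)⟩, ⟨[], [nat_lit 14, nat_lit 15, nat_lit 0, nat_lit 11, nat_lit 18, nat_lit 27], (nat_lit 720)⟩],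
  .cy (nat_lit 0) [] [] [] (nat_lit 1281) [],
  .cy (nat_lit 9) [] [] [nat_lit 16, nat_lit 0, nat_lit 37, nat_lit 15, nat_lit 11, nat_lit 27] (nat_lit 425) [⟨[nat_lit 215], [nat_lit 1, nat_lit 25, nat_lit 33, nat_lit 15, nat_lit 27], (nat_lit 465)⟩, ⟨[nat_lit 215, nat_lit 217], [nat_lit 5, nat_lit 14, nat_lit 15, nat_lit 24, nat_lit 11], (nat_lit 1082)⟩],
  .cy (nat_lit 0) [] [] [] (nat_lit 1283) [],
  .cy (nat_lit 24) [] [] [nat_lit 16, nat_lit 5, nat_lit 2, nat_lit 15, nat_lit 15, nat_lit 11, nat_lit 27] (nat_lit 425) [⟨[nat_lit 215], [nat_lit 10, nat_lit 0, nat_lit 25, nat_lit 15, nat_lit 27], (nat_lit 736)⟩, ⟨[nat_lit 217, nat_lit 215], [nat_lit 16, nat_lit 2, nat_lit 26, nat_lit 34, nat_lit 26], (nat_lit 1270)⟩],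
  .cy (nat_lit 0) [] [] [] (nat_lit 1285) [],
  .cy (nat_lit 26) [] [] [nat_lit 24, nat_lit 1, nat_lit 25, nat_lit 16, nat_lit 27] (nat_lit 425) [⟨[nat_lit 217, nat_lit 215], [nat_lit 17, nat_lit 2, nat_lit 0, nat_lit 34, nat_lit 17], (nat_lit 911)⟩, ⟨[nat_lit 217, nat_lit 215], [nat_lit 25, nat_lit 16, nat_lit 0, nat_lit 33, nat_lit 35, nat_lit 11, nat_lit 27], (nat_lit 752)⟩],
  .cy (nat_lit 0) [] [] [] (nat_lit 1287) [],
  .cy (nat_lit 26) [] [] [nat_lit 5, nat_lit 0, nat_lit 32, nat_lit 37, nat_lit 15, nat_lit 27] (nat_lit 425) [⟨[nat_lit 217], [nat_lit 24, nat_lit 16, nat_lit 0, nat_lit 24, nat_lit 37, nat_lit 27], (nat_lit 959)⟩, ⟨[nat_lit 215, nat_lit 217], [nat_lit 14, nat_lit 0, nat_lit 18, nat_lit 26], (nat_lit 909)⟩],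
  .cy (nat_lit 0) [] [] [] (nat_lit 1289) [],
  .cy (nat_lit 27) [] [] [nat_lit 15, nat_lit 0, nat_lit 25, nat_lit 11] (nat_lit 425) [⟨[nat_lit 217], [nat_lit 1, nat_lit 5, nat_lit 37, nat_lit 24, nat_lit 26], (nat_lit 1024)⟩, ⟨[nat_lit 217], [nat_lit 5, nat_lit 0, nat_lit 35, nat_lit 35], (nat_lit 406)⟩],
  .cy (nat_lit 0) [] [] [] (nat_lit 1291) [],
  .cy (nat_lit 1) [] [] [nat_lit 0, nat_lit 2, nat_lit 37, nat_lit 32, nat_lit 11] (nat_lit 302) [⟨[nat_lit 215], [nat_lit 16, nat_lit 5, nat_lit 2, nat_lit 37, nat_lit 34], (nat_lit 935)⟩, ⟨[nat_lit 215, nat_lit 217], [nat_lit 14, nat_lit 17, nat_lit 11, nat_lit 26], (nat_lit 798)⟩]]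
noncomputable def P1492 : List Pf := [.cy (nat_lit 0) [] [] [] (nat_lit 1293) [],
  .cy (nat_lit 2) [] [] [nat_lit 16, nat_lit 5, nat_lit 0, nat_lit 34, nat_lit 11, nat_lit 26] (nat_lit 302) [⟨[nat_lit 215, nat_lit 217, nat_lit 215], [nat_lit 16, nat_lit 0, nat_lit 32, nat_lit 37, nat_lit 15], (nat_lit 1205)⟩, ⟨[nat_lit 215, nat_lit 217, nat_lit 215], [nat_lit 25, nat_lit 14, nat_lit 0, nat_lit 36, nat_lit 18, nat_lit 15], (nat_lit 840)⟩],
  .cy (nat_lit 0) [] [] [] (nat_lit 1295) [],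
  .cy (nat_lit 9) [] [] [nat_lit 24, nat_lit 0, nat_lit 35, nat_lit 35, nat_lit 11, nat_lit 27] (nat_lit 302) [⟨[nat_lit 217], [nat_lit 5, nat_lit 2, nat_lit 17, nat_lit 11, nat_lit 17], (nat_lit 1122)⟩, ⟨[], [nat_lit 11, nat_lit 2, nat_lit 0, nat_lit 16, nat_lit 16], (nat_lit 1293)⟩],
  .cy (nat_lit 0) [] [] [] (nat_lit 1297) [],
  .cy (nat_lit 10) [] [] [nat_lit 15, nat_lit 1, nat_lit 15, nat_lit 32, nat_lit 11, nat_lit 26] (nat_lit 302) [⟨[nat_lit 217, nat_lit 215], [nat_lit 5, nat_lit 14, nat_lit 15, nat_lit 17, nat_lit 11, nat_lit 26], (nat_lit 1266)⟩, ⟨[nat_lit 215], [nat_lit 16, nat_lit 5, nat_lit 0, nat_lit 16, nat_lit 17, nat_lit 15], (nat_lit 567)⟩],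
  .cy (nat_lit 0) [] [] [] (nat_lit 1299) [],
  .cy (nat_lit 20) [] [] [nat_lit 5, nat_lit 2, nat_lit 0, nat_lit 33, nat_lit 34] (nat_lit 302) [⟨[nat_lit 215], [nat_lit 0, nat_lit 2, nat_lit 33, nat_lit 16, nat_lit 11], (nat_lit 1213)⟩, ⟨[nat_lit 215, nat_lit 217], [nat_lit 0, nat_lit 27, nat_lit 17, nat_lit 26], (nat_lit 484)⟩],
  .cy (nat_lit 0) [] [] [] (nat_lit 1301) [],
  .cy (nat_lit 22) [] [] [nat_lit 24, nat_lit 2, nat_lit 0, nat_lit 34, nat_lit 32, nat_lit 16, nat_lit 26] (nat_lit 302) [⟨[nat_lit 215, nat_lit 217], [nat_lit 5, nat_lit 0, nat_lit 33, nat_lit 16, nat_lit 27], (nat_lit 587)⟩, ⟨[nat_lit 215], [nat_lit 1, nat_lit 1, nat_lit 33, nat_lit 18, nat_lit 11], (nat_lit 1089)⟩],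
  .cy (nat_lit 0) [] [] [] (nat_lit 1303) [],
  .cy (nat_lit 24) [] [] [nat_lit 1, nat_lit 1, nat_lit 32, nat_lit 32, nat_lit 11, nat_lit 26] (nat_lit 302) [⟨[nat_lit 215, nat_lit 217], [nat_lit 0, nat_lit 34, nat_lit 24, nat_lit 17, nat_lit 26], (nat_lit 915)⟩, ⟨[], [nat_lit 25, nat_lit 0, nat_lit 25, nat_lit 11, nat_lit 27], (nat_lit 1092)⟩],
  .cy (nat_lit 0) [] [] [] (nat_lit 1305) [],
  .cy (nat_lit 5) [] [] [nat_lit 1, nat_lit 15, nat_lit 27, nat_lit 16] (nat_lit 347) [⟨[nat_lit 215, nat_lit 217, nat_lit 215], [nat_lit 10, nat_lit 10, nat_lit 0, nat_lit 16, nat_lit 16, nat_lit 11], (nat_lit 988)⟩, ⟨[], [nat_lit 25, nat_lit 14, nat_lit 0, nat_lit 34, nat_lit 17, nat_lit 33, nat_lit 26], (nat_lit 1130)⟩],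
  .cy (nat_lit 0) [] [] [] (nat_lit 1307) [],
  .cy (nat_lit 8) [] [] [nat_lit 24, nat_lit 2, nat_lit 11, nat_lit 36, nat_lit 26] (nat_lit 347) [⟨[nat_lit 215], [nat_lit 15, nat_lit 5, nat_lit 36, nat_lit 33, nat_lit 24, nat_lit 27], (nat_lit 340)⟩, ⟨[nat_lit 217], [nat_lit 34, nat_lit 15, nat_lit 11, nat_lit 27], (nat_lit 990)⟩],
  .cy (nat_lit 0) [] [] [] (nat_lit 1309) [],
  .cy (nat_lit 11) [] [] [nat_lit 26, nat_lit 2, nat_lit 27, nat_lit 17, nat_lit 26] (nat_lit 347) [⟨[nat_lit 215], [nat_lit 24, nat_lit 2, nat_lit 0, nat_lit 24, nat_lit 16], (nat_lit 315)⟩, ⟨[], [nat_lit 32, nat_lit 27, nat_lit 17, nat_lit 26], (nat_lit 549)⟩],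
  .cy (nat_lit 0) [] [] [] (nat_lit 1311) [],
  .cy (nat_lit 6) [] [] [nat_lit 24, nat_lit 1, nat_lit 17, nat_lit 15, nat_lit 11, nat_lit 26] (nat_lit 289) [⟨[nat_lit 215, nat_lit 217, nat_lit 215], [nat_lit 24, nat_lit 1, nat_lit 16, nat_lit 18, nat_lit 15, nat_lit 27], (nat_lit 909)⟩, ⟨[nat_lit 217], [nat_lit 5, nat_lit 2, nat_lit 18, nat_lit 11, nat_lit 15], (nat_lit 1130)⟩],
  .cy (nat_lit 0) [] [] [] (nat_lit 1313) [],
  .cy (nat_lit 8) [] [] [nat_lit 25, nat_lit 2, nat_lit 0, nat_lit 25, nat_lit 16, nat_lit 27] (nat_lit 289) [⟨[nat_lit 217], [nat_lit 0, nat_lit 37, nat_lit 16, nat_lit 27], (nat_lit 1304)⟩, ⟨[], [nat_lit 1, nat_lit 5, nat_lit 24, nat_lit 37, nat_lit 17], (nat_lit 737)⟩],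
  .cy (nat_lit 0) [] [] [] (nat_lit 1315) [],
  .cy (nat_lit 12) [] [] [nat_lit 17, nat_lit 2, nat_lit 0, nat_lit 33, nat_lit 33, nat_lit 26] (nat_lit 289) [⟨[], [nat_lit 5, nat_lit 14, nat_lit 36, nat_lit 17, nat_lit 27], (nat_lit 318)⟩, ⟨[nat_lit 217, nat_lit 215], [nat_lit 26, nat_lit 16, nat_lit 27], (nat_lit 625)⟩],
  .cy (nat_lit 0) [] [] [] (nat_lit 1317) [],
  .cy (nat_lit 20) [] [] [nat_lit 24, nat_lit 2, nat_lit 33, nat_lit 35] (nat_lit 289) [⟨[], [nat_lit 5, nat_lit 2, nat_lit 37, nat_lit 11, nat_lit 15, nat_lit 27], (nat_lit 852)⟩, ⟨[nat_lit 215, nat_lit 217], [nat_lit 10, nat_lit 0, nat_lit 27, nat_lit 36], (nat_lit 440)⟩],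
  .cy (nat_lit 0) [] [] [] (nat_lit 1319) [],
  .cy (nat_lit 1) [] [] [nat_lit 26, nat_lit 2, nat_lit 33, nat_lit 24, nat_lit 11, nat_lit 26] (nat_lit 292) [⟨[nat_lit 217], [nat_lit 25, nat_lit 14, nat_lit 0, nat_lit 33, nat_lit 11, nat_lit 16], (nat_lit 754)⟩, ⟨[nat_lit 215], [nat_lit 24, nat_lit 2, nat_lit 0, nat_lit 34, nat_lit 16], (nat_lit 848)⟩],
  .cy (nat_lit 0) [] [] [] (nat_lit 1321) [],
  .cy (nat_lit 7) [] [] [nat_lit 15, nat_lit 35, nat_lit 11, nat_lit 27] (nat_lit 292) [⟨[], [nat_lit 2, nat_lit 18, nat_lit 36, nat_lit 11, nat_lit 27], (nat_lit 1263)⟩, ⟨[nat_lit 217, nat_lit 215], [nat_lit 25, nat_lit 14, nat_lit 0, nat_lit 36, nat_lit 32, nat_lit 26], (nat_lit 1164)⟩],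
  .cy (nat_lit 0) [] [] [] (nat_lit 1323) [],
  .cy (nat_lit 8) [] [] [nat_lit 0, nat_lit 37, nat_lit 27] (nat_lit 292) [⟨[], [nat_lit 5, nat_lit 0, nat_lit 37, nat_lit 18, nat_lit 27], (nat_lit 1043)⟩, ⟨[nat_lit 215, nat_lit 217], [nat_lit 15, nat_lit 2, nat_lit 34, nat_lit 16, nat_lit 11, nat_lit 27], (nat_lit 1319)⟩],
  .cy (nat_lit 0) [] [] [] (nat_lit 1325) [],
  .cy (nat_lit 11) [] [] [nat_lit 1, nat_lit 5, nat_lit 15, nat_lit 18, nat_lit 16] (nat_lit 292) [⟨[nat_lit 215, nat_lit 217, nat_lit 215], [nat_lit 5, nat_lit 0, nat_lit 34, nat_lit 34, nat_lit 11, nat_lit 27], (nat_lit 1066)⟩, ⟨[nat_lit 217, nat_lit 215], [nat_lit 25, nat_lit 2, nat_lit 0, nat_lit 34, nat_lit 11, nat_lit 17, nat_lit 26], (nat_lit 1159)⟩],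
  .cy (nat_lit 0) [] [] [] (nat_lit 1327) [],
  .cy (nat_lit 11) [] [] [nat_lit 14, nat_lit 0, nat_lit 25, nat_lit 16, nat_lit 26] (nat_lit 292) [⟨[], [nat_lit 16, nat_lit 2, nat_lit 25, nat_lit 18, nat_lit 16, nat_lit 26], (nat_lit 670)⟩, ⟨[nat_lit 217, nat_lit 215], [nat_lit 14, nat_lit 11, nat_lit 36], (nat_lit 432)⟩],
  .cy (nat_lit 0) [] [] [] (nat_lit 1329) [],
  .cy (nat_lit 25) [] [] [nat_lit 0, nat_lit 2, nat_lit 37, nat_lit 17, nat_lit 11] (nat_lit 292) [⟨[nat_lit 215], [nat_lit 16, nat_lit 0, nat_lit 37, nat_lit 33, nat_lit 26], (nat_lit 728)⟩, ⟨[nat_lit 217, nat_lit 215], [nat_lit 15, nat_lit 5, nat_lit 34, nat_lit 17, nat_lit 11, nat_lit 26], (nat_lit 946)⟩],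
  .cy (nat_lit 0) [] [] [] (nat_lit 1331) [],
  .cy (nat_lit 2) [] [] [nat_lit 2, nat_lit 0, nat_lit 27, nat_lit 37, nat_lit 26] (nat_lit 462) [⟨[nat_lit 217], [nat_lit 17, nat_lit 2, nat_lit 0, nat_lit 33, nat_lit 36], (nat_lit 325)⟩, ⟨[nat_lit 215, nat_lit 217, nat_lit 215], [nat_lit 11, nat_lit 5, nat_lit 2, nat_lit 17, nat_lit 24, nat_lit 27], (nat_lit 448)⟩],
  .cy (nat_lit 0) [] [] [] (nat_lit 1333) [],
  .cy (nat_lit 4) [] [] [nat_lit 16, nat_lit 0, nat_lit 37, nat_lit 34] (nat_lit 462) [⟨[nat_lit 217], [nat_lit 17, nat_lit 24, nat_lit 0, nat_lit 16, nat_lit 18, nat_lit 11], (nat_lit 325)⟩, ⟨[nat_lit 217], [nat_lit 17, nat_lit 24, nat_lit 0, nat_lit 25, nat_lit 36, nat_lit 27], (nat_lit 1219)⟩],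
  .cy (nat_lit 0) [] [] [] (nat_lit 1335) [],
  .cy (nat_lit 9) [] [] [nat_lit 1, nat_lit 24, nat_lit 0, nat_lit 35, nat_lit 33, nat_lit 11, nat_lit 27] (nat_lit 462) [⟨[nat_lit 217], [nat_lit 16, nat_lit 5, nat_lit 2, nat_lit 37, nat_lit 24, nat_lit 11, nat_lit 27], (nat_lit 1296)⟩, ⟨[nat_lit 215, nat_lit 217, nat_lit 215], [nat_lit 2, nat_lit 0, nat_lit 34, nat_lit 16, nat_lit 11, nat_lit 26], (nat_lit 1096)⟩],
  .cy (nat_lit 0) [] [] [] (nat_lit 1337) [],
  .cy (nat_lit 10) [] [] [nat_lit 10, nat_lit 10, nat_lit 0, nat_lit 24, nat_lit 36] (nat_lit 462) [⟨[nat_lit 215, nat_lit 217, nat_lit 215], [nat_lit 14, nat_lit 0, nat_lit 17, nat_lit 24, nat_lit 27], (nat_lit 678)⟩, ⟨[nat_lit 217], [nat_lit 18, nat_lit 15, nat_lit 0, nat_lit 15, nat_lit 24, nat_lit 11, nat_lit 27], (nat_lit 1220)⟩],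
  .cy (nat_lit 0) [] [] [] (nat_lit 1339) [],
  .cy (nat_lit 20) [] [] [nat_lit 1, nat_lit 24, nat_lit 37, nat_lit 15, nat_lit 27] (nat_lit 462) [⟨[], [nat_lit 24, nat_lit 2, nat_lit 37, nat_lit 18], (nat_lit 1203)⟩, ⟨[nat_lit 215, nat_lit 217], [nat_lit 11, nat_lit 5, nat_lit 2], (nat_lit 748)⟩],
  .cy (nat_lit 0) [] [] [] (nat_lit 1341) [],
  .cy (nat_lit 24) [] [] [nat_lit 25, nat_lit 14, nat_lit 0, nat_lit 35, nat_lit 17, nat_lit 27] (nat_lit 462) [⟨[nat_lit 217], [nat_lit 24, nat_lit 2, nat_lit 15, nat_lit 18, nat_lit 26], (nat_lit 905)⟩, ⟨[nat_lit 203, nat_lit 205, nat_lit 522, nat_lit 201], [nat_lit 10, nat_lit 10, nat_lit 0, nat_lit 24, nat_lit 17, nat_lit 11, nat_lit 26], (nat_lit 822)⟩],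
  .cy (nat_lit 0) [] [] [] (nat_lit 1343) [],
  .cy (nat_lit 6) [] [] [nat_lit 24, nat_lit 0, nat_lit 25, nat_lit 36, nat_lit 15] (nat_lit 421) [⟨[nat_lit 215, nat_lit 217, nat_lit 215], [nat_lit 25, nat_lit 16, nat_lit 0, nat_lit 18, nat_lit 18, nat_lit 27], (nat_lit 639)⟩, ⟨[], [nat_lit 5, nat_lit 14, nat_lit 32, nat_lit 34], (nat_lit 543)⟩],
  .cy (nat_lit 0) [] [] [] (nat_lit 1345) [],
  .cy (nat_lit 7) [] [] [nat_lit 15, nat_lit 2, nat_lit 37, nat_lit 32, nat_lit 11] (nat_lit 421) [⟨[nat_lit 217, nat_lit 215], [nat_lit 15, nat_lit 2, nat_lit 25, nat_lit 37, nat_lit 27], (nat_lit 993)⟩, ⟨[nat_lit 215, nat_lit 217, nat_lit 215], [nat_lit 2, nat_lit 0, nat_lit 33, nat_lit 36, nat_lit 27], (nat_lit 488)⟩],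
  .cy (nat_lit 0) [] [] [] (nat_lit 1347) [],
  .cy (nat_lit 11) [] [] [nat_lit 5, nat_lit 33, nat_lit 37, nat_lit 26] (nat_lit 421) [⟨[nat_lit 215], [nat_lit 1, nat_lit 1, nat_lit 27, nat_lit 25, nat_lit 27], (nat_lit 445)⟩, ⟨[nat_lit 215, nat_lit 217], [nat_lit 26, nat_lit 2, nat_lit 0, nat_lit 17, nat_lit 11, nat_lit 26], (nat_lit 619)⟩],
  .cy (nat_lit 0) [] [] [] (nat_lit 1349) [],
  .cy (nat_lit 21) [] [] [nat_lit 24, nat_lit 16, nat_lit 0, nat_lit 35, nat_lit 36] (nat_lit 421) [⟨[nat_lit 217, nat_lit 215], [nat_lit 2, nat_lit 34, nat_lit 15, nat_lit 11, nat_lit 27], (nat_lit 622)⟩, ⟨[nat_lit 217], [nat_lit 16, nat_lit 5, nat_lit 2, nat_lit 15, nat_lit 11], (nat_lit 364)⟩],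
  .cy (nat_lit 0) [] [] [] (nat_lit 1351) [],
  .cy (nat_lit 22) [] [] [nat_lit 16, nat_lit 2, nat_lit 33, nat_lit 33] (nat_lit 421) [⟨[nat_lit 215, nat_lit 217], [nat_lit 24, nat_lit 16, nat_lit 0, nat_lit 18, nat_lit 27], (nat_lit 698)⟩, ⟨[nat_lit 215, nat_lit 217], [nat_lit 16, nat_lit 5, nat_lit 0, nat_lit 25, nat_lit 15, nat_lit 11, nat_lit 27], (nat_lit 1225)⟩],
  .cy (nat_lit 0) [] [] [] (nat_lit 1353) [],
  .cy (nat_lit 22) [] [] [nat_lit 16, nat_lit 0, nat_lit 15, nat_lit 32, nat_lit 26] (nat_lit 421) [⟨[], [nat_lit 2, nat_lit 37, nat_lit 33, nat_lit 11], (nat_lit 1102)⟩, ⟨[], [nat_lit 5, nat_lit 16, nat_lit 2, nat_lit 36, nat_lit 18, nat_lit 15, nat_lit 27], (nat_lit 866)⟩],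
  .cy (nat_lit 0) [] [] [] (nat_lit 1355) [],
  .cy (nat_lit 23) [] [] [nat_lit 5, nat_lit 14, nat_lit 34, nat_lit 11, nat_lit 17, nat_lit 26] (nat_lit 421) [⟨[nat_lit 215, nat_lit 217], [nat_lit 2, nat_lit 26, nat_lit 34, nat_lit 11, nat_lit 26], (nat_lit 740)⟩, ⟨[nat_lit 215, nat_lit 217, nat_lit 215], [nat_lit 1, nat_lit 14, nat_lit 15, nat_lit 32, nat_lit 11, nat_lit 27], (nat_lit 299)⟩],
  .cy (nat_lit 0) [] [] [] (nat_lit 1357) [],
  .cy (nat_lit 1) [] [] [nat_lit 35, nat_lit 36, nat_lit 26] (nat_lit 476) [⟨[nat_lit 215], [nat_lit 14, nat_lit 0, nat_lit 24, nat_lit 37], (nat_lit 359)⟩, ⟨[nat_lit 215, nat_lit 217, nat_lit 215], [nat_lit 15, nat_lit 2, nat_lit 35, nat_lit 17, nat_lit 26], (nat_lit 652)⟩],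
  .cy (nat_lit 0) [] [] [] (nat_lit 1359) [],
  .cy (nat_lit 8) [] [] [nat_lit 16, nat_lit 0, nat_lit 36, nat_lit 33, nat_lit 11, nat_lit 27] (nat_lit 476) [⟨[nat_lit 215, nat_lit 217, nat_lit 215], [nat_lit 0, nat_lit 37, nat_lit 11], (nat_lit 968)⟩, ⟨[nat_lit 215], [nat_lit 25, nat_lit 0, nat_lit 34, nat_lit 32, nat_lit 16, nat_lit 27], (nat_lit 984)⟩],
  .cy (nat_lit 0) [] [] [] (nat_lit 1361) [],
  .cy (nat_lit 12) [] [] [nat_lit 15, nat_lit 1, nat_lit 35, nat_lit 32] (nat_lit 476) [⟨[nat_lit 215, nat_lit 217], [nat_lit 24, nat_lit 1, nat_lit 11, nat_lit 16, nat_lit 26], (nat_lit 496)⟩, ⟨[nat_lit 217, nat_lit 215], [nat_lit 2, nat_lit 34, nat_lit 17, nat_lit 33, nat_lit 27], (nat_lit 668)⟩],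
  .cy (nat_lit 0) [] [] [] (nat_lit 1363) [],
  .cy (nat_lit 21) [] [] [nat_lit 15, nat_lit 0, nat_lit 24, nat_lit 36, nat_lit 11] (nat_lit 476) [⟨[nat_lit 215, nat_lit 217], [nat_lit 15, nat_lit 2, nat_lit 32, nat_lit 34, nat_lit 26], (nat_lit 1147)⟩, ⟨[], [nat_lit 26, nat_lit 2, nat_lit 0, nat_lit 18, nat_lit 16, nat_lit 26], (nat_lit 967)⟩],
  .cy (nat_lit 0) [] [] [] (nat_lit 1365) [],
  .cy (nat_lit 23) [] [] [nat_lit 0, nat_lit 27, nat_lit 18, nat_lit 11, nat_lit 27] (nat_lit 480) [⟨[nat_lit 217], [nat_lit 24, nat_lit 1, nat_lit 36, nat_lit 24, nat_lit 15, nat_lit 27], (nat_lit 846)⟩, ⟨[nat_lit 215, nat_lit 217], [nat_lit 16, nat_lit 5, nat_lit 0, nat_lit 17, nat_lit 15], (nat_lit 1352)⟩],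
  .cy (nat_lit 0) [] [] [] (nat_lit 1367) [],
  .cy (nat_lit 3) [] [] [nat_lit 1, nat_lit 27, nat_lit 37] (nat_lit 496) [⟨[nat_lit 217, nat_lit 215], [nat_lit 16, nat_lit 2, nat_lit 35, nat_lit 35, nat_lit 11, nat_lit 27], (nat_lit 829)⟩, ⟨[nat_lit 215, nat_lit 217], [nat_lit 11, nat_lit 2, nat_lit 0, nat_lit 25, nat_lit 33, nat_lit 15, nat_lit 26], (nat_lit 1087)⟩],
  .cy (nat_lit 0) [] [] [] (nat_lit 1369) [],
  .cy (nat_lit 8) [] [] [nat_lit 0, nat_lit 2, nat_lit 25, nat_lit 36] (nat_lit 496) [⟨[nat_lit 215, nat_lit 217, nat_lit 215], [nat_lit 5, nat_lit 2, nat_lit 0, nat_lit 25, nat_lit 37, nat_lit 15, nat_lit 26], (nat_lit 664)⟩, ⟨[], [nat_lit 16, nat_lit 2, nat_lit 36, nat_lit 36, nat_lit 17], (nat_lit 757)⟩],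
  .cy (nat_lit 0) [] [] [] (nat_lit 1371) [],
  .cy (nat_lit 9) [] [] [nat_lit 26, nat_lit 2, nat_lit 0, nat_lit 27, nat_lit 25, nat_lit 26] (nat_lit 496) [⟨[nat_lit 215], [nat_lit 16, nat_lit 16, nat_lit 26], (nat_lit 1344)⟩, ⟨[nat_lit 217], [nat_lit 18, nat_lit 15, nat_lit 0, nat_lit 34, nat_lit 24, nat_lit 17, nat_lit 26], (nat_lit 547)⟩],
  .cy (nat_lit 0) [] [] [] (nat_lit 1373) [],
  .cy (nat_lit 10) [] [] [nat_lit 10, nat_lit 10, nat_lit 0, nat_lit 18, nat_lit 35, nat_lit 15, nat_lit 26] (nat_lit 496) [⟨[nat_lit 215], [nat_lit 2, nat_lit 27, nat_lit 18, nat_lit 11, nat_lit 27], (nat_lit 311)⟩, ⟨[], [nat_lit 15, nat_lit 1, nat_lit 36, nat_lit 33, nat_lit 24, nat_lit 27], (nat_lit 322)⟩],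
  .cy (nat_lit 0) [] [] [] (nat_lit 1375) [],
  .cy (nat_lit 11) [] [] [nat_lit 14, nat_lit 15, nat_lit 0, nat_lit 25, nat_lit 18, nat_lit 18, nat_lit 27] (nat_lit 496) [⟨[nat_lit 215, nat_lit 217], [nat_lit 11, nat_lit 16], (nat_lit 1249)⟩, ⟨[], [nat_lit 16, nat_lit 5, nat_lit 0, nat_lit 16, nat_lit 16, nat_lit 11, nat_lit 26], (nat_lit 1245)⟩],
  .cy (nat_lit 0) [] [] [] (nat_lit 1377) [],
  .cy (nat_lit 11) [] [] [nat_lit 16, nat_lit 0, nat_lit 25, nat_lit 11, nat_lit 26] (nat_lit 496) [⟨[nat_lit 217, nat_lit 215], [nat_lit 24, nat_lit 0, nat_lit 15, nat_lit 11, nat_lit 26], (nat_lit 829)⟩, ⟨[nat_lit 217], [nat_lit 14, nat_lit 18], (nat_lit 665)⟩],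
  .cy (nat_lit 0) [] [] [] (nat_lit 1379) [],
  .cy (nat_lit 12) [] [] [nat_lit 25, nat_lit 1, nat_lit 15, nat_lit 11] (nat_lit 496) [⟨[nat_lit 215], [nat_lit 5, nat_lit 14, nat_lit 18, nat_lit 36, nat_lit 27], (nat_lit 514)⟩, ⟨[nat_lit 203, nat_lit 201, nat_lit 522, nat_lit 201], [nat_lit 16, nat_lit 5, nat_lit 0, nat_lit 32, nat_lit 36, nat_lit 16, nat_lit 27], (nat_lit 517)⟩],
  .cy (nat_lit 0) [] [] [] (nat_lit 1381) [],
  .cy (nat_lit 21) [] [] [nat_lit 1, nat_lit 24, nat_lit 0, nat_lit 16, nat_lit 18, nat_lit 11, nat_lit 27] (nat_lit 496) [⟨[nat_lit 215, nat_lit 217, nat_lit 215], [nat_lit 24, nat_lit 1, nat_lit 37, nat_lit 11, nat_lit 17, nat_lit 26], (nat_lit 496)⟩, ⟨[nat_lit 217, nat_lit 215], [nat_lit 26, nat_lit 24, nat_lit 0, nat_lit 33, nat_lit 18, nat_lit 26], (nat_lit 977)⟩],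
  .cy (nat_lit 0) [] [] [] (nat_lit 1383) [],
  .cy (nat_lit 26) [] [] [nat_lit 1, nat_lit 24, nat_lit 0, nat_lit 15, nat_lit 32, nat_lit 27] (nat_lit 496) [⟨[nat_lit 215], [nat_lit 24, nat_lit 2, nat_lit 25, nat_lit 11], (nat_lit 748)⟩, ⟨[], [nat_lit 15, nat_lit 0, nat_lit 37, nat_lit 15, nat_lit 11, nat_lit 26], (nat_lit 1242)⟩],
  .cy (nat_lit 0) [] [] [] (nat_lit 1385) [],
  .cy (nat_lit 1) [] [] [nat_lit 14, nat_lit 0, nat_lit 37, nat_lit 37, nat_lit 11, nat_lit 27] (nat_lit 441) [⟨[], [nat_lit 10, nat_lit 10, nat_lit 0, nat_lit 37, nat_lit 11, nat_lit 17, nat_lit 26], (nat_lit 1272)⟩, ⟨[nat_lit 217, nat_lit 215], [nat_lit 1, nat_lit 5, nat_lit 27, nat_lit 18, nat_lit 27], (nat_lit 1380)⟩],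
  .cy (nat_lit 0) [] [] [] (nat_lit 1387) [],
  .cy (nat_lit 3) [] [] [nat_lit 18, nat_lit 15, nat_lit 0, nat_lit 36, nat_lit 24, nat_lit 15, nat_lit 26] (nat_lit 441) [⟨[nat_lit 217], [nat_lit 26, nat_lit 2, nat_lit 0, nat_lit 32, nat_lit 18, nat_lit 11], (nat_lit 953)⟩, ⟨[], [nat_lit 0, nat_lit 2, nat_lit 35, nat_lit 35, nat_lit 26], (nat_lit 946)⟩],
  .cy (nat_lit 0) [] [] [] (nat_lit 1389) [],
  .cy (nat_lit 3) [] [] [nat_lit 25, nat_lit 14, nat_lit 0, nat_lit 18, nat_lit 26] (nat_lit 441) [⟨[], [nat_lit 10, nat_lit 10, nat_lit 0, nat_lit 17, nat_lit 17, nat_lit 15, nat_lit 27], (nat_lit 1350)⟩, ⟨[nat_lit 217, nat_lit 215], [nat_lit 5, nat_lit 14, nat_lit 16, nat_lit 25], (nat_lit 681)⟩],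
  .cy (nat_lit 0) [] [] [] (nat_lit 1391) [],
  .cy (nat_lit 7) [] [] [nat_lit 15, nat_lit 5, nat_lit 34, nat_lit 34, nat_lit 15] (nat_lit 441) [⟨[], [nat_lit 5, nat_lit 0, nat_lit 33, nat_lit 24, nat_lit 27], (nat_lit 946)⟩, ⟨[], [nat_lit 32, nat_lit 18, nat_lit 27], (nat_lit 1389)⟩],
  .cy (nat_lit 0) [] [] [] (nat_lit 1393) [],
  .cy (nat_lit 8) [] [] [nat_lit 24, nat_lit 15, nat_lit 0, nat_lit 36, nat_lit 32, nat_lit 11, nat_lit 26] (nat_lit 441) [⟨[nat_lit 217, nat_lit 215], [nat_lit 1, nat_lit 1, nat_lit 36, nat_lit 15], (nat_lit 711)⟩, ⟨[], [nat_lit 25, nat_lit 1, nat_lit 33, nat_lit 37, nat_lit 11], (nat_lit 311)⟩],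
  .cy (nat_lit 0) [] [] [] (nat_lit 1395) [],
  .cy (nat_lit 12) [] [] [nat_lit 1, nat_lit 5, nat_lit 11, nat_lit 37, nat_lit 26] (nat_lit 441) [⟨[], [nat_lit 10, nat_lit 10, nat_lit 0, nat_lit 35, nat_lit 33, nat_lit 11, nat_lit 26], (nat_lit 1268)⟩, ⟨[nat_lit 215, nat_lit 217], [nat_lit 0, nat_lit 36, nat_lit 18, nat_lit 26], (nat_lit 814)⟩],
  .cy (nat_lit 0) [] [] [] (nat_lit 1397) [],
  .cy (nat_lit 20) [] [] [nat_lit 5, nat_lit 16, nat_lit 2, nat_lit 33, nat_lit 24, nat_lit 11] (nat_lit 441) [⟨[nat_lit 215, nat_lit 217], [nat_lit 1, nat_lit 14, nat_lit 24], (nat_lit 896)⟩, ⟨[nat_lit 215, nat_lit 217, nat_lit 215], [nat_lit 5, nat_lit 0, nat_lit 26, nat_lit 24, nat_lit 11], (nat_lit 970)⟩],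
  .cy (nat_lit 0) [] [] [] (nat_lit 1399) [],
  .cy (nat_lit 22) [] [] [nat_lit 25, nat_lit 16, nat_lit 0, nat_lit 37, nat_lit 26] (nat_lit 441) [⟨[nat_lit 217], [nat_lit 5, nat_lit 2, nat_lit 0, nat_lit 16, nat_lit 17, nat_lit 15, nat_lit 26], (nat_lit 877)⟩, ⟨[nat_lit 215, nat_lit 217], [nat_lit 15, nat_lit 5, nat_lit 16, nat_lit 18, nat_lit 11, nat_lit 26], (nat_lit 833)⟩],
  .cy (nat_lit 0) [] [] [] (nat_lit 1401) [],
  .cy (nat_lit 5) [] [] [nat_lit 11, nat_lit 5, nat_lit 2, nat_lit 24, nat_lit 36] (nat_lit 478) [⟨[nat_lit 215, nat_lit 217, nat_lit 215], [nat_lit 1, nat_lit 14, nat_lit 36, nat_lit 17, nat_lit 27], (nat_lit 1116)⟩, ⟨[nat_lit 217], [nat_lit 10, nat_lit 10, nat_lit 0, nat_lit 35, nat_lit 33, nat_lit 27], (nat_lit 929)⟩],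
  .cy (nat_lit 0) [] [] [] (nat_lit 1403) [],
  .cy (nat_lit 7) [] [] [nat_lit 1, nat_lit 24, nat_lit 0, nat_lit 18] (nat_lit 478) [⟨[], [nat_lit 11, nat_lit 5, nat_lit 2, nat_lit 17, nat_lit 17], (nat_lit 456)⟩, ⟨[], [nat_lit 26, nat_lit 2, nat_lit 24], (nat_lit 1070)⟩],
  .cy (nat_lit 0) [] [] [] (nat_lit 1405) [],
  .cy (nat_lit 6) [] [] [nat_lit 5, nat_lit 16, nat_lit 2, nat_lit 32, nat_lit 37, nat_lit 15, nat_lit 27] (nat_lit 411) [⟨[nat_lit 217, nat_lit 215], [nat_lit 1, nat_lit 14, nat_lit 18, nat_lit 35, nat_lit 11, nat_lit 26], (nat_lit 714)⟩, ⟨[nat_lit 217, nat_lit 215], [nat_lit 1, nat_lit 24, nat_lit 0, nat_lit 37, nat_lit 15, nat_lit 11, nat_lit 27], (nat_lit 794)⟩],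
  .cy (nat_lit 0) [] [] [] (nat_lit 1407) [],
  .cy (nat_lit 20) [] [] [nat_lit 18, nat_lit 15, nat_lit 0, nat_lit 24, nat_lit 35, nat_lit 26] (nat_lit 411) [⟨[nat_lit 217, nat_lit 215], [nat_lit 14, nat_lit 15, nat_lit 0, nat_lit 11, nat_lit 26], (nat_lit 1120)⟩, ⟨[nat_lit 215], [nat_lit 16, nat_lit 0, nat_lit 33], (nat_lit 1333)⟩],
  .cy (nat_lit 0) [] [] [] (nat_lit 1409) [],
  .cy (nat_lit 22) [] [] [nat_lit 26, nat_lit 2, nat_lit 0, nat_lit 36, nat_lit 16, nat_lit 11] (nat_lit 411) [⟨[nat_lit 217], [nat_lit 2, nat_lit 15, nat_lit 35, nat_lit 11], (nat_lit 905)⟩, ⟨[nat_lit 522, nat_lit 206, nat_lit 523], [nat_lit 16, nat_lit 5, nat_lit 0, nat_lit 36, nat_lit 32, nat_lit 11, nat_lit 27], (nat_lit 525)⟩],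
  .cy (nat_lit 0) [] [] [] (nat_lit 1411) [],
  .cy (nat_lit 11) [] [] [nat_lit 1, nat_lit 5, nat_lit 36] (nat_lit 398) [⟨[nat_lit 217, nat_lit 215], [nat_lit 25, nat_lit 1, nat_lit 36, nat_lit 33, nat_lit 27], (nat_lit 698)⟩, ⟨[nat_lit 217], [nat_lit 18, nat_lit 15, nat_lit 0, nat_lit 15, nat_lit 35, nat_lit 27], (nat_lit 760)⟩],
  .cy (nat_lit 0) [] [] [] (nat_lit 1413) [],
  .cy (nat_lit 22) [] [] [nat_lit 14, nat_lit 15, nat_lit 0, nat_lit 27, nat_lit 15, nat_lit 11] (nat_lit 398) [⟨[nat_lit 215], [nat_lit 24, nat_lit 1, nat_lit 24, nat_lit 16, nat_lit 27], (nat_lit 1015)⟩, ⟨[nat_lit 215, nat_lit 217, nat_lit 215], [nat_lit 11, nat_lit 5, nat_lit 2, nat_lit 36, nat_lit 25, nat_lit 11, nat_lit 27], (nat_lit 676)⟩],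
  .cy (nat_lit 0) [] [] [] (nat_lit 1415) [],
  .cy (nat_lit 4) [] [] [nat_lit 1, nat_lit 24, nat_lit 18, nat_lit 27] (nat_lit 394) [⟨[nat_lit 217], [nat_lit 5, nat_lit 14, nat_lit 15, nat_lit 26], (nat_lit 797)⟩, ⟨[], [nat_lit 1, nat_lit 24, nat_lit 0, nat_lit 32, nat_lit 11], (nat_lit 1113)⟩],
  .cy (nat_lit 0) [] [] [] (nat_lit 1417) [],
  .cy (nat_lit 9) [] [] [nat_lit 0, nat_lit 24, nat_lit 33, nat_lit 15] (nat_lit 394) [⟨[nat_lit 215], [nat_lit 11, nat_lit 2, nat_lit 0, nat_lit 15, nat_lit 24, nat_lit 11], (nat_lit 455)⟩, ⟨[nat_lit 217, nat_lit 215], [nat_lit 15, nat_lit 0, nat_lit 32, nat_lit 37, nat_lit 15, nat_lit 26], (nat_lit 580)⟩],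
  .cy (nat_lit 0) [] [] [] (nat_lit 1419) [],
  .cy (nat_lit 8) [] [] [nat_lit 11, nat_lit 5, nat_lit 2, nat_lit 37, nat_lit 15, nat_lit 11] (nat_lit 447) [⟨[nat_lit 215, nat_lit 217, nat_lit 215], [nat_lit 25, nat_lit 0, nat_lit 17, nat_lit 25, nat_lit 15, nat_lit 27], (nat_lit 652)⟩, ⟨[nat_lit 215], [nat_lit 16, nat_lit 5, nat_lit 2, nat_lit 36, nat_lit 32, nat_lit 26], (nat_lit 689)⟩],
  .cy (nat_lit 0) [] [] [] (nat_lit 1421) [],
  .cy (nat_lit 11) [] [] [nat_lit 26, nat_lit 2, nat_lit 0, nat_lit 25, nat_lit 35, nat_lit 26] (nat_lit 447) [⟨[nat_lit 217], [nat_lit 25, nat_lit 16, nat_lit 0, nat_lit 26, nat_lit 24, nat_lit 27], (nat_lit 1109)⟩, ⟨[nat_lit 215, nat_lit 217], [nat_lit 17, nat_lit 24, nat_lit 0, nat_lit 25, nat_lit 18, nat_lit 18], (nat_lit 464)⟩],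
  .cy (nat_lit 0) [] [] [] (nat_lit 1423) [],
  .cy (nat_lit 20) [] [] [nat_lit 15, nat_lit 1, nat_lit 36, nat_lit 27] (nat_lit 447) [⟨[nat_lit 217, nat_lit 215], [nat_lit 11, nat_lit 2, nat_lit 0, nat_lit 15, nat_lit 15, nat_lit 15], (nat_lit 241)⟩, ⟨[nat_lit 179, nat_lit 179, nat_lit 161], [nat_lit 24, nat_lit 1, nat_lit 34, nat_lit 11, nat_lit 17, nat_lit 27], (nat_lit 377)⟩],
  .cy (nat_lit 0) [] [] [] (nat_lit 1425) [],
  .cy (nat_lit 21) [] [] [nat_lit 24, nat_lit 1, nat_lit 26, nat_lit 24, nat_lit 11] (nat_lit 447) [⟨[nat_lit 215, nat_lit 217, nat_lit 215], [nat_lit 5, nat_lit 2, nat_lit 0, nat_lit 26, nat_lit 17, nat_lit 15, nat_lit 27], (nat_lit 1304)⟩, ⟨[nat_lit 215, nat_lit 217], [nat_lit 11, nat_lit 2, nat_lit 0, nat_lit 16, nat_lit 11, nat_lit 27], (nat_lit 1092)⟩],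
  .cy (nat_lit 0) [] [] [] (nat_lit 1427) [],
  .cy (nat_lit 22) [] [] [nat_lit 16, nat_lit 5, nat_lit 0, nat_lit 24, nat_lit 35, nat_lit 27] (nat_lit 447) [⟨[nat_lit 215, nat_lit 217, nat_lit 215], [nat_lit 11, nat_lit 2, nat_lit 0, nat_lit 34, nat_lit 26], (nat_lit 1003)⟩, ⟨[nat_lit 215, nat_lit 217], [nat_lit 25, nat_lit 2, nat_lit 0, nat_lit 15, nat_lit 32, nat_lit 26], (nat_lit 686)⟩],
  .cy (nat_lit 0) [] [] [] (nat_lit 1429) [],
  .cy (nat_lit 26) [] [] [nat_lit 11, nat_lit 5, nat_lit 2, nat_lit 24, nat_lit 15, nat_lit 26] (nat_lit 447) [⟨[nat_lit 215, nat_lit 217], [nat_lit 5, nat_lit 24, nat_lit 36, nat_lit 16, nat_lit 27], (nat_lit 483)⟩, ⟨[nat_lit 215], [nat_lit 11, nat_lit 5, nat_lit 2, nat_lit 15, nat_lit 18, nat_lit 11, nat_lit 26], (nat_lit 635)⟩],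
  .cy (nat_lit 0) [] [] [] (nat_lit 1431) [],
  .cy (nat_lit 27) [] [] [nat_lit 14, nat_lit 15, nat_lit 0, nat_lit 24, nat_lit 33, nat_lit 15, nat_lit 26] (nat_lit 447) [⟨[nat_lit 215, nat_lit 217, nat_lit 215], [nat_lit 15, nat_lit 1, nat_lit 35, nat_lit 36, nat_lit 11], (nat_lit 453)⟩, ⟨[nat_lit 215, nat_lit 217], [nat_lit 26, nat_lit 2, nat_lit 0, nat_lit 27, nat_lit 18, nat_lit 27], (nat_lit 1098)⟩],
  .cy (nat_lit 0) [] [] [] (nat_lit 1433) [],
  .cy (nat_lit 5) [] [] [nat_lit 15, nat_lit 2, nat_lit 25, nat_lit 37, nat_lit 17, nat_lit 26] (nat_lit 465) [⟨[nat_lit 215], [nat_lit 24, nat_lit 15, nat_lit 0, nat_lit 26, nat_lit 34, nat_lit 11], (nat_lit 1047)⟩, ⟨[nat_lit 215], [nat_lit 15, nat_lit 5, nat_lit 33, nat_lit 15, nat_lit 11, nat_lit 27], (nat_lit 821)⟩],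
  .cy (nat_lit 0) [] [] [] (nat_lit 1435) [],
  .cy (nat_lit 11) [] [] [nat_lit 24, nat_lit 1, nat_lit 32, nat_lit 34, nat_lit 26] (nat_lit 457) [⟨[nat_lit 215, nat_lit 217], [nat_lit 26, nat_lit 2, nat_lit 24, nat_lit 16, nat_lit 26], (nat_lit 691)⟩, ⟨[nat_lit 215, nat_lit 217, nat_lit 215], [nat_lit 11, nat_lit 2, nat_lit 0, nat_lit 24, nat_lit 37, nat_lit 15], (nat_lit 1106)⟩],
  .cy (nat_lit 0) [] [] [] (nat_lit 1437) [],
  .cy (nat_lit 11) [] [] [nat_lit 1, nat_lit 24, nat_lit 0, nat_lit 33, nat_lit 11, nat_lit 16, nat_lit 27] (nat_lit 457) [⟨[], [nat_lit 5, nat_lit 0, nat_lit 24, nat_lit 37, nat_lit 26], (nat_lit 1133)⟩, ⟨[nat_lit 217], [nat_lit 5, nat_lit 15, nat_lit 24], (nat_lit 555)⟩],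
  .cy (nat_lit 0) [] [] [] (nat_lit 1439) [],
  .cy (nat_lit 21) [] [] [nat_lit 24, nat_lit 0, nat_lit 17, nat_lit 11, nat_lit 26] (nat_lit 457) [⟨[nat_lit 215], [nat_lit 15, nat_lit 1, nat_lit 11, nat_lit 26], (nat_lit 248)⟩, ⟨[nat_lit 217], [nat_lit 5, nat_lit 2, nat_lit 24, nat_lit 24, nat_lit 26], (nat_lit 802)⟩],
  .cy (nat_lit 0) [] [] [] (nat_lit 1441) [],
  .cy (nat_lit 22) [] [] [nat_lit 16, nat_lit 0, nat_lit 36, nat_lit 16, nat_lit 27] (nat_lit 457) [⟨[], [nat_lit 10, nat_lit 0, nat_lit 25, nat_lit 36, nat_lit 27], (nat_lit 1415)⟩, ⟨[nat_lit 215, nat_lit 217, nat_lit 215], [nat_lit 25, nat_lit 16, nat_lit 0, nat_lit 32, nat_lit 34, nat_lit 26], (nat_lit 908)⟩],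
  .cy (nat_lit 0) [] [] [] (nat_lit 1443) [],
  .cy (nat_lit 26) [] [] [nat_lit 26, nat_lit 2, nat_lit 34, nat_lit 34, nat_lit 11] (nat_lit 457) [⟨[nat_lit 215], [nat_lit 5, nat_lit 2, nat_lit 0, nat_lit 17, nat_lit 34, nat_lit 15], (nat_lit 1371)⟩, ⟨[nat_lit 215], [nat_lit 14, nat_lit 15, nat_lit 0, nat_lit 34, nat_lit 24, nat_lit 15], (nat_lit 623)⟩],
  .cy (nat_lit 0) [] [] [] (nat_lit 1445) [],
  .cy (nat_lit 8) [] [] [nat_lit 16, nat_lit 5, nat_lit 2, nat_lit 24, nat_lit 24, nat_lit 27] (nat_lit 422) [⟨[nat_lit 217, nat_lit 215], [nat_lit 24, nat_lit 2, nat_lit 32, nat_lit 32, nat_lit 11, nat_lit 26], (nat_lit 944)⟩, ⟨[nat_lit 217, nat_lit 215], [nat_lit 24, nat_lit 15, nat_lit 0, nat_lit 25, nat_lit 37, nat_lit 17, nat_lit 27], (nat_lit 670)⟩],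
  .cy (nat_lit 0) [] [] [] (nat_lit 1447) [],
  .cy (nat_lit 20) [] [] [nat_lit 26, nat_lit 24, nat_lit 0, nat_lit 37, nat_lit 25, nat_lit 26] (nat_lit 422) [⟨[nat_lit 215, nat_lit 217, nat_lit 215], [nat_lit 25, nat_lit 16, nat_lit 0, nat_lit 34, nat_lit 17, nat_lit 33, nat_lit 27], (nat_lit 692)⟩, ⟨[nat_lit 215], [nat_lit 5, nat_lit 36, nat_lit 17, nat_lit 26], (nat_lit 1092)⟩],
  .cy (nat_lit 0) [] [] [] (nat_lit 1449) [],
  .cy (nat_lit 21) [] [] [nat_lit 26, nat_lit 2, nat_lit 37, nat_lit 16, nat_lit 27] (nat_lit 422) [⟨[nat_lit 215, nat_lit 217, nat_lit 215], [nat_lit 15, nat_lit 5, nat_lit 37, nat_lit 25], (nat_lit 1139)⟩, ⟨[nat_lit 215, nat_lit 217, nat_lit 215], [nat_lit 16, nat_lit 5, nat_lit 2, nat_lit 36, nat_lit 36, nat_lit 17], (nat_lit 1193)⟩],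
  .cy (nat_lit 0) [] [] [] (nat_lit 1451) [],
  .cy (nat_lit 26) [] [] [nat_lit 15, nat_lit 1, nat_lit 34, nat_lit 17, nat_lit 33, nat_lit 27] (nat_lit 422) [⟨[nat_lit 215, nat_lit 217], [nat_lit 2, nat_lit 0, nat_lit 37, nat_lit 34], (nat_lit 1266)⟩, ⟨[nat_lit 215], [nat_lit 25, nat_lit 16, nat_lit 0, nat_lit 37, nat_lit 24, nat_lit 11, nat_lit 26], (nat_lit 594)⟩],
  .cy (nat_lit 0) [] [] [] (nat_lit 1453) [],
  .cy (nat_lit 1) [] [] [nat_lit 25, nat_lit 0, nat_lit 33, nat_lit 16, nat_lit 27] (nat_lit 376) [⟨[nat_lit 167, nat_lit 162, nat_lit 161], [nat_lit 26, nat_lit 2, nat_lit 18, nat_lit 15], (nat_lit 870)⟩, ⟨[nat_lit 217, nat_lit 215], [nat_lit 2, nat_lit 0, nat_lit 17, nat_lit 34, nat_lit 11], (nat_lit 549)⟩],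
  .cy (nat_lit 0) [] [] [] (nat_lit 1455) [],
  .cy (nat_lit 1) [] [] [nat_lit 24, nat_lit 15, nat_lit 0, nat_lit 36, nat_lit 18, nat_lit 26] (nat_lit 376) [⟨[nat_lit 176, nat_lit 179, nat_lit 179], [nat_lit 11, nat_lit 5, nat_lit 2, nat_lit 32, nat_lit 24], (nat_lit 507)⟩, ⟨[nat_lit 215, nat_lit 217], [nat_lit 25, nat_lit 1, nat_lit 15, nat_lit 15, nat_lit 11], (nat_lit 1329)⟩],
  .cy (nat_lit 0) [] [] [] (nat_lit 1457) [],
  .cy (nat_lit 4) [] [] [nat_lit 26, nat_lit 24, nat_lit 0, nat_lit 37, nat_lit 16, nat_lit 26] (nat_lit 376) [⟨[nat_lit 176, nat_lit 179, nat_lit 179], [nat_lit 5, nat_lit 14, nat_lit 36, nat_lit 25, nat_lit 26], (nat_lit 469)⟩, ⟨[nat_lit 215, nat_lit 217], [nat_lit 0, nat_lit 2, nat_lit 15, nat_lit 32, nat_lit 27], (nat_lit 956)⟩],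
  .cy (nat_lit 0) [] [] [] (nat_lit 1459) [],
  .cy (nat_lit 7) [] [] [nat_lit 24, nat_lit 1, nat_lit 37, nat_lit 34, nat_lit 26] (nat_lit 376) [⟨[nat_lit 178, nat_lit 162, nat_lit 175, nat_lit 161], [nat_lit 15, nat_lit 1, nat_lit 35, nat_lit 17, nat_lit 16], (nat_lit 505)⟩, ⟨[nat_lit 217], [nat_lit 24, nat_lit 1, nat_lit 15, nat_lit 18, nat_lit 16, nat_lit 26], (nat_lit 1194)⟩],
  .cy (nat_lit 0) [] [] [] (nat_lit 1461) [],
  .cy (nat_lit 7) [] [] [nat_lit 17, nat_lit 24, nat_lit 0, nat_lit 37, nat_lit 18, nat_lit 15] (nat_lit 376) [⟨[nat_lit 178, nat_lit 178], [nat_lit 5, nat_lit 2, nat_lit 0, nat_lit 24, nat_lit 15, nat_lit 26], (nat_lit 230)⟩, ⟨[nat_lit 215, nat_lit 217], [nat_lit 5, nat_lit 2, nat_lit 11, nat_lit 37, nat_lit 27], (nat_lit 1112)⟩],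
  .cy (nat_lit 0) [] [] [] (nat_lit 1463) [],
  .cy (nat_lit 11) [] [] [nat_lit 26, nat_lit 24, nat_lit 0, nat_lit 18, nat_lit 36, nat_lit 11, nat_lit 26] (nat_lit 376) [⟨[nat_lit 176, nat_lit 167, nat_lit 178], [nat_lit 34, nat_lit 11, nat_lit 17], (nat_lit 759)⟩, ⟨[nat_lit 215, nat_lit 217, nat_lit 215], [nat_lit 14, nat_lit 0, nat_lit 37, nat_lit 34, nat_lit 26], (nat_lit 375)⟩],
  .cy (nat_lit 0) [] [] [] (nat_lit 1465) [],
  .cy (nat_lit 11) [] [] [nat_lit 16, nat_lit 2, nat_lit 36, nat_lit 24] (nat_lit 376) [⟨[nat_lit 164, nat_lit 176], [nat_lit 5, nat_lit 16, nat_lit 16, nat_lit 11, nat_lit 26], (nat_lit 532)⟩, ⟨[nat_lit 217, nat_lit 215], [nat_lit 5, nat_lit 36, nat_lit 36, nat_lit 17, nat_lit 26], (nat_lit 573)⟩],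
  .cy (nat_lit 0) [] [] [] (nat_lit 1467) [],
  .cy (nat_lit 20) [] [] [nat_lit 24, nat_lit 2, nat_lit 27, nat_lit 24, nat_lit 11, nat_lit 27] (nat_lit 376) [⟨[nat_lit 178, nat_lit 165, nat_lit 176], [nat_lit 25, nat_lit 2, nat_lit 0, nat_lit 15, nat_lit 17], (nat_lit 511)⟩, ⟨[nat_lit 215, nat_lit 217], [nat_lit 24, nat_lit 15, nat_lit 0, nat_lit 17, nat_lit 33, nat_lit 27], (nat_lit 784)⟩],
  .cy (nat_lit 0) [] [] [] (nat_lit 1469) [],
  .cy (nat_lit 21) [] [] [nat_lit 24, nat_lit 2, nat_lit 0, nat_lit 25, nat_lit 36, nat_lit 27] (nat_lit 376) [⟨[nat_lit 178, nat_lit 167, nat_lit 178], [nat_lit 16, nat_lit 5, nat_lit 0, nat_lit 32, nat_lit 26], (nat_lit 782)⟩, ⟨[nat_lit 215], [nat_lit 1, nat_lit 14, nat_lit 25, nat_lit 26], (nat_lit 708)⟩],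
  .cy (nat_lit 0) [] [] [] (nat_lit 1471) [],
  .cy (nat_lit 2) [] [] [nat_lit 5, nat_lit 15, nat_lit 32, nat_lit 11] (nat_lit 426) [⟨[], [nat_lit 15, nat_lit 0, nat_lit 37, nat_lit 15, nat_lit 26], (nat_lit 270)⟩, ⟨[nat_lit 217], [nat_lit 25, nat_lit 16, nat_lit 0, nat_lit 34, nat_lit 34, nat_lit 15], (nat_lit 1315)⟩],
  .cy (nat_lit 0) [] [] [] (nat_lit 1473) [],
  .cy (nat_lit 6) [] [] [nat_lit 26, nat_lit 24, nat_lit 0, nat_lit 24, nat_lit 37] (nat_lit 426) [⟨[nat_lit 215, nat_lit 217, nat_lit 215], [nat_lit 25, nat_lit 14, nat_lit 0, nat_lit 36, nat_lit 18, nat_lit 26], (nat_lit 1129)⟩, ⟨[nat_lit 215, nat_lit 217, nat_lit 215], [nat_lit 24, nat_lit 0, nat_lit 18, nat_lit 36, nat_lit 26], (nat_lit 794)⟩],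
  .cy (nat_lit 0) [] [] [] (nat_lit 1475) [],
  .cy (nat_lit 10) [] [] [nat_lit 5, nat_lit 14, nat_lit 32, nat_lit 27, nat_lit 17, nat_lit 27] (nat_lit 426) [⟨[nat_lit 215], [nat_lit 15, nat_lit 1, nat_lit 37, nat_lit 11, nat_lit 15, nat_lit 26], (nat_lit 1294)⟩, ⟨[nat_lit 215, nat_lit 217], [nat_lit 14, nat_lit 15, nat_lit 0, nat_lit 37, nat_lit 34, nat_lit 24], (nat_lit 730)⟩],
  .cy (nat_lit 0) [] [] [] (nat_lit 1477) [],
  .cy (nat_lit 26) [] [] [nat_lit 1, nat_lit 14, nat_lit 33, nat_lit 24, nat_lit 11, nat_lit 27] (nat_lit 426) [⟨[nat_lit 215], [nat_lit 16, nat_lit 5, nat_lit 2, nat_lit 37, nat_lit 37, nat_lit 16, nat_lit 27], (nat_lit 1377)⟩, ⟨[nat_lit 217, nat_lit 215], [nat_lit 14, nat_lit 0, nat_lit 15, nat_lit 18, nat_lit 11, nat_lit 26], (nat_lit 642)⟩],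
  .cy (nat_lit 0) [] [] [] (nat_lit 1479) [],
  .cy (nat_lit 27) [] [] [nat_lit 26, nat_lit 2, nat_lit 33, nat_lit 16, nat_lit 11, nat_lit 26] (nat_lit 426) [⟨[nat_lit 215, nat_lit 217, nat_lit 215], [nat_lit 16, nat_lit 2, nat_lit 11, nat_lit 36, nat_lit 26], (nat_lit 425)⟩, ⟨[nat_lit 217], [nat_lit 17, nat_lit 24, nat_lit 0, nat_lit 37, nat_lit 15, nat_lit 11, nat_lit 27], (nat_lit 851)⟩],
  .cy (nat_lit 0) [] [] [] (nat_lit 1481) [],
  .cy (nat_lit 2) [] [] [nat_lit 5, nat_lit 16, nat_lit 2, nat_lit 24, nat_lit 36, nat_lit 11, nat_lit 27] (nat_lit 484) [⟨[], [nat_lit 25, nat_lit 0, nat_lit 17, nat_lit 36, nat_lit 27], (nat_lit 857)⟩, ⟨[], [nat_lit 1, nat_lit 14, nat_lit 35, nat_lit 16, nat_lit 16, nat_lit 26], (nat_lit 976)⟩],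
  .cy (nat_lit 0) [] [] [] (nat_lit 1483) [],
  .cy (nat_lit 2) [] [] [nat_lit 2, nat_lit 27, nat_lit 37] (nat_lit 484) [⟨[nat_lit 217, nat_lit 215], [nat_lit 1, nat_lit 37, nat_lit 17, nat_lit 27], (nat_lit 1041)⟩, ⟨[nat_lit 215], [nat_lit 5, nat_lit 16, nat_lit 2, nat_lit 15, nat_lit 18, nat_lit 16, nat_lit 27], (nat_lit 854)⟩],
  .cy (nat_lit 0) [] [] [] (nat_lit 1485) [],
  .cy (nat_lit 6) [] [] [nat_lit 2, nat_lit 26, nat_lit 34, nat_lit 32, nat_lit 26] (nat_lit 484) [⟨[nat_lit 215, nat_lit 217, nat_lit 215], [nat_lit 11, nat_lit 2, nat_lit 0, nat_lit 18, nat_lit 15, nat_lit 26], (nat_lit 777)⟩, ⟨[nat_lit 217, nat_lit 215], [nat_lit 18, nat_lit 15, nat_lit 0, nat_lit 18, nat_lit 36, nat_lit 11, nat_lit 26], (nat_lit 993)⟩],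
  .cy (nat_lit 0) [] [] [] (nat_lit 1487) [],
  .cy (nat_lit 20) [] [] [nat_lit 1, nat_lit 24, nat_lit 0, nat_lit 32, nat_lit 35, nat_lit 26] (nat_lit 484) [⟨[nat_lit 215, nat_lit 217], [nat_lit 2, nat_lit 0, nat_lit 15, nat_lit 18, nat_lit 11], (nat_lit 1188)⟩, ⟨[nat_lit 217, nat_lit 215], [nat_lit 16, nat_lit 5, nat_lit 0, nat_lit 16, nat_lit 16, nat_lit 11], (nat_lit 249)⟩],
  .cy (nat_lit 0) [] [] [] (nat_lit 1489) [],
  .cy (nat_lit 21) [] [] [nat_lit 1, nat_lit 24, nat_lit 0, nat_lit 25, nat_lit 18, nat_lit 16] (nat_lit 484) [⟨[], [nat_lit 26, nat_lit 2, nat_lit 32, nat_lit 34, nat_lit 27], (nat_lit 1434)⟩, ⟨[nat_lit 215], [nat_lit 15, nat_lit 1, nat_lit 24], (nat_lit 1226)⟩]]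
noncomputable def P1686 : List Pf := [.cy (nat_lit 0) [] [] [] (nat_lit 1491) [],
  .cy (nat_lit 22) [] [] [nat_lit 1, nat_lit 1, nat_lit 32, nat_lit 11] (nat_lit 484) [⟨[nat_lit 215, nat_lit 217, nat_lit 215], [nat_lit 17, nat_lit 2, nat_lit 0, nat_lit 33, nat_lit 25, nat_lit 27], (nat_lit 1020)⟩, ⟨[nat_lit 217], [nat_lit 1, nat_lit 24, nat_lit 0, nat_lit 17, nat_lit 34, nat_lit 11, nat_lit 26], (nat_lit 634)⟩],
  .cy (nat_lit 0) [] [] [] (nat_lit 1493) [],
  .cy (nat_lit 24) [] [] [nat_lit 18, nat_lit 15, nat_lit 0, nat_lit 24, nat_lit 33, nat_lit 15, nat_lit 27] (nat_lit 484) [⟨[], [nat_lit 10, nat_lit 10, nat_lit 0, nat_lit 34, nat_lit 34, nat_lit 11, nat_lit 26], (nat_lit 799)⟩, ⟨[nat_lit 215], [nat_lit 24, nat_lit 1, nat_lit 36, nat_lit 25], (nat_lit 664)⟩],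
  .cy (nat_lit 0) [] [] [] (nat_lit 1495) [],
  .cy (nat_lit 25) [] [] [nat_lit 14, nat_lit 0, nat_lit 16] (nat_lit 484) [⟨[nat_lit 215, nat_lit 217, nat_lit 215], [nat_lit 1, nat_lit 5, nat_lit 33, nat_lit 24, nat_lit 26], (nat_lit 925)⟩, ⟨[nat_lit 215, nat_lit 217], [nat_lit 24, nat_lit 16, nat_lit 0, nat_lit 25, nat_lit 33, nat_lit 15], (nat_lit 665)⟩],
  .cy (nat_lit 0) [] [] [] (nat_lit 1497) [],
  .cy (nat_lit 2) [] [] [nat_lit 1, nat_lit 1, nat_lit 34, nat_lit 25, nat_lit 11, nat_lit 26] (nat_lit 417) [⟨[nat_lit 215, nat_lit 217], [nat_lit 16, nat_lit 5, nat_lit 2, nat_lit 32, nat_lit 11, nat_lit 26], (nat_lit 385)⟩, ⟨[nat_lit 215, nat_lit 217], [nat_lit 25, nat_lit 0, nat_lit 26, nat_lit 16, nat_lit 11, nat_lit 27], (nat_lit 1407)⟩],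
  .cy (nat_lit 0) [] [] [] (nat_lit 1499) [],
  .cy (nat_lit 6) [] [] [nat_lit 5, nat_lit 0, nat_lit 27, nat_lit 18, nat_lit 11, nat_lit 26] (nat_lit 417) [⟨[nat_lit 217], [nat_lit 24, nat_lit 0, nat_lit 11, nat_lit 37, nat_lit 27], (nat_lit 1429)⟩, ⟨[nat_lit 215], [nat_lit 14, nat_lit 32, nat_lit 35, nat_lit 27], (nat_lit 589)⟩],
  .cy (nat_lit 0) [] [] [] (nat_lit 1501) [],
  .cy (nat_lit 8) [] [] [nat_lit 24, nat_lit 16, nat_lit 0, nat_lit 35, nat_lit 35, nat_lit 11, nat_lit 27] (nat_lit 417) [⟨[], [nat_lit 25, nat_lit 27], (nat_lit 1264)⟩, ⟨[nat_lit 217], [nat_lit 1, nat_lit 1, nat_lit 34, nat_lit 17, nat_lit 33, nat_lit 27], (nat_lit 977)⟩],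
  .cy (nat_lit 0) [] [] [] (nat_lit 1503) [],
  .cy (nat_lit 10) [] [] [nat_lit 11, nat_lit 5, nat_lit 2, nat_lit 18, nat_lit 35, nat_lit 27] (nat_lit 417) [⟨[nat_lit 217], [nat_lit 24, nat_lit 2, nat_lit 26, nat_lit 17, nat_lit 15, nat_lit 26], (nat_lit 451)⟩, ⟨[], [nat_lit 25, nat_lit 14, nat_lit 0, nat_lit 11, nat_lit 18, nat_lit 26], (nat_lit 883)⟩],
  .cy (nat_lit 0) [] [] [] (nat_lit 1505) [],
  .cy (nat_lit 20) [] [] [nat_lit 14, nat_lit 36, nat_lit 16, nat_lit 27] (nat_lit 417) [⟨[nat_lit 215, nat_lit 217, nat_lit 215], [nat_lit 16, nat_lit 5, nat_lit 2, nat_lit 37, nat_lit 11, nat_lit 15], (nat_lit 976)⟩, ⟨[nat_lit 217, nat_lit 215], [nat_lit 25, nat_lit 14, nat_lit 0, nat_lit 16, nat_lit 32, nat_lit 15, nat_lit 27], (nat_lit 1407)⟩],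
  .cy (nat_lit 0) [] [] [] (nat_lit 1507) [],
  .cy (nat_lit 1) [] [] [nat_lit 15, nat_lit 2, nat_lit 32, nat_lit 37, nat_lit 15, nat_lit 27] (nat_lit 416) [⟨[nat_lit 215], [nat_lit 15, nat_lit 5, nat_lit 32, nat_lit 36, nat_lit 16, nat_lit 26], (nat_lit 888)⟩, ⟨[nat_lit 215, nat_lit 217], [nat_lit 11, nat_lit 5, nat_lit 2, nat_lit 37, nat_lit 34, nat_lit 25, nat_lit 26], (nat_lit 839)⟩],
  .cy (nat_lit 0) [] [] [] (nat_lit 1509) [],
  .cy (nat_lit 2) [] [] [nat_lit 5, nat_lit 32, nat_lit 35, nat_lit 26] (nat_lit 416) [⟨[], [nat_lit 16, nat_lit 0, nat_lit 25, nat_lit 35], (nat_lit 343)⟩, ⟨[nat_lit 203, nat_lit 523], [nat_lit 24, nat_lit 16, nat_lit 0, nat_lit 33, nat_lit 33, nat_lit 26], (nat_lit 525)⟩],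
  .cy (nat_lit 0) [] [] [] (nat_lit 1511) [],
  .cy (nat_lit 4) [] [] [nat_lit 1, nat_lit 35, nat_lit 17] (nat_lit 416) [⟨[], [nat_lit 15, nat_lit 1, nat_lit 34, nat_lit 37], (nat_lit 1211)⟩, ⟨[nat_lit 215, nat_lit 217, nat_lit 215], [nat_lit 26, nat_lit 2, nat_lit 0, nat_lit 37, nat_lit 15, nat_lit 11, nat_lit 26], (nat_lit 417)⟩],
  .cy (nat_lit 6) [] [] [nat_lit 5, nat_lit 0, nat_lit 36, nat_lit 16, nat_lit 11, nat_lit 26] (nat_lit 416) [⟨[nat_lit 215, nat_lit 217, nat_lit 215], [nat_lit 0, nat_lit 2, nat_lit 34, nat_lit 32, nat_lit 11, nat_lit 27], (nat_lit 806)⟩, ⟨[nat_lit 215, nat_lit 217], [nat_lit 5, nat_lit 0, nat_lit 16, nat_lit 16, nat_lit 11, nat_lit 27], (nat_lit 674)⟩],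
  .cy (nat_lit 0) [] [] [] (nat_lit 1514) [],
  .cy (nat_lit 11) [] [] [nat_lit 25, nat_lit 2, nat_lit 0, nat_lit 34, nat_lit 15, nat_lit 11] (nat_lit 416) [⟨[nat_lit 215], [nat_lit 24, nat_lit 2, nat_lit 33, nat_lit 24], (nat_lit 1465)⟩, ⟨[nat_lit 217, nat_lit 215], [nat_lit 10, nat_lit 0, nat_lit 16, nat_lit 32, nat_lit 15], (nat_lit 1235)⟩],
  .cy (nat_lit 0) [] [] [] (nat_lit 1516) [],
  .cy (nat_lit 12) [] [] [nat_lit 15, nat_lit 0, nat_lit 17, nat_lit 34, nat_lit 11, nat_lit 27] (nat_lit 416) [⟨[nat_lit 215, nat_lit 217, nat_lit 215], [nat_lit 24, nat_lit 2, nat_lit 0, nat_lit 32, nat_lit 18, nat_lit 26], (nat_lit 659)⟩, ⟨[nat_lit 215, nat_lit 217], [nat_lit 18, nat_lit 15, nat_lit 0, nat_lit 37, nat_lit 34, nat_lit 25, nat_lit 26], (nat_lit 1229)⟩],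
  .cy (nat_lit 0) [] [] [] (nat_lit 1518) [],
  .cy (nat_lit 26) [] [] [nat_lit 24, nat_lit 2, nat_lit 33, nat_lit 33, nat_lit 26] (nat_lit 416) [⟨[], [nat_lit 10, nat_lit 10, nat_lit 0, nat_lit 34, nat_lit 34], (nat_lit 544)⟩, ⟨[nat_lit 215], [nat_lit 5, nat_lit 2, nat_lit 24, nat_lit 37, nat_lit 17, nat_lit 26], (nat_lit 1335)⟩],
  .cy (nat_lit 0) [] [] [] (nat_lit 1520) [],
  .cy (nat_lit 4) [] [] [nat_lit 26, nat_lit 2, nat_lit 0, nat_lit 17, nat_lit 17, nat_lit 27] (nat_lit 486) [⟨[], [nat_lit 25, nat_lit 14, nat_lit 0, nat_lit 34, nat_lit 37, nat_lit 11, nat_lit 26], (nat_lit 283)⟩, ⟨[], [nat_lit 10, nat_lit 10, nat_lit 0, nat_lit 36, nat_lit 16, nat_lit 11, nat_lit 26], (nat_lit 461)⟩],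
  .cy (nat_lit 0) [] [] [] (nat_lit 1522) [],
  .cy (nat_lit 6) [] [] [nat_lit 25, nat_lit 2, nat_lit 0, nat_lit 11, nat_lit 16] (nat_lit 486) [⟨[], [nat_lit 17, nat_lit 11, nat_lit 17, nat_lit 27], (nat_lit 1326)⟩, ⟨[], [nat_lit 14, nat_lit 0, nat_lit 17, nat_lit 11, nat_lit 26], (nat_lit 341)⟩],
  .cy (nat_lit 0) [] [] [] (nat_lit 1524) [],
  .cy (nat_lit 7) [] [] [nat_lit 25, nat_lit 16, nat_lit 0, nat_lit 24, nat_lit 15, nat_lit 27] (nat_lit 486) [⟨[nat_lit 215], [nat_lit 14, nat_lit 24, nat_lit 37, nat_lit 17, nat_lit 27], (nat_lit 1321)⟩, ⟨[nat_lit 215, nat_lit 217, nat_lit 215], [nat_lit 25, nat_lit 1, nat_lit 15, nat_lit 35, nat_lit 27], (nat_lit 713)⟩],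
  .cy (nat_lit 0) [] [] [] (nat_lit 1526) [],
  .cy (nat_lit 11) [] [] [nat_lit 15, nat_lit 1, nat_lit 27, nat_lit 24, nat_lit 11, nat_lit 27] (nat_lit 486) [⟨[nat_lit 215, nat_lit 217, nat_lit 215], [nat_lit 1, nat_lit 24, nat_lit 0, nat_lit 24, nat_lit 11], (nat_lit 1191)⟩, ⟨[nat_lit 215], [nat_lit 24, nat_lit 0, nat_lit 16, nat_lit 11], (nat_lit 1106)⟩],
  .cy (nat_lit 11) [] [] [nat_lit 1, nat_lit 5, nat_lit 36, nat_lit 17, nat_lit 27] (nat_lit 486) [⟨[nat_lit 215, nat_lit 217, nat_lit 215], [nat_lit 15, nat_lit 5, nat_lit 25, nat_lit 18, nat_lit 18, nat_lit 26], (nat_lit 795)⟩, ⟨[nat_lit 215], [nat_lit 5, nat_lit 2, nat_lit 0, nat_lit 17, nat_lit 17, nat_lit 11, nat_lit 26], (nat_lit 1496)⟩],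
  .cy (nat_lit 0) [] [] [] (nat_lit 1529) [],
  .cy (nat_lit 11) [] [] [nat_lit 11, nat_lit 2, nat_lit 0, nat_lit 27, nat_lit 25, nat_lit 26] (nat_lit 486) [⟨[], [nat_lit 25, nat_lit 2, nat_lit 0, nat_lit 33, nat_lit 35, nat_lit 26], (nat_lit 457)⟩, ⟨[nat_lit 215, nat_lit 217], [nat_lit 0, nat_lit 34, nat_lit 24, nat_lit 17, nat_lit 26], (nat_lit 691)⟩],
  .cy (nat_lit 0) [] [] [] (nat_lit 1531) [],
  .cy (nat_lit 20) [] [] [nat_lit 1, nat_lit 34, nat_lit 25] (nat_lit 486) [⟨[nat_lit 215], [nat_lit 25, nat_lit 1, nat_lit 27, nat_lit 37], (nat_lit 1488)⟩, ⟨[nat_lit 215, nat_lit 217, nat_lit 215], [nat_lit 0, nat_lit 2, nat_lit 32, nat_lit 32, nat_lit 11], (nat_lit 1187)⟩],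
  .cy (nat_lit 0) [] [] [] (nat_lit 1533) [],
  .cy (nat_lit 7) [] [] [nat_lit 2, nat_lit 32, nat_lit 32, nat_lit 11, nat_lit 26] (nat_lit 432) [⟨[nat_lit 217], [nat_lit 10, nat_lit 10, nat_lit 0, nat_lit 34, nat_lit 16, nat_lit 11, nat_lit 27], (nat_lit 927)⟩, ⟨[nat_lit 217], [nat_lit 15, nat_lit 0, nat_lit 26, nat_lit 34, nat_lit 32, nat_lit 26], (nat_lit 649)⟩],
  .cy (nat_lit 0) [] [] [] (nat_lit 1535) [],
  .cy (nat_lit 9) [] [] [nat_lit 16, nat_lit 2, nat_lit 24, nat_lit 37, nat_lit 17, nat_lit 26] (nat_lit 432) [⟨[], [nat_lit 10, nat_lit 10, nat_lit 0, nat_lit 32, nat_lit 24, nat_lit 11, nat_lit 27], (nat_lit 781)⟩, ⟨[], [nat_lit 1, nat_lit 32, nat_lit 35], (nat_lit 336)⟩],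
  .cy (nat_lit 0) [] [] [] (nat_lit 1537) [],
  .cy (nat_lit 10) [] [] [nat_lit 2, nat_lit 0, nat_lit 35, nat_lit 35, nat_lit 26] (nat_lit 432) [⟨[nat_lit 215, nat_lit 217, nat_lit 215], [nat_lit 25, nat_lit 1, nat_lit 32, nat_lit 35, nat_lit 26], (nat_lit 1122)⟩, ⟨[], [nat_lit 0, nat_lit 2, nat_lit 27, nat_lit 15], (nat_lit 848)⟩],
  .cy (nat_lit 0) [] [] [] (nat_lit 1539) [],
  .cy (nat_lit 21) [] [] [nat_lit 24, nat_lit 15, nat_lit 0, nat_lit 25, nat_lit 37, nat_lit 11, nat_lit 27] (nat_lit 432) [⟨[nat_lit 217, nat_lit 215], [nat_lit 10, nat_lit 10, nat_lit 0, nat_lit 27, nat_lit 24, nat_lit 27], (nat_lit 1500)⟩, ⟨[nat_lit 215, nat_lit 217, nat_lit 215], [nat_lit 0, nat_lit 2, nat_lit 34, nat_lit 24, nat_lit 26], (nat_lit 907)⟩],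
  .cy (nat_lit 0) [] [] [] (nat_lit 1541) [],
  .cy (nat_lit 22) [] [] [nat_lit 24, nat_lit 15, nat_lit 0, nat_lit 34] (nat_lit 432) [⟨[], [nat_lit 10, nat_lit 10, nat_lit 0, nat_lit 24, nat_lit 18, nat_lit 18, nat_lit 27], (nat_lit 1519)⟩, ⟨[nat_lit 215, nat_lit 217], [nat_lit 26, nat_lit 2, nat_lit 0, nat_lit 37, nat_lit 11, nat_lit 15, nat_lit 27], (nat_lit 325)⟩],
  .cy (nat_lit 0) [] [] [] (nat_lit 1543) [],
  .cy (nat_lit 1) [] [] [nat_lit 16, nat_lit 5, nat_lit 0, nat_lit 32, nat_lit 24, nat_lit 26] (nat_lit 390) [⟨[nat_lit 215], [nat_lit 5, nat_lit 2, nat_lit 0, nat_lit 35], (nat_lit 640)⟩, ⟨[nat_lit 217, nat_lit 215], [nat_lit 10, nat_lit 0, nat_lit 25, nat_lit 18, nat_lit 16, nat_lit 27], (nat_lit 387)⟩],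
  .cy (nat_lit 0) [] [] [] (nat_lit 1545) [],
  .cy (nat_lit 4) [] [] [nat_lit 24, nat_lit 2, nat_lit 0, nat_lit 24, nat_lit 18] (nat_lit 390) [⟨[nat_lit 215, nat_lit 217, nat_lit 215], [nat_lit 1, nat_lit 1, nat_lit 27, nat_lit 24, nat_lit 11, nat_lit 26], (nat_lit 814)⟩, ⟨[nat_lit 215, nat_lit 217, nat_lit 215], [nat_lit 24, nat_lit 1, nat_lit 36, nat_lit 32], (nat_lit 965)⟩],
  .cy (nat_lit 0) [] [] [] (nat_lit 1547) [],
  .cy (nat_lit 12) [] [] [nat_lit 14, nat_lit 0, nat_lit 37, nat_lit 17, nat_lit 26] (nat_lit 390) [⟨[nat_lit 215], [nat_lit 34, nat_lit 34, nat_lit 15, nat_lit 27], (nat_lit 1506)⟩, ⟨[], [nat_lit 1, nat_lit 1, nat_lit 34, nat_lit 17, nat_lit 33, nat_lit 27], (nat_lit 1105)⟩],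
  .cy (nat_lit 0) [] [] [] (nat_lit 1549) [],
  .cy (nat_lit 26) [] [] [nat_lit 1, nat_lit 16, nat_lit 18, nat_lit 27] (nat_lit 390) [⟨[nat_lit 217, nat_lit 215], [nat_lit 1, nat_lit 1, nat_lit 24, nat_lit 35, nat_lit 26], (nat_lit 900)⟩, ⟨[nat_lit 215], [nat_lit 1, nat_lit 14, nat_lit 18, nat_lit 15, nat_lit 11, nat_lit 26], (nat_lit 1338)⟩],
  .cy (nat_lit 0) [] [] [] (nat_lit 1551) [],
  .cy (nat_lit 3) [] [] [nat_lit 16, nat_lit 5, nat_lit 0, nat_lit 16, nat_lit 16, nat_lit 11, nat_lit 26] (nat_lit 459) [⟨[nat_lit 217, nat_lit 215], [nat_lit 24, nat_lit 1, nat_lit 18, nat_lit 36, nat_lit 11], (nat_lit 1259)⟩, ⟨[nat_lit 217], [nat_lit 17, nat_lit 24, nat_lit 0, nat_lit 34, nat_lit 17, nat_lit 26], (nat_lit 1408)⟩],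
  .cy (nat_lit 0) [] [] [] (nat_lit 1553) [],
  .cy (nat_lit 5) [] [] [nat_lit 14, nat_lit 15, nat_lit 0, nat_lit 17, nat_lit 34, nat_lit 11, nat_lit 27] (nat_lit 459) [⟨[nat_lit 217], [nat_lit 14, nat_lit 15, nat_lit 0, nat_lit 25, nat_lit 16, nat_lit 27], (nat_lit 683)⟩, ⟨[nat_lit 217], [nat_lit 5, nat_lit 27, nat_lit 24, nat_lit 15, nat_lit 27], (nat_lit 1344)⟩],
  .cy (nat_lit 0) [] [] [] (nat_lit 1555) [],
  .cy (nat_lit 8) [] [] [nat_lit 24, nat_lit 16, nat_lit 0, nat_lit 11, nat_lit 17, nat_lit 26] (nat_lit 459) [⟨[], [nat_lit 24, nat_lit 15, nat_lit 0, nat_lit 15, nat_lit 35, nat_lit 11, nat_lit 26], (nat_lit 382)⟩, ⟨[nat_lit 523, nat_lit 204, nat_lit 523, nat_lit 206], [nat_lit 24, nat_lit 1, nat_lit 32, nat_lit 24, nat_lit 26], (nat_lit 471)⟩],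
  .cy (nat_lit 0) [] [] [] (nat_lit 1557) [],
  .cy (nat_lit 9) [] [] [nat_lit 24, nat_lit 16, nat_lit 0, nat_lit 25, nat_lit 11] (nat_lit 459) [⟨[], [nat_lit 24, nat_lit 15, nat_lit 0, nat_lit 15, nat_lit 32, nat_lit 26], (nat_lit 1004)⟩, ⟨[nat_lit 217], [nat_lit 25, nat_lit 1, nat_lit 33, nat_lit 27], (nat_lit 675)⟩],
  .cy (nat_lit 0) [] [] [] (nat_lit 1559) [],
  .cy (nat_lit 11) [] [] [nat_lit 25, nat_lit 14, nat_lit 0, nat_lit 16, nat_lit 18, nat_lit 26] (nat_lit 459) [⟨[], [nat_lit 26, nat_lit 2, nat_lit 33, nat_lit 18, nat_lit 11, nat_lit 27], (nat_lit 382)⟩, ⟨[nat_lit 208, nat_lit 205, nat_lit 203, nat_lit 208], [nat_lit 25, nat_lit 2, nat_lit 0, nat_lit 24, nat_lit 16, nat_lit 26], (nat_lit 904)⟩],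
  .cy (nat_lit 0) [] [] [] (nat_lit 1561) [],
  .cy (nat_lit 12) [] [] [nat_lit 11, nat_lit 5, nat_lit 2, nat_lit 26, nat_lit 16, nat_lit 11, nat_lit 26] (nat_lit 459) [⟨[nat_lit 215, nat_lit 217], [nat_lit 24, nat_lit 15, nat_lit 0, nat_lit 11, nat_lit 36, nat_lit 27], (nat_lit 444)⟩, ⟨[nat_lit 217], [nat_lit 14, nat_lit 33, nat_lit 35, nat_lit 26], (nat_lit 448)⟩],
  .cy (nat_lit 23) [] [] [nat_lit 2, nat_lit 37, nat_lit 11, nat_lit 17, nat_lit 26] (nat_lit 459) [⟨[nat_lit 217, nat_lit 215], [nat_lit 15, nat_lit 2, nat_lit 34, nat_lit 34, nat_lit 11, nat_lit 26], (nat_lit 1307)⟩, ⟨[nat_lit 215, nat_lit 217], [nat_lit 15, nat_lit 2, nat_lit 17, nat_lit 34, nat_lit 11], (nat_lit 459)⟩],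
  .cy (nat_lit 0) [] [] [] (nat_lit 1564) [],
  .cy (nat_lit 4) [] [] [nat_lit 26, nat_lit 24, nat_lit 0, nat_lit 33, nat_lit 16, nat_lit 11, nat_lit 27] (nat_lit 452) [⟨[nat_lit 215, nat_lit 217], [nat_lit 16, nat_lit 2, nat_lit 33, nat_lit 18, nat_lit 11, nat_lit 26], (nat_lit 878)⟩, ⟨[nat_lit 215, nat_lit 217, nat_lit 215], [nat_lit 24, nat_lit 2, nat_lit 36, nat_lit 33, nat_lit 24], (nat_lit 1094)⟩],
  .cy (nat_lit 0) [] [] [] (nat_lit 1566) [],
  .cy (nat_lit 5) [] [] [nat_lit 1, nat_lit 24, nat_lit 0, nat_lit 15, nat_lit 24, nat_lit 26] (nat_lit 452) [⟨[nat_lit 215, nat_lit 217], [nat_lit 5, nat_lit 2, nat_lit 37, nat_lit 34, nat_lit 24, nat_lit 27], (nat_lit 878)⟩, ⟨[nat_lit 215, nat_lit 217, nat_lit 215], [nat_lit 10, nat_lit 10, nat_lit 0, nat_lit 32, nat_lit 35, nat_lit 26], (nat_lit 881)⟩],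
  .cy (nat_lit 0) [] [] [] (nat_lit 1568) [],
  .cy (nat_lit 11) [] [] [nat_lit 26, nat_lit 24, nat_lit 0, nat_lit 36, nat_lit 15, nat_lit 27] (nat_lit 452) [⟨[nat_lit 217], [nat_lit 0, nat_lit 17, nat_lit 17, nat_lit 15, nat_lit 27], (nat_lit 1002)⟩, ⟨[nat_lit 215], [nat_lit 5, nat_lit 14, nat_lit 25, nat_lit 16, nat_lit 16, nat_lit 26], (nat_lit 1312)⟩],
  .cy (nat_lit 0) [] [] [] (nat_lit 1570) [],
  .cy (nat_lit 23) [] [] [nat_lit 1, nat_lit 14, nat_lit 11, nat_lit 16, nat_lit 26] (nat_lit 452) [⟨[], [nat_lit 18, nat_lit 15, nat_lit 0, nat_lit 15, nat_lit 18, nat_lit 27], (nat_lit 284)⟩, ⟨[nat_lit 215, nat_lit 217], [nat_lit 24, nat_lit 16, nat_lit 0, nat_lit 37, nat_lit 11, nat_lit 15, nat_lit 26], (nat_lit 728)⟩],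
  .cy (nat_lit 0) [] [] [] (nat_lit 1572) [],
  .cy (nat_lit 3) [] [] [nat_lit 15, nat_lit 0, nat_lit 25, nat_lit 35, nat_lit 11] (nat_lit 434) [⟨[nat_lit 215, nat_lit 217, nat_lit 215], [nat_lit 18, nat_lit 15, nat_lit 0, nat_lit 15, nat_lit 35, nat_lit 11], (nat_lit 599)⟩, ⟨[nat_lit 215, nat_lit 217, nat_lit 215], [nat_lit 1, nat_lit 37, nat_lit 25, nat_lit 26], (nat_lit 911)⟩],
  .cy (nat_lit 0) [] [] [] (nat_lit 1574) [],
  .cy (nat_lit 3) [] [] [nat_lit 0, nat_lit 2, nat_lit 17, nat_lit 33, nat_lit 27] (nat_lit 434) [⟨[nat_lit 215, nat_lit 217], [nat_lit 16, nat_lit 0, nat_lit 35, nat_lit 35, nat_lit 27], (nat_lit 1282)⟩, ⟨[nat_lit 215], [nat_lit 24, nat_lit 15, nat_lit 0, nat_lit 32, nat_lit 15], (nat_lit 596)⟩],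
  .cy (nat_lit 0) [] [] [] (nat_lit 1576) [],
  .cy (nat_lit 5) [] [] [nat_lit 16, nat_lit 18, nat_lit 11, nat_lit 26] (nat_lit 434) [⟨[nat_lit 215, nat_lit 217], [nat_lit 1, nat_lit 27, nat_lit 15, nat_lit 11, nat_lit 26], (nat_lit 1282)⟩, ⟨[nat_lit 215, nat_lit 217, nat_lit 215], [nat_lit 5, nat_lit 16, nat_lit 2, nat_lit 15, nat_lit 15, nat_lit 27], (nat_lit 1506)⟩],
  .cy (nat_lit 0) [] [] [] (nat_lit 1578) [],
  .cy (nat_lit 8) [] [] [nat_lit 17, nat_lit 34, nat_lit 11] (nat_lit 434) [⟨[nat_lit 215], [nat_lit 0, nat_lit 17, nat_lit 15, nat_lit 11, nat_lit 27], (nat_lit 275)⟩, ⟨[nat_lit 215, nat_lit 217, nat_lit 215], [nat_lit 15, nat_lit 5, nat_lit 34, nat_lit 24], (nat_lit 639)⟩],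
  .cy (nat_lit 0) [] [] [] (nat_lit 1580) [],
  .cy (nat_lit 2) [] [] [nat_lit 26, nat_lit 2, nat_lit 0, nat_lit 37, nat_lit 27] (nat_lit 375) [⟨[], [nat_lit 10, nat_lit 10, nat_lit 0, nat_lit 18, nat_lit 35, nat_lit 27], (nat_lit 711)⟩, ⟨[], [nat_lit 5, nat_lit 2, nat_lit 0, nat_lit 33, nat_lit 33], (nat_lit 311)⟩],
  .cy (nat_lit 0) [] [] [] (nat_lit 1582) [],
  .cy (nat_lit 5) [] [] [nat_lit 24, nat_lit 15, nat_lit 0, nat_lit 17, nat_lit 34, nat_lit 15, nat_lit 26] (nat_lit 375) [⟨[nat_lit 215, nat_lit 217], [nat_lit 25, nat_lit 2, nat_lit 0, nat_lit 37, nat_lit 34, nat_lit 24, nat_lit 26], (nat_lit 1444)⟩, ⟨[], [nat_lit 24, nat_lit 2, nat_lit 15, nat_lit 11, nat_lit 15, nat_lit 26], (nat_lit 233)⟩],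
  .cy (nat_lit 0) [] [] [] (nat_lit 1584) [],
  .cy (nat_lit 7) [] [] [nat_lit 10, nat_lit 10, nat_lit 0, nat_lit 15, nat_lit 17, nat_lit 11] (nat_lit 375) [⟨[nat_lit 215], [nat_lit 25, nat_lit 16, nat_lit 0, nat_lit 34, nat_lit 24, nat_lit 17, nat_lit 27], (nat_lit 1107)⟩, ⟨[nat_lit 217, nat_lit 215], [nat_lit 25, nat_lit 1, nat_lit 15, nat_lit 11], (nat_lit 1129)⟩],
  .cy (nat_lit 0) [] [] [] (nat_lit 1586) [],
  .cy (nat_lit 11) [] [] [nat_lit 14, nat_lit 0, nat_lit 15, nat_lit 17, nat_lit 11, nat_lit 26] (nat_lit 375) [⟨[nat_lit 215, nat_lit 217], [nat_lit 17, nat_lit 24, nat_lit 0, nat_lit 36, nat_lit 17, nat_lit 26], (nat_lit 1444)⟩, ⟨[nat_lit 217, nat_lit 215], [nat_lit 14, nat_lit 0, nat_lit 37, nat_lit 34, nat_lit 24], (nat_lit 1417)⟩],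
  .cy (nat_lit 0) [] [] [] (nat_lit 1588) [],
  .cy (nat_lit 20) [] [] [nat_lit 25, nat_lit 1, nat_lit 36, nat_lit 32, nat_lit 11, nat_lit 26] (nat_lit 375) [⟨[], [nat_lit 25, nat_lit 14, nat_lit 0, nat_lit 26], (nat_lit 583)⟩, ⟨[nat_lit 217, nat_lit 215], [nat_lit 1, nat_lit 15, nat_lit 18, nat_lit 11, nat_lit 27], (nat_lit 786)⟩],
  .cy (nat_lit 0) [] [] [] (nat_lit 1590) [],
  .cy (nat_lit 20) [] [] [nat_lit 24, nat_lit 1, nat_lit 18, nat_lit 15, nat_lit 11, nat_lit 27] (nat_lit 375) [⟨[nat_lit 217, nat_lit 215], [nat_lit 1, nat_lit 1, nat_lit 25, nat_lit 35], (nat_lit 565)⟩, ⟨[], [nat_lit 5, nat_lit 2, nat_lit 0, nat_lit 36, nat_lit 33, nat_lit 11, nat_lit 27], (nat_lit 791)⟩],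
  .cy (nat_lit 0) [] [] [] (nat_lit 1592) [],
  .cy (nat_lit 21) [] [] [nat_lit 1, nat_lit 14, nat_lit 26, nat_lit 36, nat_lit 26] (nat_lit 375) [⟨[nat_lit 215, nat_lit 217, nat_lit 215], [nat_lit 33, nat_lit 37], (nat_lit 729)⟩, ⟨[], [nat_lit 17, nat_lit 24, nat_lit 0, nat_lit 36, nat_lit 24, nat_lit 27], (nat_lit 265)⟩],
  .cy (nat_lit 0) [] [] [] (nat_lit 1594) [],
  .cy (nat_lit 25) [] [] [nat_lit 25, nat_lit 2, nat_lit 0, nat_lit 36, nat_lit 15, nat_lit 26] (nat_lit 375) [⟨[], [nat_lit 15, nat_lit 35, nat_lit 11, nat_lit 27], (nat_lit 1583)⟩, ⟨[nat_lit 215], [nat_lit 18, nat_lit 15, nat_lit 0, nat_lit 34, nat_lit 32], (nat_lit 331)⟩],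
  .cy (nat_lit 0) [] [] [] (nat_lit 1596) [],
  .cy (nat_lit 26) [] [] [nat_lit 10, nat_lit 10, nat_lit 0, nat_lit 16, nat_lit 18, nat_lit 11] (nat_lit 375) [⟨[nat_lit 215], [nat_lit 25, nat_lit 2, nat_lit 0, nat_lit 11, nat_lit 17, nat_lit 26], (nat_lit 797)⟩, ⟨[nat_lit 217, nat_lit 215], [nat_lit 0, nat_lit 32, nat_lit 18, nat_lit 26], (nat_lit 1423)⟩],
  .cy (nat_lit 0) [] [] [] (nat_lit 1598) [],
  .cy (nat_lit 1) [] [] [nat_lit 1, nat_lit 14, nat_lit 36, nat_lit 25, nat_lit 27] (nat_lit 396) [⟨[nat_lit 217], [nat_lit 5, nat_lit 2, nat_lit 35, nat_lit 35, nat_lit 11], (nat_lit 1079)⟩, ⟨[nat_lit 217], [nat_lit 24, nat_lit 1, nat_lit 27, nat_lit 15, nat_lit 11, nat_lit 27], (nat_lit 1351)⟩],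
  .cy (nat_lit 0) [] [] [] (nat_lit 1600) [],
  .cy (nat_lit 4) [] [] [nat_lit 5, nat_lit 0, nat_lit 24, nat_lit 17, nat_lit 26] (nat_lit 396) [⟨[nat_lit 215, nat_lit 217], [nat_lit 11, nat_lit 5, nat_lit 2, nat_lit 16, nat_lit 11, nat_lit 27], (nat_lit 1551)⟩, ⟨[nat_lit 215, nat_lit 217], [nat_lit 24, nat_lit 2, nat_lit 0, nat_lit 16, nat_lit 16], (nat_lit 710)⟩],
  .cy (nat_lit 0) [] [] [] (nat_lit 1602) [],
  .cy (nat_lit 8) [] [] [nat_lit 24, nat_lit 2, nat_lit 0, nat_lit 32, nat_lit 18, nat_lit 26] (nat_lit 396) [⟨[], [nat_lit 10, nat_lit 10, nat_lit 0, nat_lit 24, nat_lit 15], (nat_lit 946)⟩, ⟨[nat_lit 215, nat_lit 217], [nat_lit 1, nat_lit 14, nat_lit 34, nat_lit 26], (nat_lit 1358)⟩],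
  .cy (nat_lit 0) [] [] [] (nat_lit 1604) [],
  .cy (nat_lit 9) [] [] [nat_lit 24, nat_lit 2, nat_lit 0, nat_lit 26, nat_lit 17, nat_lit 15, nat_lit 26] (nat_lit 396) [⟨[nat_lit 215, nat_lit 217], [nat_lit 24, nat_lit 2, nat_lit 0, nat_lit 24, nat_lit 18, nat_lit 18], (nat_lit 1081)⟩, ⟨[nat_lit 215, nat_lit 217], [nat_lit 24, nat_lit 17, nat_lit 11, nat_lit 27], (nat_lit 650)⟩],
  .cy (nat_lit 0) [] [] [] (nat_lit 1606) [],
  .cy (nat_lit 10) [] [] [nat_lit 15, nat_lit 1, nat_lit 26, nat_lit 24, nat_lit 11] (nat_lit 396) [⟨[nat_lit 215, nat_lit 217], [nat_lit 18, nat_lit 15, nat_lit 0, nat_lit 15, nat_lit 24, nat_lit 11, nat_lit 27], (nat_lit 598)⟩, ⟨[nat_lit 215, nat_lit 217], [nat_lit 24, nat_lit 16, nat_lit 0, nat_lit 25, nat_lit 37, nat_lit 26], (nat_lit 1430)⟩],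
  .cy (nat_lit 0) [] [] [] (nat_lit 1608) [],
  .cy (nat_lit 11) [] [] [nat_lit 0, nat_lit 2, nat_lit 37, nat_lit 37, nat_lit 11, nat_lit 27] (nat_lit 396) [⟨[nat_lit 217], [nat_lit 18, nat_lit 15, nat_lit 0, nat_lit 37, nat_lit 25, nat_lit 26], (nat_lit 1079)⟩, ⟨[nat_lit 217, nat_lit 215], [nat_lit 14, nat_lit 15, nat_lit 0, nat_lit 37, nat_lit 33, nat_lit 27], (nat_lit 640)⟩],
  .cy (nat_lit 18) [] [] [nat_lit 15, nat_lit 1, nat_lit 33, nat_lit 25, nat_lit 27] (nat_lit 396) [⟨[nat_lit 215, nat_lit 217, nat_lit 215], [nat_lit 25, nat_lit 16, nat_lit 0, nat_lit 27, nat_lit 36], (nat_lit 1037)⟩, ⟨[nat_lit 215, nat_lit 217], [nat_lit 10, nat_lit 0, nat_lit 17, nat_lit 34], (nat_lit 1074)⟩, ⟨[], [nat_lit 14, nat_lit 15, nat_lit 0, nat_lit 36, nat_lit 16], (nat_lit 999)⟩, ⟨[nat_lit 217], [nat_lit 5, nat_lit 2, nat_lit 0, nat_lit 32, nat_lit 32, nat_lit 11], (nat_lit 692)⟩, ⟨[nat_lit 215, nat_lit 217], [nat_lit 1, nat_lit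 14, nat_lit 26, nat_lit 16, nat_lit 27], (nat_lit 1278)⟩, ⟨[nat_lit 215, nat_lit 217], [nat_lit 15, nat_lit 1, nat_lit 37], (nat_lit 1151)⟩],
  .cy (nat_lit 0) [] [] [] (nat_lit 1611) [],
  .cy (nat_lit 20) [] [] [nat_lit 24, nat_lit 1, nat_lit 33, nat_lit 24, nat_lit 27] (nat_lit 396) [⟨[nat_lit 215, nat_lit 217], [nat_lit 11, nat_lit 2, nat_lit 0, nat_lit 25, nat_lit 37, nat_lit 11, nat_lit 27], (nat_lit 1410)⟩, ⟨[nat_lit 215, nat_lit 217], [nat_lit 18, nat_lit 15, nat_lit 0, nat_lit 34, nat_lit 34, nat_lit 27], (nat_lit 1476)⟩],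
  .cy (nat_lit 0) [] [] [] (nat_lit 1613) [],
  .cy (nat_lit 21) [] [] [nat_lit 25, nat_lit 0, nat_lit 25, nat_lit 16, nat_lit 16] (nat_lit 396) [⟨[nat_lit 215], [nat_lit 24, nat_lit 0, nat_lit 18, nat_lit 11, nat_lit 15, nat_lit 26], (nat_lit 1331)⟩, ⟨[nat_lit 217, nat_lit 215], [nat_lit 1, nat_lit 25, nat_lit 37], (nat_lit 1558)⟩],
  .cy (nat_lit 0) [] [] [] (nat_lit 1615) [],
  .cy (nat_lit 24) [] [] [nat_lit 26, nat_lit 2, nat_lit 25, nat_lit 37, nat_lit 17] (nat_lit 396) [⟨[], [nat_lit 16, nat_lit 2, nat_lit 25, nat_lit 33, nat_lit 15], (nat_lit 597)⟩, ⟨[nat_lit 217, nat_lit 215], [nat_lit 14, nat_lit 0, nat_lit 35, nat_lit 16, nat_lit 16, nat_lit 27], (nat_lit 708)⟩],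
  .cy (nat_lit 0) [] [] [] (nat_lit 1617) [],
  .cy (nat_lit 25) [] [] [nat_lit 17, nat_lit 2, nat_lit 0, nat_lit 11, nat_lit 16, nat_lit 27] (nat_lit 396) [⟨[nat_lit 215, nat_lit 217, nat_lit 215], [nat_lit 14, nat_lit 0, nat_lit 37, nat_lit 15], (nat_lit 1595)⟩, ⟨[], [nat_lit 16, nat_lit 5, nat_lit 0, nat_lit 32, nat_lit 27, nat_lit 17, nat_lit 27], (nat_lit 1557)⟩],
  .cy (nat_lit 0) [] [] [] (nat_lit 1619) [],
  .cy (nat_lit 2) [] [] [nat_lit 25, nat_lit 14, nat_lit 0, nat_lit 26, nat_lit 34] (nat_lit 420) [⟨[nat_lit 215, nat_lit 217, nat_lit 215], [nat_lit 24, nat_lit 1, nat_lit 33, nat_lit 25, nat_lit 27], (nat_lit 578)⟩, ⟨[nat_lit 217, nat_lit 215], [nat_lit 10, nat_lit 10, nat_lit 0, nat_lit 34, nat_lit 34, nat_lit 15, nat_lit 26], (nat_lit 667)⟩],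
  .cy (nat_lit 0) [] [] [] (nat_lit 1621) [],
  .cy (nat_lit 5) [] [] [nat_lit 17, nat_lit 2, nat_lit 0, nat_lit 32, nat_lit 18, nat_lit 11] (nat_lit 420) [⟨[nat_lit 215, nat_lit 217, nat_lit 215], [nat_lit 5, nat_lit 14, nat_lit 24, nat_lit 18, nat_lit 16, nat_lit 27], (nat_lit 491)⟩, ⟨[nat_lit 215, nat_lit 217], [nat_lit 25, nat_lit 16, nat_lit 0, nat_lit 17, nat_lit 34, nat_lit 15], (nat_lit 991)⟩],
  .cy (nat_lit 0) [] [] [] (nat_lit 1623) [],
  .cy (nat_lit 8) [] [] [nat_lit 10, nat_lit 0, nat_lit 35, nat_lit 26] (nat_lit 420) [⟨[nat_lit 215, nat_lit 217, nat_lit 215], [nat_lit 0, nat_lit 2, nat_lit 17, nat_lit 15, nat_lit 26], (nat_lit 787)⟩, ⟨[nat_lit 215], [nat_lit 15, nat_lit 1, nat_lit 17, nat_lit 27], (nat_lit 962)⟩],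
  .cy (nat_lit 0) [] [] [] (nat_lit 1625) [],
  .cy (nat_lit 9) [] [] [nat_lit 2, nat_lit 0, nat_lit 32, nat_lit 37, nat_lit 15] (nat_lit 420) [⟨[nat_lit 215, nat_lit 217, nat_lit 215], [nat_lit 5, nat_lit 18, nat_lit 35, nat_lit 15, nat_lit 26], (nat_lit 1272)⟩, ⟨[nat_lit 215, nat_lit 217, nat_lit 215], [nat_lit 25, nat_lit 16, nat_lit 0, nat_lit 16, nat_lit 18, nat_lit 15, nat_lit 26], (nat_lit 851)⟩],
  .cy (nat_lit 0) [] [] [] (nat_lit 1627) [],
  .cy (nat_lit 10) [] [] [nat_lit 5, nat_lit 16, nat_lit 2, nat_lit 34, nat_lit 17] (nat_lit 420) [⟨[nat_lit 217], [nat_lit 35, nat_lit 27, nat_lit 15, nat_lit 27], (nat_lit 1043)⟩, ⟨[], [nat_lit 17, nat_lit 2, nat_lit 0, nat_lit 11, nat_lit 37, nat_lit 27], (nat_lit 316)⟩],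
  .cy (nat_lit 0) [] [] [] (nat_lit 1629) [],
  .cy (nat_lit 11) [] [] [nat_lit 25, nat_lit 14, nat_lit 0, nat_lit 37, nat_lit 34] (nat_lit 420) [⟨[], [nat_lit 15, nat_lit 5, nat_lit 34, nat_lit 26], (nat_lit 909)⟩, ⟨[nat_lit 217, nat_lit 215], [nat_lit 16, nat_lit 5, nat_lit 0, nat_lit 37, nat_lit 24, nat_lit 15], (nat_lit 1525)⟩],
  .cy (nat_lit 0) [] [] [] (nat_lit 1631) [],
  .cy (nat_lit 20) [] [] [nat_lit 14, nat_lit 15, nat_lit 0, nat_lit 24, nat_lit 37, nat_lit 27] (nat_lit 420) [⟨[nat_lit 215], [nat_lit 5, nat_lit 2, nat_lit 0, nat_lit 34, nat_lit 32, nat_lit 16, nat_lit 27], (nat_lit 1339)⟩, ⟨[nat_lit 217, nat_lit 215], [nat_lit 26, nat_lit 24, nat_lit 0, nat_lit 32, nat_lit 24, nat_lit 11, nat_lit 26], (nat_lit 430)⟩],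
  .cy (nat_lit 0) [] [] [] (nat_lit 1633) [],
  .cy (nat_lit 21) [] [] [nat_lit 1, nat_lit 14, nat_lit 36, nat_lit 33, nat_lit 24] (nat_lit 420) [⟨[nat_lit 217], [nat_lit 16, nat_lit 5, nat_lit 0, nat_lit 34, nat_lit 32], (nat_lit 1460)⟩, ⟨[nat_lit 215, nat_lit 217, nat_lit 215], [nat_lit 16, nat_lit 5, nat_lit 2, nat_lit 37, nat_lit 24, nat_lit 11], (nat_lit 300)⟩],
  .cy (nat_lit 0) [] [] [] (nat_lit 1635) [],
  .cy (nat_lit 23) [] [] [nat_lit 24, nat_lit 0, nat_lit 24, nat_lit 11] (nat_lit 420) [⟨[nat_lit 215], [nat_lit 0, nat_lit 16, nat_lit 18], (nat_lit 446)⟩, ⟨[nat_lit 215, nat_lit 217], [nat_lit 1, nat_lit 5, nat_lit 35, nat_lit 36, nat_lit 11, nat_lit 26], (nat_lit 1261)⟩],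
  .cy (nat_lit 0) [] [] [] (nat_lit 1637) [],
  .cy (nat_lit 27) [] [] [nat_lit 5, nat_lit 0, nat_lit 24, nat_lit 37, nat_lit 11, nat_lit 26] (nat_lit 420) [⟨[nat_lit 215, nat_lit 217], [nat_lit 17, nat_lit 2, nat_lit 0, nat_lit 33, nat_lit 15], (nat_lit 1327)⟩, ⟨[nat_lit 215], [nat_lit 25, nat_lit 0, nat_lit 37, nat_lit 24], (nat_lit 1337)⟩],
  .cy (nat_lit 0) [] [] [] (nat_lit 1639) [],
  .cy (nat_lit 4) [] [] [nat_lit 15, nat_lit 2, nat_lit 26, nat_lit 34, nat_lit 26] (nat_lit 446) [⟨[nat_lit 217], [nat_lit 5, nat_lit 16, nat_lit 2, nat_lit 25, nat_lit 18, nat_lit 18, nat_lit 26], (nat_lit 1189)⟩, ⟨[], [nat_lit 17, nat_lit 2, nat_lit 0, nat_lit 24, nat_lit 16, nat_lit 26], (nat_lit 1025)⟩],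
  .cy (nat_lit 0) [] [] [] (nat_lit 1641) [],
  .cy (nat_lit 8) [] [] [nat_lit 5, nat_lit 14, nat_lit 25, nat_lit 11] (nat_lit 446) [⟨[nat_lit 217], [nat_lit 14, nat_lit 35, nat_lit 11, nat_lit 26], (nat_lit 382)⟩, ⟨[nat_lit 205, nat_lit 522, nat_lit 208, nat_lit 201], [nat_lit 2, nat_lit 0, nat_lit 18, nat_lit 36, nat_lit 11], (nat_lit 366)⟩],
  .cy (nat_lit 0) [] [] [] (nat_lit 1643) [],
  .cy (nat_lit 8) [] [] [nat_lit 0, nat_lit 15, nat_lit 17, nat_lit 11] (nat_lit 446) [⟨[], [nat_lit 11, nat_lit 5, nat_lit 2, nat_lit 27], (nat_lit 1128)⟩, ⟨[nat_lit 215, nat_lit 217, nat_lit 215], [nat_lit 14, nat_lit 0, nat_lit 32, nat_lit 34, nat_lit 16], (nat_lit 1596)⟩],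
  .cy (nat_lit 0) [] [] [] (nat_lit 1645) [],
  .cy (nat_lit 9) [] [] [nat_lit 1, nat_lit 5, nat_lit 37, nat_lit 11] (nat_lit 446) [⟨[nat_lit 215], [nat_lit 24, nat_lit 16, nat_lit 0, nat_lit 24, nat_lit 27], (nat_lit 1316)⟩, ⟨[nat_lit 215, nat_lit 217], [nat_lit 26, nat_lit 2, nat_lit 0, nat_lit 15, nat_lit 32, nat_lit 15, nat_lit 26], (nat_lit 1516)⟩],
  .cy (nat_lit 0) [] [] [] (nat_lit 1647) [],
  .cy (nat_lit 20) [] [] [nat_lit 16, nat_lit 5, nat_lit 2, nat_lit 18, nat_lit 11, nat_lit 15, nat_lit 26] (nat_lit 446) [⟨[nat_lit 215, nat_lit 217, nat_lit 215], [nat_lit 16, nat_lit 0, nat_lit 37, nat_lit 17], (nat_lit 1220)⟩, ⟨[nat_lit 217, nat_lit 215], [nat_lit 5, nat_lit 15, nat_lit 15, nat_lit 15, nat_lit 26], (nat_lit 592)⟩],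
  .cy (nat_lit 0) [] [] [] (nat_lit 1649) [],
  .cy (nat_lit 21) [] [] [nat_lit 14, nat_lit 25, nat_lit 15, nat_lit 26] (nat_lit 446) [⟨[nat_lit 217], [nat_lit 14, nat_lit 32, nat_lit 34], (nat_lit 1596)⟩, ⟨[], [nat_lit 16, nat_lit 2, nat_lit 35, nat_lit 35, nat_lit 11], (nat_lit 408)⟩],
  .cy (nat_lit 0) [] [] [] (nat_lit 1651) [],
  .cy (nat_lit 1) [] [] [nat_lit 15, nat_lit 0, nat_lit 27, nat_lit 36, nat_lit 26] (nat_lit 490) [⟨[nat_lit 215], [nat_lit 1, nat_lit 33, nat_lit 16, nat_lit 11], (nat_lit 309)⟩, ⟨[nat_lit 215, nat_lit 217, nat_lit 215], [nat_lit 25, nat_lit 14, nat_lit 0, nat_lit 18, nat_lit 25, nat_lit 26], (nat_lit 995)⟩],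
  .cy (nat_lit 0) [] [] [] (nat_lit 1653) [],
  .cy (nat_lit 3) [] [] [nat_lit 17, nat_lit 2, nat_lit 0, nat_lit 16, nat_lit 26] (nat_lit 490) [⟨[], [nat_lit 1, nat_lit 14, nat_lit 32, nat_lit 18], (nat_lit 819)⟩, ⟨[nat_lit 215, nat_lit 217, nat_lit 215], [nat_lit 1, nat_lit 14, nat_lit 16, nat_lit 16, nat_lit 11, nat_lit 26], (nat_lit 1202)⟩],
  .cy (nat_lit 0) [] [] [] (nat_lit 1655) [],
  .cy (nat_lit 4) [] [] [nat_lit 26, nat_lit 24, nat_lit 0, nat_lit 36, nat_lit 24, nat_lit 26] (nat_lit 490) [⟨[], [nat_lit 5, nat_lit 2, nat_lit 34, nat_lit 24, nat_lit 15, nat_lit 26], (nat_lit 745)⟩, ⟨[nat_lit 215, nat_lit 217], [nat_lit 14, nat_lit 0, nat_lit 15, nat_lit 32, nat_lit 11, nat_lit 27], (nat_lit 963)⟩],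
  .cy (nat_lit 0) [] [] [] (nat_lit 1657) [],
  .cy (nat_lit 5) [] [] [nat_lit 24, nat_lit 0, nat_lit 33, nat_lit 11, nat_lit 27] (nat_lit 490) [⟨[nat_lit 215, nat_lit 217, nat_lit 215], [nat_lit 17, nat_lit 24, nat_lit 0, nat_lit 37, nat_lit 37, nat_lit 16, nat_lit 26], (nat_lit 421)⟩, ⟨[nat_lit 215, nat_lit 217, nat_lit 215], [nat_lit 16, nat_lit 0, nat_lit 17, nat_lit 33], (nat_lit 723)⟩],
  .cy (nat_lit 0) [] [] [] (nat_lit 1659) [],
  .cy (nat_lit 8) [] [] [nat_lit 5, nat_lit 35, nat_lit 11, nat_lit 26] (nat_lit 490) [⟨[nat_lit 215], [nat_lit 17, nat_lit 24, nat_lit 0, nat_lit 36, nat_lit 24, nat_lit 27], (nat_lit 1623)⟩, ⟨[nat_lit 215, nat_lit 217, nat_lit 215], [nat_lit 25, nat_lit 16, nat_lit 0, nat_lit 18, nat_lit 36, nat_lit 11, nat_lit 26], (nat_lit 1537)⟩],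
  .cy (nat_lit 0) [] [] [] (nat_lit 1661) [],
  .cy (nat_lit 10) [] [] [nat_lit 25, nat_lit 16, nat_lit 0, nat_lit 17, nat_lit 37, nat_lit 11, nat_lit 26] (nat_lit 490) [⟨[nat_lit 217, nat_lit 215], [nat_lit 1, nat_lit 37, nat_lit 34], (nat_lit 949)⟩, ⟨[], [nat_lit 25, nat_lit 1, nat_lit 34, nat_lit 34, nat_lit 11, nat_lit 27], (nat_lit 550)⟩],
  .cy (nat_lit 0) [] [] [] (nat_lit 1663) [],
  .cy (nat_lit 10) [] [] [nat_lit 15, nat_lit 5, nat_lit 24, nat_lit 24, nat_lit 26] (nat_lit 386) [⟨[nat_lit 215], [nat_lit 24, nat_lit 16, nat_lit 0, nat_lit 15, nat_lit 17, nat_lit 11, nat_lit 26], (nat_lit 1579)⟩, ⟨[nat_lit 217], [nat_lit 25, nat_lit 1, nat_lit 33, nat_lit 36], (nat_lit 1463)⟩],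
  .cy (nat_lit 0) [] [] [] (nat_lit 1665) [],
  .cy (nat_lit 20) [] [] [nat_lit 2, nat_lit 32, nat_lit 16] (nat_lit 386) [⟨[nat_lit 215], [nat_lit 24, nat_lit 16, nat_lit 0, nat_lit 18, nat_lit 35, nat_lit 15], (nat_lit 1325)⟩, ⟨[nat_lit 217], [nat_lit 24, nat_lit 0, nat_lit 15, nat_lit 15, nat_lit 26], (nat_lit 664)⟩],
  .cy (nat_lit 0) [] [] [] (nat_lit 1667) [],
  .cy (nat_lit 26) [] [] [nat_lit 25, nat_lit 14, nat_lit 0, nat_lit 16, nat_lit 16] (nat_lit 386) [⟨[nat_lit 217, nat_lit 215], [nat_lit 0, nat_lit 18, nat_lit 11, nat_lit 26], (nat_lit 506)⟩, ⟨[nat_lit 165, nat_lit 161], [nat_lit 24, nat_lit 0, nat_lit 37, nat_lit 11, nat_lit 17, nat_lit 26], (nat_lit 503)⟩],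
  .cy (nat_lit 0) [] [] [] (nat_lit 1669) [],
  .cy (nat_lit 5) [] [] [nat_lit 24, nat_lit 2, nat_lit 0, nat_lit 37, nat_lit 15] (nat_lit 408) [⟨[nat_lit 215, nat_lit 217, nat_lit 215], [nat_lit 14, nat_lit 37, nat_lit 25], (nat_lit 862)⟩, ⟨[nat_lit 217], [nat_lit 24, nat_lit 1, nat_lit 18, nat_lit 11], (nat_lit 725)⟩],
  .cy (nat_lit 0) [] [] [] (nat_lit 1671) [],
  .cy (nat_lit 5) [] [] [nat_lit 25, nat_lit 16, nat_lit 0, nat_lit 34, nat_lit 32] (nat_lit 408) [⟨[nat_lit 217, nat_lit 215], [nat_lit 14, nat_lit 0, nat_lit 24, nat_lit 35], (nat_lit 1669)⟩, ⟨[nat_lit 217], [nat_lit 5, nat_lit 36, nat_lit 16, nat_lit 11, nat_lit 26], (nat_lit 994)⟩],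
  .cy (nat_lit 0) [] [] [] (nat_lit 1673) [],
  .cy (nat_lit 8) [] [] [nat_lit 24, nat_lit 0, nat_lit 27, nat_lit 16, nat_lit 27] (nat_lit 408) [⟨[nat_lit 215, nat_lit 217, nat_lit 215], [nat_lit 10, nat_lit 0, nat_lit 35, nat_lit 36, nat_lit 11, nat_lit 26], (nat_lit 712)⟩, ⟨[nat_lit 217], [nat_lit 5, nat_lit 16, nat_lit 2, nat_lit 36, nat_lit 33, nat_lit 11, nat_lit 27], (nat_lit 1042)⟩],
  .cy (nat_lit 0) [] [] [] (nat_lit 1675) [],
  .cy (nat_lit 21) [] [] [nat_lit 5, nat_lit 35, nat_lit 36, nat_lit 26] (nat_lit 408) [⟨[nat_lit 215, nat_lit 217], [nat_lit 1, nat_lit 24, nat_lit 0, nat_lit 18, nat_lit 15, nat_lit 11, nat_lit 27], (nat_lit 533)⟩, ⟨[nat_lit 162, nat_lit 176, nat_lit 167], [nat_lit 16, nat_lit 0, nat_lit 33, nat_lit 33, nat_lit 11, nat_lit 27], (nat_lit 230)⟩],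
  .cy (nat_lit 0) [] [] [] (nat_lit 1677) [],
  .cy (nat_lit 23) [] [] [nat_lit 15, nat_lit 5, nat_lit 36, nat_lit 18, nat_lit 15, nat_lit 26] (nat_lit 408) [⟨[nat_lit 215, nat_lit 217], [nat_lit 27, nat_lit 16, nat_lit 27], (nat_lit 1057)⟩, ⟨[nat_lit 217], [nat_lit 11, nat_lit 5, nat_lit 2, nat_lit 25, nat_lit 33, nat_lit 15], (nat_lit 691)⟩],
  .cy (nat_lit 0) [] [] [] (nat_lit 1679) [],
  .cy (nat_lit 27) [] [] [nat_lit 15, nat_lit 0, nat_lit 32, nat_lit 34, nat_lit 26] (nat_lit 408) [⟨[nat_lit 215, nat_lit 217], [nat_lit 10, nat_lit 0, nat_lit 37, nat_lit 17, nat_lit 26], (nat_lit 631)⟩, ⟨[nat_lit 217], [nat_lit 15, nat_lit 5, nat_lit 37, nat_lit 34, nat_lit 25], (nat_lit 1284)⟩],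
  .cy (nat_lit 0) [] [] [] (nat_lit 1681) [],
  .cy (nat_lit 11) [] [] [nat_lit 16, nat_lit 0, nat_lit 36, nat_lit 16, nat_lit 27] (nat_lit 492) [⟨[nat_lit 217], [nat_lit 35, nat_lit 33, nat_lit 26], (nat_lit 473)⟩, ⟨[], [nat_lit 24, nat_lit 2, nat_lit 0, nat_lit 25, nat_lit 16, nat_lit 27], (nat_lit 292)⟩],
  .cy (nat_lit 0) [] [] [] (nat_lit 1683) [],
  .cy (nat_lit 2) [] [] [nat_lit 1, nat_lit 37, nat_lit 37, nat_lit 11, nat_lit 27] (nat_lit 497) [⟨[nat_lit 215], [nat_lit 5, nat_lit 2, nat_lit 15, nat_lit 27, nat_lit 16], (nat_lit 386)⟩, ⟨[nat_lit 217], [nat_lit 16, nat_lit 5, nat_lit 2, nat_lit 32, nat_lit 24, nat_lit 11], (nat_lit 1243)⟩]]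
noncomputable def P1881 : List Pf := [.cy (nat_lit 0) [] [] [] (nat_lit 1685) [],
  .cy (nat_lit 7) [] [] [nat_lit 24, nat_lit 1, nat_lit 17, nat_lit 37, nat_lit 27] (nat_lit 497) [⟨[], [nat_lit 15, nat_lit 1, nat_lit 33, nat_lit 36, nat_lit 11, nat_lit 26], (nat_lit 1188)⟩, ⟨[nat_lit 217], [nat_lit 25, nat_lit 16, nat_lit 0, nat_lit 36, nat_lit 36, nat_lit 17, nat_lit 26], (nat_lit 1072)⟩],
  .cy (nat_lit 0) [] [] [] (nat_lit 1687) [],
  .cy (nat_lit 8) [] [] [nat_lit 26, nat_lit 2, nat_lit 34, nat_lit 24, nat_lit 15, nat_lit 26] (nat_lit 497) [⟨[nat_lit 215], [nat_lit 17, nat_lit 2, nat_lit 0, nat_lit 35, nat_lit 33, nat_lit 11], (nat_lit 1196)⟩, ⟨[nat_lit 217], [nat_lit 11, nat_lit 5, nat_lit 2, nat_lit 34, nat_lit 15, nat_lit 11, nat_lit 26], (nat_lit 999)⟩],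
  .cy (nat_lit 0) [] [] [] (nat_lit 1689) [],
  .cy (nat_lit 8) [] [] [nat_lit 11, nat_lit 5, nat_lit 2, nat_lit 32, nat_lit 35, nat_lit 27] (nat_lit 497) [⟨[], [nat_lit 35, nat_lit 27, nat_lit 15], (nat_lit 1544)⟩, ⟨[nat_lit 217, nat_lit 215], [nat_lit 16, nat_lit 0, nat_lit 26, nat_lit 15, nat_lit 27], (nat_lit 1283)⟩],
  .cy (nat_lit 0) [] [] [] (nat_lit 1691) [],
  .cy (nat_lit 10) [] [] [nat_lit 15, nat_lit 2, nat_lit 11, nat_lit 15, nat_lit 27] (nat_lit 497) [⟨[nat_lit 215], [nat_lit 15, nat_lit 0, nat_lit 18, nat_lit 11, nat_lit 15, nat_lit 27], (nat_lit 1516)⟩, ⟨[nat_lit 215, nat_lit 217, nat_lit 215], [nat_lit 24, nat_lit 16, nat_lit 0, nat_lit 37, nat_lit 33, nat_lit 11], (nat_lit 820)⟩],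
  .cy (nat_lit 0) [] [] [] (nat_lit 1693) [],
  .cy (nat_lit 11) [] [] [nat_lit 16, nat_lit 5, nat_lit 2, nat_lit 17, nat_lit 37, nat_lit 11, nat_lit 26] (nat_lit 497) [⟨[], [nat_lit 5, nat_lit 0, nat_lit 37, nat_lit 16], (nat_lit 1544)⟩, ⟨[], [nat_lit 24, nat_lit 2, nat_lit 0, nat_lit 24, nat_lit 15, nat_lit 27], (nat_lit 1007)⟩],
  .cy (nat_lit 0) [] [] [] (nat_lit 1695) [],
  .cy (nat_lit 22) [] [] [nat_lit 18, nat_lit 15, nat_lit 0, nat_lit 11, nat_lit 18, nat_lit 27] (nat_lit 497) [⟨[nat_lit 217], [nat_lit 14, nat_lit 0, nat_lit 26, nat_lit 24], (nat_lit 1248)⟩, ⟨[nat_lit 215], [nat_lit 24, nat_lit 15, nat_lit 0, nat_lit 15, nat_lit 35, nat_lit 11, nat_lit 26], (nat_lit 1383)⟩],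
  .cy (nat_lit 0) [] [] [] (nat_lit 1697) [],
  .cy (nat_lit 25) [] [] [nat_lit 11, nat_lit 2, nat_lit 0, nat_lit 32, nat_lit 36, nat_lit 16, nat_lit 27] (nat_lit 497) [⟨[nat_lit 215, nat_lit 217], [nat_lit 1, nat_lit 34, nat_lit 24, nat_lit 17], (nat_lit 861)⟩, ⟨[nat_lit 215, nat_lit 217, nat_lit 215], [nat_lit 14, nat_lit 15, nat_lit 0, nat_lit 36, nat_lit 11, nat_lit 27], (nat_lit 1384)⟩],
  .cy (nat_lit 2) [] [] [nat_lit 15, nat_lit 1, nat_lit 16, nat_lit 27] (nat_lit 362) [⟨[nat_lit 217, nat_lit 215], [nat_lit 5, nat_lit 16, nat_lit 2, nat_lit 34, nat_lit 11, nat_lit 17, nat_lit 26], (nat_lit 1292)⟩, ⟨[nat_lit 215, nat_lit 217], [nat_lit 25, nat_lit 0, nat_lit 18, nat_lit 25, nat_lit 27], (nat_lit 918)⟩],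
  .cy (nat_lit 0) [] [] [] (nat_lit 1700) [],
  .cy (nat_lit 6) [] [] [nat_lit 10, nat_lit 0, nat_lit 18, nat_lit 36, nat_lit 11, nat_lit 27] (nat_lit 362) [⟨[nat_lit 215, nat_lit 217], [nat_lit 5, nat_lit 2, nat_lit 0, nat_lit 26, nat_lit 34, nat_lit 26], (nat_lit 1493)⟩, ⟨[nat_lit 215, nat_lit 217], [nat_lit 1, nat_lit 1, nat_lit 36, nat_lit 15], (nat_lit 345)⟩],
  .cy (nat_lit 0) [] [] [] (nat_lit 1702) [],
  .cy (nat_lit 7) [] [] [nat_lit 25, nat_lit 16, nat_lit 0, nat_lit 27, nat_lit 37, nat_lit 27] (nat_lit 362) [⟨[nat_lit 217], [nat_lit 16, nat_lit 0, nat_lit 32, nat_lit 32], (nat_lit 832)⟩, ⟨[nat_lit 215, nat_lit 217], [nat_lit 25, nat_lit 0, nat_lit 15, nat_lit 11, nat_lit 26], (nat_lit 678)⟩],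
  .cy (nat_lit 0) [] [] [] (nat_lit 1704) [],
  .cy (nat_lit 20) [] [] [nat_lit 16, nat_lit 5, nat_lit 2, nat_lit 24, nat_lit 17, nat_lit 27] (nat_lit 362) [⟨[nat_lit 217, nat_lit 215], [nat_lit 5, nat_lit 16, nat_lit 2, nat_lit 36, nat_lit 33, nat_lit 24, nat_lit 27], (nat_lit 1163)⟩, ⟨[nat_lit 217, nat_lit 215], [nat_lit 25, nat_lit 1, nat_lit 36, nat_lit 25, nat_lit 11, nat_lit 26], (nat_lit 876)⟩],
  .cy (nat_lit 0) [] [] [] (nat_lit 1706) [],
  .cy (nat_lit 23) [] [] [nat_lit 25, nat_lit 0, nat_lit 24, nat_lit 37, nat_lit 26] (nat_lit 362) [⟨[nat_lit 215], [nat_lit 26, nat_lit 24, nat_lit 0, nat_lit 24, nat_lit 16, nat_lit 26], (nat_lit 1293)⟩, ⟨[nat_lit 215, nat_lit 217], [nat_lit 14, nat_lit 0, nat_lit 36, nat_lit 36, nat_lit 17, nat_lit 27], (nat_lit 766)⟩],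
  .cy (nat_lit 0) [] [] [] (nat_lit 1708) [],
  .cy (nat_lit 3) [] [] [nat_lit 10, nat_lit 0, nat_lit 25, nat_lit 11, nat_lit 26] (nat_lit 303) [⟨[], [nat_lit 15, nat_lit 32, nat_lit 15], (nat_lit 860)⟩, ⟨[nat_lit 215, nat_lit 217, nat_lit 215], [nat_lit 16, nat_lit 5, nat_lit 2, nat_lit 25, nat_lit 16, nat_lit 16, nat_lit 27], (nat_lit 1244)⟩],
  .cy (nat_lit 0) [] [] [] (nat_lit 1710) [],
  .cy (nat_lit 8) [] [] [nat_lit 14, nat_lit 34, nat_lit 34, nat_lit 15, nat_lit 26] (nat_lit 303) [⟨[], [nat_lit 1, nat_lit 24, nat_lit 0, nat_lit 37, nat_lit 18, nat_lit 15, nat_lit 27], (nat_lit 1455)⟩, ⟨[nat_lit 217, nat_lit 215], [nat_lit 17, nat_lit 24, nat_lit 0, nat_lit 25, nat_lit 37, nat_lit 27], (nat_lit 1319)⟩],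
  .cy (nat_lit 0) [] [] [] (nat_lit 1712) [],
  .cy (nat_lit 9) [] [] [nat_lit 26, nat_lit 2, nat_lit 0, nat_lit 36, nat_lit 32, nat_lit 26] (nat_lit 303) [⟨[nat_lit 217], [nat_lit 24, nat_lit 2, nat_lit 0, nat_lit 33, nat_lit 35, nat_lit 11, nat_lit 26], (nat_lit 1159)⟩, ⟨[nat_lit 217, nat_lit 215], [nat_lit 1, nat_lit 35, nat_lit 36, nat_lit 27], (nat_lit 1288)⟩],
  .cy (nat_lit 0) [] [] [] (nat_lit 1714) [],
  .cy (nat_lit 11) [] [] [nat_lit 24, nat_lit 15, nat_lit 0, nat_lit 32, nat_lit 36, nat_lit 16, nat_lit 26] (nat_lit 303) [⟨[nat_lit 217], [nat_lit 14, nat_lit 15, nat_lit 0, nat_lit 33, nat_lit 18, nat_lit 11, nat_lit 27], (nat_lit 1004)⟩, ⟨[nat_lit 215], [nat_lit 16, nat_lit 5, nat_lit 0, nat_lit 18, nat_lit 15, nat_lit 11], (nat_lit 1592)⟩],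
  .cy (nat_lit 0) [] [] [] (nat_lit 1716) [],
  .cy (nat_lit 20) [] [] [nat_lit 25, nat_lit 1, nat_lit 18, nat_lit 35] (nat_lit 303) [⟨[nat_lit 215, nat_lit 217, nat_lit 215], [nat_lit 18, nat_lit 15, nat_lit 0, nat_lit 37, nat_lit 34, nat_lit 24, nat_lit 27], (nat_lit 625)⟩, ⟨[nat_lit 217, nat_lit 215], [nat_lit 15, nat_lit 5, nat_lit 33, nat_lit 18, nat_lit 11], (nat_lit 1389)⟩],
  .cy (nat_lit 0) [] [] [] (nat_lit 1718) [],
  .cy (nat_lit 22) [] [] [nat_lit 17, nat_lit 2, nat_lit 0, nat_lit 36, nat_lit 25, nat_lit 11] (nat_lit 303) [⟨[nat_lit 217], [nat_lit 0, nat_lit 2, nat_lit 25, nat_lit 16, nat_lit 16], (nat_lit 861)⟩, ⟨[nat_lit 217], [nat_lit 26, nat_lit 2, nat_lit 0, nat_lit 15, nat_lit 32, nat_lit 11, nat_lit 27], (nat_lit 1702)⟩],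
  .cy (nat_lit 0) [] [] [] (nat_lit 1720) [],
  .cy (nat_lit 25) [] [] [nat_lit 25, nat_lit 1, nat_lit 37, nat_lit 18, nat_lit 26] (nat_lit 303) [⟨[nat_lit 217], [nat_lit 2, nat_lit 0, nat_lit 36, nat_lit 11], (nat_lit 1266)⟩, ⟨[nat_lit 215, nat_lit 217, nat_lit 215], [nat_lit 26, nat_lit 2, nat_lit 0, nat_lit 15, nat_lit 11], (nat_lit 1703)⟩],
  .cy (nat_lit 0) [] [] [] (nat_lit 1722) [],
  .cy (nat_lit 26) [] [] [nat_lit 14, nat_lit 15, nat_lit 0, nat_lit 34, nat_lit 34, nat_lit 11] (nat_lit 303) [⟨[nat_lit 217], [nat_lit 24, nat_lit 15, nat_lit 0, nat_lit 27, nat_lit 25], (nat_lit 1291)⟩, ⟨[nat_lit 215, nat_lit 217], [nat_lit 16, nat_lit 2, nat_lit 27, nat_lit 16, nat_lit 26], (nat_lit 1402)⟩],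
  .cy (nat_lit 0) [] [] [] (nat_lit 1724) [],
  .cy (nat_lit 27) [] [] [nat_lit 1, nat_lit 24, nat_lit 0, nat_lit 33, nat_lit 36, nat_lit 11, nat_lit 26] (nat_lit 303) [⟨[], [nat_lit 5, nat_lit 2, nat_lit 25, nat_lit 33, nat_lit 15], (nat_lit 804)⟩, ⟨[nat_lit 217, nat_lit 215], [nat_lit 25, nat_lit 14, nat_lit 0, nat_lit 33, nat_lit 37, nat_lit 27], (nat_lit 457)⟩],
  .cy (nat_lit 0) [] [] [] (nat_lit 1726) [],
  .cy (nat_lit 1) [] [] [nat_lit 1, nat_lit 14, nat_lit 33, nat_lit 16, nat_lit 27] (nat_lit 380) [⟨[nat_lit 206, nat_lit 209, nat_lit 204, nat_lit 208], [nat_lit 26, nat_lit 2, nat_lit 36, nat_lit 17, nat_lit 26], (nat_lit 366)⟩, ⟨[nat_lit 215, nat_lit 217, nat_lit 215], [nat_lit 5, nat_lit 14, nat_lit 35, nat_lit 27], (nat_lit 374)⟩],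
  .cy (nat_lit 0) [] [] [] (nat_lit 1728) [],
  .cy (nat_lit 2) [] [] [nat_lit 16, nat_lit 2, nat_lit 27, nat_lit 24, nat_lit 11, nat_lit 27] (nat_lit 380) [⟨[nat_lit 522, nat_lit 209], [nat_lit 24, nat_lit 15, nat_lit 0, nat_lit 37, nat_lit 32, nat_lit 11, nat_lit 27], (nat_lit 904)⟩, ⟨[nat_lit 217], [nat_lit 16, nat_lit 5, nat_lit 0, nat_lit 25, nat_lit 35, nat_lit 11], (nat_lit 814)⟩],
  .cy (nat_lit 0) [] [] [] (nat_lit 1730) [],
  .cy (nat_lit 3) [] [] [nat_lit 2, nat_lit 24, nat_lit 37, nat_lit 17, nat_lit 27] (nat_lit 380) [⟨[nat_lit 203, nat_lit 523], [nat_lit 5, nat_lit 2, nat_lit 0, nat_lit 27, nat_lit 18, nat_lit 26], (nat_lit 517)⟩, ⟨[nat_lit 215], [nat_lit 26, nat_lit 24, nat_lit 0, nat_lit 15, nat_lit 24, nat_lit 11, nat_lit 27], (nat_lit 1381)⟩],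
  .cy (nat_lit 0) [] [] [] (nat_lit 1732) [],
  .cy (nat_lit 3) [] [] [nat_lit 11, nat_lit 5, nat_lit 2, nat_lit 37, nat_lit 34, nat_lit 26] (nat_lit 380) [⟨[nat_lit 522, nat_lit 203, nat_lit 201, nat_lit 522, nat_lit 201], [nat_lit 25, nat_lit 1, nat_lit 18, nat_lit 11, nat_lit 15, nat_lit 27], (nat_lit 515)⟩, ⟨[nat_lit 215, nat_lit 217, nat_lit 215], [nat_lit 1, nat_lit 24, nat_lit 0, nat_lit 24, nat_lit 18, nat_lit 26], (nat_lit 1700)⟩],
  .cy (nat_lit 0) [] [] [] (nat_lit 1734) [],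
  .cy (nat_lit 4) [] [] [nat_lit 5, nat_lit 2, nat_lit 37, nat_lit 24, nat_lit 15] (nat_lit 380) [⟨[nat_lit 522, nat_lit 203, nat_lit 201, nat_lit 522, nat_lit 201], [nat_lit 14, nat_lit 15, nat_lit 0, nat_lit 24, nat_lit 17, nat_lit 26], (nat_lit 515)⟩, ⟨[nat_lit 217, nat_lit 215], [nat_lit 24, nat_lit 15, nat_lit 0, nat_lit 37, nat_lit 18, nat_lit 15, nat_lit 27], (nat_lit 597)⟩],
  .cy (nat_lit 0) [] [] [] (nat_lit 1736) [],
  .cy (nat_lit 8) [] [] [nat_lit 10, nat_lit 0, nat_lit 32, nat_lit 18, nat_lit 11, nat_lit 26] (nat_lit 380) [⟨[nat_lit 206, nat_lit 209, nat_lit 204, nat_lit 208], [nat_lit 14, nat_lit 36, nat_lit 32, nat_lit 11, nat_lit 26], (nat_lit 366)⟩, ⟨[nat_lit 217], [nat_lit 11, nat_lit 5, nat_lit 2, nat_lit 36, nat_lit 32, nat_lit 11], (nat_lit 410)⟩],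
  .cy (nat_lit 0) [] [] [] (nat_lit 1738) [],
  .cy (nat_lit 10) [] [] [nat_lit 11, nat_lit 5, nat_lit 2, nat_lit 37, nat_lit 18, nat_lit 27] (nat_lit 380) [⟨[nat_lit 209, nat_lit 204, nat_lit 208, nat_lit 205], [nat_lit 26, nat_lit 24, nat_lit 0, nat_lit 11, nat_lit 18, nat_lit 27], (nat_lit 904)⟩, ⟨[], [nat_lit 5, nat_lit 0, nat_lit 25, nat_lit 18, nat_lit 16], (nat_lit 1097)⟩],
  .cy (nat_lit 0) [] [] [] (nat_lit 1740) [],
  .cy (nat_lit 22) [] [] [nat_lit 24, nat_lit 1, nat_lit 33, nat_lit 15, nat_lit 26] (nat_lit 380) [⟨[nat_lit 206, nat_lit 204, nat_lit 522], [nat_lit 15, nat_lit 5, nat_lit 37, nat_lit 11, nat_lit 27], (nat_lit 366)⟩, ⟨[], [nat_lit 5, nat_lit 2, nat_lit 15, nat_lit 32], (nat_lit 1340)⟩],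
  .cy (nat_lit 0) [] [] [] (nat_lit 1742) [],
  .cy (nat_lit 25) [] [] [nat_lit 25, nat_lit 2, nat_lit 0, nat_lit 32, nat_lit 26] (nat_lit 380) [⟨[nat_lit 203, nat_lit 208, nat_lit 522], [nat_lit 5, nat_lit 16, nat_lit 2, nat_lit 33, nat_lit 18, nat_lit 27], (nat_lit 822)⟩, ⟨[], [nat_lit 26, nat_lit 24, nat_lit 0, nat_lit 37, nat_lit 17, nat_lit 27], (nat_lit 1445)⟩],
  .cy (nat_lit 0) [] [] [] (nat_lit 1744) [],
  .cy (nat_lit 26) [] [] [nat_lit 16, nat_lit 2, nat_lit 24, nat_lit 11] (nat_lit 380) [⟨[nat_lit 522, nat_lit 203, nat_lit 522, nat_lit 203], [nat_lit 2, nat_lit 0, nat_lit 37, nat_lit 34, nat_lit 27], (nat_lit 515)⟩, ⟨[nat_lit 215], [nat_lit 1, nat_lit 18, nat_lit 15, nat_lit 11], (nat_lit 1713)⟩],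
  .cy (nat_lit 0) [] [] [] (nat_lit 1746) [],
  .cy (nat_lit 5) [] [] [nat_lit 25, nat_lit 1, nat_lit 18, nat_lit 11, nat_lit 27] (nat_lit 460) [⟨[], [nat_lit 10, nat_lit 10, nat_lit 0, nat_lit 15, nat_lit 17, nat_lit 11, nat_lit 26], (nat_lit 786)⟩, ⟨[], [nat_lit 26, nat_lit 24, nat_lit 0, nat_lit 32, nat_lit 18, nat_lit 15], (nat_lit 1497)⟩],
  .cy (nat_lit 0) [] [] [] (nat_lit 1748) [],
  .cy (nat_lit 8) [] [] [nat_lit 5, nat_lit 2, nat_lit 0, nat_lit 33, nat_lit 37, nat_lit 26] (nat_lit 460) [⟨[nat_lit 215, nat_lit 217], [nat_lit 25, nat_lit 1, nat_lit 27, nat_lit 24, nat_lit 15, nat_lit 27], (nat_lit 979)⟩, ⟨[nat_lit 217], [nat_lit 25, nat_lit 16, nat_lit 0, nat_lit 37, nat_lit 37, nat_lit 11, nat_lit 27], (nat_lit 1674)⟩],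
  .cy (nat_lit 0) [] [] [] (nat_lit 1750) [],
  .cy (nat_lit 20) [] [] [nat_lit 26, nat_lit 2, nat_lit 37, nat_lit 17, nat_lit 11, nat_lit 26] (nat_lit 460) [⟨[nat_lit 215], [nat_lit 24, nat_lit 16, nat_lit 0, nat_lit 17, nat_lit 37], (nat_lit 1608)⟩, ⟨[nat_lit 217, nat_lit 215], [nat_lit 5, nat_lit 2, nat_lit 35, nat_lit 17, nat_lit 26], (nat_lit 667)⟩],
  .cy (nat_lit 0) [] [] [] (nat_lit 1752) [],
  .cy (nat_lit 21) [] [] [nat_lit 10, nat_lit 0, nat_lit 34, nat_lit 24, nat_lit 15] (nat_lit 460) [⟨[nat_lit 215, nat_lit 217], [nat_lit 5, nat_lit 14, nat_lit 32, nat_lit 37, nat_lit 15, nat_lit 26], (nat_lit 1737)⟩, ⟨[nat_lit 215, nat_lit 217, nat_lit 215], [nat_lit 15, nat_lit 1, nat_lit 33, nat_lit 11, nat_lit 16, nat_lit 26], (nat_lit 1104)⟩],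
  .cy (nat_lit 0) [] [] [] (nat_lit 1754) [],
  .cy (nat_lit 24) [] [] [nat_lit 15, nat_lit 1, nat_lit 17, nat_lit 36, nat_lit 26] (nat_lit 460) [⟨[nat_lit 215], [nat_lit 25, nat_lit 0, nat_lit 35, nat_lit 35, nat_lit 11, nat_lit 27], (nat_lit 1600)⟩, ⟨[], [nat_lit 1, nat_lit 5, nat_lit 15, nat_lit 35, nat_lit 11], (nat_lit 1103)⟩],
  .cy (nat_lit 0) [] [] [] (nat_lit 1756) [],
  .cy (nat_lit 25) [] [] [nat_lit 0, nat_lit 32, nat_lit 34, nat_lit 26] (nat_lit 460) [⟨[nat_lit 215, nat_lit 217], [nat_lit 26, nat_lit 2, nat_lit 35, nat_lit 11, nat_lit 27], (nat_lit 1470)⟩, ⟨[nat_lit 215, nat_lit 217, nat_lit 215], [nat_lit 24, nat_lit 16, nat_lit 0, nat_lit 33, nat_lit 18, nat_lit 27], (nat_lit 1101)⟩],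
  .cy (nat_lit 0) [] [] [] (nat_lit 1758) [],
  .cy (nat_lit 26) [] [] [nat_lit 10, nat_lit 0, nat_lit 24, nat_lit 24, nat_lit 11, nat_lit 27] (nat_lit 460) [⟨[nat_lit 215, nat_lit 217], [nat_lit 5, nat_lit 33, nat_lit 15, nat_lit 11, nat_lit 27], (nat_lit 1747)⟩, ⟨[nat_lit 215], [nat_lit 2, nat_lit 0, nat_lit 27, nat_lit 15, nat_lit 11], (nat_lit 1316)⟩],
  .cy (nat_lit 0) [] [] [] (nat_lit 1760) [],
  .cy (nat_lit 7) [] [] [nat_lit 26, nat_lit 2, nat_lit 25, nat_lit 15, nat_lit 27] (nat_lit 414) [⟨[nat_lit 215, nat_lit 217, nat_lit 215], [nat_lit 26, nat_lit 2, nat_lit 0, nat_lit 25, nat_lit 16, nat_lit 16, nat_lit 27], (nat_lit 1437)⟩, ⟨[nat_lit 217], [nat_lit 17, nat_lit 2, nat_lit 0, nat_lit 16, nat_lit 16, nat_lit 11, nat_lit 27], (nat_lit 1392)⟩],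
  .cy (nat_lit 0) [] [] [] (nat_lit 1762) [],
  .cy (nat_lit 8) [] [] [nat_lit 25, nat_lit 16, nat_lit 0, nat_lit 37, nat_lit 24, nat_lit 27] (nat_lit 414) [⟨[nat_lit 217, nat_lit 215], [nat_lit 18, nat_lit 15, nat_lit 0, nat_lit 32, nat_lit 34, nat_lit 11], (nat_lit 406)⟩, ⟨[nat_lit 217, nat_lit 215], [nat_lit 14, nat_lit 0, nat_lit 32, nat_lit 32, nat_lit 27], (nat_lit 459)⟩],
  .cy (nat_lit 0) [] [] [] (nat_lit 1764) [],
  .cy (nat_lit 8) [] [] [nat_lit 24, nat_lit 0, nat_lit 15, nat_lit 18] (nat_lit 414) [⟨[nat_lit 215, nat_lit 217, nat_lit 215], [nat_lit 24, nat_lit 1, nat_lit 17, nat_lit 37, nat_lit 11, nat_lit 26], (nat_lit 1313)⟩, ⟨[nat_lit 215, nat_lit 217, nat_lit 215], [nat_lit 5, nat_lit 16, nat_lit 2, nat_lit 37, nat_lit 18, nat_lit 26], (nat_lit 472)⟩],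
  .cy (nat_lit 0) [] [] [] (nat_lit 1766) [],
  .cy (nat_lit 10) [] [] [nat_lit 1, nat_lit 5, nat_lit 34, nat_lit 25, nat_lit 11, nat_lit 26] (nat_lit 414) [⟨[], [nat_lit 15, nat_lit 1, nat_lit 33, nat_lit 15, nat_lit 11, nat_lit 27], (nat_lit 1322)⟩, ⟨[nat_lit 217], [nat_lit 24, nat_lit 2, nat_lit 33, nat_lit 35, nat_lit 27], (nat_lit 1145)⟩],
  .cy (nat_lit 0) [] [] [] (nat_lit 1768) [],
  .cy (nat_lit 20) [] [] [nat_lit 5, nat_lit 14, nat_lit 33, nat_lit 36, nat_lit 26] (nat_lit 414) [⟨[nat_lit 217], [nat_lit 24, nat_lit 2, nat_lit 35, nat_lit 32, nat_lit 11], (nat_lit 632)⟩, ⟨[nat_lit 215, nat_lit 217, nat_lit 215], [nat_lit 24, nat_lit 2, nat_lit 36, nat_lit 18, nat_lit 15, nat_lit 26], (nat_lit 1593)⟩],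
  .cy (nat_lit 0) [] [] [] (nat_lit 1770) [],
  .cy (nat_lit 21) [] [] [nat_lit 24, nat_lit 2, nat_lit 0, nat_lit 37, nat_lit 34, nat_lit 25, nat_lit 27] (nat_lit 414) [⟨[nat_lit 215, nat_lit 217, nat_lit 215], [nat_lit 11, nat_lit 2, nat_lit 0, nat_lit 37, nat_lit 33, nat_lit 11], (nat_lit 962)⟩, ⟨[nat_lit 215, nat_lit 217, nat_lit 215], [nat_lit 24, nat_lit 1, nat_lit 11, nat_lit 37, nat_lit 26], (nat_lit 1625)⟩],
  .cy (nat_lit 0) [] [] [] (nat_lit 1772) [],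
  .cy (nat_lit 22) [] [] [nat_lit 25, nat_lit 2, nat_lit 0, nat_lit 26, nat_lit 15, nat_lit 15, nat_lit 27] (nat_lit 414) [⟨[nat_lit 215], [nat_lit 14, nat_lit 15, nat_lit 0, nat_lit 27, nat_lit 24], (nat_lit 1384)⟩, ⟨[nat_lit 215, nat_lit 217, nat_lit 215], [nat_lit 14, nat_lit 0, nat_lit 33, nat_lit 25], (nat_lit 536)⟩],
  .cy (nat_lit 0) [] [] [] (nat_lit 1774) [],
  .cy (nat_lit 22) [] [] [nat_lit 25, nat_lit 16, nat_lit 0, nat_lit 26, nat_lit 16] (nat_lit 414) [⟨[nat_lit 215, nat_lit 217], [nat_lit 25, nat_lit 0, nat_lit 25, nat_lit 16, nat_lit 16, nat_lit 26], (nat_lit 467)⟩, ⟨[], [nat_lit 26, nat_lit 2, nat_lit 0, nat_lit 24, nat_lit 36], (nat_lit 1593)⟩],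
  .cy (nat_lit 0) [] [] [] (nat_lit 1776) [],
  .cy (nat_lit 25) [] [] [nat_lit 11, nat_lit 2, nat_lit 0, nat_lit 17, nat_lit 24] (nat_lit 414) [⟨[nat_lit 215, nat_lit 217, nat_lit 215], [nat_lit 26, nat_lit 24, nat_lit 0, nat_lit 34, nat_lit 34, nat_lit 11, nat_lit 27], (nat_lit 902)⟩, ⟨[nat_lit 215, nat_lit 217, nat_lit 215], [nat_lit 24, nat_lit 16, nat_lit 0, nat_lit 32, nat_lit 18, nat_lit 26], (nat_lit 1095)⟩],
  .cy (nat_lit 0) [] [] [] (nat_lit 1778) [],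
  .cy (nat_lit 6) [] [] [nat_lit 11, nat_lit 2, nat_lit 0, nat_lit 17, nat_lit 37, nat_lit 27] (nat_lit 344) [⟨[nat_lit 215, nat_lit 217, nat_lit 215], [nat_lit 25, nat_lit 14, nat_lit 0, nat_lit 34, nat_lit 16, nat_lit 26], (nat_lit 1637)⟩, ⟨[nat_lit 217, nat_lit 215], [nat_lit 1, nat_lit 5, nat_lit 16, nat_lit 37, nat_lit 27], (nat_lit 1094)⟩],
  .cy (nat_lit 0) [] [] [] (nat_lit 1780) [],
  .cy (nat_lit 6) [] [] [nat_lit 0, nat_lit 2, nat_lit 24, nat_lit 15, nat_lit 26] (nat_lit 344) [⟨[nat_lit 215, nat_lit 217, nat_lit 215], [nat_lit 0, nat_lit 2, nat_lit 24, nat_lit 36, nat_lit 11], (nat_lit 1233)⟩, ⟨[nat_lit 215], [nat_lit 0, nat_lit 2, nat_lit 24, nat_lit 35, nat_lit 26], (nat_lit 487)⟩],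
  .cy (nat_lit 0) [] [] [] (nat_lit 1782) [],
  .cy (nat_lit 21) [] [] [nat_lit 25, nat_lit 1, nat_lit 37, nat_lit 25, nat_lit 26] (nat_lit 344) [⟨[nat_lit 217, nat_lit 215], [nat_lit 18, nat_lit 15, nat_lit 0, nat_lit 16, nat_lit 25, nat_lit 27], (nat_lit 1609)⟩, ⟨[nat_lit 215], [nat_lit 0, nat_lit 2, nat_lit 26, nat_lit 34, nat_lit 11, nat_lit 27], (nat_lit 563)⟩],
  .cy (nat_lit 0) [] [] [] (nat_lit 1784) [],
  .cy (nat_lit 23) [] [] [nat_lit 26, nat_lit 2, nat_lit 24, nat_lit 24, nat_lit 11] (nat_lit 344) [⟨[nat_lit 215, nat_lit 217, nat_lit 215], [nat_lit 16, nat_lit 2, nat_lit 37, nat_lit 25, nat_lit 26], (nat_lit 1099)⟩, ⟨[nat_lit 217, nat_lit 215], [nat_lit 26, nat_lit 2, nat_lit 34, nat_lit 34, nat_lit 27], (nat_lit 756)⟩],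
  .cy (nat_lit 0) [] [] [] (nat_lit 1786) [],
  .cy (nat_lit 5) [] [] [nat_lit 5, nat_lit 0, nat_lit 18, nat_lit 35, nat_lit 26] (nat_lit 393) [⟨[nat_lit 215, nat_lit 217], [nat_lit 5, nat_lit 0, nat_lit 33, nat_lit 18, nat_lit 11, nat_lit 27], (nat_lit 801)⟩, ⟨[nat_lit 215], [nat_lit 26, nat_lit 24, nat_lit 0, nat_lit 33, nat_lit 37, nat_lit 11, nat_lit 27], (nat_lit 833)⟩],
  .cy (nat_lit 0) [] [] [] (nat_lit 1788) [],
  .cy (nat_lit 7) [] [] [nat_lit 25, nat_lit 2, nat_lit 0, nat_lit 15, nat_lit 24, nat_lit 11] (nat_lit 393) [⟨[nat_lit 215, nat_lit 217, nat_lit 215], [nat_lit 14, nat_lit 0, nat_lit 24, nat_lit 11], (nat_lit 1241)⟩, ⟨[nat_lit 215, nat_lit 217, nat_lit 215], [nat_lit 17, nat_lit 24, nat_lit 0, nat_lit 27, nat_lit 24], (nat_lit 1562)⟩],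
  .cy (nat_lit 0) [] [] [] (nat_lit 1790) [],
  .cy (nat_lit 11) [] [] [nat_lit 17, nat_lit 2, nat_lit 0, nat_lit 25, nat_lit 18, nat_lit 16, nat_lit 26] (nat_lit 393) [⟨[], [nat_lit 25, nat_lit 1, nat_lit 25, nat_lit 37, nat_lit 15, nat_lit 26], (nat_lit 1037)⟩, ⟨[nat_lit 215], [nat_lit 15, nat_lit 5, nat_lit 15, nat_lit 18, nat_lit 11], (nat_lit 265)⟩],
  .cy (nat_lit 0) [] [] [] (nat_lit 1792) [],
  .cy (nat_lit 12) [] [] [nat_lit 10, nat_lit 10, nat_lit 0, nat_lit 25, nat_lit 35, nat_lit 11, nat_lit 26] (nat_lit 393) [⟨[nat_lit 217], [nat_lit 24, nat_lit 1, nat_lit 18, nat_lit 15], (nat_lit 429)⟩, ⟨[nat_lit 217], [nat_lit 0, nat_lit 34, nat_lit 17], (nat_lit 771)⟩],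
  .cy (nat_lit 0) [] [] [] (nat_lit 1794) [],
  .cy (nat_lit 22) [] [] [nat_lit 25, nat_lit 1, nat_lit 37, nat_lit 18, nat_lit 15, nat_lit 26] (nat_lit 393) [⟨[nat_lit 217, nat_lit 215], [nat_lit 1, nat_lit 24, nat_lit 15], (nat_lit 949)⟩, ⟨[nat_lit 217], [nat_lit 17, nat_lit 2, nat_lit 0, nat_lit 18, nat_lit 16, nat_lit 27], (nat_lit 1655)⟩],
  .cy (nat_lit 0) [] [] [] (nat_lit 1796) [],
  .cy (nat_lit 23) [] [] [nat_lit 1, nat_lit 1, nat_lit 34, nat_lit 24, nat_lit 15, nat_lit 27] (nat_lit 393) [⟨[nat_lit 217, nat_lit 215], [nat_lit 1, nat_lit 15, nat_lit 15, nat_lit 15], (nat_lit 1020)⟩, ⟨[nat_lit 217, nat_lit 215], [nat_lit 24, nat_lit 1, nat_lit 16, nat_lit 37], (nat_lit 663)⟩],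
  .cy (nat_lit 0) [] [] [] (nat_lit 1798) [],
  .cy (nat_lit 1) [] [] [nat_lit 0, nat_lit 37, nat_lit 17, nat_lit 11, nat_lit 26] (nat_lit 435) [⟨[], [nat_lit 37, nat_lit 18, nat_lit 27], (nat_lit 1575)⟩, ⟨[nat_lit 217, nat_lit 215], [nat_lit 11, nat_lit 2, nat_lit 0, nat_lit 34, nat_lit 25, nat_lit 11, nat_lit 26], (nat_lit 372)⟩],
  .cy (nat_lit 0) [] [] [] (nat_lit 1800) [],
  .cy (nat_lit 3) [] [] [nat_lit 24, nat_lit 0, nat_lit 32] (nat_lit 435) [⟨[], [nat_lit 26, nat_lit 2, nat_lit 36, nat_lit 18, nat_lit 15, nat_lit 26], (nat_lit 1303)⟩, ⟨[nat_lit 215, nat_lit 217], [nat_lit 1, nat_lit 15, nat_lit 15, nat_lit 15], (nat_lit 1560)⟩],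
  .cy (nat_lit 0) [] [] [] (nat_lit 1802) [],
  .cy (nat_lit 5) [] [] [nat_lit 11, nat_lit 2, nat_lit 0, nat_lit 18, nat_lit 36, nat_lit 27] (nat_lit 435) [⟨[nat_lit 215, nat_lit 217], [nat_lit 5, nat_lit 0, nat_lit 32, nat_lit 34, nat_lit 16], (nat_lit 1068)⟩, ⟨[], [nat_lit 16, nat_lit 5, nat_lit 0, nat_lit 35, nat_lit 36, nat_lit 27], (nat_lit 1521)⟩],
  .cy (nat_lit 0) [] [] [] (nat_lit 1804) [],
  .cy (nat_lit 9) [] [] [nat_lit 14, nat_lit 35, nat_lit 33, nat_lit 27] (nat_lit 435) [⟨[nat_lit 215], [nat_lit 10, nat_lit 0, nat_lit 17, nat_lit 15, nat_lit 26], (nat_lit 322)⟩, ⟨[nat_lit 215, nat_lit 217], [nat_lit 2, nat_lit 15, nat_lit 15, nat_lit 11, nat_lit 26], (nat_lit 1592)⟩],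
  .cy (nat_lit 0) [] [] [] (nat_lit 1806) [],
  .cy (nat_lit 9) [] [] [nat_lit 26, nat_lit 2, nat_lit 34, nat_lit 17, nat_lit 33] (nat_lit 435) [⟨[], [nat_lit 18, nat_lit 15, nat_lit 0, nat_lit 34, nat_lit 25, nat_lit 11, nat_lit 26], (nat_lit 857)⟩, ⟨[nat_lit 215, nat_lit 217, nat_lit 215], [nat_lit 1, nat_lit 5, nat_lit 24, nat_lit 37, nat_lit 15, nat_lit 27], (nat_lit 661)⟩],
  .cy (nat_lit 0) [] [] [] (nat_lit 1808) [],
  .cy (nat_lit 11) [] [] [nat_lit 24, nat_lit 15, nat_lit 0, nat_lit 37, nat_lit 33, nat_lit 11, nat_lit 27] (nat_lit 435) [⟨[nat_lit 215, nat_lit 217, nat_lit 215], [nat_lit 16, nat_lit 5, nat_lit 0, nat_lit 36, nat_lit 24, nat_lit 26], (nat_lit 745)⟩, ⟨[nat_lit 215, nat_lit 217], [nat_lit 18, nat_lit 15, nat_lit 0, nat_lit 27, nat_lit 36], (nat_lit 504)⟩],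
  .cy (nat_lit 0) [] [] [] (nat_lit 1810) [],
  .cy (nat_lit 26) [] [] [nat_lit 16, nat_lit 2, nat_lit 37, nat_lit 11, nat_lit 27] (nat_lit 435) [⟨[], [nat_lit 1, nat_lit 5, nat_lit 15, nat_lit 27, nat_lit 16], (nat_lit 997)⟩, ⟨[nat_lit 215, nat_lit 217, nat_lit 215], [nat_lit 17, nat_lit 24, nat_lit 0, nat_lit 24, nat_lit 15, nat_lit 27], (nat_lit 1015)⟩],
  .cy (nat_lit 0) [] [] [] (nat_lit 1812) [],
  .cy (nat_lit 27) [] [] [nat_lit 17, nat_lit 2, nat_lit 0, nat_lit 15, nat_lit 24, nat_lit 27] (nat_lit 435) [⟨[nat_lit 215, nat_lit 217, nat_lit 215], [nat_lit 1, nat_lit 14, nat_lit 27, nat_lit 24, nat_lit 27], (nat_lit 1201)⟩, ⟨[nat_lit 215], [nat_lit 24, nat_lit 1, nat_lit 33, nat_lit 35, nat_lit 27], (nat_lit 1742)⟩],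
  .cy (nat_lit 0) [] [] [] (nat_lit 1814) [],
  .cy (nat_lit 7) [] [] [nat_lit 16, nat_lit 0, nat_lit 11, nat_lit 36, nat_lit 26] (nat_lit 365) [⟨[], [nat_lit 2, nat_lit 0, nat_lit 15, nat_lit 11], (nat_lit 1451)⟩, ⟨[nat_lit 217], [nat_lit 5, nat_lit 16, nat_lit 2, nat_lit 34, nat_lit 11, nat_lit 17, nat_lit 27], (nat_lit 416)⟩],
  .cy (nat_lit 0) [] [] [] (nat_lit 1816) [],
  .cy (nat_lit 8) [] [] [nat_lit 16, nat_lit 5, nat_lit 2, nat_lit 33] (nat_lit 365) [⟨[nat_lit 217], [nat_lit 1, nat_lit 24, nat_lit 0, nat_lit 33, nat_lit 37, nat_lit 11], (nat_lit 1767)⟩, ⟨[nat_lit 215, nat_lit 217, nat_lit 215], [nat_lit 17, nat_lit 2, nat_lit 0, nat_lit 25, nat_lit 37, nat_lit 11], (nat_lit 1682)⟩],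
  .cy (nat_lit 0) [] [] [] (nat_lit 1818) [],
  .cy (nat_lit 20) [] [] [nat_lit 11, nat_lit 2, nat_lit 0, nat_lit 32, nat_lit 37, nat_lit 15] (nat_lit 365) [⟨[], [nat_lit 5, nat_lit 2, nat_lit 17, nat_lit 17, nat_lit 11], (nat_lit 410)⟩, ⟨[nat_lit 217], [nat_lit 25, nat_lit 2, nat_lit 0, nat_lit 17, nat_lit 17, nat_lit 15], (nat_lit 1313)⟩],
  .cy (nat_lit 0) [] [] [] (nat_lit 1820) [],
  .cy (nat_lit 21) [] [] [nat_lit 18, nat_lit 15, nat_lit 0, nat_lit 35, nat_lit 16, nat_lit 16, nat_lit 27] (nat_lit 365) [⟨[nat_lit 217, nat_lit 215], [nat_lit 26, nat_lit 2, nat_lit 0, nat_lit 15, nat_lit 32, nat_lit 15, nat_lit 26], (nat_lit 629)⟩, ⟨[nat_lit 215, nat_lit 217], [nat_lit 5, nat_lit 14, nat_lit 27, nat_lit 24, nat_lit 26], (nat_lit 1248)⟩],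
  .cy (nat_lit 0) [] [] [] (nat_lit 1822) [],
  .cy (nat_lit 22) [] [] [nat_lit 1, nat_lit 37, nat_lit 33, nat_lit 11, nat_lit 26] (nat_lit 365) [⟨[nat_lit 215, nat_lit 217], [nat_lit 18, nat_lit 15, nat_lit 0, nat_lit 37, nat_lit 11, nat_lit 17, nat_lit 26], (nat_lit 1727)⟩, ⟨[], [nat_lit 5, nat_lit 16, nat_lit 2, nat_lit 37, nat_lit 34, nat_lit 11, nat_lit 27], (nat_lit 1224)⟩],
  .cy (nat_lit 0) [] [] [] (nat_lit 1824) [],
  .cy (nat_lit 23) [] [] [nat_lit 26, nat_lit 2, nat_lit 0, nat_lit 37, nat_lit 37, nat_lit 16, nat_lit 27] (nat_lit 365) [⟨[nat_lit 217, nat_lit 215], [nat_lit 5, nat_lit 0, nat_lit 35, nat_lit 33, nat_lit 11], (nat_lit 467)⟩, ⟨[nat_lit 215, nat_lit 217, nat_lit 215], [nat_lit 24, nat_lit 2, nat_lit 24, nat_lit 24], (nat_lit 898)⟩],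
  .cy (nat_lit 0) [] [] [] (nat_lit 1826) [],
  .cy (nat_lit 24) [] [] [nat_lit 2, nat_lit 0, nat_lit 35, nat_lit 17, nat_lit 16] (nat_lit 365) [⟨[], [nat_lit 0, nat_lit 2, nat_lit 17, nat_lit 36, nat_lit 26], (nat_lit 1218)⟩, ⟨[nat_lit 215, nat_lit 217, nat_lit 215], [nat_lit 1, nat_lit 14, nat_lit 15, nat_lit 11, nat_lit 15, nat_lit 27], (nat_lit 611)⟩],
  .cy (nat_lit 0) [] [] [] (nat_lit 1828) [],
  .cy (nat_lit 26) [] [] [nat_lit 16, nat_lit 2, nat_lit 33, nat_lit 35, nat_lit 26] (nat_lit 365) [⟨[], [nat_lit 15, nat_lit 5, nat_lit 36, nat_lit 18, nat_lit 15], (nat_lit 1767)⟩, ⟨[nat_lit 217], [nat_lit 10, nat_lit 0, nat_lit 26, nat_lit 17, nat_lit 15], (nat_lit 1479)⟩],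
  .cy (nat_lit 0) [] [] [] (nat_lit 1830) [],
  .cy (nat_lit 1) [] [] [nat_lit 1, nat_lit 14, nat_lit 25, nat_lit 18, nat_lit 16, nat_lit 27] (nat_lit 412) [⟨[nat_lit 215, nat_lit 217, nat_lit 215], [nat_lit 1, nat_lit 24, nat_lit 0, nat_lit 32, nat_lit 35, nat_lit 26], (nat_lit 997)⟩, ⟨[], [nat_lit 24, nat_lit 0, nat_lit 17, nat_lit 36, nat_lit 15], (nat_lit 1001)⟩],
  .cy (nat_lit 0) [] [] [] (nat_lit 1832) [],
  .cy (nat_lit 9) [] [] [nat_lit 14, nat_lit 11, nat_lit 17, nat_lit 26] (nat_lit 412) [⟨[], [nat_lit 26, nat_lit 2, nat_lit 27, nat_lit 17, nat_lit 27], (nat_lit 1433)⟩, ⟨[nat_lit 215], [nat_lit 25, nat_lit 0, nat_lit 37, nat_lit 18, nat_lit 15], (nat_lit 903)⟩],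
  .cy (nat_lit 0) [] [] [] (nat_lit 1834) [],
  .cy (nat_lit 10) [] [] [nat_lit 15, nat_lit 5, nat_lit 26, nat_lit 34, nat_lit 11] (nat_lit 412) [⟨[nat_lit 217], [nat_lit 25, nat_lit 14, nat_lit 0, nat_lit 34, nat_lit 34, nat_lit 15, nat_lit 27], (nat_lit 953)⟩, ⟨[nat_lit 215, nat_lit 217], [nat_lit 24, nat_lit 2, nat_lit 24, nat_lit 36, nat_lit 27], (nat_lit 1283)⟩],
  .cy (nat_lit 0) [] [] [] (nat_lit 1836) [],
  .cy (nat_lit 12) [] [] [nat_lit 16, nat_lit 2, nat_lit 32, nat_lit 18, nat_lit 27] (nat_lit 412) [⟨[], [nat_lit 17, nat_lit 11, nat_lit 17], (nat_lit 958)⟩, ⟨[nat_lit 215, nat_lit 217], [nat_lit 25, nat_lit 2, nat_lit 0, nat_lit 37, nat_lit 11, nat_lit 15, nat_lit 27], (nat_lit 424)⟩],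
  .cy (nat_lit 0) [] [] [] (nat_lit 1838) [],
  .cy (nat_lit 20) [] [] [nat_lit 5, nat_lit 2, nat_lit 0, nat_lit 33, nat_lit 25, nat_lit 26] (nat_lit 412) [⟨[nat_lit 215], [nat_lit 1, nat_lit 24, nat_lit 0, nat_lit 24, nat_lit 18, nat_lit 16], (nat_lit 1073)⟩, ⟨[nat_lit 217], [nat_lit 0, nat_lit 2, nat_lit 17, nat_lit 37, nat_lit 26], (nat_lit 1313)⟩],
  .cy (nat_lit 0) [] [] [] (nat_lit 1840) [],
  .cy (nat_lit 20) [] [] [nat_lit 15, nat_lit 5, nat_lit 18, nat_lit 16, nat_lit 11, nat_lit 27] (nat_lit 412) [⟨[nat_lit 215], [nat_lit 25, nat_lit 16, nat_lit 0, nat_lit 17, nat_lit 37, nat_lit 11, nat_lit 26], (nat_lit 1104)⟩, ⟨[nat_lit 215], [nat_lit 2, nat_lit 0, nat_lit 33, nat_lit 37, nat_lit 11, nat_lit 27], (nat_lit 1588)⟩],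
  .cy (nat_lit 0) [] [] [] (nat_lit 1842) [],
  .cy (nat_lit 2) [] [] [nat_lit 26, nat_lit 2, nat_lit 0, nat_lit 24, nat_lit 24, nat_lit 26] (nat_lit 374) [⟨[], [nat_lit 2, nat_lit 27, nat_lit 25], (nat_lit 882)⟩, ⟨[nat_lit 217, nat_lit 215], [nat_lit 24, nat_lit 0, nat_lit 36, nat_lit 18, nat_lit 15, nat_lit 27], (nat_lit 614)⟩],
  .cy (nat_lit 0) [] [] [] (nat_lit 1844) [],
  .cy (nat_lit 4) [] [] [nat_lit 25, nat_lit 16, nat_lit 0, nat_lit 34, nat_lit 11, nat_lit 17] (nat_lit 374) [⟨[nat_lit 217], [nat_lit 25, nat_lit 1, nat_lit 33, nat_lit 11, nat_lit 27], (nat_lit 1273)⟩, ⟨[nat_lit 215, nat_lit 217], [nat_lit 2, nat_lit 15, nat_lit 35], (nat_lit 1677)⟩],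
  .cy (nat_lit 0) [] [] [] (nat_lit 1846) [],
  .cy (nat_lit 11) [] [] [nat_lit 10, nat_lit 0, nat_lit 16, nat_lit 18, nat_lit 27] (nat_lit 374) [⟨[nat_lit 215, nat_lit 217, nat_lit 215], [nat_lit 5, nat_lit 0, nat_lit 37, nat_lit 17, nat_lit 26], (nat_lit 760)⟩, ⟨[nat_lit 164], [nat_lit 26, nat_lit 2, nat_lit 0, nat_lit 37, nat_lit 33, nat_lit 27], (nat_lit 699)⟩],
  .cy (nat_lit 0) [] [] [] (nat_lit 1848) [],
  .cy (nat_lit 8) [] [] [nat_lit 0, nat_lit 2, nat_lit 36, nat_lit 16, nat_lit 11] (nat_lit 443) [⟨[nat_lit 217], [nat_lit 17, nat_lit 2, nat_lit 0, nat_lit 26, nat_lit 34, nat_lit 32], (nat_lit 1005)⟩, ⟨[], [nat_lit 25, nat_lit 1, nat_lit 16, nat_lit 18, nat_lit 15], (nat_lit 1098)⟩],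
  .cy (nat_lit 0) [] [] [] (nat_lit 1850) [],
  .cy (nat_lit 10) [] [] [nat_lit 0, nat_lit 2, nat_lit 32] (nat_lit 443) [⟨[], [nat_lit 0, nat_lit 2, nat_lit 36, nat_lit 18, nat_lit 27], (nat_lit 1112)⟩, ⟨[nat_lit 215, nat_lit 217], [nat_lit 26, nat_lit 2, nat_lit 0, nat_lit 27, nat_lit 15, nat_lit 27], (nat_lit 650)⟩],
  .cy (nat_lit 0) [] [] [] (nat_lit 1852) [],
  .cy (nat_lit 24) [] [] [nat_lit 17, nat_lit 24, nat_lit 0, nat_lit 24, nat_lit 37, nat_lit 15] (nat_lit 443) [⟨[nat_lit 215], [nat_lit 25, nat_lit 14, nat_lit 0, nat_lit 32, nat_lit 36, nat_lit 16], (nat_lit 924)⟩, ⟨[nat_lit 217, nat_lit 215], [nat_lit 10, nat_lit 0, nat_lit 32, nat_lit 34, nat_lit 11], (nat_lit 604)⟩],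
  .cy (nat_lit 0) [] [] [] (nat_lit 1854) [],
  .cy (nat_lit 25) [] [] [nat_lit 0, nat_lit 2, nat_lit 33, nat_lit 33, nat_lit 11, nat_lit 27] (nat_lit 443) [⟨[nat_lit 215, nat_lit 217], [nat_lit 25, nat_lit 1, nat_lit 15, nat_lit 18, nat_lit 16], (nat_lit 1737)⟩, ⟨[nat_lit 215], [nat_lit 14, nat_lit 0, nat_lit 37, nat_lit 32, nat_lit 11, nat_lit 26], (nat_lit 598)⟩],
  .cy (nat_lit 0) [] [] [] (nat_lit 1856) [],
  .cy (nat_lit 25) [] [] [nat_lit 5, nat_lit 2, nat_lit 0, nat_lit 17, nat_lit 15, nat_lit 11, nat_lit 27] (nat_lit 443) [⟨[nat_lit 215], [nat_lit 1, nat_lit 1, nat_lit 17, nat_lit 24, nat_lit 26], (nat_lit 1245)⟩, ⟨[nat_lit 215], [nat_lit 0, nat_lit 2, nat_lit 17, nat_lit 36, nat_lit 15], (nat_lit 1161)⟩],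
  .cy (nat_lit 0) [] [] [] (nat_lit 1858) [],
  .cy (nat_lit 26) [] [] [nat_lit 1, nat_lit 5, nat_lit 35, nat_lit 36, nat_lit 26] (nat_lit 443) [⟨[nat_lit 217], [nat_lit 24, nat_lit 0, nat_lit 37, nat_lit 18, nat_lit 15, nat_lit 26], (nat_lit 1546)⟩, ⟨[nat_lit 215, nat_lit 217, nat_lit 215], [nat_lit 24, nat_lit 17, nat_lit 26], (nat_lit 1158)⟩],
  .cy (nat_lit 0) [] [] [] (nat_lit 1860) [],
  .cy (nat_lit 27) [] [] [nat_lit 16, nat_lit 0, nat_lit 27, nat_lit 25, nat_lit 26] (nat_lit 443) [⟨[nat_lit 215], [nat_lit 14, nat_lit 24, nat_lit 37, nat_lit 11, nat_lit 27], (nat_lit 1135)⟩, ⟨[nat_lit 217], [nat_lit 0, nat_lit 2, nat_lit 27, nat_lit 24, nat_lit 27], (nat_lit 604)⟩],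
  .cy (nat_lit 0) [] [] [] (nat_lit 1862) [],
  .cy (nat_lit 1) [] [] [nat_lit 26, nat_lit 2, nat_lit 0, nat_lit 33, nat_lit 18] (nat_lit 445) [⟨[nat_lit 215], [nat_lit 17, nat_lit 24, nat_lit 0, nat_lit 25, nat_lit 18, nat_lit 18, nat_lit 27], (nat_lit 676)⟩, ⟨[], [nat_lit 15, nat_lit 2, nat_lit 18, nat_lit 11, nat_lit 15], (nat_lit 1719)⟩],
  .cy (nat_lit 0) [] [] [] (nat_lit 1864) [],
  .cy (nat_lit 2) [] [] [nat_lit 25, nat_lit 16, nat_lit 0, nat_lit 17, nat_lit 24, nat_lit 26] (nat_lit 445) [⟨[nat_lit 215], [nat_lit 2, nat_lit 0, nat_lit 17, nat_lit 34, nat_lit 11], (nat_lit 676)⟩, ⟨[nat_lit 215, nat_lit 217], [nat_lit 2, nat_lit 36, nat_lit 24, nat_lit 15, nat_lit 27], (nat_lit 946)⟩],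
  .cy (nat_lit 0) [] [] [] (nat_lit 1866) [],
  .cy (nat_lit 2) [] [] [nat_lit 15, nat_lit 1, nat_lit 35, nat_lit 36, nat_lit 26] (nat_lit 445) [⟨[nat_lit 215, nat_lit 217], [nat_lit 17, nat_lit 2, nat_lit 0, nat_lit 27, nat_lit 18, nat_lit 11, nat_lit 26], (nat_lit 619)⟩, ⟨[nat_lit 217, nat_lit 215], [nat_lit 10, nat_lit 0, nat_lit 15, nat_lit 15, nat_lit 15], (nat_lit 681)⟩],
  .cy (nat_lit 0) [] [] [] (nat_lit 1868) [],
  .cy (nat_lit 3) [] [] [nat_lit 1, nat_lit 14, nat_lit 18, nat_lit 35, nat_lit 26] (nat_lit 445) [⟨[], [nat_lit 15, nat_lit 5, nat_lit 25, nat_lit 18], (nat_lit 1639)⟩, ⟨[nat_lit 217], [nat_lit 14, nat_lit 16, nat_lit 11, nat_lit 26], (nat_lit 1704)⟩],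
  .cy (nat_lit 0) [] [] [] (nat_lit 1870) [],
  .cy (nat_lit 8) [] [] [nat_lit 1, nat_lit 24, nat_lit 0, nat_lit 33, nat_lit 35, nat_lit 11] (nat_lit 445) [⟨[], [nat_lit 2, nat_lit 0, nat_lit 26, nat_lit 24, nat_lit 11, nat_lit 26], (nat_lit 1222)⟩, ⟨[], [nat_lit 25, nat_lit 2, nat_lit 0, nat_lit 34, nat_lit 17, nat_lit 33, nat_lit 26], (nat_lit 321)⟩],
  .cy (nat_lit 0) [] [] [] (nat_lit 1872) [],
  .cy (nat_lit 11) [] [] [nat_lit 5, nat_lit 0, nat_lit 34, nat_lit 16, nat_lit 11, nat_lit 26] (nat_lit 445) [⟨[nat_lit 217, nat_lit 215], [nat_lit 0, nat_lit 2, nat_lit 37, nat_lit 34, nat_lit 27], (nat_lit 458)⟩, ⟨[nat_lit 215], [nat_lit 0, nat_lit 2, nat_lit 37, nat_lit 17, nat_lit 11, nat_lit 26], (nat_lit 1333)⟩],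
  .cy (nat_lit 0) [] [] [] (nat_lit 1874) [],
  .cy (nat_lit 21) [] [] [nat_lit 1, nat_lit 16, nat_lit 16, nat_lit 11] (nat_lit 445) [⟨[], [nat_lit 14, nat_lit 24, nat_lit 35, nat_lit 26], (nat_lit 1491)⟩, ⟨[nat_lit 217, nat_lit 215], [nat_lit 5, nat_lit 16, nat_lit 2, nat_lit 25, nat_lit 37, nat_lit 15, nat_lit 26], (nat_lit 1043)⟩],
  .cy (nat_lit 0) [] [] [] (nat_lit 1876) [],
  .cy (nat_lit 26) [] [] [nat_lit 5, nat_lit 18, nat_lit 36] (nat_lit 445) [⟨[nat_lit 215, nat_lit 217, nat_lit 215], [nat_lit 25, nat_lit 2, nat_lit 0, nat_lit 15, nat_lit 11, nat_lit 26], (nat_lit 1167)⟩, ⟨[nat_lit 215], [nat_lit 17, nat_lit 2, nat_lit 0, nat_lit 32, nat_lit 18, nat_lit 15, nat_lit 27], (nat_lit 1317)⟩],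
  .cy (nat_lit 0) [] [] [] (nat_lit 1878) [],
  .cy (nat_lit 27) [] [] [nat_lit 1, nat_lit 5, nat_lit 11, nat_lit 18, nat_lit 27] (nat_lit 445) [⟨[nat_lit 215, nat_lit 217, nat_lit 215], [nat_lit 11, nat_lit 5, nat_lit 2, nat_lit 37, nat_lit 34, nat_lit 25, nat_lit 27], (nat_lit 1327)⟩, ⟨[], [nat_lit 25, nat_lit 16, nat_lit 0, nat_lit 17, nat_lit 16, nat_lit 27], (nat_lit 317)⟩]]
noncomputable def P2212 : List Pf := [.cy (nat_lit 0) [] [] [] (nat_lit 1880) [],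
  .cy (nat_lit 1) [] [] [nat_lit 25, nat_lit 14, nat_lit 0, nat_lit 36, nat_lit 25, nat_lit 26] (nat_lit 361) [⟨[nat_lit 162, nat_lit 175], [nat_lit 25, nat_lit 14, nat_lit 0, nat_lit 34, nat_lit 15, nat_lit 11, nat_lit 27], (nat_lit 782)⟩, ⟨[nat_lit 215], [nat_lit 5, nat_lit 14, nat_lit 24, nat_lit 24, nat_lit 11], (nat_lit 960)⟩],
  .cy (nat_lit 0) [] [] [] (nat_lit 1882) [],
  .cy (nat_lit 2) [] [] [nat_lit 14, nat_lit 0, nat_lit 33, nat_lit 35, nat_lit 11, nat_lit 27] (nat_lit 361) [⟨[nat_lit 162, nat_lit 175], [nat_lit 24, nat_lit 2, nat_lit 0, nat_lit 32, nat_lit 24, nat_lit 27], (nat_lit 782)⟩, ⟨[nat_lit 215, nat_lit 217], [nat_lit 10, nat_lit 0, nat_lit 16, nat_lit 37, nat_lit 27], (nat_lit 535)⟩],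
  .cy (nat_lit 0) [] [] [] (nat_lit 1884) [],
  .cy (nat_lit 5) [] [] [nat_lit 5, nat_lit 2, nat_lit 24, nat_lit 16, nat_lit 27] (nat_lit 361) [⟨[nat_lit 162, nat_lit 175], [nat_lit 1, nat_lit 25, nat_lit 27], (nat_lit 782)⟩, ⟨[nat_lit 215, nat_lit 217, nat_lit 215], [nat_lit 5, nat_lit 2, nat_lit 35, nat_lit 33, nat_lit 11], (nat_lit 567)⟩],
  .cy (nat_lit 0) [] [] [] (nat_lit 1886) [],
  .cy (nat_lit 7) [] [] [nat_lit 15, nat_lit 2, nat_lit 32, nat_lit 32] (nat_lit 361) [⟨[nat_lit 165, nat_lit 178, nat_lit 161], [nat_lit 26, nat_lit 24, nat_lit 0, nat_lit 37, nat_lit 24, nat_lit 15], (nat_lit 211)⟩, ⟨[nat_lit 523], [nat_lit 26, nat_lit 2, nat_lit 33, nat_lit 18, nat_lit 26], (nat_lit 259)⟩],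
  .cy (nat_lit 0) [] [] [] (nat_lit 1888) [],
  .cy (nat_lit 9) [] [] [nat_lit 5, nat_lit 2, nat_lit 0, nat_lit 16, nat_lit 18, nat_lit 27] (nat_lit 361) [⟨[nat_lit 175, nat_lit 164], [nat_lit 2, nat_lit 0, nat_lit 24, nat_lit 18, nat_lit 16], (nat_lit 402)⟩, ⟨[nat_lit 215, nat_lit 217], [nat_lit 0, nat_lit 17, nat_lit 16], (nat_lit 411)⟩],
  .cy (nat_lit 0) [] [] [] (nat_lit 1890) [],
  .cy (nat_lit 10) [] [] [nat_lit 14, nat_lit 0, nat_lit 36, nat_lit 18, nat_lit 15, nat_lit 27] (nat_lit 361) [⟨[nat_lit 178, nat_lit 178, nat_lit 161], [nat_lit 18, nat_lit 15, nat_lit 0, nat_lit 33, nat_lit 33, nat_lit 26], (nat_lit 1568)⟩, ⟨[nat_lit 215], [nat_lit 36, nat_lit 24, nat_lit 15], (nat_lit 1663)⟩],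
  .cy (nat_lit 0) [] [] [] (nat_lit 1892) [],
  .cy (nat_lit 21) [] [] [nat_lit 15, nat_lit 2, nat_lit 17, nat_lit 36, nat_lit 15, nat_lit 27] (nat_lit 361) [⟨[nat_lit 165, nat_lit 178, nat_lit 167], [nat_lit 26, nat_lit 2, nat_lit 0, nat_lit 24, nat_lit 24], (nat_lit 402)⟩, ⟨[nat_lit 217], [nat_lit 11, nat_lit 5, nat_lit 2, nat_lit 26, nat_lit 34, nat_lit 11, nat_lit 27], (nat_lit 1160)⟩],
  .cy (nat_lit 0) [] [] [] (nat_lit 1894) [],
  .cy (nat_lit 22) [] [] [nat_lit 25, nat_lit 1, nat_lit 34, nat_lit 32, nat_lit 26] (nat_lit 361) [⟨[nat_lit 179, nat_lit 164, nat_lit 176], [nat_lit 5, nat_lit 15, nat_lit 17, nat_lit 11], (nat_lit 501)⟩, ⟨[nat_lit 215], [nat_lit 10, nat_lit 10, nat_lit 0, nat_lit 27, nat_lit 36, nat_lit 11, nat_lit 26], (nat_lit 1432)⟩],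
  .cy (nat_lit 0) [] [] [] (nat_lit 1896) [],
  .cy (nat_lit 26) [] [] [nat_lit 24, nat_lit 1, nat_lit 25, nat_lit 18, nat_lit 16, nat_lit 26] (nat_lit 361) [⟨[nat_lit 164, nat_lit 175, nat_lit 178], [nat_lit 24, nat_lit 1, nat_lit 24, nat_lit 18, nat_lit 18, nat_lit 26], (nat_lit 1568)⟩, ⟨[], [nat_lit 16, nat_lit 5, nat_lit 0, nat_lit 35, nat_lit 17], (nat_lit 1186)⟩],
  .cy (nat_lit 0) [] [] [] (nat_lit 1898) [],
  .cy (nat_lit 7) [] [] [nat_lit 26, nat_lit 2, nat_lit 37, nat_lit 34, nat_lit 25] (nat_lit 404) [⟨[nat_lit 215, nat_lit 217], [nat_lit 25, nat_lit 14, nat_lit 0, nat_lit 24, nat_lit 17, nat_lit 11, nat_lit 26], (nat_lit 1110)⟩, ⟨[nat_lit 215, nat_lit 217], [nat_lit 25, nat_lit 1, nat_lit 35, nat_lit 15], (nat_lit 479)⟩],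
  .cy (nat_lit 0) [] [] [] (nat_lit 1900) [],
  .cy (nat_lit 20) [] [] [nat_lit 1, nat_lit 14, nat_lit 36, nat_lit 17, nat_lit 27] (nat_lit 404) [⟨[nat_lit 215], [nat_lit 26, nat_lit 2, nat_lit 36], (nat_lit 1743)⟩, ⟨[nat_lit 215, nat_lit 217], [nat_lit 25, nat_lit 1, nat_lit 17, nat_lit 17, nat_lit 15, nat_lit 26], (nat_lit 614)⟩],
  .cy (nat_lit 0) [] [] [] (nat_lit 1902) [],
  .cy (nat_lit 1) [] [] [nat_lit 18, nat_lit 15, nat_lit 0, nat_lit 34, nat_lit 32, nat_lit 16, nat_lit 26] (nat_lit 437) [⟨[nat_lit 162, nat_lit 176, nat_lit 161], [nat_lit 14, nat_lit 0, nat_lit 33, nat_lit 33, nat_lit 26], (nat_lit 469)⟩, ⟨[nat_lit 217], [nat_lit 16, nat_lit 0, nat_lit 24, nat_lit 36, nat_lit 16, nat_lit 26], (nat_lit 1860)⟩],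
  .cy (nat_lit 0) [] [] [] (nat_lit 1904) [],
  .cy (nat_lit 7) [] [] [nat_lit 24, nat_lit 2, nat_lit 36, nat_lit 26] (nat_lit 437) [⟨[nat_lit 161, nat_lit 179, nat_lit 162], [nat_lit 16, nat_lit 5, nat_lit 0, nat_lit 35, nat_lit 35, nat_lit 11, nat_lit 26], (nat_lit 211)⟩, ⟨[nat_lit 208, nat_lit 203, nat_lit 522, nat_lit 203], [nat_lit 15, nat_lit 2, nat_lit 34, nat_lit 17, nat_lit 27], (nat_lit 519)⟩],
  .cy (nat_lit 0) [] [] [] (nat_lit 1906) [],
  .cy (nat_lit 7) [] [] [nat_lit 2, nat_lit 0, nat_lit 17, nat_lit 36] (nat_lit 437) [⟨[nat_lit 178, nat_lit 165, nat_lit 161], [nat_lit 15, nat_lit 1, nat_lit 16, nat_lit 32, nat_lit 15], (nat_lit 379)⟩, ⟨[], [nat_lit 15, nat_lit 2, nat_lit 33, nat_lit 36, nat_lit 11], (nat_lit 874)⟩],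
  .cy (nat_lit 0) [] [] [] (nat_lit 1908) [],
  .cy (nat_lit 9) [] [] [nat_lit 16, nat_lit 5, nat_lit 0, nat_lit 18, nat_lit 35, nat_lit 26] (nat_lit 437) [⟨[nat_lit 167, nat_lit 178, nat_lit 164], [nat_lit 1, nat_lit 24, nat_lit 0, nat_lit 24, nat_lit 37, nat_lit 15, nat_lit 27], (nat_lit 379)⟩, ⟨[nat_lit 215], [nat_lit 24, nat_lit 1, nat_lit 11, nat_lit 37, nat_lit 26], (nat_lit 1712)⟩],
  .cy (nat_lit 0) [] [] [] (nat_lit 1910) [],
  .cy (nat_lit 21) [] [] [nat_lit 15, nat_lit 5, nat_lit 15, nat_lit 24, nat_lit 11] (nat_lit 437) [⟨[nat_lit 179, nat_lit 164, nat_lit 162], [nat_lit 16, nat_lit 5, nat_lit 0, nat_lit 15, nat_lit 18, nat_lit 16, nat_lit 26], (nat_lit 1810)⟩, ⟨[nat_lit 215], [nat_lit 5, nat_lit 14, nat_lit 32, nat_lit 36, nat_lit 16, nat_lit 27], (nat_lit 1803)⟩],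
  .cy (nat_lit 0) [] [] [] (nat_lit 1912) [],
  .cy (nat_lit 25) [] [] [nat_lit 24, nat_lit 0, nat_lit 18, nat_lit 35, nat_lit 27] (nat_lit 437) [⟨[nat_lit 179, nat_lit 179, nat_lit 176, nat_lit 161], [nat_lit 1, nat_lit 24, nat_lit 0, nat_lit 17, nat_lit 34, nat_lit 11, nat_lit 27], (nat_lit 880)⟩, ⟨[nat_lit 215], [nat_lit 15, nat_lit 5, nat_lit 15, nat_lit 35], (nat_lit 785)⟩],
  .cy (nat_lit 0) [] [] [] (nat_lit 1914) [],
  .cy (nat_lit 27) [] [] [nat_lit 26, nat_lit 2, nat_lit 25, nat_lit 11] (nat_lit 437) [⟨[nat_lit 179], [nat_lit 25, nat_lit 14, nat_lit 0, nat_lit 18, nat_lit 16, nat_lit 27], (nat_lit 870)⟩, ⟨[nat_lit 215, nat_lit 217, nat_lit 215], [nat_lit 2, nat_lit 32, nat_lit 35, nat_lit 27], (nat_lit 1672)⟩],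
  .cy (nat_lit 0) [] [] [] (nat_lit 1916) [],
  .cy (nat_lit 1) [] [] [nat_lit 18, nat_lit 15, nat_lit 0, nat_lit 17, nat_lit 34, nat_lit 15] (nat_lit 430) [⟨[nat_lit 215, nat_lit 217], [nat_lit 25, nat_lit 0, nat_lit 18, nat_lit 16, nat_lit 11], (nat_lit 1170)⟩, ⟨[nat_lit 215, nat_lit 217], [nat_lit 24, nat_lit 16, nat_lit 0, nat_lit 17, nat_lit 36], (nat_lit 632)⟩],
  .cy (nat_lit 0) [] [] [] (nat_lit 1918) [],
  .cy (nat_lit 6) [] [] [nat_lit 26, nat_lit 2, nat_lit 0, nat_lit 37, nat_lit 32, nat_lit 27] (nat_lit 430) [⟨[], [nat_lit 32, nat_lit 18, nat_lit 15, nat_lit 27], (nat_lit 891)⟩, ⟨[nat_lit 215], [nat_lit 16, nat_lit 5, nat_lit 2, nat_lit 11, nat_lit 17, nat_lit 27], (nat_lit 1913)⟩],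
  .cy (nat_lit 0) [] [] [] (nat_lit 1920) [],
  .cy (nat_lit 9) [] [] [nat_lit 24, nat_lit 1, nat_lit 36, nat_lit 16] (nat_lit 430) [⟨[nat_lit 217, nat_lit 215], [nat_lit 26, nat_lit 2, nat_lit 17, nat_lit 17], (nat_lit 1422)⟩, ⟨[nat_lit 217, nat_lit 215], [nat_lit 5, nat_lit 16, nat_lit 2, nat_lit 27, nat_lit 15, nat_lit 11, nat_lit 26], (nat_lit 714)⟩],
  .cy (nat_lit 0) [] [] [] (nat_lit 1922) [],
  .cy (nat_lit 10) [] [] [nat_lit 26, nat_lit 24, nat_lit 0, nat_lit 25, nat_lit 15, nat_lit 26] (nat_lit 430) [⟨[nat_lit 215], [nat_lit 16, nat_lit 0, nat_lit 37, nat_lit 16, nat_lit 27], (nat_lit 1219)⟩, ⟨[nat_lit 215, nat_lit 217, nat_lit 215], [nat_lit 24, nat_lit 16, nat_lit 0, nat_lit 37, nat_lit 24, nat_lit 26], (nat_lit 1320)⟩],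
  .cy (nat_lit 0) [] [] [] (nat_lit 1924) [],
  .cy (nat_lit 11) [] [] [nat_lit 15, nat_lit 5, nat_lit 33, nat_lit 24, nat_lit 11] (nat_lit 430) [⟨[nat_lit 215, nat_lit 217], [nat_lit 2, nat_lit 27, nat_lit 18, nat_lit 11, nat_lit 26], (nat_lit 1878)⟩, ⟨[], [nat_lit 25, nat_lit 2, nat_lit 0, nat_lit 35, nat_lit 11, nat_lit 27], (nat_lit 1747)⟩],
  .cy (nat_lit 0) [] [] [] (nat_lit 1926) [],
  .cy (nat_lit 21) [] [] [nat_lit 2, nat_lit 36, nat_lit 33, nat_lit 11] (nat_lit 430) [⟨[nat_lit 215, nat_lit 217], [nat_lit 24, nat_lit 2, nat_lit 0, nat_lit 17, nat_lit 17, nat_lit 26], (nat_lit 429)⟩, ⟨[], [nat_lit 2, nat_lit 11, nat_lit 16, nat_lit 27], (nat_lit 865)⟩],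
  .cy (nat_lit 0) [] [] [] (nat_lit 1928) [],
  .cy (nat_lit 22) [] [] [nat_lit 5, nat_lit 2, nat_lit 0, nat_lit 15, nat_lit 24, nat_lit 26] (nat_lit 430) [⟨[nat_lit 217], [nat_lit 16, nat_lit 5, nat_lit 0, nat_lit 33, nat_lit 16, nat_lit 26], (nat_lit 1624)⟩, ⟨[nat_lit 217, nat_lit 215], [nat_lit 24, nat_lit 16, nat_lit 0, nat_lit 18, nat_lit 25, nat_lit 27], (nat_lit 421)⟩],
  .cy (nat_lit 0) [] [] [] (nat_lit 1930) [],
  .cy (nat_lit 20) [] [] [nat_lit 5, nat_lit 16, nat_lit 2, nat_lit 17, nat_lit 33, nat_lit 27] (nat_lit 456) [⟨[], [nat_lit 5, nat_lit 14, nat_lit 35, nat_lit 26], (nat_lit 1156)⟩, ⟨[nat_lit 215, nat_lit 217, nat_lit 215], [nat_lit 1, nat_lit 36, nat_lit 25, nat_lit 11, nat_lit 26], (nat_lit 600)⟩],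
  .cy (nat_lit 0) [] [] [] (nat_lit 1932) [],
  .cy (nat_lit 22) [] [] [nat_lit 15, nat_lit 5, nat_lit 32, nat_lit 32] (nat_lit 456) [⟨[], [nat_lit 5, nat_lit 14, nat_lit 27, nat_lit 36, nat_lit 11, nat_lit 26], (nat_lit 1066)⟩, ⟨[nat_lit 215], [nat_lit 16, nat_lit 5, nat_lit 0, nat_lit 17, nat_lit 34, nat_lit 11, nat_lit 27], (nat_lit 1127)⟩],
  .cy (nat_lit 0) [] [] [] (nat_lit 1934) [],
  .cy (nat_lit 8) [] [] [nat_lit 16, nat_lit 5, nat_lit 0, nat_lit 37, nat_lit 16, nat_lit 27] (nat_lit 439) [⟨[nat_lit 208, nat_lit 523, nat_lit 205], [nat_lit 11, nat_lit 2, nat_lit 0, nat_lit 35, nat_lit 16, nat_lit 16], (nat_lit 947)⟩, ⟨[nat_lit 217], [nat_lit 25, nat_lit 16, nat_lit 0, nat_lit 15, nat_lit 11, nat_lit 15, nat_lit 26], (nat_lit 1381)⟩],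
  .cy (nat_lit 0) [] [] [] (nat_lit 1936) [],
  .cy (nat_lit 8) [] [] [nat_lit 25, nat_lit 14, nat_lit 0, nat_lit 37, nat_lit 32, nat_lit 11, nat_lit 26] (nat_lit 439) [⟨[nat_lit 523, nat_lit 205, nat_lit 203], [nat_lit 5, nat_lit 14, nat_lit 36, nat_lit 25, nat_lit 11, nat_lit 26], (nat_lit 298)⟩, ⟨[nat_lit 217, nat_lit 215], [nat_lit 18, nat_lit 15, nat_lit 0, nat_lit 35, nat_lit 36, nat_lit 27], (nat_lit 1453)⟩],
  .cy (nat_lit 0) [] [] [] (nat_lit 1938) [],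
  .cy (nat_lit 11) [] [] [nat_lit 15, nat_lit 0, nat_lit 18, nat_lit 18] (nat_lit 439) [⟨[nat_lit 204, nat_lit 523, nat_lit 209, nat_lit 201], [nat_lit 16, nat_lit 2, nat_lit 18, nat_lit 11, nat_lit 15, nat_lit 26], (nat_lit 519)⟩, ⟨[nat_lit 215, nat_lit 217, nat_lit 215], [nat_lit 0, nat_lit 2, nat_lit 27, nat_lit 37, nat_lit 27], (nat_lit 457)⟩],
  .cy (nat_lit 0) [] [] [] (nat_lit 1940) [],
  .cy (nat_lit 12) [] [] [nat_lit 16, nat_lit 5, nat_lit 2, nat_lit 27, nat_lit 24, nat_lit 11] (nat_lit 439) [⟨[nat_lit 209, nat_lit 523, nat_lit 208], [nat_lit 5, nat_lit 14, nat_lit 24, nat_lit 36, nat_lit 26], (nat_lit 517)⟩, ⟨[nat_lit 215], [nat_lit 24, nat_lit 15, nat_lit 0, nat_lit 24, nat_lit 11], (nat_lit 1492)⟩],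
  .cy (nat_lit 0) [] [] [] (nat_lit 1942) [],
  .cy (nat_lit 20) [] [] [nat_lit 5, nat_lit 14, nat_lit 34, nat_lit 16, nat_lit 11, nat_lit 27] (nat_lit 439) [⟨[nat_lit 208, nat_lit 522], [nat_lit 1, nat_lit 24, nat_lit 0, nat_lit 37, nat_lit 33], (nat_lit 383)⟩, ⟨[nat_lit 215, nat_lit 217], [nat_lit 25, nat_lit 14, nat_lit 0, nat_lit 33, nat_lit 36, nat_lit 11, nat_lit 27], (nat_lit 1188)⟩],
  .cy (nat_lit 0) [] [] [] (nat_lit 1944) [],
  .cy (nat_lit 24) [] [] [nat_lit 26, nat_lit 2, nat_lit 0, nat_lit 36, nat_lit 16] (nat_lit 439) [⟨[nat_lit 523, nat_lit 205, nat_lit 203], [nat_lit 1, nat_lit 14, nat_lit 37, nat_lit 15, nat_lit 27], (nat_lit 471)⟩, ⟨[nat_lit 215, nat_lit 217, nat_lit 215], [nat_lit 2, nat_lit 17, nat_lit 26], (nat_lit 1132)⟩],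
  .cy (nat_lit 0) [] [] [] (nat_lit 1946) [],
  .cy (nat_lit 27) [] [] [nat_lit 16, nat_lit 5, nat_lit 0, nat_lit 33, nat_lit 18, nat_lit 11] (nat_lit 439) [⟨[nat_lit 522, nat_lit 203, nat_lit 522, nat_lit 204], [nat_lit 5, nat_lit 2, nat_lit 37, nat_lit 37, nat_lit 16], (nat_lit 947)⟩, ⟨[nat_lit 215], [nat_lit 15, nat_lit 2, nat_lit 35, nat_lit 17, nat_lit 16], (nat_lit 603)⟩],
  .cy (nat_lit 0) [] [] [] (nat_lit 1948) [],
  .cy (nat_lit 4) [] [] [nat_lit 0, nat_lit 2, nat_lit 37, nat_lit 15, nat_lit 27] (nat_lit 488) [⟨[nat_lit 217, nat_lit 215], [nat_lit 18, nat_lit 15, nat_lit 0, nat_lit 26, nat_lit 16], (nat_lit 1423)⟩, ⟨[], [nat_lit 0, nat_lit 2, nat_lit 32, nat_lit 34, nat_lit 16, nat_lit 27], (nat_lit 1157)⟩],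
  .cy (nat_lit 0) [] [] [] (nat_lit 1950) [],
  .cy (nat_lit 5) [] [] [nat_lit 5, nat_lit 2, nat_lit 16, nat_lit 11, nat_lit 27] (nat_lit 488) [⟨[nat_lit 217, nat_lit 215], [nat_lit 5, nat_lit 0, nat_lit 37, nat_lit 24, nat_lit 26], (nat_lit 1423)⟩, ⟨[nat_lit 217], [nat_lit 16, nat_lit 2, nat_lit 32, nat_lit 16, nat_lit 26], (nat_lit 421)⟩],
  .cy (nat_lit 0) [] [] [] (nat_lit 1952) [],
  .cy (nat_lit 20) [] [] [nat_lit 14, nat_lit 15, nat_lit 0, nat_lit 37, nat_lit 17, nat_lit 11, nat_lit 26] (nat_lit 488) [⟨[nat_lit 217], [nat_lit 0, nat_lit 18, nat_lit 15, nat_lit 27], (nat_lit 540)⟩, ⟨[], [nat_lit 2, nat_lit 0, nat_lit 25, nat_lit 18, nat_lit 16, nat_lit 27], (nat_lit 1555)⟩],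
  .cy (nat_lit 0) [] [] [] (nat_lit 1954) [],
  .cy (nat_lit 13) [] [] [nat_lit 38] (nat_lit 1568) [⟨[nat_lit 215, nat_lit 217, nat_lit 215], [nat_lit 2, nat_lit 0, nat_lit 32, nat_lit 18, nat_lit 11, nat_lit 26], (nat_lit 1448)⟩],
  .cy (nat_lit 0) [] [] [] (nat_lit 1956) [],
  .cy (nat_lit 14) [] [] [] (nat_lit 501) [⟨[nat_lit 217, nat_lit 215], [nat_lit 1, nat_lit 5, nat_lit 32, nat_lit 34, nat_lit 11, nat_lit 27], (nat_lit 1346)⟩],
  .cy (nat_lit 0) [] [] [] (nat_lit 1958) [],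
  .cy (nat_lit 14) [] [] [nat_lit 38] (nat_lit 501) [⟨[nat_lit 217], [nat_lit 11, nat_lit 2, nat_lit 0, nat_lit 35, nat_lit 15], (nat_lit 1188)⟩],
  .cy (nat_lit 0) [] [] [] (nat_lit 1960) [],
  .cy (nat_lit 14) [] [] [] (nat_lit 505) [⟨[nat_lit 215], [nat_lit 10, nat_lit 10, nat_lit 0, nat_lit 37, nat_lit 11, nat_lit 15], (nat_lit 1028)⟩],
  .cy (nat_lit 0) [] [] [] (nat_lit 1962) [],
  .cy (nat_lit 13) [] [] [] (nat_lit 870) [⟨[nat_lit 215, nat_lit 217], [nat_lit 35, nat_lit 15, nat_lit 26], (nat_lit 1742)⟩],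
  .cy (nat_lit 0) [] [] [] (nat_lit 1964) [],
  .cy (nat_lit 13) [] [] [nat_lit 38] (nat_lit 870) [⟨[nat_lit 217, nat_lit 215], [nat_lit 10, nat_lit 10, nat_lit 0, nat_lit 34, nat_lit 34, nat_lit 15, nat_lit 27], (nat_lit 1784)⟩],
  .cy (nat_lit 0) [] [] [] (nat_lit 1966) [],
  .cy (nat_lit 14) [] [] [] (nat_lit 870) [⟨[], [nat_lit 1, nat_lit 24, nat_lit 0, nat_lit 26, nat_lit 34, nat_lit 32, nat_lit 26], (nat_lit 592)⟩],
  .cy (nat_lit 0) [] [] [] (nat_lit 1968) [],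
  .cy (nat_lit 14) [] [] [nat_lit 38] (nat_lit 360) [⟨[nat_lit 215, nat_lit 217, nat_lit 215], [nat_lit 2, nat_lit 0, nat_lit 18, nat_lit 36, nat_lit 11, nat_lit 26], (nat_lit 700)⟩],
  .cy (nat_lit 0) [] [] [] (nat_lit 1970) [],
  .cy (nat_lit 14) [] [] [nat_lit 39] (nat_lit 701) [⟨[nat_lit 217, nat_lit 215], [nat_lit 24, nat_lit 16, nat_lit 0, nat_lit 37, nat_lit 16], (nat_lit 1493)⟩],
  .cy (nat_lit 0) [] [] [] (nat_lit 1972) [],
  .cy (nat_lit 13) [] [] [] (nat_lit 507) [⟨[nat_lit 217, nat_lit 215], [nat_lit 25, nat_lit 16, nat_lit 0, nat_lit 34, nat_lit 25, nat_lit 11, nat_lit 27], (nat_lit 1838)⟩],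
  .cy (nat_lit 0) [] [] [] (nat_lit 1974) [],
  .cy (nat_lit 13) [] [] [nat_lit 39] (nat_lit 298) [⟨[], [nat_lit 26, nat_lit 2, nat_lit 0, nat_lit 17, nat_lit 34, nat_lit 11, nat_lit 26], (nat_lit 1675)⟩],
  .cy (nat_lit 0) [] [] [] (nat_lit 1976) [],
  .cy (nat_lit 14) [] [] [] (nat_lit 366) [⟨[nat_lit 215, nat_lit 217, nat_lit 215], [nat_lit 16, nat_lit 5, nat_lit 2, nat_lit 36, nat_lit 25, nat_lit 11, nat_lit 26], (nat_lit 1678)⟩],
  .cy (nat_lit 0) [] [] [] (nat_lit 1978) [],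
  .cy (nat_lit 13) [] [] [] (nat_lit 471) [⟨[], [nat_lit 25, nat_lit 0, nat_lit 34, nat_lit 32, nat_lit 27], (nat_lit 1862)⟩],
  .cy (nat_lit 0) [] [] [] (nat_lit 1980) [],
  .cy (nat_lit 14) [] [] [] (nat_lit 521) [⟨[], [nat_lit 1, nat_lit 5, nat_lit 36, nat_lit 15], (nat_lit 1419)⟩],
  .cy (nat_lit 0) [] [] [] (nat_lit 1982) [],
  .cy (nat_lit 13) [] [] [nat_lit 38] (nat_lit 525) [⟨[], [nat_lit 5, nat_lit 14, nat_lit 32, nat_lit 18, nat_lit 15, nat_lit 26], (nat_lit 411)⟩],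
  .cy (nat_lit 0) [] [] [] (nat_lit 1984) [],
  .cy (nat_lit 14) [] [] [nat_lit 39] (nat_lit 1224) [⟨[], [nat_lit 25, nat_lit 1, nat_lit 26, nat_lit 16, nat_lit 27], (nat_lit 1016)⟩],
  .cy (nat_lit 0) [] [] [] (nat_lit 1986) [],
  .cy (nat_lit 14) [] [] [] (nat_lit 297) [⟨[], [nat_lit 14, nat_lit 0, nat_lit 17, nat_lit 17], (nat_lit 1981)⟩],
  .cy (nat_lit 0) [] [] [] (nat_lit 1988) [],
  .cy (nat_lit 13) [] [] [nat_lit 38] (nat_lit 803) [⟨[nat_lit 215, nat_lit 217], [nat_lit 5, nat_lit 18, nat_lit 35, nat_lit 11, nat_lit 26], (nat_lit 1804)⟩],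
  .cy (nat_lit 0) [] [] [] (nat_lit 1990) [],
  .cy (nat_lit 14) [] [] [nat_lit 38] (nat_lit 1148) [⟨[nat_lit 217], [nat_lit 17, nat_lit 24, nat_lit 0, nat_lit 34, nat_lit 24, nat_lit 17, nat_lit 26], (nat_lit 898)⟩],
  .cy (nat_lit 0) [] [] [] (nat_lit 1992) [],
  .cy (nat_lit 13) [] [] [nat_lit 38] (nat_lit 1438) [⟨[nat_lit 215, nat_lit 217, nat_lit 215], [nat_lit 24, nat_lit 2, nat_lit 0, nat_lit 26, nat_lit 34, nat_lit 11, nat_lit 27], (nat_lit 1901)⟩],
  .cy (nat_lit 0) [] [] [] (nat_lit 1994) [],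
  .cy (nat_lit 13) [] [] [] (nat_lit 918) [⟨[nat_lit 215, nat_lit 217], [nat_lit 16, nat_lit 16, nat_lit 11, nat_lit 26], (nat_lit 1266)⟩],
  .cy (nat_lit 0) [] [] [] (nat_lit 1996) [],
  .cy (nat_lit 14) [] [] [nat_lit 38] (nat_lit 1691) [⟨[nat_lit 217], [nat_lit 14, nat_lit 0, nat_lit 34, nat_lit 16, nat_lit 11, nat_lit 26], (nat_lit 1476)⟩],
  .cy (nat_lit 0) [] [] [] (nat_lit 1998) [],
  .cy (nat_lit 13) [] [] [nat_lit 39] (nat_lit 1131) [⟨[nat_lit 215, nat_lit 217, nat_lit 215], [nat_lit 11, nat_lit 5, nat_lit 2, nat_lit 18, nat_lit 26], (nat_lit 1497)⟩],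
  .cy (nat_lit 0) [] [] [] (nat_lit 2000) [],
  .cy (nat_lit 14) [] [] [nat_lit 39] (nat_lit 1131) [⟨[nat_lit 215], [nat_lit 24, nat_lit 16, nat_lit 0, nat_lit 25, nat_lit 15, nat_lit 27], (nat_lit 1768)⟩],
  .cy (nat_lit 0) [] [] [] (nat_lit 2002) [],
  .cy (nat_lit 14) [] [] [nat_lit 39] (nat_lit 627) [⟨[nat_lit 215, nat_lit 217], [nat_lit 2, nat_lit 0, nat_lit 25, nat_lit 18, nat_lit 16, nat_lit 26], (nat_lit 1648)⟩],
  .cy (nat_lit 0) [] [] [] (nat_lit 2004) [],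
  .cy (nat_lit 13) [] [] [nat_lit 39] (nat_lit 1695) [⟨[nat_lit 215, nat_lit 217, nat_lit 215], [nat_lit 24, nat_lit 0, nat_lit 18, nat_lit 25, nat_lit 26], (nat_lit 1082)⟩],
  .cy (nat_lit 0) [] [] [] (nat_lit 2006) [],
  .cy (nat_lit 14) [] [] [] (nat_lit 1695) [⟨[nat_lit 217], [nat_lit 1, nat_lit 24, nat_lit 0, nat_lit 15, nat_lit 32, nat_lit 11, nat_lit 26], (nat_lit 745)⟩],
  .cy (nat_lit 0) [] [] [] (nat_lit 2008) [],
  .cy (nat_lit 14) [] [] [nat_lit 38] (nat_lit 1695) [⟨[nat_lit 215, nat_lit 217], [nat_lit 15, nat_lit 1, nat_lit 24, nat_lit 37, nat_lit 17], (nat_lit 1090)⟩],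
  .cy (nat_lit 0) [] [] [] (nat_lit 2010) [],
  .cy (nat_lit 14) [] [] [] (nat_lit 1137) [⟨[nat_lit 215, nat_lit 217, nat_lit 215], [nat_lit 26, nat_lit 2, nat_lit 27, nat_lit 24, nat_lit 15], (nat_lit 593)⟩],
  .cy (nat_lit 0) [] [] [] (nat_lit 2012) [],
  .cy (nat_lit 14) [] [] [nat_lit 38] (nat_lit 1137) [⟨[nat_lit 217, nat_lit 215], [nat_lit 24, nat_lit 16, nat_lit 0, nat_lit 26, nat_lit 36], (nat_lit 1946)⟩],
  .cy (nat_lit 0) [] [] [] (nat_lit 2014) [],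
  .cy (nat_lit 14) [] [] [nat_lit 39] (nat_lit 1137) [⟨[], [nat_lit 24, nat_lit 0, nat_lit 16, nat_lit 16, nat_lit 11, nat_lit 26], (nat_lit 587)⟩],
  .cy (nat_lit 0) [] [] [] (nat_lit 2016) [],
  .cy (nat_lit 13) [] [] [nat_lit 38] (nat_lit 299) [⟨[nat_lit 215], [nat_lit 15, nat_lit 1, nat_lit 34, nat_lit 16, nat_lit 27], (nat_lit 1927)⟩],
  .cy (nat_lit 0) [] [] [] (nat_lit 2018) [],
  .cy (nat_lit 13) [] [] [nat_lit 38] (nat_lit 1909) [⟨[nat_lit 215, nat_lit 217, nat_lit 215], [nat_lit 14, nat_lit 0, nat_lit 37, nat_lit 17], (nat_lit 1925)⟩],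
  .cy (nat_lit 0) [] [] [] (nat_lit 2020) [],
  .cy (nat_lit 14) [] [] [] (nat_lit 1909) [⟨[nat_lit 215, nat_lit 217, nat_lit 215], [nat_lit 16, nat_lit 5, nat_lit 2, nat_lit 37, nat_lit 34, nat_lit 25], (nat_lit 1393)⟩],
  .cy (nat_lit 0) [] [] [] (nat_lit 2022) [],
  .cy (nat_lit 14) [] [] [nat_lit 38] (nat_lit 1909) [⟨[nat_lit 215], [nat_lit 15, nat_lit 0, nat_lit 25, nat_lit 33, nat_lit 15], (nat_lit 1293)⟩],
  .cy (nat_lit 0) [] [] [] (nat_lit 2024) [],
  .cy (nat_lit 14) [] [] [nat_lit 39] (nat_lit 1909) [⟨[nat_lit 215], [nat_lit 5, nat_lit 2, nat_lit 33, nat_lit 16], (nat_lit 584)⟩],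
  .cy (nat_lit 0) [] [] [] (nat_lit 2026) [],
  .cy (nat_lit 13) [] [] [] (nat_lit 952) [⟨[], [nat_lit 24, nat_lit 2, nat_lit 0, nat_lit 15, nat_lit 35, nat_lit 27], (nat_lit 1836)⟩],
  .cy (nat_lit 0) [] [] [] (nat_lit 2028) [],
  .cy (nat_lit 14) [] [] [] (nat_lit 952) [⟨[nat_lit 215], [nat_lit 1, nat_lit 5, nat_lit 24, nat_lit 18, nat_lit 26], (nat_lit 1920)⟩],
  .cy (nat_lit 0) [] [] [] (nat_lit 2030) [],
  .cy (nat_lit 14) [] [] [nat_lit 39] (nat_lit 1279) [⟨[nat_lit 215, nat_lit 217], [nat_lit 10, nat_lit 10, nat_lit 0, nat_lit 36, nat_lit 33, nat_lit 27], (nat_lit 1289)⟩],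
  .cy (nat_lit 0) [] [] [] (nat_lit 2032) [],
  .cy (nat_lit 13) [] [] [nat_lit 38] (nat_lit 799) [⟨[nat_lit 215], [nat_lit 15, nat_lit 0, nat_lit 15, nat_lit 15, nat_lit 26], (nat_lit 1192)⟩],
  .cy (nat_lit 0) [] [] [] (nat_lit 2034) [],
  .cy (nat_lit 13) [] [] [nat_lit 38] (nat_lit 834) [⟨[nat_lit 217, nat_lit 215], [nat_lit 18, nat_lit 15, nat_lit 0, nat_lit 25, nat_lit 16, nat_lit 26], (nat_lit 1643)⟩],
  .cy (nat_lit 0) [] [] [] (nat_lit 2036) [],
  .cy (nat_lit 14) [] [] [nat_lit 38] (nat_lit 834) [⟨[nat_lit 215], [nat_lit 18, nat_lit 18, nat_lit 27], (nat_lit 552)⟩],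
  .cy (nat_lit 0) [] [] [] (nat_lit 2038) [],
  .cy (nat_lit 13) [] [] [nat_lit 39] (nat_lit 1854) [⟨[nat_lit 215, nat_lit 217], [nat_lit 15, nat_lit 1, nat_lit 33, nat_lit 15, nat_lit 11], (nat_lit 672)⟩],
  .cy (nat_lit 0) [] [] [] (nat_lit 2040) [],
  .cy (nat_lit 13) [] [] [nat_lit 39] (nat_lit 1859) [⟨[nat_lit 215, nat_lit 217, nat_lit 215], [nat_lit 14, nat_lit 11, nat_lit 16], (nat_lit 1173)⟩],
  .cy (nat_lit 0) [] [] [] (nat_lit 2042) [],
  .cy (nat_lit 14) [] [] [nat_lit 38] (nat_lit 1859) [⟨[nat_lit 215, nat_lit 217, nat_lit 215], [nat_lit 5, nat_lit 0, nat_lit 37, nat_lit 18, nat_lit 15, nat_lit 27], (nat_lit 1748)⟩],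
  .cy (nat_lit 0) [] [] [] (nat_lit 2044) [],
  .cy (nat_lit 13) [] [] [nat_lit 38] (nat_lit 553) [⟨[nat_lit 215, nat_lit 217, nat_lit 215], [nat_lit 11, nat_lit 5, nat_lit 2, nat_lit 34, nat_lit 34, nat_lit 26], (nat_lit 1643)⟩],
  .cy (nat_lit 0) [] [] [] (nat_lit 2046) [],
  .cy (nat_lit 14) [] [] [nat_lit 38] (nat_lit 1507) [⟨[nat_lit 215, nat_lit 217], [nat_lit 25, nat_lit 14, nat_lit 0, nat_lit 18, nat_lit 18, nat_lit 27], (nat_lit 888)⟩],
  .cy (nat_lit 0) [] [] [] (nat_lit 2048) [],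
  .cy (nat_lit 14) [] [] [nat_lit 39] (nat_lit 862) [⟨[nat_lit 215, nat_lit 217], [nat_lit 2, nat_lit 0, nat_lit 33, nat_lit 18, nat_lit 11, nat_lit 27], (nat_lit 1786)⟩],
  .cy (nat_lit 0) [] [] [] (nat_lit 2050) [],
  .cy (nat_lit 13) [] [] [] (nat_lit 1767) [⟨[nat_lit 217, nat_lit 215], [nat_lit 16, nat_lit 2, nat_lit 25, nat_lit 18, nat_lit 16, nat_lit 26], (nat_lit 1122)⟩],
  .cy (nat_lit 0) [] [] [] (nat_lit 2052) [],
  .cy (nat_lit 14) [] [] [] (nat_lit 585) [⟨[nat_lit 217, nat_lit 215], [nat_lit 17, nat_lit 2, nat_lit 0, nat_lit 37, nat_lit 16, nat_lit 27], (nat_lit 1393)⟩],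
  .cy (nat_lit 0) [] [] [] (nat_lit 2054) [],
  .cy (nat_lit 14) [] [] [nat_lit 38] (nat_lit 585) [⟨[nat_lit 217, nat_lit 215], [nat_lit 25, nat_lit 1, nat_lit 36, nat_lit 16, nat_lit 11], (nat_lit 1925)⟩],
  .cy (nat_lit 0) [] [] [] (nat_lit 2056) [],
  .cy (nat_lit 14) [] [] [nat_lit 38] (nat_lit 1472) [⟨[nat_lit 215], [nat_lit 1, nat_lit 1, nat_lit 16, nat_lit 17, nat_lit 15, nat_lit 27], (nat_lit 1902)⟩],
  .cy (nat_lit 0) [] [] [] (nat_lit 2058) [],
  .cy (nat_lit 13) [] [] [] (nat_lit 1954) [⟨[nat_lit 215, nat_lit 217, nat_lit 215], [nat_lit 1, nat_lit 35, nat_lit 17, nat_lit 26], (nat_lit 570)⟩],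
  .cy (nat_lit 0) [] [] [] (nat_lit 2060) [],
  .cy (nat_lit 13) [] [] [nat_lit 38] (nat_lit 1954) [⟨[nat_lit 215, nat_lit 217, nat_lit 215], [nat_lit 14, nat_lit 0, nat_lit 37, nat_lit 37, nat_lit 11, nat_lit 27], (nat_lit 1762)⟩],
  .cy (nat_lit 0) [] [] [] (nat_lit 2062) [],
  .cy (nat_lit 13) [] [] [nat_lit 38] (nat_lit 721) [⟨[nat_lit 215, nat_lit 217, nat_lit 215], [nat_lit 16, nat_lit 0, nat_lit 36, nat_lit 24], (nat_lit 1020)⟩],
  .cy (nat_lit 0) [] [] [] (nat_lit 2064) [],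
  .cy (nat_lit 13) [] [] [nat_lit 39] (nat_lit 579) [⟨[nat_lit 217, nat_lit 215], [nat_lit 37, nat_lit 33, nat_lit 11], (nat_lit 856)⟩],
  .cy (nat_lit 0) [] [] [] (nat_lit 2066) [],
  .cy (nat_lit 13) [] [] [nat_lit 39] (nat_lit 1276) [⟨[nat_lit 179, nat_lit 179, nat_lit 176], [nat_lit 24, nat_lit 2, nat_lit 0, nat_lit 15, nat_lit 32, nat_lit 11], (nat_lit 1973)⟩],
  .cy (nat_lit 0) [] [] [] (nat_lit 2068) [],
  .cy (nat_lit 14) [] [] [] (nat_lit 1276) [⟨[nat_lit 175, nat_lit 178, nat_lit 165, nat_lit 164], [nat_lit 1, nat_lit 1, nat_lit 36, nat_lit 25, nat_lit 11, nat_lit 27], (nat_lit 503)⟩],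
  .cy (nat_lit 0) [] [] [] (nat_lit 2070) [],
  .cy (nat_lit 14) [] [] [nat_lit 38] (nat_lit 1276) [⟨[nat_lit 164, nat_lit 178, nat_lit 161], [nat_lit 11, nat_lit 5, nat_lit 2, nat_lit 34, nat_lit 37, nat_lit 11], (nat_lit 759)⟩],
  .cy (nat_lit 0) [] [] [] (nat_lit 2072) [],
  .cy (nat_lit 14) [] [] [] (nat_lit 1930) [⟨[nat_lit 215, nat_lit 217], [nat_lit 1, nat_lit 37, nat_lit 34, nat_lit 26], (nat_lit 616)⟩],
  .cy (nat_lit 0) [] [] [] (nat_lit 2074) [],
  .cy (nat_lit 13) [] [] [nat_lit 38] (nat_lit 1775) [⟨[nat_lit 215], [nat_lit 10, nat_lit 10, nat_lit 0, nat_lit 26, nat_lit 34, nat_lit 27], (nat_lit 411)⟩],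
  .cy (nat_lit 0) [] [] [] (nat_lit 2076) [],
  .cy (nat_lit 13) [] [] [nat_lit 39] (nat_lit 549) [⟨[], [nat_lit 5, nat_lit 25, nat_lit 16, nat_lit 27], (nat_lit 1631)⟩],
  .cy (nat_lit 0) [] [] [] (nat_lit 2078) [],
  .cy (nat_lit 14) [] [] [nat_lit 39] (nat_lit 549) [⟨[nat_lit 215, nat_lit 217], [nat_lit 15, nat_lit 32, nat_lit 11, nat_lit 27], (nat_lit 1594)⟩],
  .cy (nat_lit 0) [] [] [] (nat_lit 2080) [],
  .cy (nat_lit 14) [] [] [nat_lit 38] (nat_lit 1788) [⟨[nat_lit 217, nat_lit 215], [nat_lit 15, nat_lit 2, nat_lit 25, nat_lit 18, nat_lit 16, nat_lit 27], (nat_lit 1491)⟩],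
  .cy (nat_lit 0) [] [] [] (nat_lit 2082) [],
  .cy (nat_lit 14) [] [] [nat_lit 39] (nat_lit 1788) [⟨[nat_lit 217], [nat_lit 11, nat_lit 2, nat_lit 0, nat_lit 24, nat_lit 18, nat_lit 16, nat_lit 27], (nat_lit 1560)⟩],
  .cy (nat_lit 0) [] [] [] (nat_lit 2084) [],
  .cy (nat_lit 14) [] [] [nat_lit 38] (nat_lit 805) [⟨[nat_lit 215, nat_lit 217], [nat_lit 24, nat_lit 0, nat_lit 18, nat_lit 11, nat_lit 15, nat_lit 26], (nat_lit 591)⟩],
  .cy (nat_lit 0) [] [] [] (nat_lit 2086) [],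
  .cy (nat_lit 13) [] [] [nat_lit 38] (nat_lit 415) [⟨[nat_lit 217], [nat_lit 15, nat_lit 1, nat_lit 24, nat_lit 37, nat_lit 11], (nat_lit 774)⟩],
  .cy (nat_lit 0) [] [] [] (nat_lit 2088) [],
  .cy (nat_lit 13) [] [] [nat_lit 39] (nat_lit 1835) [⟨[nat_lit 215, nat_lit 217], [nat_lit 15, nat_lit 0, nat_lit 16, nat_lit 18, nat_lit 11, nat_lit 27], (nat_lit 1998)⟩],
  .cy (nat_lit 0) [] [] [] (nat_lit 2090) [],
  .cy (nat_lit 14) [] [] [] (nat_lit 1835) [⟨[nat_lit 215, nat_lit 217], [nat_lit 15, nat_lit 5, nat_lit 36, nat_lit 16, nat_lit 26], (nat_lit 1475)⟩],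
  .cy (nat_lit 0) [] [] [] (nat_lit 2092) [],
  .cy (nat_lit 13) [] [] [nat_lit 38] (nat_lit 939) [⟨[nat_lit 217, nat_lit 215], [nat_lit 16, nat_lit 5, nat_lit 2, nat_lit 36, nat_lit 15], (nat_lit 672)⟩],
  .cy (nat_lit 0) [] [] [] (nat_lit 2094) [],
  .cy (nat_lit 14) [] [] [nat_lit 38] (nat_lit 939) [⟨[], [nat_lit 2, nat_lit 0, nat_lit 15, nat_lit 11, nat_lit 15], (nat_lit 594)⟩],
  .cy (nat_lit 0) [] [] [] (nat_lit 2096) [],
  .cy (nat_lit 13) [] [] [nat_lit 39] (nat_lit 479) [⟨[nat_lit 215], [nat_lit 14, nat_lit 0, nat_lit 37, nat_lit 24, nat_lit 11, nat_lit 26], (nat_lit 1864)⟩],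
  .cy (nat_lit 0) [] [] [] (nat_lit 2098) [],
  .cy (nat_lit 14) [] [] [] (nat_lit 479) [⟨[nat_lit 217, nat_lit 215], [nat_lit 25, nat_lit 0, nat_lit 25, nat_lit 37, nat_lit 17, nat_lit 26], (nat_lit 1247)⟩],
  .cy (nat_lit 0) [] [] [] (nat_lit 2100) [],
  .cy (nat_lit 14) [] [] [nat_lit 39] (nat_lit 479) [⟨[nat_lit 217], [nat_lit 0, nat_lit 2, nat_lit 27, nat_lit 15, nat_lit 11], (nat_lit 980)⟩],
  .cy (nat_lit 0) [] [] [] (nat_lit 2102) [],
  .cy (nat_lit 14) [] [] [nat_lit 38] (nat_lit 1704) [⟨[nat_lit 215, nat_lit 217], [nat_lit 14, nat_lit 32, nat_lit 36, nat_lit 16, nat_lit 26], (nat_lit 1603)⟩],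
  .cy (nat_lit 0) [] [] [] (nat_lit 2104) [],
  .cy (nat_lit 13) [] [] [nat_lit 38] (nat_lit 1005) [⟨[nat_lit 215], [nat_lit 16, nat_lit 2, nat_lit 32, nat_lit 18, nat_lit 11], (nat_lit 709)⟩],
  .cy (nat_lit 0) [] [] [] (nat_lit 2106) [],
  .cy (nat_lit 14) [] [] [nat_lit 39] (nat_lit 1321) [⟨[nat_lit 215, nat_lit 217, nat_lit 215], [nat_lit 25, nat_lit 14, nat_lit 0, nat_lit 32, nat_lit 27, nat_lit 17], (nat_lit 1320)⟩],
  .cy (nat_lit 0) [] [] [] (nat_lit 2108) [],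
  .cy (nat_lit 14) [] [] [] (nat_lit 1428) [⟨[nat_lit 215, nat_lit 217, nat_lit 215], [nat_lit 5, nat_lit 16, nat_lit 2, nat_lit 17, nat_lit 26], (nat_lit 1871)⟩],
  .cy (nat_lit 0) [] [] [] (nat_lit 2110) [],
  .cy (nat_lit 14) [] [] [] (nat_lit 1297) [⟨[nat_lit 217, nat_lit 215], [nat_lit 2, nat_lit 33, nat_lit 11, nat_lit 16], (nat_lit 808)⟩],
  .cy (nat_lit 0) [] [] [] (nat_lit 2112) [],
  .cy (nat_lit 14) [] [] [] (nat_lit 1041) [⟨[nat_lit 215], [nat_lit 33, nat_lit 37, nat_lit 11], (nat_lit 994)⟩],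
  .cy (nat_lit 0) [] [] [] (nat_lit 2114) [],
  .cy (nat_lit 13) [] [] [] (nat_lit 533) [⟨[nat_lit 178, nat_lit 165, nat_lit 175, nat_lit 161], [nat_lit 1, nat_lit 24, nat_lit 0, nat_lit 15, nat_lit 18, nat_lit 16], (nat_lit 1957)⟩],
  .cy (nat_lit 0) [] [] [] (nat_lit 2116) [],
  .cy (nat_lit 14) [] [] [] (nat_lit 1439) [⟨[], [nat_lit 15, nat_lit 1, nat_lit 18, nat_lit 11, nat_lit 15, nat_lit 26], (nat_lit 1115)⟩],
  .cy (nat_lit 0) [] [] [] (nat_lit 2118) [],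
  .cy (nat_lit 13) [] [] [nat_lit 38] (nat_lit 908) [⟨[nat_lit 217, nat_lit 215], [nat_lit 26, nat_lit 24, nat_lit 0, nat_lit 18, nat_lit 15, nat_lit 27], (nat_lit 1349)⟩],
  .cy (nat_lit 0) [] [] [] (nat_lit 2120) [],
  .cy (nat_lit 13) [] [] [] (nat_lit 1025) [⟨[nat_lit 217, nat_lit 215], [nat_lit 14, nat_lit 15, nat_lit 0, nat_lit 35, nat_lit 11], (nat_lit 465)⟩],
  .cy (nat_lit 0) [] [] [] (nat_lit 2122) [],
  .cy (nat_lit 13) [] [] [] (nat_lit 637) [⟨[nat_lit 217], [nat_lit 0, nat_lit 24, nat_lit 35, nat_lit 27], (nat_lit 2090)⟩],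
  .cy (nat_lit 0) [] [] [] (nat_lit 2124) [],
  .cy (nat_lit 13) [] [] [nat_lit 39] (nat_lit 637) [⟨[nat_lit 217], [nat_lit 24, nat_lit 16, nat_lit 0, nat_lit 34, nat_lit 25, nat_lit 11], (nat_lit 1999)⟩],
  .cy (nat_lit 0) [] [] [] (nat_lit 2126) [],
  .cy (nat_lit 13) [] [] [nat_lit 38] (nat_lit 572) [⟨[nat_lit 215], [nat_lit 24, nat_lit 2, nat_lit 37, nat_lit 15, nat_lit 27], (nat_lit 2089)⟩],
  .cy (nat_lit 14) [] [] [nat_lit 38] (nat_lit 572) [⟨[nat_lit 215, nat_lit 217, nat_lit 215], [nat_lit 25, nat_lit 14, nat_lit 0, nat_lit 26, nat_lit 34, nat_lit 26], (nat_lit 864)⟩],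
  .cy (nat_lit 0) [] [] [] (nat_lit 2129) [],
  .cy (nat_lit 14) [] [] [] (nat_lit 1647) [⟨[nat_lit 217, nat_lit 215], [nat_lit 24, nat_lit 2, nat_lit 0, nat_lit 11, nat_lit 27], (nat_lit 1489)⟩],
  .cy (nat_lit 0) [] [] [] (nat_lit 2131) [],
  .cy (nat_lit 14) [] [] [nat_lit 38] (nat_lit 1734) [⟨[], [nat_lit 1, nat_lit 1, nat_lit 26, nat_lit 34, nat_lit 32], (nat_lit 698)⟩],
  .cy (nat_lit 0) [] [] [] (nat_lit 2133) [],
  .cy (nat_lit 13) [] [] [nat_lit 38] (nat_lit 757) [⟨[nat_lit 215, nat_lit 217, nat_lit 215], [nat_lit 24, nat_lit 2, nat_lit 0, nat_lit 36, nat_lit 16, nat_lit 11, nat_lit 26], (nat_lit 1845)⟩],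
  .cy (nat_lit 0) [] [] [] (nat_lit 2135) [],
  .cy (nat_lit 13) [] [] [nat_lit 39] (nat_lit 967) [⟨[nat_lit 215], [nat_lit 16, nat_lit 5, nat_lit 2, nat_lit 15, nat_lit 35, nat_lit 26], (nat_lit 1374)⟩],
  .cy (nat_lit 0) [] [] [] (nat_lit 2137) [],
  .cy (nat_lit 13) [] [] [nat_lit 38] (nat_lit 1385) [⟨[nat_lit 215, nat_lit 217], [nat_lit 10, nat_lit 0, nat_lit 16, nat_lit 16, nat_lit 27], (nat_lit 1249)⟩],
  .cy (nat_lit 0) [] [] [] (nat_lit 2139) [],
  .cy (nat_lit 13) [] [] [nat_lit 39] (nat_lit 1477) [⟨[nat_lit 217], [nat_lit 0, nat_lit 16, nat_lit 24, nat_lit 26], (nat_lit 1511)⟩],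
  .cy (nat_lit 0) [] [] [] (nat_lit 2141) [],
  .cy (nat_lit 13) [] [] [] (nat_lit 1571) [⟨[nat_lit 215], [nat_lit 0, nat_lit 2, nat_lit 34, nat_lit 34, nat_lit 15, nat_lit 27], (nat_lit 1904)⟩],
  .cy (nat_lit 0) [] [] [] (nat_lit 2143) [],
  .cy (nat_lit 13) [] [] [nat_lit 39] (nat_lit 1811) [⟨[nat_lit 167, nat_lit 178], [nat_lit 16, nat_lit 2, nat_lit 26, nat_lit 16, nat_lit 26], (nat_lit 469)⟩],
  .cy (nat_lit 0) [] [] [] (nat_lit 2145) [],
  .cy (nat_lit 14) [] [] [nat_lit 39] (nat_lit 1811) [⟨[nat_lit 167, nat_lit 178], [nat_lit 2, nat_lit 0, nat_lit 33, nat_lit 25, nat_lit 26], (nat_lit 379)⟩],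
  .cy (nat_lit 0) [] [] [] (nat_lit 2147) [],
  .cy (nat_lit 13) [] [] [nat_lit 39] (nat_lit 1319) [⟨[nat_lit 215, nat_lit 217, nat_lit 215], [nat_lit 25, nat_lit 1, nat_lit 26, nat_lit 16], (nat_lit 1314)⟩],
  .cy (nat_lit 0) [] [] [] (nat_lit 2149) [],
  .cy (nat_lit 13) [] [] [] (nat_lit 841) [⟨[nat_lit 215, nat_lit 217, nat_lit 215], [nat_lit 24, nat_lit 18, nat_lit 18, nat_lit 27], (nat_lit 1213)⟩],
  .cy (nat_lit 0) [] [] [] (nat_lit 2151) [],
  .cy (nat_lit 13) [] [] [nat_lit 39] (nat_lit 641) [⟨[nat_lit 217], [nat_lit 0, nat_lit 35, nat_lit 32, nat_lit 11, nat_lit 26], (nat_lit 1672)⟩],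
  .cy (nat_lit 0) [] [] [] (nat_lit 2153) [],
  .cy (nat_lit 14) [] [] [] (nat_lit 641) [⟨[], [nat_lit 26, nat_lit 24, nat_lit 0, nat_lit 17, nat_lit 25, nat_lit 15, nat_lit 26], (nat_lit 1623)⟩],
  .cy (nat_lit 0) [] [] [] (nat_lit 2155) [],
  .cy (nat_lit 14) [] [] [nat_lit 39] (nat_lit 641) [⟨[nat_lit 215, nat_lit 217], [nat_lit 0, nat_lit 27, nat_lit 15, nat_lit 27], (nat_lit 820)⟩],
  .cy (nat_lit 0) [] [] [] (nat_lit 2157) [],
  .cy (nat_lit 14) [] [] [nat_lit 38] (nat_lit 809) [⟨[nat_lit 215, nat_lit 217, nat_lit 215], [nat_lit 1, nat_lit 14, nat_lit 34, nat_lit 32, nat_lit 11], (nat_lit 426)⟩],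
  .cy (nat_lit 0) [] [] [] (nat_lit 2159) [],
  .cy (nat_lit 13) [] [] [] (nat_lit 1256) [⟨[nat_lit 215, nat_lit 217], [nat_lit 25, nat_lit 14, nat_lit 0, nat_lit 24, nat_lit 37, nat_lit 17], (nat_lit 1809)⟩],
  .cy (nat_lit 0) [] [] [] (nat_lit 2161) [],
  .cy (nat_lit 13) [] [] [] (nat_lit 1450) [⟨[nat_lit 215, nat_lit 217], [nat_lit 14, nat_lit 15, nat_lit 0, nat_lit 37, nat_lit 37, nat_lit 11, nat_lit 27], (nat_lit 1851)⟩],
  .cy (nat_lit 0) [] [] [] (nat_lit 2163) [],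
  .cy (nat_lit 14) [] [] [nat_lit 39] (nat_lit 1918) [⟨[], [nat_lit 5, nat_lit 16, nat_lit 2, nat_lit 33, nat_lit 33, nat_lit 26], (nat_lit 1840)⟩],
  .cy (nat_lit 0) [] [] [] (nat_lit 2165) [],
  .cy (nat_lit 14) [] [] [nat_lit 38] (nat_lit 633) [⟨[nat_lit 215], [nat_lit 16, nat_lit 0, nat_lit 17, nat_lit 34, nat_lit 11], (nat_lit 1857)⟩],
  .cy (nat_lit 0) [] [] [] (nat_lit 2167) [],
  .cy (nat_lit 14) [] [] [nat_lit 39] (nat_lit 633) [⟨[nat_lit 217], [nat_lit 18, nat_lit 15, nat_lit 0, nat_lit 25, nat_lit 37], (nat_lit 2117)⟩],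
  .cy (nat_lit 0) [] [] [] (nat_lit 2169) [],
  .cy (nat_lit 14) [] [] [nat_lit 38] (nat_lit 1845) [⟨[nat_lit 215], [nat_lit 5, nat_lit 25, nat_lit 37, nat_lit 26], (nat_lit 1239)⟩],
  .cy (nat_lit 0) [] [] [] (nat_lit 2171) [],
  .cy (nat_lit 14) [] [] [] (nat_lit 1196) [⟨[nat_lit 215, nat_lit 217], [nat_lit 1, nat_lit 1, nat_lit 15, nat_lit 17, nat_lit 26], (nat_lit 1067)⟩],
  .cy (nat_lit 0) [] [] [] (nat_lit 2173) [],
  .cy (nat_lit 14) [] [] [] (nat_lit 1827) [⟨[nat_lit 215], [nat_lit 25, nat_lit 2, nat_lit 0, nat_lit 37, nat_lit 33, nat_lit 11, nat_lit 26], (nat_lit 1486)⟩],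
  .cy (nat_lit 0) [] [] [] (nat_lit 2175) [],
  .cy (nat_lit 13) [] [] [] (nat_lit 1794) [⟨[nat_lit 215], [nat_lit 1, nat_lit 14, nat_lit 18, nat_lit 15, nat_lit 26], (nat_lit 1500)⟩],
  .cy (nat_lit 0) [] [] [] (nat_lit 2177) [],
  .cy (nat_lit 13) [] [] [nat_lit 39] (nat_lit 767) [⟨[nat_lit 215, nat_lit 217, nat_lit 215], [nat_lit 24, nat_lit 0, nat_lit 35, nat_lit 35], (nat_lit 1391)⟩],
  .cy (nat_lit 0) [] [] [] (nat_lit 2179) [],
  .cy (nat_lit 13) [] [] [nat_lit 39] (nat_lit 1546) [⟨[nat_lit 215, nat_lit 217, nat_lit 215], [nat_lit 16, nat_lit 2, nat_lit 27, nat_lit 25, nat_lit 26], (nat_lit 450)⟩],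
  .cy (nat_lit 0) [] [] [] (nat_lit 2181) [],
  .cy (nat_lit 13) [] [] [nat_lit 39] (nat_lit 1694) [⟨[nat_lit 215, nat_lit 217, nat_lit 215], [nat_lit 10, nat_lit 0, nat_lit 27, nat_lit 17, nat_lit 27], (nat_lit 1799)⟩],
  .cy (nat_lit 0) [] [] [] (nat_lit 2183) [],
  .cy (nat_lit 14) [] [] [] (nat_lit 1179) [⟨[nat_lit 217], [nat_lit 15, nat_lit 0, nat_lit 24, nat_lit 11], (nat_lit 1349)⟩],
  .cy (nat_lit 0) [] [] [] (nat_lit 2185) [],
  .cy (nat_lit 14) [] [] [nat_lit 38] (nat_lit 881) [⟨[nat_lit 175, nat_lit 179, nat_lit 165, nat_lit 161], [nat_lit 16, nat_lit 0, nat_lit 36, nat_lit 33, nat_lit 11], (nat_lit 499)⟩],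
  .cy (nat_lit 0) [] [] [] (nat_lit 2187) [],
  .cy (nat_lit 13) [] [] [nat_lit 39] (nat_lit 1681) [⟨[nat_lit 217], [nat_lit 15, nat_lit 2, nat_lit 36, nat_lit 15], (nat_lit 430)⟩],
  .cy (nat_lit 0) [] [] [] (nat_lit 2189) [],
  .cy (nat_lit 14) [] [] [nat_lit 38] (nat_lit 1681) [⟨[nat_lit 215, nat_lit 217], [nat_lit 24, nat_lit 2, nat_lit 0, nat_lit 26, nat_lit 15], (nat_lit 1780)⟩],
  .cy (nat_lit 0) [] [] [] (nat_lit 2191) [],
  .cy (nat_lit 14) [] [] [] (nat_lit 1352) [⟨[nat_lit 217], [nat_lit 2, nat_lit 0, nat_lit 37, nat_lit 34, nat_lit 25, nat_lit 26], (nat_lit 1076)⟩],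
  .cy (nat_lit 0) [] [] [] (nat_lit 2193) [],
  .cy (nat_lit 14) [] [] [nat_lit 39] (nat_lit 1616) [⟨[nat_lit 217], [nat_lit 1, nat_lit 24, nat_lit 0, nat_lit 25, nat_lit 11, nat_lit 26], (nat_lit 1174)⟩],
  .cy (nat_lit 0) [] [] [] (nat_lit 2195) [],
  .cy (nat_lit 13) [] [] [nat_lit 39] (nat_lit 1216) [⟨[nat_lit 215, nat_lit 217], [nat_lit 1, nat_lit 14, nat_lit 32, nat_lit 34, nat_lit 11, nat_lit 27], (nat_lit 444)⟩],
  .cy (nat_lit 0) [] [] [] (nat_lit 2197) [],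
  .cy (nat_lit 14) [] [] [] (nat_lit 1216) [⟨[nat_lit 215], [nat_lit 26, nat_lit 24, nat_lit 0, nat_lit 11, nat_lit 16, nat_lit 26], (nat_lit 1505)⟩],
  .cy (nat_lit 0) [] [] [] (nat_lit 2199) [],
  .cy (nat_lit 14) [] [] [nat_lit 39] (nat_lit 1216) [⟨[nat_lit 215, nat_lit 217], [nat_lit 16, nat_lit 0, nat_lit 15, nat_lit 24, nat_lit 11, nat_lit 27], (nat_lit 958)⟩],
  .cy (nat_lit 0) [] [] [] (nat_lit 2201) [],
  .cy (nat_lit 14) [] [] [nat_lit 38] (nat_lit 1288) [⟨[nat_lit 217], [nat_lit 1, nat_lit 15], (nat_lit 1851)⟩],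
  .cy (nat_lit 0) [] [] [] (nat_lit 2203) [],
  .cy (nat_lit 13) [] [] [] (nat_lit 1303) [⟨[nat_lit 217], [nat_lit 0, nat_lit 15, nat_lit 32, nat_lit 26], (nat_lit 1401)⟩],
  .cy (nat_lit 0) [] [] [] (nat_lit 2205) [],
  .cy (nat_lit 13) [] [] [nat_lit 39] (nat_lit 1303) [⟨[], [nat_lit 15, nat_lit 1, nat_lit 34, nat_lit 37, nat_lit 11, nat_lit 26], (nat_lit 453)⟩],
  .cy (nat_lit 0) [] [] [] (nat_lit 2207) [],
  .cy (nat_lit 14) [] [] [nat_lit 38] (nat_lit 1303) [⟨[nat_lit 217], [nat_lit 11, nat_lit 5, nat_lit 2, nat_lit 17, nat_lit 15, nat_lit 11], (nat_lit 1367)⟩],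
  .cy (nat_lit 0) [] [] [] (nat_lit 2209) [],
  .cy (nat_lit 14) [] [] [nat_lit 39] (nat_lit 1303) [⟨[nat_lit 215], [nat_lit 11, nat_lit 2, nat_lit 0, nat_lit 17, nat_lit 15, nat_lit 27], (nat_lit 1608)⟩]]
noncomputable def P2583 : List Pf := [.cy (nat_lit 0) [] [] [] (nat_lit 2211) [],
  .cy (nat_lit 13) [] [] [nat_lit 38] (nat_lit 1537) [⟨[], [nat_lit 24, nat_lit 2, nat_lit 0, nat_lit 18, nat_lit 16, nat_lit 26], (nat_lit 1204)⟩],
  .cy (nat_lit 0) [] [] [] (nat_lit 2213) [],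
  .cy (nat_lit 14) [] [] [] (nat_lit 1537) [⟨[], [nat_lit 34, nat_lit 24, nat_lit 15, nat_lit 27], (nat_lit 1382)⟩],
  .cy (nat_lit 0) [] [] [] (nat_lit 2215) [],
  .cy (nat_lit 14) [] [] [nat_lit 38] (nat_lit 1537) [⟨[nat_lit 215, nat_lit 217, nat_lit 215], [nat_lit 0, nat_lit 15, nat_lit 32, nat_lit 26], (nat_lit 1370)⟩],
  .cy (nat_lit 0) [] [] [] (nat_lit 2217) [],
  .cy (nat_lit 14) [] [] [nat_lit 39] (nat_lit 1537) [⟨[nat_lit 215], [nat_lit 1, nat_lit 1, nat_lit 17], (nat_lit 406)⟩],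
  .cy (nat_lit 0) [] [] [] (nat_lit 2219) [],
  .cy (nat_lit 14) [] [] [] (nat_lit 1547) [⟨[nat_lit 215], [nat_lit 24, nat_lit 0, nat_lit 36, nat_lit 32, nat_lit 26], (nat_lit 967)⟩],
  .cy (nat_lit 0) [] [] [] (nat_lit 2221) [],
  .cy (nat_lit 14) [] [] [nat_lit 39] (nat_lit 899) [⟨[nat_lit 215], [nat_lit 17, nat_lit 2, nat_lit 0, nat_lit 36, nat_lit 33, nat_lit 11], (nat_lit 1326)⟩],
  .cy (nat_lit 0) [] [] [] (nat_lit 2223) [],
  .cy (nat_lit 13) [] [] [] (nat_lit 1773) [⟨[nat_lit 215, nat_lit 217, nat_lit 215], [nat_lit 2, nat_lit 0, nat_lit 33, nat_lit 27], (nat_lit 807)⟩],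
  .cy (nat_lit 0) [] [] [] (nat_lit 2225) [],
  .cy (nat_lit 14) [] [] [] (nat_lit 1748) [⟨[], [nat_lit 15, nat_lit 15, nat_lit 11, nat_lit 26], (nat_lit 1761)⟩],
  .cy (nat_lit 0) [] [] [] (nat_lit 2227) [],
  .cy (nat_lit 13) [] [] [nat_lit 38] (nat_lit 790) [⟨[nat_lit 217], [nat_lit 11, nat_lit 2, nat_lit 0, nat_lit 27, nat_lit 36, nat_lit 11, nat_lit 27], (nat_lit 1021)⟩],
  .cy (nat_lit 0) [] [] [] (nat_lit 2229) [],
  .cy (nat_lit 13) [] [] [] (nat_lit 1645) [⟨[], [nat_lit 15, nat_lit 1, nat_lit 27, nat_lit 18, nat_lit 11, nat_lit 27], (nat_lit 1715)⟩],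
  .cy (nat_lit 0) [] [] [] (nat_lit 2231) [],
  .cy (nat_lit 14) [] [] [] (nat_lit 1645) [⟨[], [nat_lit 1, nat_lit 24, nat_lit 0, nat_lit 27, nat_lit 17], (nat_lit 675)⟩],
  .cy (nat_lit 0) [] [] [] (nat_lit 2233) [],
  .cy (nat_lit 14) [] [] [nat_lit 38] (nat_lit 1919) [⟨[nat_lit 217], [nat_lit 1, nat_lit 33, nat_lit 16, nat_lit 11, nat_lit 26], (nat_lit 2176)⟩],
  .cy (nat_lit 0) [] [] [] (nat_lit 2235) [],
  .cy (nat_lit 13) [] [] [] (nat_lit 1604) [⟨[nat_lit 215, nat_lit 217], [nat_lit 1, nat_lit 24, nat_lit 0, nat_lit 32, nat_lit 32, nat_lit 27], (nat_lit 989)⟩],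
  .cy (nat_lit 0) [] [] [] (nat_lit 2237) [],
  .cy (nat_lit 14) [] [] [] (nat_lit 1388) [⟨[nat_lit 215, nat_lit 217], [nat_lit 26, nat_lit 2, nat_lit 0, nat_lit 36, nat_lit 27], (nat_lit 858)⟩],
  .cy (nat_lit 0) [] [] [] (nat_lit 2239) [],
  .cy (nat_lit 13) [] [] [] (nat_lit 1613) [⟨[], [nat_lit 1, nat_lit 24, nat_lit 0, nat_lit 34, nat_lit 16, nat_lit 11], (nat_lit 1453)⟩],
  .cy (nat_lit 0) [] [] [] (nat_lit 2241) [],
  .cy (nat_lit 14) [] [] [] (nat_lit 1431) [⟨[], [nat_lit 2, nat_lit 15, nat_lit 11, nat_lit 27], (nat_lit 742)⟩],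
  .cy (nat_lit 0) [] [] [] (nat_lit 2243) [],
  .cy (nat_lit 13) [] [] [nat_lit 39] (nat_lit 1392) [⟨[nat_lit 217], [nat_lit 16, nat_lit 0, nat_lit 17, nat_lit 36, nat_lit 15, nat_lit 27], (nat_lit 709)⟩],
  .cy (nat_lit 0) [] [] [] (nat_lit 2245) [],
  .cy (nat_lit 13) [] [] [nat_lit 39] (nat_lit 1553) [⟨[nat_lit 217], [nat_lit 14, nat_lit 15, nat_lit 0, nat_lit 37, nat_lit 18, nat_lit 15], (nat_lit 1582)⟩],
  .cy (nat_lit 0) [] [] [] (nat_lit 2247) [],
  .cy (nat_lit 13) [] [] [] (nat_lit 1104) [⟨[], [nat_lit 26, nat_lit 2, nat_lit 0, nat_lit 33, nat_lit 37, nat_lit 11, nat_lit 26], (nat_lit 1805)⟩],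
  .cy (nat_lit 0) [] [] [] (nat_lit 2249) [],
  .cy (nat_lit 14) [] [] [nat_lit 38] (nat_lit 1104) [⟨[], [nat_lit 5, nat_lit 26, nat_lit 34, nat_lit 32, nat_lit 26], (nat_lit 1990)⟩],
  .cy (nat_lit 0) [] [] [] (nat_lit 2251) [],
  .cy (nat_lit 14) [] [] [nat_lit 38] (nat_lit 769) [⟨[], [nat_lit 15, nat_lit 5, nat_lit 36, nat_lit 33, nat_lit 24, nat_lit 26], (nat_lit 655)⟩],
  .cy (nat_lit 0) [] [] [] (nat_lit 2253) [],
  .cy (nat_lit 13) [] [] [nat_lit 39] (nat_lit 470) [⟨[], [nat_lit 24, nat_lit 2, nat_lit 0, nat_lit 32, nat_lit 35, nat_lit 26], (nat_lit 1977)⟩],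
  .cy (nat_lit 0) [] [] [] (nat_lit 2255) [],
  .cy (nat_lit 14) [] [] [nat_lit 38] (nat_lit 615) [⟨[nat_lit 217, nat_lit 215], [nat_lit 15, nat_lit 1, nat_lit 25, nat_lit 35], (nat_lit 1021)⟩],
  .cy (nat_lit 13) [] [] [nat_lit 39] (nat_lit 1659) [⟨[], [nat_lit 2, nat_lit 0, nat_lit 32, nat_lit 36, nat_lit 16], (nat_lit 1492)⟩],
  .cy (nat_lit 0) [] [] [] (nat_lit 2258) [],
  .cy (nat_lit 14) [] [] [nat_lit 38] (nat_lit 1659) [⟨[nat_lit 217], [nat_lit 17, nat_lit 24, nat_lit 0, nat_lit 15, nat_lit 35], (nat_lit 2194)⟩],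
  .cy (nat_lit 0) [] [] [] (nat_lit 2260) [],
  .cy (nat_lit 13) [] [] [nat_lit 39] (nat_lit 825) [⟨[], [nat_lit 2, nat_lit 0, nat_lit 37, nat_lit 34, nat_lit 24, nat_lit 26], (nat_lit 1163)⟩],
  .cy (nat_lit 0) [] [] [] (nat_lit 2262) [],
  .cy (nat_lit 13) [] [] [nat_lit 39] (nat_lit 784) [⟨[], [nat_lit 24, nat_lit 16, nat_lit 0, nat_lit 34, nat_lit 15, nat_lit 27], (nat_lit 1422)⟩],
  .cy (nat_lit 0) [] [] [] (nat_lit 2264) [],
  .cy (nat_lit 14) [] [] [nat_lit 39] (nat_lit 903) [⟨[nat_lit 217, nat_lit 215], [nat_lit 24, nat_lit 1, nat_lit 36, nat_lit 32, nat_lit 26], (nat_lit 1793)⟩],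
  .cy (nat_lit 0) [] [] [] (nat_lit 2266) [],
  .cy (nat_lit 14) [] [] [nat_lit 39] (nat_lit 1504) [⟨[nat_lit 215], [nat_lit 17, nat_lit 24, nat_lit 0, nat_lit 17, nat_lit 15, nat_lit 11], (nat_lit 580)⟩],
  .cy (nat_lit 0) [] [] [] (nat_lit 2268) [],
  .cy (nat_lit 13) [] [] [nat_lit 38] (nat_lit 1035) [⟨[nat_lit 215], [nat_lit 1, nat_lit 5, nat_lit 16, nat_lit 26], (nat_lit 1739)⟩],
  .cy (nat_lit 0) [] [] [] (nat_lit 2270) [],
  .cy (nat_lit 14) [] [] [nat_lit 38] (nat_lit 1035) [⟨[nat_lit 217], [nat_lit 17, nat_lit 2, nat_lit 0, nat_lit 17, nat_lit 16, nat_lit 27], (nat_lit 844)⟩],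
  .cy (nat_lit 0) [] [] [] (nat_lit 2272) [],
  .cy (nat_lit 13) [] [] [] (nat_lit 546) [⟨[nat_lit 215, nat_lit 217, nat_lit 215], [nat_lit 1, nat_lit 14, nat_lit 32, nat_lit 35], (nat_lit 580)⟩],
  .cy (nat_lit 0) [] [] [] (nat_lit 2274) [],
  .cy (nat_lit 14) [] [] [] (nat_lit 1709) [⟨[nat_lit 215, nat_lit 217, nat_lit 215], [nat_lit 11, nat_lit 2, nat_lit 0, nat_lit 33, nat_lit 24, nat_lit 11], (nat_lit 1180)⟩],
  .cy (nat_lit 0) [] [] [] (nat_lit 2276) [],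
  .cy (nat_lit 14) [] [] [nat_lit 39] (nat_lit 1709) [⟨[nat_lit 217], [nat_lit 16, nat_lit 5, nat_lit 2, nat_lit 16, nat_lit 37, nat_lit 26], (nat_lit 435)⟩],
  .cy (nat_lit 0) [] [] [] (nat_lit 2278) [],
  .cy (nat_lit 13) [] [] [nat_lit 38] (nat_lit 1828) [⟨[], [nat_lit 25, nat_lit 2, nat_lit 0, nat_lit 27, nat_lit 36, nat_lit 11], (nat_lit 1823)⟩],
  .cy (nat_lit 0) [] [] [] (nat_lit 2280) [],
  .cy (nat_lit 13) [] [] [nat_lit 39] (nat_lit 662) [⟨[nat_lit 217], [nat_lit 17, nat_lit 24, nat_lit 0, nat_lit 17, nat_lit 37, nat_lit 11, nat_lit 26], (nat_lit 1421)⟩],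
  .cy (nat_lit 0) [] [] [] (nat_lit 2282) [],
  .cy (nat_lit 13) [] [] [] (nat_lit 1733) [⟨[nat_lit 217], [nat_lit 2, nat_lit 15, nat_lit 35, nat_lit 11, nat_lit 26], (nat_lit 1788)⟩],
  .cy (nat_lit 0) [] [] [] (nat_lit 2284) [],
  .cy (nat_lit 13) [] [] [nat_lit 38] (nat_lit 846) [⟨[nat_lit 217, nat_lit 215], [nat_lit 24, nat_lit 15, nat_lit 0, nat_lit 37, nat_lit 37, nat_lit 16], (nat_lit 877)⟩],
  .cy (nat_lit 0) [] [] [] (nat_lit 2286) [],
  .cy (nat_lit 13) [] [] [] (nat_lit 427) [⟨[nat_lit 215], [nat_lit 26, nat_lit 24, nat_lit 0, nat_lit 37, nat_lit 34, nat_lit 11], (nat_lit 749)⟩],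
  .cy (nat_lit 0) [] [] [] (nat_lit 2288) [],
  .cy (nat_lit 13) [] [] [nat_lit 38] (nat_lit 1561) [⟨[nat_lit 217, nat_lit 215], [nat_lit 25, nat_lit 2, nat_lit 0, nat_lit 16, nat_lit 32, nat_lit 15], (nat_lit 1196)⟩],
  .cy (nat_lit 0) [] [] [] (nat_lit 2290) [],
  .cy (nat_lit 14) [] [] [nat_lit 38] (nat_lit 1561) [⟨[nat_lit 215, nat_lit 217, nat_lit 215], [nat_lit 17, nat_lit 17, nat_lit 11], (nat_lit 1268)⟩],
  .cy (nat_lit 0) [] [] [] (nat_lit 2292) [],
  .cy (nat_lit 13) [] [] [nat_lit 38] (nat_lit 1869) [⟨[], [nat_lit 10, nat_lit 0, nat_lit 34, nat_lit 34], (nat_lit 2061)⟩],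
  .cy (nat_lit 0) [] [] [] (nat_lit 2294) [],
  .cy (nat_lit 13) [] [] [nat_lit 39] (nat_lit 1869) [⟨[], [nat_lit 5, nat_lit 2, nat_lit 0, nat_lit 17, nat_lit 17, nat_lit 11, nat_lit 26], (nat_lit 2063)⟩],
  .cy (nat_lit 0) [] [] [] (nat_lit 2296) [],
  .cy (nat_lit 13) [] [] [nat_lit 39] (nat_lit 1943) [⟨[nat_lit 215, nat_lit 217, nat_lit 215], [nat_lit 5, nat_lit 16, nat_lit 2, nat_lit 17, nat_lit 11, nat_lit 27], (nat_lit 1206)⟩],
  .cy (nat_lit 0) [] [] [] (nat_lit 2298) [],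
  .cy (nat_lit 14) [] [] [] (nat_lit 1123) [⟨[], [nat_lit 24, nat_lit 2, nat_lit 0, nat_lit 15, nat_lit 24, nat_lit 26], (nat_lit 1191)⟩],
  .cy (nat_lit 0) [] [] [] (nat_lit 2300) [],
  .cy (nat_lit 13) [] [] [nat_lit 39] (nat_lit 1793) [⟨[nat_lit 215], [nat_lit 14, nat_lit 35, nat_lit 17, nat_lit 16], (nat_lit 1055)⟩],
  .cy (nat_lit 0) [] [] [] (nat_lit 2302) [],
  .cy (nat_lit 14) [] [] [nat_lit 39] (nat_lit 1768) [⟨[nat_lit 215, nat_lit 217, nat_lit 215], [nat_lit 0, nat_lit 36, nat_lit 18, nat_lit 15, nat_lit 27], (nat_lit 650)⟩],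
  .cy (nat_lit 0) [] [] [] (nat_lit 2304) [],
  .cy (nat_lit 13) [] [] [] (nat_lit 1764) [⟨[nat_lit 215], [nat_lit 15, nat_lit 1, nat_lit 33, nat_lit 25, nat_lit 26], (nat_lit 939)⟩],
  .cy (nat_lit 0) [] [] [] (nat_lit 2306) [],
  .cy (nat_lit 13) [] [] [nat_lit 38] (nat_lit 466) [⟨[nat_lit 215, nat_lit 217, nat_lit 215], [nat_lit 25, nat_lit 14, nat_lit 0, nat_lit 25, nat_lit 18, nat_lit 18, nat_lit 26], (nat_lit 2184)⟩],
  .cy (nat_lit 0) [] [] [] (nat_lit 2308) [],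
  .cy (nat_lit 13) [] [] [nat_lit 39] (nat_lit 466) [⟨[nat_lit 215], [nat_lit 24, nat_lit 2, nat_lit 0, nat_lit 36, nat_lit 25, nat_lit 27], (nat_lit 1755)⟩],
  .cy (nat_lit 0) [] [] [] (nat_lit 2310) [],
  .cy (nat_lit 14) [] [] [nat_lit 39] (nat_lit 1545) [⟨[nat_lit 217], [nat_lit 2, nat_lit 0, nat_lit 34, nat_lit 34, nat_lit 27], (nat_lit 2188)⟩],
  .cy (nat_lit 0) [] [] [] (nat_lit 2312) [],
  .cy (nat_lit 13) [] [] [nat_lit 38] (nat_lit 1141) [⟨[nat_lit 215, nat_lit 217], [nat_lit 11, nat_lit 5, nat_lit 2, nat_lit 17, nat_lit 37, nat_lit 27], (nat_lit 1166)⟩],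
  .cy (nat_lit 0) [] [] [] (nat_lit 2314) [],
  .cy (nat_lit 13) [] [] [nat_lit 38] (nat_lit 791) [⟨[nat_lit 215, nat_lit 217, nat_lit 215], [nat_lit 0, nat_lit 32, nat_lit 27], (nat_lit 944)⟩],
  .cy (nat_lit 0) [] [] [] (nat_lit 2316) [],
  .cy (nat_lit 13) [] [] [nat_lit 39] (nat_lit 791) [⟨[nat_lit 215, nat_lit 217, nat_lit 215], [nat_lit 26, nat_lit 2, nat_lit 18, nat_lit 15, nat_lit 26], (nat_lit 2316)⟩],
  .cy (nat_lit 13) [] [] [nat_lit 39] (nat_lit 1235) [⟨[], [nat_lit 5, nat_lit 0, nat_lit 32, nat_lit 24, nat_lit 11], (nat_lit 1245)⟩],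
  .cy (nat_lit 0) [] [] [] (nat_lit 2319) [],
  .cy (nat_lit 13) [] [] [] (nat_lit 1398) [⟨[], [nat_lit 5, nat_lit 0, nat_lit 36, nat_lit 33, nat_lit 11, nat_lit 26], (nat_lit 675)⟩],
  .cy (nat_lit 0) [] [] [] (nat_lit 2321) [],
  .cy (nat_lit 13) [] [] [nat_lit 38] (nat_lit 1398) [⟨[], [nat_lit 26, nat_lit 24, nat_lit 0, nat_lit 24, nat_lit 37, nat_lit 17, nat_lit 26], (nat_lit 1715)⟩],
  .cy (nat_lit 0) [] [] [] (nat_lit 2323) [],
  .cy (nat_lit 13) [] [] [nat_lit 38] (nat_lit 651) [⟨[nat_lit 215, nat_lit 217, nat_lit 215], [nat_lit 2, nat_lit 16, nat_lit 18, nat_lit 11, nat_lit 27], (nat_lit 2002)⟩],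
  .cy (nat_lit 0) [] [] [] (nat_lit 2325) [],
  .cy (nat_lit 14) [] [] [nat_lit 38] (nat_lit 581) [⟨[nat_lit 217, nat_lit 215], [nat_lit 15, nat_lit 5, nat_lit 25, nat_lit 37, nat_lit 15], (nat_lit 1417)⟩],
  .cy (nat_lit 0) [] [] [] (nat_lit 2327) [],
  .cy (nat_lit 14) [] [] [] (nat_lit 1484) [⟨[], [nat_lit 17, nat_lit 2, nat_lit 0, nat_lit 26, nat_lit 15], (nat_lit 1098)⟩],
  .cy (nat_lit 0) [] [] [] (nat_lit 2329) [],
  .cy (nat_lit 14) [] [] [nat_lit 38] (nat_lit 1484) [⟨[], [nat_lit 1, nat_lit 5, nat_lit 25, nat_lit 15, nat_lit 27], (nat_lit 865)⟩],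
  .cy (nat_lit 0) [] [] [] (nat_lit 2331) [],
  .cy (nat_lit 14) [] [] [nat_lit 39] (nat_lit 1484) [⟨[nat_lit 215], [nat_lit 26, nat_lit 2, nat_lit 0, nat_lit 15, nat_lit 27, nat_lit 16], (nat_lit 647)⟩],
  .cy (nat_lit 0) [] [] [] (nat_lit 2333) [],
  .cy (nat_lit 13) [] [] [] (nat_lit 1454) [⟨[], [nat_lit 15, nat_lit 1, nat_lit 15, nat_lit 27, nat_lit 16], (nat_lit 2196)⟩],
  .cy (nat_lit 0) [] [] [] (nat_lit 2335) [],
  .cy (nat_lit 13) [] [] [nat_lit 39] (nat_lit 1454) [⟨[], [nat_lit 0, nat_lit 17, nat_lit 11], (nat_lit 1616)⟩],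
  .cy (nat_lit 0) [] [] [] (nat_lit 2337) [],
  .cy (nat_lit 13) [] [] [nat_lit 38] (nat_lit 1535) [⟨[nat_lit 217], [nat_lit 15, nat_lit 2, nat_lit 26, nat_lit 15, nat_lit 15], (nat_lit 1061)⟩],
  .cy (nat_lit 0) [] [] [] (nat_lit 2339) [],
  .cy (nat_lit 14) [] [] [] (nat_lit 814) [⟨[], [nat_lit 11, nat_lit 2, nat_lit 0, nat_lit 33, nat_lit 33, nat_lit 27], (nat_lit 966)⟩],
  .cy (nat_lit 0) [] [] [] (nat_lit 2341) [],
  .cy (nat_lit 14) [] [] [nat_lit 38] (nat_lit 858) [⟨[nat_lit 215, nat_lit 217], [nat_lit 25, nat_lit 1, nat_lit 25, nat_lit 15, nat_lit 11, nat_lit 27], (nat_lit 1311)⟩],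
  .cy (nat_lit 0) [] [] [] (nat_lit 2343) [],
  .cy (nat_lit 14) [] [] [nat_lit 38] (nat_lit 749) [⟨[nat_lit 217], [nat_lit 2, nat_lit 0, nat_lit 36, nat_lit 33, nat_lit 26], (nat_lit 393)⟩],
  .cy (nat_lit 0) [] [] [] (nat_lit 2345) [],
  .cy (nat_lit 13) [] [] [] (nat_lit 1760) [⟨[nat_lit 217, nat_lit 215], [nat_lit 15, nat_lit 27, nat_lit 16, nat_lit 27], (nat_lit 1245)⟩],
  .cy (nat_lit 0) [] [] [] (nat_lit 2347) [],
  .cy (nat_lit 13) [] [] [nat_lit 38] (nat_lit 642) [⟨[nat_lit 217, nat_lit 215], [nat_lit 15, nat_lit 2, nat_lit 17, nat_lit 37, nat_lit 11, nat_lit 27], (nat_lit 719)⟩],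
  .cy (nat_lit 0) [] [] [] (nat_lit 2349) [],
  .cy (nat_lit 13) [] [] [nat_lit 39] (nat_lit 1941) [⟨[nat_lit 217], [nat_lit 24, nat_lit 0, nat_lit 24, nat_lit 18, nat_lit 18], (nat_lit 991)⟩],
  .cy (nat_lit 0) [] [] [] (nat_lit 2351) [],
  .cy (nat_lit 14) [] [] [nat_lit 38] (nat_lit 1177) [⟨[], [nat_lit 2, nat_lit 24, nat_lit 36, nat_lit 11, nat_lit 27], (nat_lit 697)⟩],
  .cy (nat_lit 0) [] [] [] (nat_lit 2353) [],
  .cy (nat_lit 13) [] [] [nat_lit 38] (nat_lit 1459) [⟨[], [nat_lit 24, nat_lit 2, nat_lit 0, nat_lit 27, nat_lit 16, nat_lit 26], (nat_lit 1492)⟩],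
  .cy (nat_lit 0) [] [] [] (nat_lit 2355) [],
  .cy (nat_lit 14) [] [] [nat_lit 39] (nat_lit 1334) [⟨[nat_lit 215, nat_lit 217], [nat_lit 16, nat_lit 5, nat_lit 2, nat_lit 25, nat_lit 16, nat_lit 26], (nat_lit 1407)⟩],
  .cy (nat_lit 0) [] [] [] (nat_lit 2357) [],
  .cy (nat_lit 13) [] [] [nat_lit 38] (nat_lit 1213) [⟨[nat_lit 215, nat_lit 217], [nat_lit 11, nat_lit 5, nat_lit 2, nat_lit 37, nat_lit 18, nat_lit 15, nat_lit 27], (nat_lit 1498)⟩],
  .cy (nat_lit 0) [] [] [] (nat_lit 2359) [],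
  .cy (nat_lit 13) [] [] [nat_lit 39] (nat_lit 1213) [⟨[nat_lit 215, nat_lit 217], [nat_lit 5, nat_lit 2, nat_lit 37, nat_lit 24, nat_lit 15], (nat_lit 2000)⟩],
  .cy (nat_lit 0) [] [] [] (nat_lit 2361) [],
  .cy (nat_lit 14) [] [] [nat_lit 39] (nat_lit 1213) [⟨[nat_lit 215, nat_lit 217], [nat_lit 15, nat_lit 2, nat_lit 17, nat_lit 25, nat_lit 15, nat_lit 27], (nat_lit 301)⟩],
  .cy (nat_lit 0) [] [] [] (nat_lit 2363) [],
  .cy (nat_lit 14) [] [] [] (nat_lit 1713) [⟨[nat_lit 217], [nat_lit 0, nat_lit 24, nat_lit 36, nat_lit 16], (nat_lit 1166)⟩],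
  .cy (nat_lit 0) [] [] [] (nat_lit 2365) [],
  .cy (nat_lit 13) [] [] [nat_lit 39] (nat_lit 758) [⟨[nat_lit 215, nat_lit 217], [nat_lit 14, nat_lit 15, nat_lit 0, nat_lit 37, nat_lit 17, nat_lit 11, nat_lit 26], (nat_lit 2171)⟩],
  .cy (nat_lit 14) [] [] [] (nat_lit 758) [⟨[nat_lit 215, nat_lit 217], [nat_lit 16, nat_lit 5, nat_lit 0, nat_lit 35, nat_lit 11], (nat_lit 1238)⟩],
  .cy (nat_lit 0) [] [] [] (nat_lit 2368) [],
  .cy (nat_lit 14) [] [] [nat_lit 38] (nat_lit 1818) [⟨[nat_lit 215, nat_lit 217], [nat_lit 25, nat_lit 0, nat_lit 33, nat_lit 37, nat_lit 11, nat_lit 27], (nat_lit 1550)⟩],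
  .cy (nat_lit 0) [] [] [] (nat_lit 2370) [],
  .cy (nat_lit 14) [] [] [] (nat_lit 1739) [⟨[], [nat_lit 11, nat_lit 2, nat_lit 0, nat_lit 24, nat_lit 37, nat_lit 27], (nat_lit 2272)⟩],
  .cy (nat_lit 0) [] [] [] (nat_lit 2372) [],
  .cy (nat_lit 14) [] [] [nat_lit 39] (nat_lit 1739) [⟨[], [nat_lit 25, nat_lit 14, nat_lit 0, nat_lit 37, nat_lit 34, nat_lit 24, nat_lit 27], (nat_lit 845)⟩],
  .cy (nat_lit 14) [] [] [nat_lit 38] (nat_lit 1936) [⟨[nat_lit 215, nat_lit 217], [nat_lit 24, nat_lit 16, nat_lit 0, nat_lit 25], (nat_lit 1599)⟩],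
  .cy (nat_lit 0) [] [] [] (nat_lit 2375) [],
  .cy (nat_lit 13) [] [] [] (nat_lit 401) [⟨[nat_lit 217], [nat_lit 1, nat_lit 24, nat_lit 0, nat_lit 32, nat_lit 35], (nat_lit 892)⟩],
  .cy (nat_lit 0) [] [] [] (nat_lit 2377) [],
  .cy (nat_lit 13) [] [] [nat_lit 38] (nat_lit 401) [⟨[nat_lit 215], [nat_lit 1, nat_lit 37, nat_lit 33, nat_lit 11, nat_lit 26], (nat_lit 1695)⟩],
  .cy (nat_lit 0) [] [] [] (nat_lit 2379) [],
  .cy (nat_lit 14) [] [] [nat_lit 38] (nat_lit 401) [⟨[nat_lit 215], [nat_lit 11, nat_lit 5, nat_lit 2, nat_lit 37, nat_lit 16, nat_lit 27], (nat_lit 2007)⟩],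
  .cy (nat_lit 0) [] [] [] (nat_lit 2381) [],
  .cy (nat_lit 13) [] [] [] (nat_lit 1443) [⟨[nat_lit 217, nat_lit 215], [nat_lit 24, nat_lit 16, nat_lit 0, nat_lit 27, nat_lit 36, nat_lit 26], (nat_lit 1599)⟩],
  .cy (nat_lit 0) [] [] [] (nat_lit 2383) [],
  .cy (nat_lit 14) [] [] [] (nat_lit 848) [⟨[nat_lit 217, nat_lit 215], [nat_lit 5, nat_lit 2, nat_lit 25, nat_lit 11, nat_lit 27], (nat_lit 846)⟩],
  .cy (nat_lit 0) [] [] [] (nat_lit 2385) [],
  .cy (nat_lit 13) [] [] [nat_lit 38] (nat_lit 869) [⟨[nat_lit 215, nat_lit 217, nat_lit 215], [nat_lit 24, nat_lit 2, nat_lit 16, nat_lit 18, nat_lit 11], (nat_lit 2232)⟩],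
  .cy (nat_lit 0) [] [] [] (nat_lit 2387) [],
  .cy (nat_lit 13) [] [] [nat_lit 39] (nat_lit 869) [⟨[nat_lit 215, nat_lit 217, nat_lit 215], [nat_lit 15, nat_lit 2, nat_lit 34, nat_lit 25, nat_lit 26], (nat_lit 2234)⟩],
  .cy (nat_lit 0) [] [] [] (nat_lit 2389) [],
  .cy (nat_lit 14) [] [] [nat_lit 39] (nat_lit 869) [⟨[nat_lit 215, nat_lit 217, nat_lit 215], [nat_lit 5, nat_lit 16, nat_lit 2, nat_lit 34, nat_lit 27], (nat_lit 1645)⟩],
  .cy (nat_lit 0) [] [] [] (nat_lit 2391) [],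
  .cy (nat_lit 14) [] [] [nat_lit 38] (nat_lit 1241) [⟨[nat_lit 215, nat_lit 217], [nat_lit 5, nat_lit 11, nat_lit 27], (nat_lit 1654)⟩],
  .cy (nat_lit 0) [] [] [] (nat_lit 2393) [],
  .cy (nat_lit 13) [] [] [nat_lit 38] (nat_lit 997) [⟨[], [nat_lit 16, nat_lit 5, nat_lit 0, nat_lit 26, nat_lit 16], (nat_lit 994)⟩],
  .cy (nat_lit 0) [] [] [] (nat_lit 2395) [],
  .cy (nat_lit 14) [] [] [] (nat_lit 997) [⟨[], [nat_lit 34, nat_lit 34, nat_lit 15], (nat_lit 1078)⟩],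
  .cy (nat_lit 0) [] [] [] (nat_lit 2397) [],
  .cy (nat_lit 14) [] [] [nat_lit 38] (nat_lit 997) [⟨[nat_lit 215, nat_lit 217, nat_lit 215], [nat_lit 15, nat_lit 5, nat_lit 11, nat_lit 37], (nat_lit 1415)⟩],
  .cy (nat_lit 0) [] [] [] (nat_lit 2399) [],
  .cy (nat_lit 14) [] [] [nat_lit 38] (nat_lit 1329) [⟨[], [nat_lit 1, nat_lit 27, nat_lit 16, nat_lit 27], (nat_lit 1573)⟩],
  .cy (nat_lit 0) [] [] [] (nat_lit 2401) [],
  .cy (nat_lit 14) [] [] [nat_lit 39] (nat_lit 1329) [⟨[nat_lit 215, nat_lit 217, nat_lit 215], [nat_lit 26, nat_lit 2, nat_lit 24, nat_lit 17, nat_lit 27], (nat_lit 1425)⟩],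
  .cy (nat_lit 0) [] [] [] (nat_lit 2403) [],
  .cy (nat_lit 13) [] [] [nat_lit 39] (nat_lit 1642) [⟨[nat_lit 215], [nat_lit 1, nat_lit 5, nat_lit 27, nat_lit 16, nat_lit 27], (nat_lit 1379)⟩],
  .cy (nat_lit 0) [] [] [] (nat_lit 2405) [],
  .cy (nat_lit 14) [] [] [nat_lit 38] (nat_lit 1642) [⟨[nat_lit 217, nat_lit 215], [nat_lit 15, nat_lit 1, nat_lit 35, nat_lit 33, nat_lit 11, nat_lit 26], (nat_lit 1597)⟩],
  .cy (nat_lit 0) [] [] [] (nat_lit 2407) [],
  .cy (nat_lit 13) [] [] [] (nat_lit 991) [⟨[nat_lit 215, nat_lit 217], [nat_lit 15, nat_lit 18], (nat_lit 1056)⟩],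
  .cy (nat_lit 0) [] [] [] (nat_lit 2409) [],
  .cy (nat_lit 14) [] [] [nat_lit 38] (nat_lit 991) [⟨[nat_lit 215, nat_lit 217], [nat_lit 24, nat_lit 0, nat_lit 34, nat_lit 25, nat_lit 26], (nat_lit 2302)⟩],
  .cy (nat_lit 0) [] [] [] (nat_lit 2411) [],
  .cy (nat_lit 13) [] [] [] (nat_lit 1598) [⟨[nat_lit 217, nat_lit 215], [nat_lit 15, nat_lit 2, nat_lit 15, nat_lit 15, nat_lit 11], (nat_lit 715)⟩],
  .cy (nat_lit 0) [] [] [] (nat_lit 2413) [],
  .cy (nat_lit 13) [] [] [nat_lit 39] (nat_lit 1637) [⟨[nat_lit 215], [nat_lit 5, nat_lit 2, nat_lit 0, nat_lit 18, nat_lit 35, nat_lit 11, nat_lit 27], (nat_lit 2315)⟩],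
  .cy (nat_lit 0) [] [] [] (nat_lit 2415) [],
  .cy (nat_lit 14) [] [] [nat_lit 38] (nat_lit 1589) [⟨[nat_lit 217, nat_lit 215], [nat_lit 2, nat_lit 37, nat_lit 37], (nat_lit 1878)⟩],
  .cy (nat_lit 0) [] [] [] (nat_lit 2417) [],
  .cy (nat_lit 14) [] [] [nat_lit 39] (nat_lit 1019) [⟨[nat_lit 215, nat_lit 217], [nat_lit 17, nat_lit 2, nat_lit 0, nat_lit 35, nat_lit 33, nat_lit 27], (nat_lit 1185)⟩],
  .cy (nat_lit 0) [] [] [] (nat_lit 2419) [],
  .cy (nat_lit 14) [] [] [] (nat_lit 1506) [⟨[nat_lit 217, nat_lit 215], [nat_lit 26, nat_lit 24, nat_lit 0, nat_lit 27, nat_lit 24], (nat_lit 1630)⟩],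
  .cy (nat_lit 0) [] [] [] (nat_lit 2421) [],
  .cy (nat_lit 14) [] [] [nat_lit 39] (nat_lit 747) [⟨[], [nat_lit 15, nat_lit 2, nat_lit 17, nat_lit 24, nat_lit 27], (nat_lit 887)⟩],
  .cy (nat_lit 0) [] [] [] (nat_lit 2423) [],
  .cy (nat_lit 13) [] [] [nat_lit 38] (nat_lit 993) [⟨[], [nat_lit 5, nat_lit 2, nat_lit 24, nat_lit 37, nat_lit 11, nat_lit 26], (nat_lit 1078)⟩],
  .cy (nat_lit 0) [] [] [] (nat_lit 2425) [],
  .cy (nat_lit 14) [] [] [nat_lit 38] (nat_lit 993) [⟨[nat_lit 215, nat_lit 217, nat_lit 215], [nat_lit 24, nat_lit 1, nat_lit 33, nat_lit 33, nat_lit 11, nat_lit 27], (nat_lit 1415)⟩],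
  .cy (nat_lit 0) [] [] [] (nat_lit 2427) [],
  .cy (nat_lit 13) [] [] [] (nat_lit 646) [⟨[nat_lit 215], [nat_lit 1, nat_lit 14, nat_lit 34, nat_lit 17, nat_lit 11], (nat_lit 865)⟩],
  .cy (nat_lit 0) [] [] [] (nat_lit 2429) [],
  .cy (nat_lit 13) [] [] [] (nat_lit 1359) [⟨[nat_lit 217], [nat_lit 15, nat_lit 5, nat_lit 37, nat_lit 34, nat_lit 25, nat_lit 26], (nat_lit 1950)⟩],
  .cy (nat_lit 14) [] [] [] (nat_lit 1359) [⟨[], [nat_lit 10, nat_lit 10, nat_lit 0, nat_lit 33, nat_lit 36], (nat_lit 1625)⟩],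
  .cy (nat_lit 0) [] [] [] (nat_lit 2432) [],
  .cy (nat_lit 14) [] [] [nat_lit 38] (nat_lit 1844) [⟨[nat_lit 215, nat_lit 217, nat_lit 215], [nat_lit 0, nat_lit 2, nat_lit 32, nat_lit 24, nat_lit 11], (nat_lit 2369)⟩],
  .cy (nat_lit 14) [] [] [nat_lit 39] (nat_lit 1950) [⟨[nat_lit 215], [nat_lit 0, nat_lit 2, nat_lit 36, nat_lit 33, nat_lit 11, nat_lit 27], (nat_lit 2433)⟩],
  .cy (nat_lit 0) [] [] [] (nat_lit 2435) [],
  .cy (nat_lit 13) [] [] [] (nat_lit 1501) [⟨[nat_lit 217], [nat_lit 14, nat_lit 37, nat_lit 33, nat_lit 11], (nat_lit 1161)⟩],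
  .cy (nat_lit 0) [] [] [] (nat_lit 2437) [],
  .cy (nat_lit 13) [] [] [] (nat_lit 568) [⟨[nat_lit 215], [nat_lit 5, nat_lit 17, nat_lit 37, nat_lit 27], (nat_lit 1095)⟩],
  .cy (nat_lit 14) [] [] [] (nat_lit 1074) [⟨[nat_lit 217], [nat_lit 0, nat_lit 32, nat_lit 18, nat_lit 27], (nat_lit 1323)⟩],
  .cy (nat_lit 0) [] [] [] (nat_lit 2440) [],
  .cy (nat_lit 14) [] [] [nat_lit 39] (nat_lit 1374) [⟨[nat_lit 215, nat_lit 217, nat_lit 215], [nat_lit 15, nat_lit 1, nat_lit 24, nat_lit 11, nat_lit 26], (nat_lit 1499)⟩],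
  .cy (nat_lit 0) [] [] [] (nat_lit 2442) [],
  .cy (nat_lit 13) [] [] [nat_lit 38] (nat_lit 1687) [⟨[nat_lit 217, nat_lit 215], [nat_lit 1, nat_lit 1, nat_lit 36, nat_lit 32, nat_lit 11, nat_lit 26], (nat_lit 903)⟩],
  .cy (nat_lit 0) [] [] [] (nat_lit 2444) [],
  .cy (nat_lit 14) [] [] [nat_lit 39] (nat_lit 1687) [⟨[nat_lit 217, nat_lit 215], [nat_lit 17, nat_lit 2, nat_lit 0, nat_lit 34, nat_lit 25, nat_lit 11, nat_lit 27], (nat_lit 2267)⟩],
  .cy (nat_lit 0) [] [] [] (nat_lit 2446) [],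
  .cy (nat_lit 13) [] [] [] (nat_lit 889) [⟨[nat_lit 215], [nat_lit 5, nat_lit 2, nat_lit 0, nat_lit 17, nat_lit 34], (nat_lit 859)⟩],
  .cy (nat_lit 0) [] [] [] (nat_lit 2448) [],
  .cy (nat_lit 14) [] [] [nat_lit 39] (nat_lit 889) [⟨[nat_lit 217, nat_lit 215], [nat_lit 15, nat_lit 1, nat_lit 24, nat_lit 24], (nat_lit 544)⟩],
  .cy (nat_lit 0) [] [] [] (nat_lit 2450) [],
  .cy (nat_lit 13) [] [] [nat_lit 38] (nat_lit 345) [⟨[nat_lit 215], [nat_lit 5, nat_lit 2, nat_lit 0, nat_lit 26, nat_lit 15, nat_lit 26], (nat_lit 687)⟩],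
  .cy (nat_lit 0) [] [] [] (nat_lit 2452) [],
  .cy (nat_lit 13) [] [] [nat_lit 38] (nat_lit 1583) [⟨[nat_lit 217], [nat_lit 1, nat_lit 14, nat_lit 15, nat_lit 35, nat_lit 26], (nat_lit 2144)⟩],
  .cy (nat_lit 0) [] [] [] (nat_lit 2454) [],
  .cy (nat_lit 13) [] [] [] (nat_lit 1842) [⟨[nat_lit 215, nat_lit 217], [nat_lit 16, nat_lit 5, nat_lit 2, nat_lit 36, nat_lit 32], (nat_lit 984)⟩],
  .cy (nat_lit 0) [] [] [] (nat_lit 2456) [],
  .cy (nat_lit 13) [] [] [nat_lit 38] (nat_lit 1842) [⟨[nat_lit 215, nat_lit 217], [nat_lit 18, nat_lit 15, nat_lit 0, nat_lit 37, nat_lit 34, nat_lit 11], (nat_lit 1023)⟩],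
  .cy (nat_lit 0) [] [] [] (nat_lit 2458) [],
  .cy (nat_lit 13) [] [] [nat_lit 38] (nat_lit 1181) [⟨[nat_lit 217, nat_lit 215], [nat_lit 24, nat_lit 2, nat_lit 18, nat_lit 36], (nat_lit 435)⟩],
  .cy (nat_lit 0) [] [] [] (nat_lit 2460) [],
  .cy (nat_lit 13) [] [] [] (nat_lit 1577) [⟨[nat_lit 217, nat_lit 215], [nat_lit 1, nat_lit 14, nat_lit 35, nat_lit 17], (nat_lit 854)⟩],
  .cy (nat_lit 0) [] [] [] (nat_lit 2462) [],
  .cy (nat_lit 13) [] [] [nat_lit 39] (nat_lit 1922) [⟨[nat_lit 217], [nat_lit 5, nat_lit 2, nat_lit 34, nat_lit 37], (nat_lit 435)⟩],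
  .cy (nat_lit 0) [] [] [] (nat_lit 2464) [],
  .cy (nat_lit 13) [] [] [] (nat_lit 1533) [⟨[], [nat_lit 32, nat_lit 18, nat_lit 11], (nat_lit 1552)⟩],
  .cy (nat_lit 0) [] [] [] (nat_lit 2466) [],
  .cy (nat_lit 14) [] [] [] (nat_lit 1533) [⟨[nat_lit 217], [nat_lit 1, nat_lit 5, nat_lit 24, nat_lit 17, nat_lit 11, nat_lit 27], (nat_lit 1880)⟩],
  .cy (nat_lit 13) [] [] [nat_lit 39] (nat_lit 1408) [⟨[], [nat_lit 2, nat_lit 0, nat_lit 33, nat_lit 33, nat_lit 11, nat_lit 27], (nat_lit 1683)⟩],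
  .cy (nat_lit 0) [] [] [] (nat_lit 2469) [],
  .cy (nat_lit 13) [] [] [] (nat_lit 1199) [⟨[nat_lit 217, nat_lit 215], [nat_lit 1, nat_lit 1, nat_lit 17, nat_lit 17, nat_lit 11, nat_lit 27], (nat_lit 631)⟩],
  .cy (nat_lit 0) [] [] [] (nat_lit 2471) [],
  .cy (nat_lit 14) [] [] [nat_lit 39] (nat_lit 1199) [⟨[], [nat_lit 17, nat_lit 2, nat_lit 0, nat_lit 36, nat_lit 32], (nat_lit 895)⟩],
  .cy (nat_lit 0) [] [] [] (nat_lit 2473) [],
  .cy (nat_lit 13) [] [] [nat_lit 39] (nat_lit 1658) [⟨[nat_lit 215, nat_lit 217, nat_lit 215], [nat_lit 26, nat_lit 2, nat_lit 32, nat_lit 34, nat_lit 11, nat_lit 26], (nat_lit 1952)⟩],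
  .cy (nat_lit 0) [] [] [] (nat_lit 2475) [],
  .cy (nat_lit 14) [] [] [nat_lit 39] (nat_lit 1566) [⟨[nat_lit 217, nat_lit 215], [nat_lit 16, nat_lit 0, nat_lit 25, nat_lit 16, nat_lit 26], (nat_lit 922)⟩],
  .cy (nat_lit 0) [] [] [] (nat_lit 2477) [],
  .cy (nat_lit 13) [] [] [nat_lit 38] (nat_lit 1833) [⟨[nat_lit 215, nat_lit 217], [nat_lit 34, nat_lit 11, nat_lit 17], (nat_lit 959)⟩],
  .cy (nat_lit 0) [] [] [] (nat_lit 2479) [],
  .cy (nat_lit 13) [] [] [nat_lit 39] (nat_lit 1707) [⟨[nat_lit 215, nat_lit 217], [nat_lit 24, nat_lit 2, nat_lit 0, nat_lit 37, nat_lit 37], (nat_lit 1701)⟩],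
  .cy (nat_lit 0) [] [] [] (nat_lit 2481) [],
  .cy (nat_lit 13) [] [] [nat_lit 38] (nat_lit 1160) [⟨[nat_lit 215, nat_lit 217, nat_lit 215], [nat_lit 5, nat_lit 14, nat_lit 27, nat_lit 25], (nat_lit 927)⟩],
  .cy (nat_lit 13) [] [] [nat_lit 38] (nat_lit 1752) [⟨[], [nat_lit 14, nat_lit 0, nat_lit 25, nat_lit 35, nat_lit 26], (nat_lit 1390)⟩],
  .cy (nat_lit 0) [] [] [] (nat_lit 2484) [],
  .cy (nat_lit 14) [] [] [nat_lit 38] (nat_lit 1752) [⟨[nat_lit 215], [nat_lit 1, nat_lit 24, nat_lit 0, nat_lit 15, nat_lit 32, nat_lit 26], (nat_lit 1557)⟩],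
  .cy (nat_lit 0) [] [] [] (nat_lit 2486) [],
  .cy (nat_lit 13) [] [] [nat_lit 39] (nat_lit 736) [⟨[nat_lit 215], [nat_lit 25, nat_lit 14, nat_lit 0, nat_lit 27, nat_lit 24, nat_lit 27], (nat_lit 689)⟩],
  .cy (nat_lit 0) [] [] [] (nat_lit 2488) [],
  .cy (nat_lit 13) [] [] [nat_lit 39] (nat_lit 660) [⟨[], [nat_lit 0, nat_lit 2, nat_lit 32, nat_lit 36, nat_lit 16], (nat_lit 775)⟩],
  .cy (nat_lit 14) [] [] [nat_lit 39] (nat_lit 660) [⟨[nat_lit 217], [nat_lit 10, nat_lit 10, nat_lit 0, nat_lit 26, nat_lit 16], (nat_lit 828)⟩],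
  .cy (nat_lit 0) [] [] [] (nat_lit 2491) [],
  .cy (nat_lit 14) [] [] [nat_lit 39] (nat_lit 478) [⟨[nat_lit 215], [nat_lit 5, nat_lit 14, nat_lit 17, nat_lit 15], (nat_lit 2356)⟩],
  .cy (nat_lit 0) [] [] [] (nat_lit 2493) [],
  .cy (nat_lit 14) [] [] [] (nat_lit 878) [⟨[nat_lit 215, nat_lit 217], [nat_lit 16, nat_lit 2, nat_lit 17, nat_lit 11, nat_lit 17], (nat_lit 1046)⟩],
  .cy (nat_lit 0) [] [] [] (nat_lit 2495) [],
  .cy (nat_lit 13) [] [] [] (nat_lit 970) [⟨[nat_lit 217], [nat_lit 10, nat_lit 0, nat_lit 16, nat_lit 24], (nat_lit 1578)⟩],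
  .cy (nat_lit 0) [] [] [] (nat_lit 2497) [],
  .cy (nat_lit 13) [] [] [nat_lit 38] (nat_lit 1948) [⟨[nat_lit 217], [nat_lit 5, nat_lit 14, nat_lit 35, nat_lit 35, nat_lit 11], (nat_lit 1798)⟩],
  .cy (nat_lit 0) [] [] [] (nat_lit 2499) [],
  .cy (nat_lit 14) [] [] [nat_lit 39] (nat_lit 974) [⟨[], [nat_lit 24, nat_lit 2, nat_lit 34, nat_lit 37, nat_lit 27], (nat_lit 814)⟩],
  .cy (nat_lit 0) [] [] [] (nat_lit 2501) [],
  .cy (nat_lit 13) [] [] [nat_lit 38] (nat_lit 1646) [⟨[nat_lit 215, nat_lit 217], [nat_lit 24, nat_lit 2, nat_lit 0, nat_lit 27, nat_lit 24, nat_lit 15], (nat_lit 2418)⟩],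
  .cy (nat_lit 0) [] [] [] (nat_lit 2503) [],
  .cy (nat_lit 14) [] [] [nat_lit 39] (nat_lit 1735) [⟨[], [nat_lit 36, nat_lit 15], (nat_lit 2279)⟩],
  .cy (nat_lit 0) [] [] [] (nat_lit 2505) [],
  .cy (nat_lit 13) [] [] [nat_lit 38] (nat_lit 598) [⟨[nat_lit 215, nat_lit 217, nat_lit 215], [nat_lit 14, nat_lit 15, nat_lit 0, nat_lit 15, nat_lit 18, nat_lit 16, nat_lit 26], (nat_lit 2453)⟩],
  .cy (nat_lit 0) [] [] [] (nat_lit 2507) [],
  .cy (nat_lit 13) [] [] [nat_lit 38] (nat_lit 1863) [⟨[], [nat_lit 14, nat_lit 0, nat_lit 32, nat_lit 18, nat_lit 11, nat_lit 26], (nat_lit 2256)⟩],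
  .cy (nat_lit 0) [] [] [] (nat_lit 2509) [],
  .cy (nat_lit 13) [] [] [nat_lit 38] (nat_lit 676) [⟨[], [nat_lit 2, nat_lit 25, nat_lit 36, nat_lit 15, nat_lit 26], (nat_lit 1715)⟩],
  .cy (nat_lit 0) [] [] [] (nat_lit 2511) [],
  .cy (nat_lit 13) [] [] [nat_lit 39] (nat_lit 676) [⟨[], [nat_lit 16, nat_lit 2, nat_lit 15, nat_lit 11, nat_lit 15], (nat_lit 2504)⟩],
  .cy (nat_lit 0) [] [] [] (nat_lit 2513) [],
  .cy (nat_lit 14) [] [] [nat_lit 38] (nat_lit 746) [⟨[nat_lit 215, nat_lit 217, nat_lit 215], [nat_lit 25, nat_lit 0, nat_lit 33, nat_lit 11, nat_lit 16], (nat_lit 737)⟩],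
  .cy (nat_lit 0) [] [] [] (nat_lit 2515) [],
  .cy (nat_lit 14) [] [] [nat_lit 39] (nat_lit 861) [⟨[], [nat_lit 26, nat_lit 2, nat_lit 0, nat_lit 26, nat_lit 15, nat_lit 27], (nat_lit 864)⟩],
  .cy (nat_lit 13) [] [] [nat_lit 38] (nat_lit 1362) [⟨[nat_lit 215, nat_lit 217, nat_lit 215], [nat_lit 5, nat_lit 2, nat_lit 37, nat_lit 32, nat_lit 11, nat_lit 27], (nat_lit 1574)⟩],
  .cy (nat_lit 0) [] [] [] (nat_lit 2518) [],
  .cy (nat_lit 13) [] [] [nat_lit 38] (nat_lit 894) [⟨[nat_lit 217, nat_lit 215], [nat_lit 24, nat_lit 2, nat_lit 0, nat_lit 26, nat_lit 15, nat_lit 26], (nat_lit 1315)⟩],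
  .cy (nat_lit 0) [] [] [] (nat_lit 2520) [],
  .cy (nat_lit 13) [] [] [] (nat_lit 966) [⟨[], [nat_lit 24, nat_lit 2, nat_lit 0, nat_lit 15, nat_lit 15, nat_lit 26], (nat_lit 2482)⟩],
  .cy (nat_lit 0) [] [] [] (nat_lit 2522) [],
  .cy (nat_lit 13) [] [] [nat_lit 39] (nat_lit 1564) [⟨[], [nat_lit 5, nat_lit 2, nat_lit 24, nat_lit 36, nat_lit 11, nat_lit 27], (nat_lit 1564)⟩],
  .cy (nat_lit 14) [] [] [] (nat_lit 420) [⟨[nat_lit 215, nat_lit 217, nat_lit 215], [nat_lit 15, nat_lit 2, nat_lit 32, nat_lit 18, nat_lit 11], (nat_lit 2388)⟩],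
  .cy (nat_lit 0) [] [] [] (nat_lit 2525) [],
  .cy (nat_lit 14) [] [] [nat_lit 38] (nat_lit 542) [⟨[nat_lit 217], [nat_lit 0, nat_lit 35, nat_lit 27, nat_lit 15], (nat_lit 1675)⟩],
  .cy (nat_lit 0) [] [] [] (nat_lit 2527) [],
  .cy (nat_lit 13) [] [] [] (nat_lit 616) [⟨[nat_lit 215, nat_lit 217, nat_lit 215], [nat_lit 5, nat_lit 2, nat_lit 36, nat_lit 26], (nat_lit 2275)⟩],
  .cy (nat_lit 0) [] [] [] (nat_lit 2529) [],
  .cy (nat_lit 14) [] [] [nat_lit 38] (nat_lit 616) [⟨[nat_lit 215, nat_lit 217, nat_lit 215], [nat_lit 26, nat_lit 2, nat_lit 0, nat_lit 33, nat_lit 33, nat_lit 11, nat_lit 26], (nat_lit 546)⟩],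
  .cy (nat_lit 0) [] [] [] (nat_lit 2531) [],
  .cy (nat_lit 13) [] [] [nat_lit 38] (nat_lit 1579) [⟨[nat_lit 215, nat_lit 217, nat_lit 215], [nat_lit 26, nat_lit 2, nat_lit 15, nat_lit 18, nat_lit 16, nat_lit 26], (nat_lit 2498)⟩],
  .cy (nat_lit 0) [] [] [] (nat_lit 2533) [],
  .cy (nat_lit 14) [] [] [] (nat_lit 1856) [⟨[nat_lit 215, nat_lit 217], [nat_lit 24, nat_lit 1, nat_lit 17, nat_lit 25, nat_lit 15, nat_lit 26], (nat_lit 2117)⟩],
  .cy (nat_lit 0) [] [] [] (nat_lit 2535) [],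
  .cy (nat_lit 13) [] [] [nat_lit 39] (nat_lit 1743) [⟨[nat_lit 215, nat_lit 217], [nat_lit 11, nat_lit 2, nat_lit 0, nat_lit 33, nat_lit 24, nat_lit 11], (nat_lit 1784)⟩],
  .cy (nat_lit 0) [] [] [] (nat_lit 2537) [],
  .cy (nat_lit 13) [] [] [nat_lit 38] (nat_lit 520) [⟨[nat_lit 204, nat_lit 208, nat_lit 204], [nat_lit 1, nat_lit 24, nat_lit 0, nat_lit 15, nat_lit 27, nat_lit 16, nat_lit 26], (nat_lit 521)⟩],
  .cy (nat_lit 0) [] [] [] (nat_lit 2539) [],
  .cy (nat_lit 13) [] [] [nat_lit 39] (nat_lit 520) [⟨[nat_lit 204, nat_lit 208, nat_lit 204], [nat_lit 5, nat_lit 14, nat_lit 25, nat_lit 36], (nat_lit 1983)⟩],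
  .cy (nat_lit 0) [] [] [] (nat_lit 2541) [],
  .cy (nat_lit 14) [] [] [nat_lit 39] (nat_lit 520) [⟨[nat_lit 209, nat_lit 205, nat_lit 203], [nat_lit 14, nat_lit 15, nat_lit 0, nat_lit 35, nat_lit 11], (nat_lit 1983)⟩],
  .cy (nat_lit 0) [] [] [] (nat_lit 2543) [],
  .cy (nat_lit 13) [] [] [nat_lit 38] (nat_lit 2271) [⟨[], [nat_lit 5, nat_lit 2, nat_lit 0, nat_lit 37, nat_lit 32, nat_lit 11, nat_lit 27], (nat_lit 2272)⟩],
  .cy (nat_lit 14) [] [] [] (nat_lit 1420) [⟨[], [nat_lit 11, nat_lit 2, nat_lit 0, nat_lit 35, nat_lit 27, nat_lit 15], (nat_lit 2544)⟩],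
  .cy (nat_lit 0) [] [] [] (nat_lit 2546) [],
  .cy (nat_lit 21) [] [] [nat_lit 11, nat_lit 5, nat_lit 2, nat_lit 32, nat_lit 24, nat_lit 11, nat_lit 26] (nat_lit 505) [⟨[nat_lit 217, nat_lit 215], [nat_lit 11, nat_lit 5, nat_lit 2, nat_lit 17, nat_lit 34, nat_lit 11], (nat_lit 1022)⟩, ⟨[nat_lit 215, nat_lit 217, nat_lit 215], [nat_lit 15, nat_lit 1, nat_lit 18, nat_lit 11], (nat_lit 702)⟩],
  .cy (nat_lit 26) [] [] [nat_lit 17, nat_lit 24, nat_lit 0, nat_lit 16, nat_lit 26] (nat_lit 227) [⟨[nat_lit 162, nat_lit 179], [nat_lit 25, nat_lit 0, nat_lit 24, nat_lit 18, nat_lit 18, nat_lit 27], (nat_lit 1969)⟩, ⟨[nat_lit 217, nat_lit 215], [nat_lit 15, nat_lit 0, nat_lit 34, nat_lit 24, nat_lit 15], (nat_lit 1431)⟩],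
  .cy (nat_lit 0) [] [] [] (nat_lit 2549) [],
  .cy (nat_lit 27) [] [] [nat_lit 15, nat_lit 1, nat_lit 27, nat_lit 15, nat_lit 11, nat_lit 27] (nat_lit 1224) [⟨[nat_lit 215, nat_lit 217, nat_lit 215], [nat_lit 10, nat_lit 10, nat_lit 0, nat_lit 33, nat_lit 15, nat_lit 11, nat_lit 27], (nat_lit 2233)⟩, ⟨[nat_lit 217, nat_lit 215], [nat_lit 11, nat_lit 2, nat_lit 0, nat_lit 33, nat_lit 25], (nat_lit 1337)⟩],
  .cy (nat_lit 0) [] [] [] (nat_lit 2551) [],
  .cy (nat_lit 24) [] [] [nat_lit 16, nat_lit 5, nat_lit 0, nat_lit 34, nat_lit 24, nat_lit 26] (nat_lit 264) [⟨[nat_lit 217, nat_lit 215], [nat_lit 15, nat_lit 2, nat_lit 36, nat_lit 18, nat_lit 27], (nat_lit 2363)⟩, ⟨[], [nat_lit 24, nat_lit 2, nat_lit 0, nat_lit 26, nat_lit 16], (nat_lit 1161)⟩],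
  .cy (nat_lit 0) [] [] [] (nat_lit 2553) [],
  .cy (nat_lit 20) [] [] [nat_lit 10, nat_lit 0, nat_lit 32, nat_lit 36, nat_lit 16, nat_lit 26] (nat_lit 368) [⟨[nat_lit 206, nat_lit 522, nat_lit 209, nat_lit 202], [nat_lit 25, nat_lit 14, nat_lit 0, nat_lit 33, nat_lit 36, nat_lit 27], (nat_lit 1800)⟩, ⟨[], [nat_lit 1, nat_lit 14, nat_lit 37, nat_lit 32], (nat_lit 717)⟩],
  .cy (nat_lit 0) [] [] [] (nat_lit 2555) [],
  .cy (nat_lit 23) [] [] [nat_lit 25, nat_lit 2, nat_lit 0, nat_lit 15, nat_lit 15, nat_lit 15, nat_lit 26] (nat_lit 368) [⟨[nat_lit 522, nat_lit 203], [nat_lit 17, nat_lit 24, nat_lit 0, nat_lit 34, nat_lit 34, nat_lit 11, nat_lit 27], (nat_lit 947)⟩, ⟨[nat_lit 215, nat_lit 217], [nat_lit 25, nat_lit 0, nat_lit 34, nat_lit 24, nat_lit 15, nat_lit 27], (nat_lit 2483)⟩],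
  .cy (nat_lit 0) [] [] [] (nat_lit 2557) [],
  .cy (nat_lit 10) [] [] [nat_lit 26, nat_lit 24, nat_lit 0, nat_lit 35, nat_lit 36, nat_lit 26] (nat_lit 322) [⟨[], [nat_lit 15, nat_lit 2, nat_lit 36, nat_lit 16, nat_lit 11, nat_lit 26], (nat_lit 1774)⟩, ⟨[], [nat_lit 2, nat_lit 0, nat_lit 15, nat_lit 18, nat_lit 11, nat_lit 27], (nat_lit 2280)⟩],
  .cy (nat_lit 27) [] [] [nat_lit 1, nat_lit 1, nat_lit 25, nat_lit 35, nat_lit 11] (nat_lit 1991) [⟨[nat_lit 215, nat_lit 217, nat_lit 215], [nat_lit 0, nat_lit 2, nat_lit 24, nat_lit 35, nat_lit 26], (nat_lit 818)⟩, ⟨[], [nat_lit 25, nat_lit 16, nat_lit 0, nat_lit 11, nat_lit 15, nat_lit 27], (nat_lit 1404)⟩],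
  .cy (nat_lit 27) [] [] [nat_lit 16, nat_lit 5, nat_lit 2, nat_lit 33, nat_lit 25, nat_lit 27] (nat_lit 803) [⟨[], [nat_lit 10, nat_lit 0, nat_lit 37], (nat_lit 355)⟩, ⟨[nat_lit 215, nat_lit 217, nat_lit 215], [nat_lit 33, nat_lit 33, nat_lit 11, nat_lit 26], (nat_lit 992)⟩],
  .cy (nat_lit 0) [] [] [] (nat_lit 2561) [],
  .cy (nat_lit 25) [] [] [nat_lit 15, nat_lit 1, nat_lit 24, nat_lit 37, nat_lit 15, nat_lit 27] (nat_lit 449) [⟨[nat_lit 217], [nat_lit 16, nat_lit 5, nat_lit 0, nat_lit 36, nat_lit 27], (nat_lit 867)⟩, ⟨[nat_lit 217], [nat_lit 5, nat_lit 37, nat_lit 11, nat_lit 17], (nat_lit 2274)⟩],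
  .cy (nat_lit 21) [] [] [nat_lit 26, nat_lit 2, nat_lit 0, nat_lit 35, nat_lit 11, nat_lit 27] (nat_lit 2019) [⟨[nat_lit 215, nat_lit 217], [nat_lit 25, nat_lit 14, nat_lit 0, nat_lit 16, nat_lit 17, nat_lit 15, nat_lit 27], (nat_lit 2478)⟩, ⟨[], [nat_lit 15, nat_lit 0, nat_lit 25, nat_lit 37, nat_lit 17, nat_lit 26], (nat_lit 804)⟩],
  .cy (nat_lit 0) [] [] [] (nat_lit 2564) [],
  .cy (nat_lit 8) [] [] [nat_lit 15, nat_lit 0, nat_lit 32, nat_lit 32, nat_lit 26] (nat_lit 2251) [⟨[nat_lit 215], [nat_lit 2, nat_lit 35, nat_lit 35, nat_lit 26], (nat_lit 1909)⟩, ⟨[nat_lit 215], [nat_lit 14, nat_lit 16, nat_lit 32, nat_lit 15, nat_lit 26], (nat_lit 1143)⟩],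
  .cy (nat_lit 0) [] [] [] (nat_lit 2566) [],
  .cy (nat_lit 22) [] [] [nat_lit 18, nat_lit 15, nat_lit 0, nat_lit 15, nat_lit 35, nat_lit 11, nat_lit 27] (nat_lit 943) [⟨[nat_lit 215], [nat_lit 26, nat_lit 2, nat_lit 0, nat_lit 34, nat_lit 34], (nat_lit 314)⟩, ⟨[nat_lit 215], [nat_lit 10, nat_lit 10, nat_lit 0, nat_lit 34, nat_lit 37, nat_lit 11], (nat_lit 1092)⟩],
  .cy (nat_lit 0) [] [] [] (nat_lit 2568) [],
  .cy (nat_lit 22) [] [] [nat_lit 18, nat_lit 15, nat_lit 0, nat_lit 37, nat_lit 24, nat_lit 26] (nat_lit 1927) [⟨[], [nat_lit 26, nat_lit 2, nat_lit 0, nat_lit 33, nat_lit 11, nat_lit 27], (nat_lit 790)⟩, ⟨[nat_lit 217], [nat_lit 11, nat_lit 2, nat_lit 0, nat_lit 37, nat_lit 24], (nat_lit 2203)⟩],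
  .cy (nat_lit 3) [] [] [nat_lit 24, nat_lit 2, nat_lit 33, nat_lit 15, nat_lit 11, nat_lit 26] (nat_lit 1859) [⟨[nat_lit 215], [nat_lit 26, nat_lit 2, nat_lit 0, nat_lit 25, nat_lit 16, nat_lit 26], (nat_lit 1412)⟩, ⟨[nat_lit 217], [nat_lit 1, nat_lit 24, nat_lit 0, nat_lit 37, nat_lit 32, nat_lit 11], (nat_lit 1188)⟩],
  .cy (nat_lit 0) [] [] [] (nat_lit 2571) [],
  .cy (nat_lit 6) [] [] [nat_lit 16, nat_lit 0, nat_lit 33, nat_lit 25, nat_lit 26] (nat_lit 805) [⟨[nat_lit 215], [nat_lit 2, nat_lit 35, nat_lit 27, nat_lit 15], (nat_lit 1639)⟩, ⟨[nat_lit 215], [nat_lit 26, nat_lit 2, nat_lit 0, nat_lit 17, nat_lit 36, nat_lit 15, nat_lit 27], (nat_lit 2422)⟩],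
  .cy (nat_lit 0) [] [] [] (nat_lit 2573) [],
  .cy (nat_lit 11) [] [] [nat_lit 10, nat_lit 10, nat_lit 0, nat_lit 34, nat_lit 16, nat_lit 11] (nat_lit 2269) [⟨[nat_lit 215, nat_lit 217, nat_lit 215], [nat_lit 5, nat_lit 16, nat_lit 2, nat_lit 34, nat_lit 32, nat_lit 16, nat_lit 27], (nat_lit 2309)⟩, ⟨[nat_lit 217], [nat_lit 15, nat_lit 0, nat_lit 37, nat_lit 34, nat_lit 25], (nat_lit 2545)⟩],
  .df,
  .cy (nat_lit 0) [] [] [] (nat_lit 2576) [],
  .tr (nat_lit 2576) [] [] [⟨[nat_lit 105, nat_lit 101, nat_lit 102, nat_lit 91, nat_lit 97, nat_lit 109, nat_lit 109, nat_lit 96, nat_lit 109, nat_lit 90, nat_lit 101], [nat_lit 37, nat_lit 34, nat_lit 25, nat_lit 26], (nat_lit 2576)⟩],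
  .tr (nat_lit 2576) [] [] [⟨[nat_lit 96, nat_lit 90, nat_lit 105, nat_lit 91, nat_lit 97, nat_lit 91, nat_lit 101, nat_lit 90, nat_lit 100, nat_lit 90, nat_lit 92, nat_lit 90], [nat_lit 0], (nat_lit 2576)⟩],
  .cy (nat_lit 13) [] [] [] (nat_lit 200) [⟨[], [], (nat_lit 2576)⟩],
  .cy (nat_lit 0) [] [] [] (nat_lit 2580) [],
  .cy (nat_lit 13) [] [] [nat_lit 38] (nat_lit 214) [⟨[], [nat_lit 25, nat_lit 2, nat_lit 0, nat_lit 36, nat_lit 17], (nat_lit 2576)⟩]]
noncomputable def P2784 : List Pf := [.cy (nat_lit 0) [] [] [] (nat_lit 2582) [],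
  .cy (nat_lit 14) [] [] [nat_lit 38] (nat_lit 214) [⟨[nat_lit 109, nat_lit 109], [nat_lit 0, nat_lit 2, nat_lit 36, nat_lit 25, nat_lit 11, nat_lit 27], (nat_lit 2576)⟩],
  .cy (nat_lit 0) [] [] [] (nat_lit 2584) [],
  .cy (nat_lit 14) [] [] [nat_lit 39] (nat_lit 214) [⟨[nat_lit 106, nat_lit 106], [nat_lit 26, nat_lit 2, nat_lit 0, nat_lit 25, nat_lit 37, nat_lit 17], (nat_lit 2576)⟩],
  .cy (nat_lit 0) [] [] [] (nat_lit 2586) [],
  .cy (nat_lit 13) [] [] [] (nat_lit 2577) [⟨[nat_lit 106, nat_lit 106], [nat_lit 27], (nat_lit 2576)⟩],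
  .cy (nat_lit 0) [] [] [] (nat_lit 2588) [],
  .cy (nat_lit 5) [] [] [nat_lit 16, nat_lit 2, nat_lit 32, nat_lit 32, nat_lit 26] (nat_lit 159) [⟨[nat_lit 179, nat_lit 175], [nat_lit 14, nat_lit 15, nat_lit 0, nat_lit 32, nat_lit 24, nat_lit 11], (nat_lit 160)⟩, ⟨[nat_lit 106, nat_lit 106, nat_lit 90, nat_lit 101, nat_lit 90], [nat_lit 5, nat_lit 2, nat_lit 0, nat_lit 35, nat_lit 35, nat_lit 11], (nat_lit 2576)⟩],
  .cy (nat_lit 0) [] [] [] (nat_lit 2590) [⟨[nat_lit 106, nat_lit 90, nat_lit 109, nat_lit 102, nat_lit 90], [nat_lit 10, nat_lit 10, nat_lit 0, nat_lit 16, nat_lit 18, nat_lit 11, nat_lit 26], (nat_lit 2576)⟩],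
  .ss (nat_lit 6) [(nat_lit 2591)] [],
  .cy (nat_lit 5) [] [] [nat_lit 24, nat_lit 0, nat_lit 33, nat_lit 35, nat_lit 26] (nat_lit 185) [⟨[nat_lit 178, nat_lit 175], [nat_lit 5, nat_lit 2, nat_lit 37, nat_lit 37, nat_lit 26], (nat_lit 172)⟩, ⟨[nat_lit 101, nat_lit 102, nat_lit 90, nat_lit 92], [nat_lit 10, nat_lit 10, nat_lit 0, nat_lit 17, nat_lit 17, nat_lit 11, nat_lit 26], (nat_lit 2576)⟩],
  .cy (nat_lit 0) [] [] [] (nat_lit 2593) [],
  .cy (nat_lit 5) [] [] [nat_lit 15, nat_lit 1, nat_lit 37, nat_lit 17, nat_lit 26] (nat_lit 187) [⟨[nat_lit 179, nat_lit 175], [nat_lit 15, nat_lit 0, nat_lit 36, nat_lit 36, nat_lit 17], (nat_lit 170)⟩, ⟨[nat_lit 178, nat_lit 176, nat_lit 165], [nat_lit 26, nat_lit 24], (nat_lit 2594)⟩],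
  .cy (nat_lit 0) [] [] [] (nat_lit 2595) [],
  .cy (nat_lit 11) [] [] [nat_lit 1, nat_lit 14, nat_lit 24, nat_lit 36] (nat_lit 184) [⟨[nat_lit 176], [nat_lit 1, nat_lit 1, nat_lit 33, nat_lit 35], (nat_lit 186)⟩, ⟨[nat_lit 164], [nat_lit 18, nat_lit 25], (nat_lit 2594)⟩],
  .cy (nat_lit 0) [] [] [] (nat_lit 2597) [],
  .cy (nat_lit 12) [] [] [nat_lit 17, nat_lit 2, nat_lit 0, nat_lit 34, nat_lit 32, nat_lit 26] (nat_lit 379) [⟨[nat_lit 215], [nat_lit 24, nat_lit 2, nat_lit 0, nat_lit 17, nat_lit 17, nat_lit 27], (nat_lit 500)⟩, ⟨[nat_lit 165, nat_lit 161], [nat_lit 24, nat_lit 15, nat_lit 0, nat_lit 15, nat_lit 32, nat_lit 15, nat_lit 27], (nat_lit 2598)⟩],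
  .cy (nat_lit 0) [] [] [] (nat_lit 2599) [],
  .cy (nat_lit 8) [] [] [nat_lit 10, nat_lit 10, nat_lit 0, nat_lit 32, nat_lit 34, nat_lit 26] (nat_lit 220) [⟨[], [nat_lit 11, nat_lit 5, nat_lit 2, nat_lit 17, nat_lit 36, nat_lit 15, nat_lit 26], (nat_lit 334)⟩, ⟨[], [nat_lit 14, nat_lit 15, nat_lit 0, nat_lit 24, nat_lit 18, nat_lit 18], (nat_lit 2583)⟩],
  .cy (nat_lit 0) [] [] [] (nat_lit 2601) [],
  .cy (nat_lit 21) [] [] [nat_lit 2, nat_lit 36, nat_lit 24, nat_lit 15, nat_lit 27] (nat_lit 220) [⟨[nat_lit 215], [nat_lit 16, nat_lit 5, nat_lit 2, nat_lit 11, nat_lit 16, nat_lit 27], (nat_lit 233)⟩, ⟨[nat_lit 179, nat_lit 179, nat_lit 176], [nat_lit 15, nat_lit 5, nat_lit 33, nat_lit 35, nat_lit 26], (nat_lit 2594)⟩],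
  .cy (nat_lit 0) [] [] [] (nat_lit 2603) [],
  .cy (nat_lit 26) [] [] [nat_lit 15, nat_lit 0, nat_lit 33, nat_lit 33, nat_lit 11, nat_lit 26] (nat_lit 214) [⟨[nat_lit 92], [nat_lit 16, nat_lit 5, nat_lit 0, nat_lit 16, nat_lit 25, nat_lit 27], (nat_lit 199)⟩, ⟨[nat_lit 204, nat_lit 205], [nat_lit 10, nat_lit 10, nat_lit 0, nat_lit 25, nat_lit 36, nat_lit 11, nat_lit 27], (nat_lit 2604)⟩],
  .cy (nat_lit 0) [] [] [] (nat_lit 2605) [],
  .cy (nat_lit 20) [] [] [nat_lit 25, nat_lit 0, nat_lit 25, nat_lit 16, nat_lit 16, nat_lit 27] (nat_lit 221) [⟨[nat_lit 215], [nat_lit 16, nat_lit 5, nat_lit 2, nat_lit 15, nat_lit 17, nat_lit 11, nat_lit 26], (nat_lit 343)⟩, ⟨[nat_lit 201], [nat_lit 5, nat_lit 35, nat_lit 11, nat_lit 27], (nat_lit 2604)⟩],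
  .cy (nat_lit 0) [] [] [] (nat_lit 2607) [],
  .cy (nat_lit 20) [] [] [nat_lit 5, nat_lit 2, nat_lit 0, nat_lit 25, nat_lit 16, nat_lit 16, nat_lit 27] (nat_lit 219) [⟨[nat_lit 203, nat_lit 208], [nat_lit 1, nat_lit 24, nat_lit 0, nat_lit 36, nat_lit 25, nat_lit 11, nat_lit 27], (nat_lit 210)⟩, ⟨[nat_lit 178, nat_lit 176, nat_lit 161], [nat_lit 2, nat_lit 25, nat_lit 16, nat_lit 16], (nat_lit 2594)⟩],
  .cy (nat_lit 0) [] [] [] (nat_lit 2609) [],
  .cy (nat_lit 2) [] [] [nat_lit 5, nat_lit 14, nat_lit 24] (nat_lit 227) [⟨[nat_lit 175, nat_lit 165, nat_lit 161], [nat_lit 11, nat_lit 5, nat_lit 2, nat_lit 35, nat_lit 35, nat_lit 26], (nat_lit 232)⟩, ⟨[], [nat_lit 26, nat_lit 2, nat_lit 0, nat_lit 27, nat_lit 24, nat_lit 15, nat_lit 26], (nat_lit 2585)⟩],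
  .cy (nat_lit 0) [] [] [] (nat_lit 2611) [],
  .cy (nat_lit 3) [] [] [nat_lit 1, nat_lit 24, nat_lit 0, nat_lit 24, nat_lit 37, nat_lit 27] (nat_lit 246) [⟨[nat_lit 215], [nat_lit 15, nat_lit 0, nat_lit 18, nat_lit 35, nat_lit 11, nat_lit 26], (nat_lit 258)⟩, ⟨[nat_lit 209, nat_lit 202], [nat_lit 5, nat_lit 0, nat_lit 27, nat_lit 37], (nat_lit 2581)⟩],
  .cy (nat_lit 0) [] [] [] (nat_lit 2613) [],
  .cy (nat_lit 5) [] [] [nat_lit 17, nat_lit 2, nat_lit 0, nat_lit 15, nat_lit 15] (nat_lit 334) [⟨[], [nat_lit 10, nat_lit 0, nat_lit 18, nat_lit 16, nat_lit 11], (nat_lit 288)⟩, ⟨[], [nat_lit 25, nat_lit 16, nat_lit 0, nat_lit 16, nat_lit 25, nat_lit 26], (nat_lit 2585)⟩],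
  .cy (nat_lit 0) [] [] [] (nat_lit 2615) [],
  .cy (nat_lit 4) [] [] [nat_lit 15, nat_lit 2, nat_lit 37, nat_lit 18, nat_lit 15, nat_lit 26] (nat_lit 2585) [⟨[nat_lit 2578], [nat_lit 15, nat_lit 5, nat_lit 25, nat_lit 36], (nat_lit 2611)⟩, ⟨[], [nat_lit 2, nat_lit 24, nat_lit 37, nat_lit 11, nat_lit 26], (nat_lit 2616)⟩],
  .cy (nat_lit 0) [] [] [] (nat_lit 2617) [],
  .cy (nat_lit 23) [] [] [nat_lit 15, nat_lit 0, nat_lit 18, nat_lit 25] (nat_lit 2587) [⟨[nat_lit 2578, nat_lit 2579], [nat_lit 5, nat_lit 16, nat_lit 2, nat_lit 15, nat_lit 32], (nat_lit 2597)⟩, ⟨[nat_lit 176, nat_lit 167, nat_lit 162], [nat_lit 15, nat_lit 5, nat_lit 34, nat_lit 25, nat_lit 27], (nat_lit 2596)⟩],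
  .cy (nat_lit 0) [] [] [] (nat_lit 2619) [],
  .cy (nat_lit 23) [] [] [nat_lit 24, nat_lit 1, nat_lit 36, nat_lit 36, nat_lit 17] (nat_lit 222) [⟨[], [nat_lit 5, nat_lit 14, nat_lit 33, nat_lit 24, nat_lit 26], (nat_lit 343)⟩, ⟨[], [nat_lit 24, nat_lit 2, nat_lit 34, nat_lit 34, nat_lit 15, nat_lit 27], (nat_lit 2604)⟩],
  .cy (nat_lit 0) [] [] [] (nat_lit 2621) [],
  .cy (nat_lit 26) [] [] [nat_lit 37, nat_lit 11, nat_lit 26] (nat_lit 326) [⟨[nat_lit 217], [nat_lit 11, nat_lit 5, nat_lit 2, nat_lit 35, nat_lit 27, nat_lit 15, nat_lit 26], (nat_lit 368)⟩, ⟨[nat_lit 209, nat_lit 203, nat_lit 205], [nat_lit 15, nat_lit 5, nat_lit 37, nat_lit 34], (nat_lit 2602)⟩],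
  .cy (nat_lit 0) [] [] [] (nat_lit 2623) [],
  .cy (nat_lit 5) [] [] [nat_lit 5, nat_lit 0, nat_lit 17, nat_lit 36, nat_lit 26] (nat_lit 306) [⟨[], [nat_lit 24, nat_lit 2, nat_lit 0, nat_lit 34, nat_lit 15, nat_lit 11, nat_lit 27], (nat_lit 256)⟩, ⟨[], [nat_lit 35, nat_lit 26], (nat_lit 2581)⟩],
  .cy (nat_lit 0) [] [] [] (nat_lit 2625) [],
  .cy (nat_lit 1) [] [] [nat_lit 25, nat_lit 14, nat_lit 0, nat_lit 35, nat_lit 16, nat_lit 16, nat_lit 27] (nat_lit 307) [⟨[nat_lit 217], [nat_lit 15, nat_lit 0, nat_lit 34, nat_lit 24, nat_lit 27], (nat_lit 254)⟩, ⟨[nat_lit 209, nat_lit 204, nat_lit 206], [nat_lit 15, nat_lit 2, nat_lit 34, nat_lit 37, nat_lit 27], (nat_lit 2604)⟩],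
  .cy (nat_lit 0) [] [] [] (nat_lit 2627) [],
  .cy (nat_lit 5) [] [] [nat_lit 25, nat_lit 14, nat_lit 0, nat_lit 24, nat_lit 24] (nat_lit 300) [⟨[], [nat_lit 15, nat_lit 5, nat_lit 37, nat_lit 32, nat_lit 27], (nat_lit 229)⟩, ⟨[nat_lit 164, nat_lit 175], [nat_lit 5, nat_lit 2, nat_lit 0, nat_lit 35, nat_lit 36, nat_lit 27], (nat_lit 2600)⟩],
  .cy (nat_lit 0) [] [] [] (nat_lit 2629) [],
  .cy (nat_lit 26) [] [] [nat_lit 1, nat_lit 1, nat_lit 17, nat_lit 11, nat_lit 17, nat_lit 26] (nat_lit 256) [⟨[nat_lit 209, nat_lit 204, nat_lit 206], [nat_lit 11, nat_lit 5, nat_lit 2, nat_lit 35, nat_lit 35, nat_lit 11, nat_lit 26], (nat_lit 369)⟩, ⟨[], [nat_lit 14, nat_lit 36, nat_lit 24, nat_lit 27], (nat_lit 2622)⟩],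
  .cy (nat_lit 0) [] [] [] (nat_lit 2631) [],
  .cy (nat_lit 9) [] [] [nat_lit 14, nat_lit 0, nat_lit 25, nat_lit 15, nat_lit 26] (nat_lit 331) [⟨[], [nat_lit 1, nat_lit 1, nat_lit 26, nat_lit 34], (nat_lit 707)⟩, ⟨[nat_lit 217, nat_lit 215], [nat_lit 14, nat_lit 15, nat_lit 0, nat_lit 33, nat_lit 24], (nat_lit 2616)⟩],
  .cy (nat_lit 0) [] [] [] (nat_lit 2633) [],
  .cy (nat_lit 7) [] [] [nat_lit 26, nat_lit 24, nat_lit 0, nat_lit 24, nat_lit 18] (nat_lit 293) [⟨[nat_lit 129, nat_lit 153, nat_lit 130, nat_lit 153], [nat_lit 2, nat_lit 11, nat_lit 37, nat_lit 27], (nat_lit 294)⟩, ⟨[], [nat_lit 5, nat_lit 33, nat_lit 11], (nat_lit 2608)⟩],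
  .cy (nat_lit 0) [] [] [] (nat_lit 2635) [],
  .cy (nat_lit 8) [] [] [nat_lit 25, nat_lit 2, nat_lit 0, nat_lit 35, nat_lit 35, nat_lit 26] (nat_lit 332) [⟨[], [nat_lit 10, nat_lit 10, nat_lit 0, nat_lit 33, nat_lit 36, nat_lit 27], (nat_lit 439)⟩, ⟨[nat_lit 209, nat_lit 523, nat_lit 205], [nat_lit 14, nat_lit 15, nat_lit 0, nat_lit 16, nat_lit 18, nat_lit 11, nat_lit 26], (nat_lit 2602)⟩],
  .cy (nat_lit 0) [] [] [] (nat_lit 2637) [],
  .cy (nat_lit 11) [] [] [nat_lit 16, nat_lit 5, nat_lit 2, nat_lit 32, nat_lit 32, nat_lit 27] (nat_lit 2251) [⟨[], [nat_lit 25, nat_lit 14, nat_lit 0, nat_lit 16, nat_lit 16, nat_lit 27], (nat_lit 1123)⟩, ⟨[nat_lit 215], [nat_lit 11, nat_lit 2, nat_lit 0, nat_lit 17, nat_lit 17, nat_lit 11, nat_lit 26], (nat_lit 2606)⟩],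
  .cy (nat_lit 0) [] [] [] (nat_lit 2639) [],
  .cy (nat_lit 2) [] [] [nat_lit 14, nat_lit 37, nat_lit 15, nat_lit 26] (nat_lit 1995) [⟨[nat_lit 215, nat_lit 217, nat_lit 215], [nat_lit 25, nat_lit 2, nat_lit 0, nat_lit 25, nat_lit 18, nat_lit 18, nat_lit 26], (nat_lit 1712)⟩, ⟨[nat_lit 217, nat_lit 215], [nat_lit 17, nat_lit 24, nat_lit 0, nat_lit 35, nat_lit 32, nat_lit 11, nat_lit 26], (nat_lit 2636)⟩],
  .cy (nat_lit 0) [] [] [] (nat_lit 2641) [],
  .cy (nat_lit 20) [] [] [nat_lit 2, nat_lit 0, nat_lit 25, nat_lit 18, nat_lit 26] (nat_lit 1214) [⟨[nat_lit 217, nat_lit 215], [nat_lit 5, nat_lit 2, nat_lit 33, nat_lit 15], (nat_lit 2053)⟩, ⟨[nat_lit 215, nat_lit 217, nat_lit 215], [nat_lit 2, nat_lit 0, nat_lit 26, nat_lit 17, nat_lit 15, nat_lit 26], (nat_lit 2636)⟩],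
  .cy (nat_lit 0) [] [] [] (nat_lit 2643) [],
  .cy (nat_lit 9) [] [] [nat_lit 26, nat_lit 2, nat_lit 27, nat_lit 25] (nat_lit 1131) [⟨[nat_lit 217], [nat_lit 26, nat_lit 24, nat_lit 0, nat_lit 34, nat_lit 37], (nat_lit 1820)⟩, ⟨[], [nat_lit 24, nat_lit 16, nat_lit 0, nat_lit 16, nat_lit 16, nat_lit 26], (nat_lit 2616)⟩],
  .cy (nat_lit 0) [] [] [] (nat_lit 2645) [],
  .cy (nat_lit 21) [] [] [nat_lit 5, nat_lit 16, nat_lit 2, nat_lit 36, nat_lit 15] (nat_lit 1131) [⟨[nat_lit 215, nat_lit 217, nat_lit 215], [nat_lit 17, nat_lit 2, nat_lit 0, nat_lit 11, nat_lit 37, nat_lit 26], (nat_lit 2041)⟩, ⟨[], [nat_lit 16, nat_lit 2, nat_lit 17, nat_lit 36, nat_lit 15, nat_lit 26], (nat_lit 2642)⟩],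
  .cy (nat_lit 0) [] [] [] (nat_lit 2647) [],
  .cy (nat_lit 2) [] [] [nat_lit 0, nat_lit 24, nat_lit 24, nat_lit 26] (nat_lit 1695) [⟨[nat_lit 215, nat_lit 217], [nat_lit 0, nat_lit 24, nat_lit 17, nat_lit 11, nat_lit 26], (nat_lit 2189)⟩, ⟨[nat_lit 217], [nat_lit 15, nat_lit 2, nat_lit 36, nat_lit 33, nat_lit 11], (nat_lit 2638)⟩],
  .cy (nat_lit 0) [] [] [] (nat_lit 2649) [],
  .cy (nat_lit 5) [] [] [nat_lit 1, nat_lit 14, nat_lit 37, nat_lit 25, nat_lit 27] (nat_lit 1782) [⟨[nat_lit 215], [nat_lit 24, nat_lit 0, nat_lit 37, nat_lit 34, nat_lit 26], (nat_lit 1451)⟩, ⟨[nat_lit 217], [nat_lit 25, nat_lit 0, nat_lit 16, nat_lit 18, nat_lit 15], (nat_lit 2632)⟩],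
  .cy (nat_lit 0) [] [] [] (nat_lit 2651) [],
  .cy (nat_lit 26) [] [] [nat_lit 2, nat_lit 0, nat_lit 32, nat_lit 27, nat_lit 17, nat_lit 26] (nat_lit 2001) [⟨[nat_lit 217, nat_lit 215], [nat_lit 5, nat_lit 2, nat_lit 0, nat_lit 37, nat_lit 32, nat_lit 11, nat_lit 27], (nat_lit 840)⟩, ⟨[nat_lit 215], [nat_lit 1, nat_lit 5, nat_lit 36, nat_lit 15], (nat_lit 2636)⟩],
  .cy (nat_lit 0) [] [] [] (nat_lit 2653) [],
  .cy (nat_lit 20) [] [] [nat_lit 1, nat_lit 24, nat_lit 0, nat_lit 25, nat_lit 36, nat_lit 15] (nat_lit 940) [⟨[nat_lit 215, nat_lit 217, nat_lit 215], [nat_lit 5, nat_lit 15, nat_lit 17, nat_lit 27], (nat_lit 2252)⟩, ⟨[], [nat_lit 5, nat_lit 35, nat_lit 36, nat_lit 27], (nat_lit 2652)⟩],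
  .cy (nat_lit 0) [] [] [] (nat_lit 2655) [],
  .cy (nat_lit 21) [] [] [nat_lit 15, nat_lit 2, nat_lit 34, nat_lit 32, nat_lit 16, nat_lit 27] (nat_lit 1854) [⟨[nat_lit 215, nat_lit 217], [nat_lit 16, nat_lit 5, nat_lit 0, nat_lit 24, nat_lit 11], (nat_lit 1537)⟩, ⟨[], [nat_lit 15, nat_lit 0, nat_lit 32, nat_lit 15, nat_lit 27], (nat_lit 2652)⟩],
  .cy (nat_lit 0) [] [] [] (nat_lit 2657) [],
  .cy (nat_lit 24) [] [] [nat_lit 14, nat_lit 15, nat_lit 0, nat_lit 32, nat_lit 34, nat_lit 16, nat_lit 27] (nat_lit 1854) [⟨[nat_lit 215, nat_lit 217, nat_lit 215], [nat_lit 24, nat_lit 15, nat_lit 0, nat_lit 11, nat_lit 16], (nat_lit 783)⟩, ⟨[nat_lit 179, nat_lit 167, nat_lit 165], [nat_lit 15, nat_lit 0, nat_lit 17, nat_lit 17, nat_lit 11], (nat_lit 2600)⟩],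
  .cy (nat_lit 0) [] [] [] (nat_lit 2659) [],
  .cy (nat_lit 8) [] [] [nat_lit 24, nat_lit 16, nat_lit 0, nat_lit 34, nat_lit 24, nat_lit 26] (nat_lit 593) [⟨[nat_lit 217], [nat_lit 15, nat_lit 5, nat_lit 34, nat_lit 24, nat_lit 15, nat_lit 27], (nat_lit 1779)⟩, ⟨[], [nat_lit 18, nat_lit 15, nat_lit 0, nat_lit 15, nat_lit 15, nat_lit 26], (nat_lit 2626)⟩],
  .cy (nat_lit 0) [] [] [] (nat_lit 2661) [],
  .cy (nat_lit 8) [] [] [nat_lit 17, nat_lit 24, nat_lit 0, nat_lit 25, nat_lit 18, nat_lit 16, nat_lit 26] (nat_lit 2079) [⟨[nat_lit 215, nat_lit 217, nat_lit 215], [nat_lit 25, nat_lit 2, nat_lit 0, nat_lit 15, nat_lit 32, nat_lit 15, nat_lit 26], (nat_lit 2266)⟩, ⟨[nat_lit 215, nat_lit 217], [nat_lit 24, nat_lit 0, nat_lit 18, nat_lit 35, nat_lit 27], (nat_lit 2646)⟩],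
  .cy (nat_lit 0) [] [] [] (nat_lit 2663) [],
  .cy (nat_lit 9) [] [] [nat_lit 5, nat_lit 2, nat_lit 0, nat_lit 37, nat_lit 24, nat_lit 26] (nat_lit 2021) [⟨[], [nat_lit 15, nat_lit 0, nat_lit 18, nat_lit 11, nat_lit 26], (nat_lit 639)⟩, ⟨[nat_lit 215, nat_lit 217, nat_lit 215], [nat_lit 14, nat_lit 27, nat_lit 37], (nat_lit 2652)⟩],
  .cy (nat_lit 0) [] [] [] (nat_lit 2665) [],
  .cy (nat_lit 10) [] [] [nat_lit 5, nat_lit 18, nat_lit 35, nat_lit 11, nat_lit 26] (nat_lit 934) [⟨[nat_lit 215], [nat_lit 25, nat_lit 2, nat_lit 0, nat_lit 25, nat_lit 16, nat_lit 27], (nat_lit 439)⟩, ⟨[nat_lit 208, nat_lit 201, nat_lit 522, nat_lit 202], [nat_lit 15, nat_lit 0, nat_lit 37, nat_lit 17, nat_lit 11], (nat_lit 2602)⟩],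
  .cy (nat_lit 0) [] [] [] (nat_lit 2667) [],
  .cy (nat_lit 1) [] [] [nat_lit 25, nat_lit 1, nat_lit 32, nat_lit 18, nat_lit 27] (nat_lit 2017) [⟨[nat_lit 215, nat_lit 217], [nat_lit 17, nat_lit 24, nat_lit 0, nat_lit 34, nat_lit 34, nat_lit 15, nat_lit 27], (nat_lit 2372)⟩, ⟨[nat_lit 215], [nat_lit 1, nat_lit 5, nat_lit 32, nat_lit 35], (nat_lit 2658)⟩],
  .cy (nat_lit 0) [] [] [] (nat_lit 2669) [],
  .cy (nat_lit 20) [] [] [nat_lit 1, nat_lit 14, nat_lit 34, nat_lit 37] (nat_lit 1200) [⟨[], [nat_lit 14, nat_lit 15, nat_lit 0, nat_lit 37, nat_lit 33, nat_lit 11, nat_lit 26], (nat_lit 2221)⟩, ⟨[nat_lit 215, nat_lit 217], [nat_lit 14, nat_lit 15, nat_lit 0, nat_lit 25, nat_lit 36, nat_lit 11, nat_lit 26], (nat_lit 2656)⟩],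
  .cy (nat_lit 0) [] [] [] (nat_lit 2671) [],
  .cy (nat_lit 20) [] [] [nat_lit 15, nat_lit 5, nat_lit 27, nat_lit 18] (nat_lit 1767) [⟨[nat_lit 215, nat_lit 217], [nat_lit 24, nat_lit 16, nat_lit 0, nat_lit 25, nat_lit 33, nat_lit 15, nat_lit 27], (nat_lit 2179)⟩, ⟨[nat_lit 217], [nat_lit 15, nat_lit 1, nat_lit 11, nat_lit 37, nat_lit 27], (nat_lit 2630)⟩],
  .cy (nat_lit 0) [] [] [] (nat_lit 2673) [],
  .cy (nat_lit 25) [] [] [nat_lit 1, nat_lit 5, nat_lit 15, nat_lit 15, nat_lit 11, nat_lit 26] (nat_lit 573) [⟨[nat_lit 215, nat_lit 217], [nat_lit 17, nat_lit 24, nat_lit 0, nat_lit 16, nat_lit 24], (nat_lit 1601)⟩, ⟨[nat_lit 217, nat_lit 215], [nat_lit 24, nat_lit 15, nat_lit 0, nat_lit 18, nat_lit 35, nat_lit 15, nat_lit 26], (nat_lit 2612)⟩],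
  .cy (nat_lit 0) [] [] [] (nat_lit 2675) [],
  .cy (nat_lit 5) [] [] [nat_lit 18, nat_lit 15, nat_lit 0, nat_lit 37, nat_lit 11, nat_lit 15] (nat_lit 370) [⟨[nat_lit 522, nat_lit 201], [nat_lit 17, nat_lit 2, nat_lit 0, nat_lit 16, nat_lit 17, nat_lit 15], (nat_lit 1985)⟩, ⟨[nat_lit 217], [nat_lit 11, nat_lit 2, nat_lit 0, nat_lit 15, nat_lit 17, nat_lit 11, nat_lit 26], (nat_lit 2662)⟩],
  .cy (nat_lit 0) [] [] [] (nat_lit 2677) [],
  .cy (nat_lit 20) [] [] [nat_lit 1, nat_lit 24, nat_lit 0, nat_lit 33, nat_lit 18, nat_lit 11, nat_lit 26] (nat_lit 2095) [⟨[nat_lit 215, nat_lit 217, nat_lit 215], [nat_lit 10, nat_lit 10, nat_lit 0, nat_lit 26, nat_lit 34, nat_lit 11], (nat_lit 941)⟩, ⟨[nat_lit 217, nat_lit 215], [nat_lit 5, nat_lit 2, nat_lit 0, nat_lit 33, nat_lit 35, nat_lit 11, nat_lit 27], (nat_lit 2646)⟩],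
  .cy (nat_lit 0) [] [] [] (nat_lit 2679) [],
  .cy (nat_lit 3) [] [] [nat_lit 15, nat_lit 2, nat_lit 27, nat_lit 25, nat_lit 26] (nat_lit 1305) [⟨[nat_lit 217, nat_lit 215], [nat_lit 24, nat_lit 15, nat_lit 0, nat_lit 15, nat_lit 24, nat_lit 27], (nat_lit 725)⟩, ⟨[nat_lit 217, nat_lit 215], [nat_lit 5, nat_lit 14, nat_lit 25, nat_lit 16, nat_lit 26], (nat_lit 2670)⟩],
  .cy (nat_lit 0) [] [] [] (nat_lit 2681) [],
  .cy (nat_lit 9) [] [] [nat_lit 25, nat_lit 1, nat_lit 16, nat_lit 17, nat_lit 15] (nat_lit 1305) [⟨[nat_lit 217, nat_lit 215], [nat_lit 10, nat_lit 0, nat_lit 15, nat_lit 17, nat_lit 11, nat_lit 27], (nat_lit 2385)⟩, ⟨[nat_lit 215, nat_lit 217, nat_lit 215], [nat_lit 1, nat_lit 24, nat_lit 0, nat_lit 26, nat_lit 15, nat_lit 27], (nat_lit 2682)⟩],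
  .cy (nat_lit 0) [] [] [] (nat_lit 2683) [],
  .cy (nat_lit 24) [] [] [nat_lit 17, nat_lit 24, nat_lit 0, nat_lit 37, nat_lit 33, nat_lit 27] (nat_lit 1305) [⟨[nat_lit 215, nat_lit 217], [nat_lit 1, nat_lit 5, nat_lit 25, nat_lit 15, nat_lit 11], (nat_lit 632)⟩, ⟨[nat_lit 215], [nat_lit 14, nat_lit 0, nat_lit 25, nat_lit 36, nat_lit 11, nat_lit 27], (nat_lit 2626)⟩],
  .cy (nat_lit 0) [] [] [] (nat_lit 2685) [],
  .cy (nat_lit 27) [] [] [nat_lit 1, nat_lit 24, nat_lit 0, nat_lit 26, nat_lit 24, nat_lit 26] (nat_lit 1305) [⟨[nat_lit 217], [nat_lit 24, nat_lit 1, nat_lit 34, nat_lit 32, nat_lit 26], (nat_lit 2505)⟩, ⟨[nat_lit 215], [nat_lit 14, nat_lit 15, nat_lit 0, nat_lit 32, nat_lit 18, nat_lit 11, nat_lit 26], (nat_lit 2612)⟩],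
  .cy (nat_lit 0) [] [] [] (nat_lit 2687) [],
  .cy (nat_lit 8) [] [] [nat_lit 14, nat_lit 0, nat_lit 34, nat_lit 11, nat_lit 17] (nat_lit 1472) [⟨[nat_lit 215, nat_lit 217, nat_lit 215], [nat_lit 0, nat_lit 2, nat_lit 36, nat_lit 15, nat_lit 27], (nat_lit 295)⟩, ⟨[nat_lit 176, nat_lit 179, nat_lit 162, nat_lit 161], [nat_lit 24, nat_lit 2, nat_lit 0, nat_lit 15, nat_lit 18, nat_lit 27], (nat_lit 2600)⟩],
  .cy (nat_lit 0) [] [] [] (nat_lit 2689) [],
  .cy (nat_lit 11) [] [] [nat_lit 10, nat_lit 0, nat_lit 27, nat_lit 36, nat_lit 26] (nat_lit 1472) [⟨[nat_lit 217, nat_lit 215], [nat_lit 24, nat_lit 15, nat_lit 0, nat_lit 36, nat_lit 15], (nat_lit 770)⟩, ⟨[nat_lit 215, nat_lit 217, nat_lit 215], [nat_lit 16, nat_lit 2, nat_lit 17, nat_lit 15, nat_lit 27], (nat_lit 2660)⟩],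
  .cy (nat_lit 0) [] [] [] (nat_lit 2691) [],
  .cy (nat_lit 2) [] [] [nat_lit 1, nat_lit 5, nat_lit 33, nat_lit 11, nat_lit 26] (nat_lit 1954) [⟨[], [nat_lit 25, nat_lit 2, nat_lit 0, nat_lit 15, nat_lit 32], (nat_lit 2261)⟩, ⟨[nat_lit 217], [nat_lit 25, nat_lit 0, nat_lit 34, nat_lit 17, nat_lit 33], (nat_lit 2682)⟩],
  .cy (nat_lit 0) [] [] [] (nat_lit 2693) [],
  .cy (nat_lit 21) [] [] [nat_lit 15, nat_lit 5, nat_lit 36, nat_lit 24, nat_lit 27] (nat_lit 1942) [⟨[nat_lit 217, nat_lit 215], [nat_lit 24, nat_lit 0, nat_lit 15, nat_lit 11, nat_lit 26], (nat_lit 1607)⟩, ⟨[nat_lit 217], [nat_lit 16, nat_lit 0, nat_lit 25, nat_lit 36], (nat_lit 2642)⟩],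
  .cy (nat_lit 0) [] [] [] (nat_lit 2695) [],
  .cy (nat_lit 4) [] [] [nat_lit 1, nat_lit 35, nat_lit 33] (nat_lit 2111) [⟨[nat_lit 215, nat_lit 217], [nat_lit 5, nat_lit 14, nat_lit 17, nat_lit 36, nat_lit 15, nat_lit 26], (nat_lit 713)⟩, ⟨[nat_lit 215], [nat_lit 16, nat_lit 5, nat_lit 0, nat_lit 17, nat_lit 15, nat_lit 27], (nat_lit 2696)⟩],
  .cy (nat_lit 0) [] [] [] (nat_lit 2697) [],
  .cy (nat_lit 12) [] [] [nat_lit 2, nat_lit 32, nat_lit 16, nat_lit 26] (nat_lit 2111) [⟨[], [nat_lit 24, nat_lit 15, nat_lit 0, nat_lit 11, nat_lit 18, nat_lit 27], (nat_lit 2176)⟩, ⟨[nat_lit 217], [nat_lit 15, nat_lit 0, nat_lit 25, nat_lit 16], (nat_lit 2690)⟩],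
  .cy (nat_lit 0) [] [] [] (nat_lit 2699) [],
  .cy (nat_lit 1) [] [] [nat_lit 2, nat_lit 25, nat_lit 36, nat_lit 11, nat_lit 26] (nat_lit 2325) [⟨[nat_lit 215, nat_lit 217], [nat_lit 14, nat_lit 15, nat_lit 0, nat_lit 35, nat_lit 32, nat_lit 27], (nat_lit 817)⟩, ⟨[nat_lit 165, nat_lit 178, nat_lit 161], [nat_lit 15, nat_lit 2, nat_lit 34, nat_lit 24, nat_lit 17], (nat_lit 2600)⟩],
  .cy (nat_lit 0) [] [] [] (nat_lit 2701) [],
  .cy (nat_lit 11) [] [] [nat_lit 11, nat_lit 2, nat_lit 0, nat_lit 32, nat_lit 11] (nat_lit 2113) [⟨[nat_lit 215, nat_lit 217], [nat_lit 2, nat_lit 15, nat_lit 15, nat_lit 11], (nat_lit 2029)⟩, ⟨[nat_lit 217], [nat_lit 1, nat_lit 32, nat_lit 24, nat_lit 11, nat_lit 27], (nat_lit 2606)⟩],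
  .cy (nat_lit 0) [] [] [] (nat_lit 2703) [],
  .cy (nat_lit 8) [] [] [nat_lit 16, nat_lit 0, nat_lit 32, nat_lit 32, nat_lit 11] (nat_lit 1441) [⟨[nat_lit 215, nat_lit 217], [nat_lit 26, nat_lit 2, nat_lit 0, nat_lit 26, nat_lit 15, nat_lit 15], (nat_lit 1802)⟩, ⟨[nat_lit 215, nat_lit 217], [nat_lit 16, nat_lit 2, nat_lit 25, nat_lit 18, nat_lit 16, nat_lit 26], (nat_lit 2638)⟩],
  .cy (nat_lit 0) [] [] [] (nat_lit 2705) [],
  .cy (nat_lit 1) [] [] [nat_lit 26, nat_lit 2, nat_lit 25, nat_lit 35, nat_lit 11, nat_lit 27] (nat_lit 1635) [⟨[nat_lit 217], [nat_lit 1, nat_lit 14, nat_lit 34, nat_lit 17], (nat_lit 2444)⟩, ⟨[nat_lit 217, nat_lit 215], [nat_lit 5, nat_lit 2, nat_lit 17, nat_lit 15, nat_lit 11], (nat_lit 2646)⟩],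
  .cy (nat_lit 0) [] [] [] (nat_lit 2707) [],
  .cy (nat_lit 21) [] [] [nat_lit 2, nat_lit 17, nat_lit 26] (nat_lit 358) [⟨[nat_lit 215], [nat_lit 16, nat_lit 2, nat_lit 25, nat_lit 36], (nat_lit 2628)⟩, ⟨[nat_lit 2592], [nat_lit 14, nat_lit 0, nat_lit 17, nat_lit 15, nat_lit 11], (nat_lit 2588)⟩],
  .cy (nat_lit 0) [] [] [] (nat_lit 2709) [],
  .cy (nat_lit 23) [] [] [nat_lit 5, nat_lit 16, nat_lit 2, nat_lit 36, nat_lit 25, nat_lit 11] (nat_lit 358) [⟨[], [nat_lit 1, nat_lit 1, nat_lit 32, nat_lit 34, nat_lit 11, nat_lit 26], (nat_lit 370)⟩, ⟨[], [nat_lit 16, nat_lit 2, nat_lit 25, nat_lit 16, nat_lit 27], (nat_lit 2604)⟩],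
  .cy (nat_lit 0) [] [] [] (nat_lit 2711) [],
  .cy (nat_lit 27) [] [] [nat_lit 1, nat_lit 14, nat_lit 26, nat_lit 34, nat_lit 32, nat_lit 26] (nat_lit 652) [⟨[], [nat_lit 5, nat_lit 16, nat_lit 2, nat_lit 32, nat_lit 36, nat_lit 16, nat_lit 27], (nat_lit 1436)⟩, ⟨[nat_lit 217, nat_lit 215], [nat_lit 1, nat_lit 5, nat_lit 37, nat_lit 34, nat_lit 25, nat_lit 27], (nat_lit 2670)⟩],
  .cy (nat_lit 0) [] [] [] (nat_lit 2713) [],
  .cy (nat_lit 27) [] [] [nat_lit 10, nat_lit 0, nat_lit 24, nat_lit 37, nat_lit 11, nat_lit 26] (nat_lit 569) [⟨[nat_lit 215, nat_lit 217], [nat_lit 1, nat_lit 34, nat_lit 24, nat_lit 15, nat_lit 26], (nat_lit 512)⟩, ⟨[nat_lit 523, nat_lit 208, nat_lit 206], [nat_lit 17, nat_lit 24, nat_lit 0, nat_lit 16, nat_lit 17, nat_lit 15, nat_lit 26], (nat_lit 2602)⟩],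
  .cy (nat_lit 0) [] [] [] (nat_lit 2715) [],
  .cy (nat_lit 7) [] [] [nat_lit 1, nat_lit 14, nat_lit 17, nat_lit 33] (nat_lit 278) [⟨[nat_lit 215, nat_lit 217, nat_lit 215], [nat_lit 26, nat_lit 2, nat_lit 0, nat_lit 34, nat_lit 34, nat_lit 15, nat_lit 27], (nat_lit 2444)⟩, ⟨[nat_lit 217, nat_lit 215], [nat_lit 5, nat_lit 14, nat_lit 25, nat_lit 37, nat_lit 15, nat_lit 26], (nat_lit 2646)⟩],
  .cy (nat_lit 0) [] [] [] (nat_lit 2717) [],
  .cy (nat_lit 9) [] [] [nat_lit 15, nat_lit 0, nat_lit 24, nat_lit 17, nat_lit 27] (nat_lit 273) [⟨[nat_lit 215], [nat_lit 24, nat_lit 16, nat_lit 0, nat_lit 37, nat_lit 25], (nat_lit 2308)⟩, ⟨[nat_lit 215], [nat_lit 24, nat_lit 2, nat_lit 0, nat_lit 24, nat_lit 37, nat_lit 27], (nat_lit 2606)⟩],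
  .cy (nat_lit 0) [] [] [] (nat_lit 2719) [],
  .cy (nat_lit 4) [] [] [nat_lit 16, nat_lit 0, nat_lit 35, nat_lit 33, nat_lit 11, nat_lit 27] (nat_lit 1276) [⟨[nat_lit 175, nat_lit 165, nat_lit 162, nat_lit 161], [nat_lit 0, nat_lit 25, nat_lit 35], (nat_lit 1967)⟩, ⟨[nat_lit 215], [nat_lit 14, nat_lit 15, nat_lit 0, nat_lit 33, nat_lit 35, nat_lit 26], (nat_lit 2692)⟩],
  .cy (nat_lit 0) [] [] [] (nat_lit 2721) [],
  .cy (nat_lit 7) [] [] [nat_lit 1, nat_lit 14, nat_lit 15, nat_lit 35] (nat_lit 272) [⟨[nat_lit 217], [nat_lit 24, nat_lit 0, nat_lit 18, nat_lit 15, nat_lit 11, nat_lit 27], (nat_lit 2022)⟩, ⟨[nat_lit 217], [nat_lit 16, nat_lit 5, nat_lit 2, nat_lit 24, nat_lit 15, nat_lit 26], (nat_lit 2686)⟩],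
  .cy (nat_lit 0) [] [] [] (nat_lit 2723) [],
  .cy (nat_lit 7) [] [] [nat_lit 24, nat_lit 16, nat_lit 0, nat_lit 11, nat_lit 16, nat_lit 26] (nat_lit 1968) [⟨[nat_lit 164, nat_lit 178, nat_lit 161], [nat_lit 11, nat_lit 5, nat_lit 2, nat_lit 17, nat_lit 15, nat_lit 11, nat_lit 27], (nat_lit 228)⟩, ⟨[], [nat_lit 10, nat_lit 10, nat_lit 0, nat_lit 16, nat_lit 11], (nat_lit 2612)⟩],
  .cy (nat_lit 0) [] [] [] (nat_lit 2725) [],
  .cy (nat_lit 9) [] [] [nat_lit 25, nat_lit 0, nat_lit 32, nat_lit 15] (nat_lit 1930) [⟨[nat_lit 215, nat_lit 217, nat_lit 215], [nat_lit 2, nat_lit 16, nat_lit 18, nat_lit 15], (nat_lit 463)⟩, ⟨[nat_lit 215, nat_lit 217, nat_lit 215], [nat_lit 10, nat_lit 0, nat_lit 34, nat_lit 37, nat_lit 11], (nat_lit 2700)⟩],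
  .cy (nat_lit 0) [] [] [] (nat_lit 2727) [],
  .cy (nat_lit 9) [] [] [nat_lit 16, nat_lit 5, nat_lit 0, nat_lit 33, nat_lit 33, nat_lit 11] (nat_lit 2139) [⟨[nat_lit 217], [nat_lit 14, nat_lit 0, nat_lit 25, nat_lit 36, nat_lit 26], (nat_lit 766)⟩, ⟨[nat_lit 215, nat_lit 217, nat_lit 215], [nat_lit 24, nat_lit 16, nat_lit 0, nat_lit 34, nat_lit 34, nat_lit 15], (nat_lit 2642)⟩],
  .cy (nat_lit 0) [] [] [] (nat_lit 2729) [],
  .cy (nat_lit 22) [] [] [nat_lit 24, nat_lit 16, nat_lit 0, nat_lit 35, nat_lit 15] (nat_lit 2139) [⟨[], [nat_lit 11, nat_lit 2, nat_lit 0, nat_lit 18, nat_lit 16, nat_lit 11, nat_lit 27], (nat_lit 497)⟩, ⟨[nat_lit 217, nat_lit 215], [nat_lit 15, nat_lit 0, nat_lit 37, nat_lit 32, nat_lit 11, nat_lit 27], (nat_lit 2702)⟩],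
  .cy (nat_lit 0) [] [] [] (nat_lit 2731) [],
  .cy (nat_lit 7) [] [] [nat_lit 5, nat_lit 0, nat_lit 36, nat_lit 32, nat_lit 27] (nat_lit 1770) [⟨[nat_lit 217], [nat_lit 25, nat_lit 0, nat_lit 18, nat_lit 35, nat_lit 26], (nat_lit 1104)⟩, ⟨[nat_lit 217], [nat_lit 11, nat_lit 5, nat_lit 2, nat_lit 34, nat_lit 11, nat_lit 26], (nat_lit 2724)⟩],
  .cy (nat_lit 0) [] [] [] (nat_lit 2733) [],
  .cy (nat_lit 10) [] [] [nat_lit 24, nat_lit 0, nat_lit 33, nat_lit 15, nat_lit 11, nat_lit 27] (nat_lit 1775) [⟨[nat_lit 217, nat_lit 215], [nat_lit 1, nat_lit 1, nat_lit 37, nat_lit 34, nat_lit 26], (nat_lit 817)⟩, ⟨[nat_lit 165, nat_lit 178, nat_lit 161], [nat_lit 5, nat_lit 2, nat_lit 0, nat_lit 37, nat_lit 33], (nat_lit 2600)⟩],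
  .cy (nat_lit 0) [] [] [] (nat_lit 2735) [],
  .cy (nat_lit 20) [] [] [nat_lit 25, nat_lit 1, nat_lit 35, nat_lit 17] (nat_lit 1775) [⟨[nat_lit 215, nat_lit 217, nat_lit 215], [nat_lit 1, nat_lit 18, nat_lit 16], (nat_lit 2219)⟩, ⟨[nat_lit 215, nat_lit 217, nat_lit 215], [nat_lit 24, nat_lit 1, nat_lit 34, nat_lit 32, nat_lit 11], (nat_lit 2732)⟩],
  .cy (nat_lit 0) [] [] [] (nat_lit 2737) [],
  .cy (nat_lit 1) [] [] [nat_lit 1, nat_lit 5, nat_lit 16, nat_lit 18, nat_lit 11, nat_lit 27] (nat_lit 549) [⟨[nat_lit 217, nat_lit 215], [nat_lit 24, nat_lit 15, nat_lit 0, nat_lit 32, nat_lit 18, nat_lit 11, nat_lit 26], (nat_lit 408)⟩, ⟨[], [nat_lit 10, nat_lit 10, nat_lit 0, nat_lit 15, nat_lit 18, nat_lit 16, nat_lit 27], (nat_lit 2638)⟩],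
  .cy (nat_lit 0) [] [] [] (nat_lit 2739) [],
  .cy (nat_lit 1) [] [] [nat_lit 1, nat_lit 26, nat_lit 17, nat_lit 15, nat_lit 26] (nat_lit 549) [⟨[nat_lit 217], [nat_lit 24, nat_lit 2, nat_lit 17, nat_lit 36, nat_lit 15, nat_lit 27], (nat_lit 1138)⟩, ⟨[nat_lit 215, nat_lit 217, nat_lit 215], [nat_lit 18, nat_lit 15, nat_lit 0, nat_lit 17, nat_lit 34, nat_lit 15, nat_lit 27], (nat_lit 2634)⟩],
  .cy (nat_lit 0) [] [] [] (nat_lit 2741) [],
  .cy (nat_lit 6) [] [] [nat_lit 5, nat_lit 14, nat_lit 36, nat_lit 18] (nat_lit 1997) [⟨[nat_lit 215, nat_lit 217], [nat_lit 2, nat_lit 33, nat_lit 15, nat_lit 11, nat_lit 26], (nat_lit 1840)⟩, ⟨[nat_lit 217], [nat_lit 16, nat_lit 5, nat_lit 0, nat_lit 34, nat_lit 26], (nat_lit 2622)⟩],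
  .cy (nat_lit 0) [] [] [] (nat_lit 2743) [],
  .cy (nat_lit 5) [] [] [nat_lit 15, nat_lit 0, nat_lit 16, nat_lit 17, nat_lit 15] (nat_lit 2047) [⟨[nat_lit 215, nat_lit 217, nat_lit 215], [nat_lit 10, nat_lit 0, nat_lit 26, nat_lit 24, nat_lit 11, nat_lit 26], (nat_lit 1071)⟩, ⟨[], [nat_lit 24, nat_lit 15, nat_lit 0, nat_lit 36, nat_lit 33, nat_lit 11], (nat_lit 2618)⟩],
  .cy (nat_lit 0) [] [] [] (nat_lit 2745) [],
  .cy (nat_lit 12) [] [] [nat_lit 17, nat_lit 24, nat_lit 0, nat_lit 36, nat_lit 24, nat_lit 27] (nat_lit 810) [⟨[], [nat_lit 25, nat_lit 0, nat_lit 24, nat_lit 33, nat_lit 15], (nat_lit 899)⟩, ⟨[nat_lit 215, nat_lit 217, nat_lit 215], [nat_lit 25, nat_lit 16, nat_lit 0, nat_lit 34, nat_lit 17, nat_lit 26], (nat_lit 2640)⟩],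
  .cy (nat_lit 0) [] [] [] (nat_lit 2747) [],
  .cy (nat_lit 20) [] [] [nat_lit 18, nat_lit 15, nat_lit 0, nat_lit 36, nat_lit 16, nat_lit 11] (nat_lit 729) [⟨[nat_lit 215, nat_lit 217, nat_lit 215], [nat_lit 14, nat_lit 0, nat_lit 16, nat_lit 16, nat_lit 11, nat_lit 27], (nat_lit 1760)⟩, ⟨[nat_lit 217, nat_lit 215], [nat_lit 11, nat_lit 5, nat_lit 2, nat_lit 33, nat_lit 35, nat_lit 27], (nat_lit 2730)⟩],
  .cy (nat_lit 0) [] [] [] (nat_lit 2749) [],
  .cy (nat_lit 21) [] [] [nat_lit 14, nat_lit 26, nat_lit 34, nat_lit 32, nat_lit 26] (nat_lit 729) [⟨[], [nat_lit 25, nat_lit 2, nat_lit 0, nat_lit 25, nat_lit 16, nat_lit 27], (nat_lit 1921)⟩, ⟨[], [nat_lit 25, nat_lit 2, nat_lit 0, nat_lit 34, nat_lit 11, nat_lit 26], (nat_lit 2708)⟩],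
  .cy (nat_lit 0) [] [] [] (nat_lit 2751) [],
  .cy (nat_lit 6) [] [] [nat_lit 24, nat_lit 15, nat_lit 0, nat_lit 16, nat_lit 17, nat_lit 15, nat_lit 27] (nat_lit 1884) [⟨[nat_lit 215], [nat_lit 25, nat_lit 16, nat_lit 0, nat_lit 34, nat_lit 16], (nat_lit 1102)⟩, ⟨[nat_lit 215, nat_lit 217, nat_lit 215], [nat_lit 0, nat_lit 25, nat_lit 18, nat_lit 26], (nat_lit 2728)⟩],
  .cy (nat_lit 0) [] [] [] (nat_lit 2753) [],
  .cy (nat_lit 12) [] [] [nat_lit 24, nat_lit 1, nat_lit 33, nat_lit 15, nat_lit 26] (nat_lit 1884) [⟨[nat_lit 217, nat_lit 215], [nat_lit 24, nat_lit 0, nat_lit 16, nat_lit 18, nat_lit 15, nat_lit 26], (nat_lit 2302)⟩, ⟨[], [nat_lit 5, nat_lit 2, nat_lit 17, nat_lit 34, nat_lit 11, nat_lit 27], (nat_lit 2696)⟩],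
  .cy (nat_lit 0) [] [] [] (nat_lit 2755) [],
  .cy (nat_lit 9) [] [] [nat_lit 16, nat_lit 0, nat_lit 34, nat_lit 37, nat_lit 11, nat_lit 26] (nat_lit 2160) [⟨[nat_lit 215, nat_lit 217], [nat_lit 10, nat_lit 0, nat_lit 16, nat_lit 25, nat_lit 27], (nat_lit 2038)⟩, ⟨[nat_lit 215, nat_lit 217], [nat_lit 15, nat_lit 0, nat_lit 15, nat_lit 15, nat_lit 15, nat_lit 27], (nat_lit 2692)⟩],
  .cy (nat_lit 0) [] [] [] (nat_lit 2757) [],
  .cy (nat_lit 20) [] [] [nat_lit 15, nat_lit 0, nat_lit 34, nat_lit 25, nat_lit 11, nat_lit 27] (nat_lit 2324) [⟨[nat_lit 215], [nat_lit 16, nat_lit 5, nat_lit 2, nat_lit 33, nat_lit 18, nat_lit 26], (nat_lit 1906)⟩, ⟨[nat_lit 215, nat_lit 217, nat_lit 215], [nat_lit 34, nat_lit 24, nat_lit 15], (nat_lit 2694)⟩],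
  .cy (nat_lit 0) [] [] [] (nat_lit 2759) [],
  .cy (nat_lit 21) [] [] [nat_lit 10, nat_lit 10, nat_lit 0, nat_lit 34, nat_lit 37, nat_lit 11] (nat_lit 1382) [⟨[nat_lit 215], [nat_lit 0, nat_lit 18, nat_lit 25, nat_lit 27], (nat_lit 1263)⟩, ⟨[], [nat_lit 1, nat_lit 24, nat_lit 0, nat_lit 27, nat_lit 18], (nat_lit 2730)⟩],
  .cy (nat_lit 0) [] [] [] (nat_lit 2761) [],
  .cy (nat_lit 22) [] [] [nat_lit 11, nat_lit 2, nat_lit 0, nat_lit 34, nat_lit 16, nat_lit 11, nat_lit 27] (nat_lit 1382) [⟨[nat_lit 217, nat_lit 215], [nat_lit 17, nat_lit 2, nat_lit 0, nat_lit 15, nat_lit 32, nat_lit 15, nat_lit 27], (nat_lit 983)⟩, ⟨[], [nat_lit 26, nat_lit 2, nat_lit 0, nat_lit 37, nat_lit 34, nat_lit 25, nat_lit 27], (nat_lit 2644)⟩],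
  .cy (nat_lit 0) [] [] [] (nat_lit 2763) [],
  .cy (nat_lit 26) [] [] [nat_lit 5, nat_lit 0, nat_lit 35, nat_lit 33, nat_lit 11, nat_lit 27] (nat_lit 1382) [⟨[nat_lit 217], [nat_lit 5, nat_lit 17, nat_lit 26], (nat_lit 2515)⟩, ⟨[nat_lit 217, nat_lit 215], [nat_lit 25, nat_lit 1, nat_lit 26, nat_lit 34, nat_lit 32, nat_lit 27], (nat_lit 2678)⟩],
  .cy (nat_lit 0) [] [] [] (nat_lit 2765) [],
  .cy (nat_lit 7) [] [] [nat_lit 24, nat_lit 16, nat_lit 0, nat_lit 15, nat_lit 24, nat_lit 11, nat_lit 27] (nat_lit 664) [⟨[nat_lit 215], [nat_lit 11, nat_lit 5, nat_lit 2, nat_lit 25, nat_lit 35, nat_lit 11, nat_lit 26], (nat_lit 2418)⟩, ⟨[nat_lit 215, nat_lit 217], [nat_lit 24, nat_lit 16, nat_lit 0, nat_lit 25, nat_lit 37, nat_lit 11, nat_lit 26], (nat_lit 2696)⟩],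
  .cy (nat_lit 0) [] [] [] (nat_lit 2767) [],
  .cy (nat_lit 3) [] [] [nat_lit 0, nat_lit 35, nat_lit 17] (nat_lit 1788) [⟨[nat_lit 217, nat_lit 215], [nat_lit 15, nat_lit 5, nat_lit 15, nat_lit 15, nat_lit 15, nat_lit 26], (nat_lit 1503)⟩, ⟨[], [nat_lit 5, nat_lit 2, nat_lit 18, nat_lit 15, nat_lit 11], (nat_lit 2748)⟩],
  .cy (nat_lit 0) [] [] [] (nat_lit 2769) [],
  .cy (nat_lit 2) [] [] [nat_lit 24, nat_lit 2, nat_lit 24, nat_lit 17, nat_lit 27] (nat_lit 805) [⟨[nat_lit 217], [nat_lit 16, nat_lit 0, nat_lit 33, nat_lit 16, nat_lit 11, nat_lit 27], (nat_lit 2453)⟩, ⟨[nat_lit 215], [nat_lit 14, nat_lit 0, nat_lit 25, nat_lit 37, nat_lit 15], (nat_lit 2738)⟩],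
  .cy (nat_lit 0) [] [] [] (nat_lit 2771) [],
  .cy (nat_lit 7) [] [] [nat_lit 24, nat_lit 16, nat_lit 0, nat_lit 15, nat_lit 18, nat_lit 11, nat_lit 26] (nat_lit 805) [⟨[nat_lit 215, nat_lit 217], [nat_lit 33, nat_lit 25, nat_lit 27], (nat_lit 2357)⟩, ⟨[], [nat_lit 25, nat_lit 0, nat_lit 34, nat_lit 11], (nat_lit 2684)⟩],
  .cy (nat_lit 0) [] [] [] (nat_lit 2773) [],
  .cy (nat_lit 5) [] [] [nat_lit 24, nat_lit 15, nat_lit 0, nat_lit 18, nat_lit 15, nat_lit 26] (nat_lit 1099) [⟨[nat_lit 215, nat_lit 217], [nat_lit 1, nat_lit 24, nat_lit 36, nat_lit 26], (nat_lit 1296)⟩, ⟨[], [nat_lit 0, nat_lit 32, nat_lit 34, nat_lit 11, nat_lit 26], (nat_lit 2587)⟩],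
  .cy (nat_lit 0) [] [] [] (nat_lit 2775) [],
  .cy (nat_lit 11) [] [] [nat_lit 25, nat_lit 14, nat_lit 0, nat_lit 26, nat_lit 16, nat_lit 11, nat_lit 27] (nat_lit 2055) [⟨[nat_lit 215, nat_lit 217], [nat_lit 14, nat_lit 0, nat_lit 34, nat_lit 17, nat_lit 11], (nat_lit 2557)⟩, ⟨[nat_lit 215, nat_lit 217], [nat_lit 24, nat_lit 15, nat_lit 0, nat_lit 34, nat_lit 25, nat_lit 11], (nat_lit 2704)⟩],
  .cy (nat_lit 0) [] [] [] (nat_lit 2777) [],
  .cy (nat_lit 27) [] [] [nat_lit 1, nat_lit 26, nat_lit 34, nat_lit 27] (nat_lit 2055) [⟨[nat_lit 215], [nat_lit 1, nat_lit 1, nat_lit 27, nat_lit 24, nat_lit 15], (nat_lit 807)⟩, ⟨[], [nat_lit 11, nat_lit 2, nat_lit 0, nat_lit 17, nat_lit 17, nat_lit 15, nat_lit 26], (nat_lit 2636)⟩],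
  .cy (nat_lit 0) [] [] [] (nat_lit 2779) [],
  .cy (nat_lit 1) [] [] [nat_lit 0, nat_lit 24, nat_lit 24, nat_lit 27] (nat_lit 1315) [⟨[nat_lit 217], [nat_lit 5, nat_lit 2, nat_lit 35, nat_lit 35], (nat_lit 1414)⟩, ⟨[nat_lit 175, nat_lit 179, nat_lit 162, nat_lit 161], [nat_lit 1, nat_lit 1, nat_lit 27, nat_lit 16], (nat_lit 2600)⟩],
  .cy (nat_lit 0) [] [] [] (nat_lit 2781) [],
  .cy (nat_lit 2) [] [] [nat_lit 2, nat_lit 32, nat_lit 18, nat_lit 27] (nat_lit 2031) [⟨[nat_lit 217, nat_lit 215], [nat_lit 1, nat_lit 32, nat_lit 32, nat_lit 11], (nat_lit 2441)⟩, ⟨[nat_lit 217, nat_lit 215], [nat_lit 5, nat_lit 2, nat_lit 0, nat_lit 15, nat_lit 32, nat_lit 15, nat_lit 27], (nat_lit 2616)⟩]]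
noncomputable def P2980 : List Pf := [.cy (nat_lit 0) [] [] [] (nat_lit 2783) [],
  .cy (nat_lit 5) [] [] [nat_lit 26, nat_lit 24, nat_lit 0, nat_lit 18, nat_lit 15, nat_lit 11, nat_lit 26] (nat_lit 2031) [⟨[nat_lit 217, nat_lit 215], [nat_lit 16, nat_lit 0, nat_lit 26, nat_lit 16, nat_lit 11, nat_lit 27], (nat_lit 2050)⟩, ⟨[], [nat_lit 15, nat_lit 5, nat_lit 11, nat_lit 18, nat_lit 26], (nat_lit 2624)⟩],
  .cy (nat_lit 0) [] [] [] (nat_lit 2785) [],
  .cy (nat_lit 8) [] [] [nat_lit 25, nat_lit 16, nat_lit 0, nat_lit 35, nat_lit 33, nat_lit 11, nat_lit 27] (nat_lit 2031) [⟨[nat_lit 217, nat_lit 215], [nat_lit 5, nat_lit 14, nat_lit 15, nat_lit 35], (nat_lit 2016)⟩, ⟨[], [nat_lit 15, nat_lit 5, nat_lit 25, nat_lit 26], (nat_lit 2670)⟩],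
  .cy (nat_lit 0) [] [] [] (nat_lit 2787) [],
  .cy (nat_lit 5) [] [] [nat_lit 24, nat_lit 15, nat_lit 0, nat_lit 26, nat_lit 36, nat_lit 27] (nat_lit 939) [⟨[nat_lit 215, nat_lit 217, nat_lit 215], [nat_lit 16, nat_lit 5, nat_lit 0, nat_lit 32, nat_lit 32, nat_lit 11, nat_lit 26], (nat_lit 1956)⟩, ⟨[nat_lit 175, nat_lit 162], [nat_lit 2, nat_lit 37, nat_lit 18], (nat_lit 2600)⟩],
  .cy (nat_lit 0) [] [] [] (nat_lit 2789) [],
  .cy (nat_lit 11) [] [] [nat_lit 16, nat_lit 2, nat_lit 25, nat_lit 33, nat_lit 15, nat_lit 27] (nat_lit 1910) [⟨[], [nat_lit 1, nat_lit 24, nat_lit 0, nat_lit 15, nat_lit 15, nat_lit 15, nat_lit 26], (nat_lit 2454)⟩, ⟨[nat_lit 215, nat_lit 217, nat_lit 215], [nat_lit 26, nat_lit 2, nat_lit 0, nat_lit 25, nat_lit 27], (nat_lit 2732)⟩],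
  .cy (nat_lit 0) [] [] [] (nat_lit 2791) [],
  .cy (nat_lit 10) [] [] [nat_lit 10, nat_lit 0, nat_lit 35, nat_lit 32] (nat_lit 429) [⟨[nat_lit 215], [nat_lit 14, nat_lit 0, nat_lit 15, nat_lit 18, nat_lit 27], (nat_lit 643)⟩, ⟨[], [nat_lit 24, nat_lit 16, nat_lit 0, nat_lit 25, nat_lit 18, nat_lit 18], (nat_lit 2652)⟩],
  .cy (nat_lit 0) [] [] [] (nat_lit 2793) [],
  .cy (nat_lit 12) [] [] [nat_lit 16, nat_lit 0, nat_lit 34, nat_lit 15, nat_lit 11, nat_lit 27] (nat_lit 429) [⟨[nat_lit 215, nat_lit 217], [nat_lit 1, nat_lit 5, nat_lit 32, nat_lit 24, nat_lit 26], (nat_lit 478)⟩, ⟨[nat_lit 217], [nat_lit 26, nat_lit 2, nat_lit 25, nat_lit 37, nat_lit 26], (nat_lit 2624)⟩],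
  .cy (nat_lit 0) [] [] [] (nat_lit 2795) [],
  .cy (nat_lit 1) [] [] [nat_lit 0, nat_lit 2, nat_lit 17, nat_lit 11, nat_lit 17, nat_lit 26] (nat_lit 1610) [⟨[nat_lit 217], [nat_lit 1, nat_lit 24, nat_lit 0, nat_lit 34, nat_lit 32, nat_lit 16, nat_lit 26], (nat_lit 1697)⟩, ⟨[nat_lit 217, nat_lit 215], [nat_lit 10, nat_lit 10, nat_lit 0, nat_lit 15, nat_lit 32, nat_lit 15, nat_lit 27], (nat_lit 2788)⟩],
  .cy (nat_lit 0) [] [] [] (nat_lit 2797) [],
  .cy (nat_lit 20) [] [] [nat_lit 24, nat_lit 0, nat_lit 37, nat_lit 24, nat_lit 11] (nat_lit 1610) [⟨[nat_lit 217], [nat_lit 11, nat_lit 5, nat_lit 2, nat_lit 15, nat_lit 27, nat_lit 16, nat_lit 27], (nat_lit 2003)⟩, ⟨[nat_lit 215], [nat_lit 17, nat_lit 24, nat_lit 0, nat_lit 32, nat_lit 32, nat_lit 11, nat_lit 26], (nat_lit 2632)⟩],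
  .cy (nat_lit 0) [] [] [] (nat_lit 2799) [],
  .cy (nat_lit 9) [] [] [nat_lit 24, nat_lit 2, nat_lit 36, nat_lit 15, nat_lit 27] (nat_lit 2091) [⟨[nat_lit 217], [nat_lit 16, nat_lit 5, nat_lit 0, nat_lit 18, nat_lit 18, nat_lit 26], (nat_lit 2004)⟩, ⟨[nat_lit 217], [nat_lit 37, nat_lit 37, nat_lit 16, nat_lit 26], (nat_lit 2648)⟩],
  .cy (nat_lit 0) [] [] [] (nat_lit 2801) [],
  .cy (nat_lit 9) [] [] [nat_lit 15, nat_lit 0, nat_lit 35, nat_lit 33, nat_lit 11, nat_lit 26] (nat_lit 895) [⟨[nat_lit 215, nat_lit 217, nat_lit 215], [nat_lit 10, nat_lit 0, nat_lit 33, nat_lit 37, nat_lit 27], (nat_lit 1723)⟩, ⟨[nat_lit 215, nat_lit 217], [nat_lit 16, nat_lit 0, nat_lit 33, nat_lit 15, nat_lit 27], (nat_lit 2686)⟩],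
  .cy (nat_lit 0) [] [] [] (nat_lit 2803) [],
  .cy (nat_lit 1) [] [] [nat_lit 16, nat_lit 2, nat_lit 18, nat_lit 16, nat_lit 11, nat_lit 26] (nat_lit 2097) [⟨[nat_lit 217], [nat_lit 24, nat_lit 16, nat_lit 0, nat_lit 34, nat_lit 17, nat_lit 33, nat_lit 26], (nat_lit 1194)⟩, ⟨[nat_lit 217, nat_lit 215], [nat_lit 15, nat_lit 1, nat_lit 15, nat_lit 18, nat_lit 11, nat_lit 26], (nat_lit 2688)⟩],
  .cy (nat_lit 0) [] [] [] (nat_lit 2805) [],
  .cy (nat_lit 4) [] [] [nat_lit 17, nat_lit 24, nat_lit 0, nat_lit 37, nat_lit 24, nat_lit 27] (nat_lit 2097) [⟨[nat_lit 217], [nat_lit 25, nat_lit 14, nat_lit 0, nat_lit 16, nat_lit 18, nat_lit 26], (nat_lit 1573)⟩, ⟨[nat_lit 217], [nat_lit 11, nat_lit 2, nat_lit 0, nat_lit 34, nat_lit 32, nat_lit 26], (nat_lit 2764)⟩],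
  .cy (nat_lit 0) [] [] [] (nat_lit 2807) [],
  .cy (nat_lit 11) [] [] [nat_lit 1, nat_lit 24, nat_lit 37, nat_lit 15] (nat_lit 2097) [⟨[nat_lit 215, nat_lit 217], [nat_lit 26, nat_lit 2, nat_lit 35, nat_lit 16, nat_lit 16, nat_lit 26], (nat_lit 1305)⟩, ⟨[nat_lit 215], [nat_lit 10, nat_lit 10, nat_lit 0, nat_lit 35, nat_lit 32, nat_lit 27], (nat_lit 2704)⟩],
  .cy (nat_lit 0) [] [] [] (nat_lit 2809) [],
  .cy (nat_lit 5) [] [] [nat_lit 26, nat_lit 24, nat_lit 0, nat_lit 17, nat_lit 17, nat_lit 27] (nat_lit 2051) [⟨[nat_lit 215, nat_lit 217, nat_lit 215], [nat_lit 24, nat_lit 0, nat_lit 33, nat_lit 37, nat_lit 11], (nat_lit 547)⟩, ⟨[nat_lit 215, nat_lit 217, nat_lit 215], [nat_lit 24, nat_lit 0, nat_lit 15, nat_lit 32, nat_lit 11], (nat_lit 2692)⟩],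
  .cy (nat_lit 0) [] [] [] (nat_lit 2811) [],
  .cy (nat_lit 24) [] [] [nat_lit 25, nat_lit 14, nat_lit 0, nat_lit 26, nat_lit 16] (nat_lit 2051) [⟨[nat_lit 217], [nat_lit 25, nat_lit 14, nat_lit 0, nat_lit 15, nat_lit 24, nat_lit 11], (nat_lit 410)⟩, ⟨[nat_lit 215, nat_lit 217, nat_lit 215], [nat_lit 15, nat_lit 1, nat_lit 34, nat_lit 17, nat_lit 27], (nat_lit 2752)⟩],
  .cy (nat_lit 0) [] [] [] (nat_lit 2813) [],
  .cy (nat_lit 2) [] [] [nat_lit 5, nat_lit 14, nat_lit 34, nat_lit 15, nat_lit 11] (nat_lit 534) [⟨[nat_lit 215], [nat_lit 5, nat_lit 2, nat_lit 36, nat_lit 36, nat_lit 17, nat_lit 26], (nat_lit 567)⟩, ⟨[nat_lit 215, nat_lit 217, nat_lit 215], [nat_lit 1, nat_lit 5, nat_lit 36, nat_lit 33], (nat_lit 2718)⟩],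
  .cy (nat_lit 0) [] [] [] (nat_lit 2815) [],
  .cy (nat_lit 12) [] [] [nat_lit 1, nat_lit 18, nat_lit 36, nat_lit 11, nat_lit 27] (nat_lit 479) [⟨[], [nat_lit 10, nat_lit 10, nat_lit 0, nat_lit 17, nat_lit 37, nat_lit 27], (nat_lit 616)⟩, ⟨[], [nat_lit 24, nat_lit 0, nat_lit 25, nat_lit 18, nat_lit 16, nat_lit 26], (nat_lit 2628)⟩],
  .cy (nat_lit 0) [] [] [] (nat_lit 2817) [],
  .cy (nat_lit 25) [] [] [nat_lit 2, nat_lit 0, nat_lit 15, nat_lit 17] (nat_lit 2327) [⟨[], [nat_lit 25, nat_lit 1, nat_lit 32, nat_lit 18, nat_lit 11, nat_lit 27], (nat_lit 586)⟩, ⟨[nat_lit 217, nat_lit 215], [nat_lit 5, nat_lit 16, nat_lit 17, nat_lit 15, nat_lit 26], (nat_lit 2648)⟩],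
  .cy (nat_lit 0) [] [] [] (nat_lit 2819) [],
  .cy (nat_lit 7) [] [] [nat_lit 5, nat_lit 0, nat_lit 36, nat_lit 27] (nat_lit 2168) [⟨[nat_lit 217], [nat_lit 2, nat_lit 34, nat_lit 24, nat_lit 17], (nat_lit 683)⟩, ⟨[nat_lit 215], [nat_lit 16, nat_lit 5, nat_lit 2, nat_lit 24, nat_lit 18, nat_lit 27], (nat_lit 2818)⟩],
  .cy (nat_lit 0) [] [] [] (nat_lit 2821) [],
  .cy (nat_lit 11) [] [] [nat_lit 16, nat_lit 2, nat_lit 32, nat_lit 37, nat_lit 15] (nat_lit 2168) [⟨[nat_lit 217], [nat_lit 1, nat_lit 14, nat_lit 34, nat_lit 24, nat_lit 17], (nat_lit 630)⟩, ⟨[nat_lit 215, nat_lit 217], [nat_lit 36, nat_lit 33], (nat_lit 2672)⟩],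
  .cy (nat_lit 0) [] [] [] (nat_lit 2823) [],
  .cy (nat_lit 21) [] [] [nat_lit 26, nat_lit 24, nat_lit 0, nat_lit 36, nat_lit 36, nat_lit 17, nat_lit 27] (nat_lit 1115) [⟨[nat_lit 215, nat_lit 217], [nat_lit 15, nat_lit 0, nat_lit 18, nat_lit 15, nat_lit 11, nat_lit 27], (nat_lit 1038)⟩, ⟨[nat_lit 215], [nat_lit 18, nat_lit 15, nat_lit 0, nat_lit 15, nat_lit 35], (nat_lit 2772)⟩],
  .cy (nat_lit 0) [] [] [] (nat_lit 2825) [],
  .cy (nat_lit 6) [] [] [nat_lit 5, nat_lit 27, nat_lit 18, nat_lit 11] (nat_lit 1005) [⟨[nat_lit 217, nat_lit 215], [nat_lit 25, nat_lit 0, nat_lit 35, nat_lit 35, nat_lit 27], (nat_lit 1347)⟩, ⟨[], [nat_lit 15, nat_lit 1, nat_lit 15, nat_lit 18, nat_lit 11], (nat_lit 2612)⟩],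
  .cy (nat_lit 0) [] [] [] (nat_lit 2827) [],
  .cy (nat_lit 3) [] [] [nat_lit 25, nat_lit 2, nat_lit 0, nat_lit 34, nat_lit 16, nat_lit 26] (nat_lit 1321) [⟨[], [nat_lit 0, nat_lit 2, nat_lit 15, nat_lit 32, nat_lit 11, nat_lit 27], (nat_lit 1219)⟩, ⟨[nat_lit 215, nat_lit 217, nat_lit 215], [nat_lit 35, nat_lit 36, nat_lit 26], (nat_lit 2738)⟩],
  .cy (nat_lit 0) [] [] [] (nat_lit 2829) [],
  .cy (nat_lit 21) [] [] [nat_lit 24, nat_lit 16, nat_lit 0, nat_lit 33, nat_lit 33, nat_lit 27] (nat_lit 1321) [⟨[nat_lit 215, nat_lit 217], [nat_lit 26, nat_lit 2, nat_lit 0, nat_lit 15, nat_lit 32, nat_lit 15, nat_lit 26], (nat_lit 1855)⟩, ⟨[nat_lit 217, nat_lit 215], [nat_lit 1, nat_lit 34, nat_lit 17, nat_lit 33, nat_lit 26], (nat_lit 2750)⟩],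
  .cy (nat_lit 0) [] [] [] (nat_lit 2831) [],
  .cy (nat_lit 8) [] [] [nat_lit 15, nat_lit 0, nat_lit 17, nat_lit 37] (nat_lit 2371) [⟨[nat_lit 215], [nat_lit 24, nat_lit 2, nat_lit 0, nat_lit 36, nat_lit 11], (nat_lit 1890)⟩, ⟨[nat_lit 217], [nat_lit 24, nat_lit 16, nat_lit 0, nat_lit 26, nat_lit 24, nat_lit 27], (nat_lit 2648)⟩],
  .cy (nat_lit 0) [] [] [] (nat_lit 2833) [],
  .cy (nat_lit 3) [] [] [nat_lit 1, nat_lit 1, nat_lit 36, nat_lit 15] (nat_lit 779) [⟨[], [nat_lit 15, nat_lit 1, nat_lit 27, nat_lit 36, nat_lit 26], (nat_lit 1061)⟩, ⟨[nat_lit 217, nat_lit 215], [nat_lit 17, nat_lit 2, nat_lit 0, nat_lit 15, nat_lit 32], (nat_lit 2832)⟩],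
  .cy (nat_lit 0) [] [] [] (nat_lit 2835) [],
  .cy (nat_lit 22) [] [] [nat_lit 25, nat_lit 1, nat_lit 15, nat_lit 32, nat_lit 11] (nat_lit 779) [⟨[nat_lit 215, nat_lit 217, nat_lit 215], [nat_lit 1, nat_lit 5, nat_lit 35, nat_lit 35, nat_lit 11, nat_lit 26], (nat_lit 2126)⟩, ⟨[nat_lit 215, nat_lit 217, nat_lit 215], [nat_lit 5, nat_lit 2, nat_lit 0, nat_lit 17, nat_lit 17, nat_lit 15], (nat_lit 2776)⟩],
  .cy (nat_lit 0) [] [] [] (nat_lit 2837) [],
  .cy (nat_lit 1) [] [] [nat_lit 14, nat_lit 37, nat_lit 11, nat_lit 17] (nat_lit 1853) [⟨[nat_lit 217, nat_lit 215], [nat_lit 18, nat_lit 15, nat_lit 0, nat_lit 26, nat_lit 36], (nat_lit 601)⟩, ⟨[nat_lit 215, nat_lit 217, nat_lit 215], [nat_lit 15, nat_lit 5, nat_lit 25, nat_lit 37, nat_lit 15, nat_lit 26], (nat_lit 2758)⟩],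
  .cy (nat_lit 0) [] [] [] (nat_lit 2839) [],
  .cy (nat_lit 2) [] [] [nat_lit 24, nat_lit 2, nat_lit 17, nat_lit 17, nat_lit 15, nat_lit 27] (nat_lit 2065) [⟨[nat_lit 215], [nat_lit 5, nat_lit 0, nat_lit 17, nat_lit 17, nat_lit 11, nat_lit 27], (nat_lit 1685)⟩, ⟨[nat_lit 215, nat_lit 217], [nat_lit 24, nat_lit 2, nat_lit 0, nat_lit 11, nat_lit 18, nat_lit 26], (nat_lit 2694)⟩],
  .cy (nat_lit 0) [] [] [] (nat_lit 2841) [],
  .cy (nat_lit 20) [] [] [nat_lit 11, nat_lit 5, nat_lit 2, nat_lit 34, nat_lit 37] (nat_lit 1992) [⟨[nat_lit 215], [nat_lit 24, nat_lit 15, nat_lit 0, nat_lit 37, nat_lit 24, nat_lit 15, nat_lit 27], (nat_lit 1709)⟩, ⟨[nat_lit 215, nat_lit 217, nat_lit 215], [nat_lit 18, nat_lit 15, nat_lit 0, nat_lit 17, nat_lit 37, nat_lit 11, nat_lit 26], (nat_lit 2758)⟩],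
  .cy (nat_lit 0) [] [] [] (nat_lit 2843) [],
  .cy (nat_lit 24) [] [] [nat_lit 1, nat_lit 14, nat_lit 15, nat_lit 17, nat_lit 11, nat_lit 26] (nat_lit 1992) [⟨[], [nat_lit 11, nat_lit 2, nat_lit 0, nat_lit 27], (nat_lit 1214)⟩, ⟨[nat_lit 215, nat_lit 217, nat_lit 215], [nat_lit 1, nat_lit 5, nat_lit 18, nat_lit 35, nat_lit 11, nat_lit 26], (nat_lit 2660)⟩],
  .cy (nat_lit 0) [] [] [] (nat_lit 2845) [],
  .cy (nat_lit 24) [] [] [nat_lit 24, nat_lit 0, nat_lit 34, nat_lit 32, nat_lit 11, nat_lit 26] (nat_lit 1428) [⟨[nat_lit 217, nat_lit 215], [nat_lit 24, nat_lit 2, nat_lit 0, nat_lit 37, nat_lit 34, nat_lit 24], (nat_lit 1515)⟩, ⟨[], [nat_lit 26, nat_lit 2, nat_lit 0, nat_lit 37, nat_lit 17, nat_lit 11], (nat_lit 2782)⟩],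
  .cy (nat_lit 0) [] [] [] (nat_lit 2847) [],
  .cy (nat_lit 21) [] [] [nat_lit 1, nat_lit 24, nat_lit 16, nat_lit 26] (nat_lit 2024) [⟨[nat_lit 215, nat_lit 217, nat_lit 215], [nat_lit 0, nat_lit 16, nat_lit 16, nat_lit 11, nat_lit 27], (nat_lit 2182)⟩, ⟨[nat_lit 217], [nat_lit 24, nat_lit 2, nat_lit 27, nat_lit 24, nat_lit 11, nat_lit 26], (nat_lit 2716)⟩],
  .cy (nat_lit 0) [] [] [] (nat_lit 2849) [],
  .cy (nat_lit 4) [] [] [nat_lit 0, nat_lit 15, nat_lit 24, nat_lit 27] (nat_lit 1556) [⟨[nat_lit 215], [nat_lit 16, nat_lit 5, nat_lit 0, nat_lit 36, nat_lit 36, nat_lit 17, nat_lit 27], (nat_lit 787)⟩, ⟨[nat_lit 215, nat_lit 217, nat_lit 215], [nat_lit 24, nat_lit 15, nat_lit 0, nat_lit 36, nat_lit 18, nat_lit 15], (nat_lit 2678)⟩],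
  .cy (nat_lit 0) [] [] [] (nat_lit 2851) [],
  .cy (nat_lit 1) [] [] [nat_lit 24, nat_lit 2, nat_lit 15, nat_lit 35, nat_lit 11] (nat_lit 1907) [⟨[nat_lit 217], [nat_lit 25, nat_lit 2, nat_lit 0, nat_lit 37, nat_lit 33, nat_lit 11], (nat_lit 2472)⟩, ⟨[nat_lit 215, nat_lit 217, nat_lit 215], [nat_lit 25, nat_lit 0, nat_lit 15, nat_lit 35, nat_lit 11], (nat_lit 2666)⟩],
  .cy (nat_lit 0) [] [] [] (nat_lit 2853) [],
  .cy (nat_lit 20) [] [] [nat_lit 16, nat_lit 5, nat_lit 2, nat_lit 17, nat_lit 26] (nat_lit 1285) [⟨[nat_lit 217], [nat_lit 5, nat_lit 16, nat_lit 17, nat_lit 15, nat_lit 27], (nat_lit 2363)⟩, ⟨[nat_lit 215, nat_lit 217, nat_lit 215], [nat_lit 25, nat_lit 1, nat_lit 35, nat_lit 36, nat_lit 27], (nat_lit 2766)⟩],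
  .cy (nat_lit 0) [] [] [] (nat_lit 2855) [],
  .cy (nat_lit 8) [] [] [nat_lit 26, nat_lit 24, nat_lit 0, nat_lit 36, nat_lit 33, nat_lit 24] (nat_lit 2115) [⟨[nat_lit 217], [nat_lit 25, nat_lit 0, nat_lit 33, nat_lit 16, nat_lit 11, nat_lit 27], (nat_lit 1914)⟩, ⟨[nat_lit 217, nat_lit 215], [nat_lit 24, nat_lit 1, nat_lit 37, nat_lit 16, nat_lit 27], (nat_lit 2720)⟩],
  .cy (nat_lit 0) [] [] [] (nat_lit 2857) [],
  .cy (nat_lit 21) [] [] [nat_lit 24, nat_lit 15, nat_lit 0, nat_lit 15, nat_lit 32, nat_lit 15, nat_lit 27] (nat_lit 1972) [⟨[nat_lit 175, nat_lit 179, nat_lit 165, nat_lit 161], [nat_lit 24, nat_lit 16, nat_lit 0, nat_lit 37, nat_lit 37, nat_lit 11, nat_lit 27], (nat_lit 499)⟩, ⟨[nat_lit 215, nat_lit 217], [nat_lit 1, nat_lit 1, nat_lit 34, nat_lit 34, nat_lit 11], (nat_lit 2720)⟩],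
  .cy (nat_lit 0) [] [] [] (nat_lit 2859) [],
  .cy (nat_lit 20) [] [] [nat_lit 24, nat_lit 15, nat_lit 0, nat_lit 25, nat_lit 15, nat_lit 26] (nat_lit 1297) [⟨[], [nat_lit 25, nat_lit 14, nat_lit 0, nat_lit 37, nat_lit 32, nat_lit 11], (nat_lit 729)⟩, ⟨[nat_lit 217], [nat_lit 1, nat_lit 5, nat_lit 18, nat_lit 35, nat_lit 15, nat_lit 27], (nat_lit 2844)⟩],
  .cy (nat_lit 0) [] [] [] (nat_lit 2861) [],
  .cy (nat_lit 20) [] [] [nat_lit 1, nat_lit 24, nat_lit 0, nat_lit 25, nat_lit 33, nat_lit 15] (nat_lit 1297) [⟨[nat_lit 217, nat_lit 215], [nat_lit 10, nat_lit 10, nat_lit 0, nat_lit 15, nat_lit 32, nat_lit 27], (nat_lit 2255)⟩, ⟨[], [nat_lit 5, nat_lit 14, nat_lit 32, nat_lit 18, nat_lit 26], (nat_lit 2658)⟩],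
  .cy (nat_lit 0) [] [] [] (nat_lit 2863) [],
  .cy (nat_lit 11) [] [] [nat_lit 24, nat_lit 2, nat_lit 37, nat_lit 34, nat_lit 25, nat_lit 27] (nat_lit 793) [⟨[nat_lit 215], [nat_lit 0, nat_lit 2, nat_lit 18, nat_lit 18, nat_lit 27], (nat_lit 1917)⟩, ⟨[nat_lit 215], [nat_lit 0, nat_lit 36, nat_lit 15], (nat_lit 2714)⟩],
  .cy (nat_lit 0) [] [] [] (nat_lit 2865) [],
  .cy (nat_lit 11) [] [] [nat_lit 24, nat_lit 2, nat_lit 34, nat_lit 15, nat_lit 26] (nat_lit 1868) [⟨[nat_lit 215, nat_lit 217, nat_lit 215], [nat_lit 11, nat_lit 2, nat_lit 0, nat_lit 32, nat_lit 34, nat_lit 16, nat_lit 27], (nat_lit 969)⟩, ⟨[nat_lit 217, nat_lit 215], [nat_lit 11, nat_lit 2, nat_lit 0, nat_lit 36, nat_lit 32, nat_lit 11, nat_lit 26], (nat_lit 2672)⟩],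
  .cy (nat_lit 0) [] [] [] (nat_lit 2867) [],
  .cy (nat_lit 25) [] [] [nat_lit 15, nat_lit 1, nat_lit 27, nat_lit 15, nat_lit 11] (nat_lit 1434) [⟨[nat_lit 217], [nat_lit 14, nat_lit 15, nat_lit 0, nat_lit 17, nat_lit 34, nat_lit 15, nat_lit 26], (nat_lit 1493)⟩, ⟨[], [nat_lit 25, nat_lit 0, nat_lit 17, nat_lit 17, nat_lit 15], (nat_lit 2662)⟩],
  .cy (nat_lit 0) [] [] [] (nat_lit 2869) [],
  .cy (nat_lit 7) [] [] [nat_lit 24, nat_lit 2, nat_lit 0, nat_lit 34, nat_lit 25, nat_lit 11] (nat_lit 315) [⟨[nat_lit 215, nat_lit 217], [nat_lit 1, nat_lit 14, nat_lit 17, nat_lit 37, nat_lit 11, nat_lit 26], (nat_lit 1383)⟩, ⟨[nat_lit 217], [nat_lit 1, nat_lit 24, nat_lit 0, nat_lit 32, nat_lit 34, nat_lit 16, nat_lit 26], (nat_lit 2836)⟩],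
  .cy (nat_lit 0) [] [] [] (nat_lit 2871) [],
  .cy (nat_lit 22) [] [] [nat_lit 24, nat_lit 0, nat_lit 33, nat_lit 16, nat_lit 11, nat_lit 26] (nat_lit 280) [⟨[nat_lit 215], [nat_lit 5, nat_lit 15, nat_lit 32, nat_lit 11, nat_lit 27], (nat_lit 2616)⟩, ⟨[nat_lit 2578, nat_lit 2579, nat_lit 2592], [nat_lit 1, nat_lit 27, nat_lit 16, nat_lit 27], (nat_lit 2588)⟩],
  .cy (nat_lit 0) [] [] [] (nat_lit 2873) [],
  .cy (nat_lit 8) [] [] [nat_lit 5, nat_lit 2, nat_lit 0, nat_lit 26, nat_lit 16, nat_lit 11, nat_lit 26] (nat_lit 269) [⟨[], [nat_lit 0, nat_lit 2, nat_lit 17, nat_lit 36], (nat_lit 585)⟩, ⟨[nat_lit 215], [nat_lit 14, nat_lit 0, nat_lit 26, nat_lit 24, nat_lit 11, nat_lit 26], (nat_lit 2668)⟩],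
  .cy (nat_lit 0) [] [] [] (nat_lit 2875) [],
  .cy (nat_lit 1) [] [] [nat_lit 15, nat_lit 2, nat_lit 32, nat_lit 34, nat_lit 16, nat_lit 27] (nat_lit 223) [⟨[nat_lit 162, nat_lit 176, nat_lit 167], [nat_lit 11, nat_lit 5, nat_lit 2, nat_lit 25, nat_lit 18, nat_lit 18, nat_lit 26], (nat_lit 228)⟩, ⟨[], [nat_lit 1, nat_lit 24, nat_lit 0, nat_lit 24, nat_lit 37, nat_lit 17], (nat_lit 2616)⟩],
  .cy (nat_lit 0) [] [] [] (nat_lit 2877) [],
  .cy (nat_lit 11) [] [] [nat_lit 24, nat_lit 2, nat_lit 0, nat_lit 37, nat_lit 33, nat_lit 11, nat_lit 27] (nat_lit 223) [⟨[nat_lit 176, nat_lit 162, nat_lit 161], [nat_lit 2, nat_lit 32, nat_lit 34, nat_lit 27], (nat_lit 1957)⟩, ⟨[nat_lit 215, nat_lit 217, nat_lit 215], [nat_lit 18, nat_lit 15, nat_lit 0, nat_lit 11, nat_lit 15, nat_lit 27], (nat_lit 2822)⟩],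
  .cy (nat_lit 0) [] [] [] (nat_lit 2879) [],
  .cy (nat_lit 22) [] [] [nat_lit 5, nat_lit 16, nat_lit 2, nat_lit 34, nat_lit 25, nat_lit 27] (nat_lit 2257) [⟨[nat_lit 215, nat_lit 217, nat_lit 215], [nat_lit 26, nat_lit 24, nat_lit 0, nat_lit 27, nat_lit 15, nat_lit 11, nat_lit 26], (nat_lit 1187)⟩, ⟨[nat_lit 217], [nat_lit 2, nat_lit 0, nat_lit 15, nat_lit 18, nat_lit 27], (nat_lit 2710)⟩],
  .cy (nat_lit 0) [] [] [] (nat_lit 2881) [],
  .cy (nat_lit 24) [] [] [nat_lit 14, nat_lit 37, nat_lit 16, nat_lit 27] (nat_lit 2257) [⟨[nat_lit 217, nat_lit 215], [nat_lit 15, nat_lit 1, nat_lit 16, nat_lit 11], (nat_lit 2517)⟩, ⟨[nat_lit 215, nat_lit 217, nat_lit 215], [nat_lit 2, nat_lit 0, nat_lit 37, nat_lit 34, nat_lit 11], (nat_lit 2734)⟩],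
  .cy (nat_lit 0) [] [] [] (nat_lit 2883) [],
  .cy (nat_lit 7) [] [] [nat_lit 25, nat_lit 16, nat_lit 0, nat_lit 36, nat_lit 18, nat_lit 15] (nat_lit 996) [⟨[nat_lit 217, nat_lit 215], [nat_lit 16, nat_lit 0, nat_lit 26, nat_lit 17, nat_lit 15, nat_lit 27], (nat_lit 1994)⟩, ⟨[], [nat_lit 25, nat_lit 37, nat_lit 11], (nat_lit 2656)⟩],
  .cy (nat_lit 0) [] [] [] (nat_lit 2885) [],
  .cy (nat_lit 11) [] [] [nat_lit 11, nat_lit 5, nat_lit 2, nat_lit 35, nat_lit 33, nat_lit 26] (nat_lit 1260) [⟨[nat_lit 217], [nat_lit 1, nat_lit 24, nat_lit 0, nat_lit 35, nat_lit 15, nat_lit 26], (nat_lit 621)⟩, ⟨[], [nat_lit 5, nat_lit 14, nat_lit 25, nat_lit 27], (nat_lit 2718)⟩],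
  .cy (nat_lit 0) [] [] [] (nat_lit 2887) [],
  .cy (nat_lit 7) [] [] [nat_lit 24, nat_lit 2, nat_lit 36, nat_lit 11, nat_lit 26] (nat_lit 1439) [⟨[nat_lit 215], [nat_lit 26, nat_lit 24, nat_lit 0, nat_lit 37, nat_lit 33, nat_lit 11, nat_lit 26], (nat_lit 1089)⟩, ⟨[], [nat_lit 24, nat_lit 2, nat_lit 32, nat_lit 24, nat_lit 26], (nat_lit 2840)⟩],
  .cy (nat_lit 0) [] [] [] (nat_lit 2889) [],
  .cy (nat_lit 21) [] [] [nat_lit 24, nat_lit 2, nat_lit 0, nat_lit 15, nat_lit 24, nat_lit 26] (nat_lit 781) [⟨[], [nat_lit 1, nat_lit 14, nat_lit 37, nat_lit 15, nat_lit 11, nat_lit 27], (nat_lit 1255)⟩, ⟨[nat_lit 215], [nat_lit 17, nat_lit 24, nat_lit 0, nat_lit 32, nat_lit 24, nat_lit 11, nat_lit 27], (nat_lit 2758)⟩],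
  .cy (nat_lit 0) [] [] [] (nat_lit 2891) [],
  .cy (nat_lit 7) [] [] [nat_lit 10, nat_lit 0, nat_lit 15, nat_lit 18, nat_lit 27] (nat_lit 908) [⟨[nat_lit 217, nat_lit 215], [nat_lit 24, nat_lit 15], (nat_lit 1625)⟩, ⟨[nat_lit 217], [nat_lit 14, nat_lit 36, nat_lit 18, nat_lit 15, nat_lit 27], (nat_lit 2852)⟩],
  .cy (nat_lit 0) [] [] [] (nat_lit 2893) [],
  .cy (nat_lit 8) [] [] [nat_lit 24, nat_lit 2, nat_lit 27, nat_lit 37, nat_lit 26] (nat_lit 1946) [⟨[nat_lit 217], [nat_lit 10, nat_lit 0, nat_lit 33, nat_lit 11, nat_lit 27], (nat_lit 2183)⟩, ⟨[nat_lit 217, nat_lit 215], [nat_lit 5, nat_lit 0, nat_lit 36, nat_lit 18], (nat_lit 2662)⟩],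
  .cy (nat_lit 0) [] [] [] (nat_lit 2895) [],
  .cy (nat_lit 12) [] [] [nat_lit 24, nat_lit 2, nat_lit 0, nat_lit 16, nat_lit 32, nat_lit 15] (nat_lit 1946) [⟨[nat_lit 217], [nat_lit 24, nat_lit 2, nat_lit 26, nat_lit 16, nat_lit 11, nat_lit 26], (nat_lit 1729)⟩, ⟨[nat_lit 217], [nat_lit 1, nat_lit 24, nat_lit 0, nat_lit 34, nat_lit 32, nat_lit 16], (nat_lit 2650)⟩],
  .cy (nat_lit 0) [] [] [] (nat_lit 2897) [],
  .cy (nat_lit 26) [] [] [nat_lit 1, nat_lit 24, nat_lit 0, nat_lit 33, nat_lit 36] (nat_lit 1946) [⟨[nat_lit 217], [nat_lit 1, nat_lit 1, nat_lit 35, nat_lit 36], (nat_lit 1529)⟩, ⟨[nat_lit 215, nat_lit 217, nat_lit 215], [nat_lit 26, nat_lit 2, nat_lit 0, nat_lit 37, nat_lit 11, nat_lit 27], (nat_lit 2680)⟩],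
  .cy (nat_lit 0) [] [] [] (nat_lit 2899) [],
  .cy (nat_lit 5) [] [] [nat_lit 16, nat_lit 5, nat_lit 2, nat_lit 35, nat_lit 36, nat_lit 27] (nat_lit 778) [⟨[], [nat_lit 5, nat_lit 2, nat_lit 0, nat_lit 33, nat_lit 18, nat_lit 26], (nat_lit 1544)⟩, ⟨[nat_lit 215], [nat_lit 11, nat_lit 2, nat_lit 0, nat_lit 24, nat_lit 35, nat_lit 26], (nat_lit 2806)⟩],
  .cy (nat_lit 0) [] [] [] (nat_lit 2901) [],
  .cy (nat_lit 22) [] [] [nat_lit 15, nat_lit 5, nat_lit 33, nat_lit 36, nat_lit 26] (nat_lit 778) [⟨[nat_lit 215, nat_lit 217, nat_lit 215], [nat_lit 11, nat_lit 2, nat_lit 0, nat_lit 36, nat_lit 18, nat_lit 15], (nat_lit 1759)⟩, ⟨[], [nat_lit 24, nat_lit 15, nat_lit 0, nat_lit 24, nat_lit 11, nat_lit 27], (nat_lit 2634)⟩],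
  .cy (nat_lit 0) [] [] [] (nat_lit 2903) [],
  .cy (nat_lit 26) [] [] [nat_lit 0, nat_lit 2, nat_lit 26, nat_lit 24, nat_lit 26] (nat_lit 778) [⟨[], [nat_lit 10, nat_lit 0, nat_lit 16, nat_lit 16], (nat_lit 2556)⟩, ⟨[nat_lit 215, nat_lit 217], [nat_lit 26, nat_lit 2, nat_lit 15, nat_lit 18, nat_lit 11, nat_lit 26], (nat_lit 2826)⟩],
  .cy (nat_lit 0) [] [] [] (nat_lit 2905) [],
  .cy (nat_lit 27) [] [] [nat_lit 16, nat_lit 5, nat_lit 2, nat_lit 34, nat_lit 37, nat_lit 11, nat_lit 27] (nat_lit 778) [⟨[nat_lit 215, nat_lit 217, nat_lit 215], [nat_lit 2, nat_lit 17, nat_lit 11, nat_lit 26], (nat_lit 2432)⟩, ⟨[nat_lit 217], [nat_lit 25, nat_lit 0, nat_lit 27, nat_lit 18, nat_lit 11, nat_lit 27], (nat_lit 2648)⟩],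
  .cy (nat_lit 0) [] [] [] (nat_lit 2907) [],
  .cy (nat_lit 5) [] [] [nat_lit 14, nat_lit 0, nat_lit 37, nat_lit 17, nat_lit 26] (nat_lit 473) [⟨[nat_lit 215], [nat_lit 11, nat_lit 5, nat_lit 2, nat_lit 36, nat_lit 32, nat_lit 11], (nat_lit 1074)⟩, ⟨[nat_lit 215, nat_lit 217], [nat_lit 2, nat_lit 0, nat_lit 16, nat_lit 17, nat_lit 15, nat_lit 26], (nat_lit 2610)⟩],
  .cy (nat_lit 0) [] [] [] (nat_lit 2909) [],
  .cy (nat_lit 1) [] [] [nat_lit 24, nat_lit 15, nat_lit 0, nat_lit 17, nat_lit 17, nat_lit 15, nat_lit 26] (nat_lit 2121) [⟨[], [nat_lit 24, nat_lit 15, nat_lit 0, nat_lit 15, nat_lit 15, nat_lit 11, nat_lit 27], (nat_lit 1214)⟩, ⟨[nat_lit 217, nat_lit 215], [nat_lit 11, nat_lit 5, nat_lit 2, nat_lit 15, nat_lit 27, nat_lit 16], (nat_lit 2674)⟩],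
  .cy (nat_lit 0) [] [] [] (nat_lit 2911) [],
  .cy (nat_lit 7) [] [] [nat_lit 0, nat_lit 2, nat_lit 33, nat_lit 18, nat_lit 11, nat_lit 27] (nat_lit 587) [⟨[], [nat_lit 5, nat_lit 2, nat_lit 0, nat_lit 24, nat_lit 18], (nat_lit 2514)⟩, ⟨[nat_lit 217, nat_lit 215], [nat_lit 15, nat_lit 0, nat_lit 18, nat_lit 36, nat_lit 27], (nat_lit 2680)⟩],
  .cy (nat_lit 0) [] [] [] (nat_lit 2913) [],
  .cy (nat_lit 10) [] [] [nat_lit 18, nat_lit 15, nat_lit 0, nat_lit 18, nat_lit 11, nat_lit 15, nat_lit 26] (nat_lit 587) [⟨[nat_lit 217, nat_lit 215], [nat_lit 25, nat_lit 2, nat_lit 0, nat_lit 37, nat_lit 17, nat_lit 26], (nat_lit 1848)⟩, ⟨[], [nat_lit 0, nat_lit 2, nat_lit 35, nat_lit 33, nat_lit 26], (nat_lit 2754)⟩],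
  .cy (nat_lit 0) [] [] [] (nat_lit 2915) [],
  .cy (nat_lit 26) [] [] [nat_lit 25, nat_lit 16, nat_lit 0, nat_lit 36, nat_lit 18, nat_lit 15, nat_lit 27] (nat_lit 587) [⟨[nat_lit 215, nat_lit 217, nat_lit 215], [nat_lit 1, nat_lit 5, nat_lit 34, nat_lit 37, nat_lit 11, nat_lit 26], (nat_lit 637)⟩, ⟨[], [nat_lit 16, nat_lit 5, nat_lit 2, nat_lit 16, nat_lit 18, nat_lit 11, nat_lit 27], (nat_lit 2678)⟩],
  .cy (nat_lit 0) [] [] [] (nat_lit 2917) [],
  .cy (nat_lit 1) [] [] [nat_lit 1, nat_lit 24, nat_lit 0, nat_lit 35, nat_lit 32] (nat_lit 250) [⟨[nat_lit 217], [nat_lit 1, nat_lit 24, nat_lit 0], (nat_lit 2220)⟩, ⟨[nat_lit 215, nat_lit 217, nat_lit 215], [nat_lit 24, nat_lit 1, nat_lit 33, nat_lit 11, nat_lit 26], (nat_lit 2756)⟩],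
  .cy (nat_lit 0) [] [] [] (nat_lit 2919) [],
  .cy (nat_lit 4) [] [] [nat_lit 24, nat_lit 1, nat_lit 32, nat_lit 18, nat_lit 11, nat_lit 27] (nat_lit 483) [⟨[], [nat_lit 15, nat_lit 5, nat_lit 36, nat_lit 33, nat_lit 24, nat_lit 26], (nat_lit 757)⟩, ⟨[nat_lit 217, nat_lit 215], [nat_lit 24, nat_lit 2, nat_lit 0, nat_lit 32, nat_lit 32], (nat_lit 2738)⟩],
  .cy (nat_lit 0) [] [] [] (nat_lit 2921) [],
  .cy (nat_lit 9) [] [] [nat_lit 5, nat_lit 2, nat_lit 37, nat_lit 37, nat_lit 11, nat_lit 27] (nat_lit 483) [⟨[nat_lit 215], [nat_lit 0, nat_lit 2, nat_lit 15, nat_lit 18, nat_lit 11, nat_lit 26], (nat_lit 1326)⟩, ⟨[nat_lit 217], [nat_lit 18, nat_lit 15, nat_lit 0, nat_lit 32, nat_lit 34, nat_lit 11], (nat_lit 2666)⟩],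
  .cy (nat_lit 0) [] [] [] (nat_lit 2923) [],
  .cy (nat_lit 7) [] [] [nat_lit 16, nat_lit 5, nat_lit 2, nat_lit 26, nat_lit 15, nat_lit 27] (nat_lit 1498) [⟨[], [nat_lit 15, nat_lit 2, nat_lit 11, nat_lit 27], (nat_lit 753)⟩, ⟨[nat_lit 215, nat_lit 217, nat_lit 215], [nat_lit 16, nat_lit 2, nat_lit 32, nat_lit 16], (nat_lit 2772)⟩],
  .cy (nat_lit 0) [] [] [] (nat_lit 2925) [],
  .cy (nat_lit 20) [] [] [nat_lit 16, nat_lit 0, nat_lit 34, nat_lit 32, nat_lit 27] (nat_lit 1498) [⟨[], [nat_lit 5, nat_lit 27, nat_lit 36, nat_lit 11], (nat_lit 1260)⟩, ⟨[], [nat_lit 16, nat_lit 0, nat_lit 15, nat_lit 27, nat_lit 16], (nat_lit 2832)⟩],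
  .cy (nat_lit 0) [] [] [] (nat_lit 2927) [],
  .cy (nat_lit 12) [] [] [nat_lit 5, nat_lit 37, nat_lit 34, nat_lit 11] (nat_lit 2073) [⟨[nat_lit 217, nat_lit 215], [nat_lit 1, nat_lit 14, nat_lit 16, nat_lit 27], (nat_lit 1778)⟩, ⟨[nat_lit 215, nat_lit 217], [nat_lit 0, nat_lit 16, nat_lit 27], (nat_lit 2748)⟩],
  .cy (nat_lit 0) [] [] [] (nat_lit 2929) [],
  .cy (nat_lit 7) [] [] [nat_lit 16, nat_lit 2, nat_lit 16, nat_lit 16, nat_lit 11, nat_lit 27] (nat_lit 1063) [⟨[], [nat_lit 16, nat_lit 0, nat_lit 32, nat_lit 37, nat_lit 15, nat_lit 26], (nat_lit 1652)⟩, ⟨[nat_lit 215, nat_lit 217], [nat_lit 15, nat_lit 0, nat_lit 32, nat_lit 35, nat_lit 26], (nat_lit 2886)⟩],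
  .cy (nat_lit 0) [] [] [] (nat_lit 2931) [],
  .cy (nat_lit 8) [] [] [nat_lit 2, nat_lit 33, nat_lit 34] (nat_lit 1063) [⟨[], [nat_lit 1, nat_lit 24, nat_lit 0, nat_lit 36, nat_lit 36, nat_lit 17, nat_lit 27], (nat_lit 1320)⟩, ⟨[], [nat_lit 15, nat_lit 1, nat_lit 32, nat_lit 11, nat_lit 27], (nat_lit 2770)⟩],
  .cy (nat_lit 0) [] [] [] (nat_lit 2933) [],
  .cy (nat_lit 20) [] [] [nat_lit 25, nat_lit 2, nat_lit 0, nat_lit 34, nat_lit 16, nat_lit 26] (nat_lit 1063) [⟨[nat_lit 217], [nat_lit 5, nat_lit 15, nat_lit 11], (nat_lit 2191)⟩, ⟨[nat_lit 215], [nat_lit 16, nat_lit 5, nat_lit 2, nat_lit 15, nat_lit 35, nat_lit 26], (nat_lit 2840)⟩],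
  .cy (nat_lit 0) [] [] [] (nat_lit 2935) [],
  .cy (nat_lit 22) [] [] [nat_lit 10, nat_lit 10, nat_lit 0, nat_lit 18, nat_lit 11] (nat_lit 1734) [⟨[], [nat_lit 24, nat_lit 0, nat_lit 24, nat_lit 36, nat_lit 27], (nat_lit 476)⟩, ⟨[nat_lit 215], [nat_lit 1, nat_lit 24, nat_lit 0, nat_lit 32, nat_lit 36, nat_lit 16], (nat_lit 2934)⟩],
  .cy (nat_lit 0) [] [] [] (nat_lit 2937) [],
  .cy (nat_lit 4) [] [] [nat_lit 0, nat_lit 26, nat_lit 36, nat_lit 27] (nat_lit 757) [⟨[nat_lit 215, nat_lit 217, nat_lit 215], [nat_lit 5, nat_lit 16, nat_lit 2, nat_lit 37, nat_lit 33], (nat_lit 2213)⟩, ⟨[nat_lit 215], [nat_lit 15, nat_lit 5, nat_lit 37], (nat_lit 2678)⟩],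
  .cy (nat_lit 0) [] [] [] (nat_lit 2939) [],
  .cy (nat_lit 9) [] [] [nat_lit 17, nat_lit 2, nat_lit 0, nat_lit 24, nat_lit 35] (nat_lit 757) [⟨[nat_lit 217, nat_lit 215], [nat_lit 1, nat_lit 14, nat_lit 34, nat_lit 32, nat_lit 16, nat_lit 26], (nat_lit 963)⟩, ⟨[], [nat_lit 18, nat_lit 15, nat_lit 0, nat_lit 26, nat_lit 16, nat_lit 27], (nat_lit 2938)⟩],
  .cy (nat_lit 0) [] [] [] (nat_lit 2941) [],
  .cy (nat_lit 10) [] [] [nat_lit 16, nat_lit 0, nat_lit 32, nat_lit 32, nat_lit 11, nat_lit 27] (nat_lit 757) [⟨[nat_lit 215, nat_lit 217, nat_lit 215], [nat_lit 16, nat_lit 0, nat_lit 27, nat_lit 24, nat_lit 26], (nat_lit 1045)⟩, ⟨[nat_lit 215], [nat_lit 11, nat_lit 2, nat_lit 0, nat_lit 37, nat_lit 32, nat_lit 26], (nat_lit 2854)⟩],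
  .cy (nat_lit 0) [] [] [] (nat_lit 2943) [],
  .cy (nat_lit 26) [] [] [nat_lit 16, nat_lit 2, nat_lit 37, nat_lit 37, nat_lit 11] (nat_lit 1726) [⟨[nat_lit 215, nat_lit 217], [nat_lit 16, nat_lit 5, nat_lit 0, nat_lit 37, nat_lit 24, nat_lit 11, nat_lit 26], (nat_lit 1255)⟩, ⟨[nat_lit 217], [nat_lit 25, nat_lit 16, nat_lit 0, nat_lit 36, nat_lit 17], (nat_lit 2634)⟩],
  .cy (nat_lit 0) [] [] [] (nat_lit 2945) [],
  .cy (nat_lit 24) [] [] [nat_lit 17, nat_lit 2, nat_lit 0, nat_lit 17, nat_lit 37, nat_lit 11, nat_lit 26] (nat_lit 1984) [⟨[nat_lit 522, nat_lit 204, nat_lit 205], [nat_lit 10, nat_lit 10, nat_lit 0, nat_lit 24, nat_lit 24, nat_lit 11, nat_lit 27], (nat_lit 904)⟩, ⟨[nat_lit 217], [nat_lit 10, nat_lit 0, nat_lit 25, nat_lit 37, nat_lit 17, nat_lit 26], (nat_lit 2728)⟩],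
  .cy (nat_lit 0) [] [] [] (nat_lit 2947) [],
  .cy (nat_lit 2) [] [] [nat_lit 17, nat_lit 24, nat_lit 0, nat_lit 18, nat_lit 25] (nat_lit 1891) [⟨[nat_lit 215, nat_lit 217], [nat_lit 1, nat_lit 14, nat_lit 18, nat_lit 11, nat_lit 15], (nat_lit 884)⟩, ⟨[nat_lit 215, nat_lit 217], [nat_lit 5, nat_lit 14, nat_lit 35, nat_lit 32, nat_lit 11], (nat_lit 2794)⟩],
  .cy (nat_lit 0) [] [] [] (nat_lit 2949) [],
  .cy (nat_lit 3) [] [] [nat_lit 24, nat_lit 16, nat_lit 0, nat_lit 27, nat_lit 24, nat_lit 15] (nat_lit 1891) [⟨[nat_lit 215], [nat_lit 5, nat_lit 16, nat_lit 2, nat_lit 37, nat_lit 15, nat_lit 11, nat_lit 27], (nat_lit 2016)⟩, ⟨[nat_lit 215, nat_lit 217, nat_lit 215], [nat_lit 1, nat_lit 37, nat_lit 27], (nat_lit 2838)⟩],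
  .cy (nat_lit 0) [] [] [] (nat_lit 2951) [],
  .cy (nat_lit 27) [] [] [nat_lit 0, nat_lit 2, nat_lit 24, nat_lit 24] (nat_lit 1891) [⟨[nat_lit 215, nat_lit 217, nat_lit 215], [nat_lit 14, nat_lit 0, nat_lit 27], (nat_lit 1808)⟩, ⟨[nat_lit 215, nat_lit 217], [nat_lit 25, nat_lit 2, nat_lit 0, nat_lit 27, nat_lit 15, nat_lit 27], (nat_lit 2684)⟩],
  .cy (nat_lit 0) [] [] [] (nat_lit 2953) [],
  .cy (nat_lit 6) [] [] [nat_lit 16, nat_lit 5, nat_lit 2, nat_lit 16, nat_lit 26] (nat_lit 1590) [⟨[nat_lit 215], [nat_lit 5, nat_lit 2, nat_lit 0, nat_lit 35, nat_lit 17, nat_lit 16, nat_lit 27], (nat_lit 1928)⟩, ⟨[nat_lit 217, nat_lit 215], [nat_lit 0, nat_lit 2, nat_lit 15, nat_lit 15, nat_lit 15, nat_lit 27], (nat_lit 2850)⟩],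
  .cy (nat_lit 0) [] [] [] (nat_lit 2955) [],
  .cy (nat_lit 7) [] [] [nat_lit 25, nat_lit 16, nat_lit 0, nat_lit 37, nat_lit 33, nat_lit 11, nat_lit 26] (nat_lit 1590) [⟨[], [nat_lit 2, nat_lit 0, nat_lit 25, nat_lit 11, nat_lit 26], (nat_lit 579)⟩, ⟨[nat_lit 215, nat_lit 217], [nat_lit 25, nat_lit 2, nat_lit 0, nat_lit 25, nat_lit 33, nat_lit 15, nat_lit 27], (nat_lit 2776)⟩],
  .cy (nat_lit 0) [] [] [] (nat_lit 2957) [],
  .cy (nat_lit 11) [] [] [nat_lit 25, nat_lit 16, nat_lit 0, nat_lit 17, nat_lit 37, nat_lit 27] (nat_lit 967) [⟨[nat_lit 215, nat_lit 217, nat_lit 215], [nat_lit 16, nat_lit 0, nat_lit 16, nat_lit 17, nat_lit 15], (nat_lit 1326)⟩, ⟨[nat_lit 217, nat_lit 215], [nat_lit 1, nat_lit 5, nat_lit 18, nat_lit 16, nat_lit 26], (nat_lit 2806)⟩],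
  .cy (nat_lit 0) [] [] [] (nat_lit 2959) [],
  .cy (nat_lit 24) [] [] [nat_lit 24, nat_lit 15, nat_lit 0, nat_lit 15, nat_lit 18, nat_lit 11, nat_lit 26] (nat_lit 2140) [⟨[nat_lit 217], [nat_lit 25, nat_lit 16, nat_lit 0, nat_lit 27, nat_lit 18, nat_lit 11, nat_lit 27], (nat_lit 2226)⟩, ⟨[nat_lit 217], [nat_lit 16, nat_lit 0, nat_lit 37, nat_lit 26], (nat_lit 2700)⟩],
  .cy (nat_lit 0) [] [] [] (nat_lit 2961) [],
  .cy (nat_lit 11) [] [] [nat_lit 17, nat_lit 2, nat_lit 0, nat_lit 18, nat_lit 11, nat_lit 26] (nat_lit 1248) [⟨[nat_lit 215, nat_lit 217], [nat_lit 24, nat_lit 2, nat_lit 32, nat_lit 18], (nat_lit 1591)⟩, ⟨[nat_lit 215], [nat_lit 11, nat_lit 5, nat_lit 2, nat_lit 35, nat_lit 32, nat_lit 11, nat_lit 27], (nat_lit 2810)⟩],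
  .cy (nat_lit 0) [] [] [] (nat_lit 2963) [],
  .cy (nat_lit 5) [] [] [nat_lit 24, nat_lit 2, nat_lit 0, nat_lit 32, nat_lit 34, nat_lit 16] (nat_lit 1477) [⟨[nat_lit 217], [nat_lit 5, nat_lit 2, nat_lit 0, nat_lit 24, nat_lit 37, nat_lit 15, nat_lit 27], (nat_lit 2357)⟩, ⟨[nat_lit 215, nat_lit 217, nat_lit 215], [nat_lit 5, nat_lit 16, nat_lit 2, nat_lit 34, nat_lit 25, nat_lit 26], (nat_lit 2664)⟩],
  .cy (nat_lit 0) [] [] [] (nat_lit 2965) [],
  .cy (nat_lit 4) [] [] [nat_lit 1, nat_lit 5, nat_lit 16, nat_lit 37, nat_lit 26] (nat_lit 1571) [⟨[nat_lit 215, nat_lit 217, nat_lit 215], [nat_lit 1, nat_lit 1, nat_lit 18, nat_lit 11, nat_lit 15], (nat_lit 910)⟩, ⟨[nat_lit 217], [nat_lit 15, nat_lit 2, nat_lit 36, nat_lit 33, nat_lit 11], (nat_lit 2884)⟩],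
  .cy (nat_lit 0) [] [] [] (nat_lit 2967) [],
  .cy (nat_lit 9) [] [] [nat_lit 26, nat_lit 24, nat_lit 0, nat_lit 37] (nat_lit 1193) [⟨[nat_lit 215, nat_lit 217, nat_lit 215], [nat_lit 0, nat_lit 2, nat_lit 36, nat_lit 33, nat_lit 27], (nat_lit 558)⟩, ⟨[], [nat_lit 1, nat_lit 14, nat_lit 34, nat_lit 34, nat_lit 26], (nat_lit 2946)⟩],
  .cy (nat_lit 0) [] [] [] (nat_lit 2969) [],
  .cy (nat_lit 12) [] [] [nat_lit 25, nat_lit 16, nat_lit 0, nat_lit 15, nat_lit 17, nat_lit 26] (nat_lit 2317) [⟨[nat_lit 215, nat_lit 217, nat_lit 215], [nat_lit 14, nat_lit 0, nat_lit 34, nat_lit 17, nat_lit 11, nat_lit 27], (nat_lit 2097)⟩, ⟨[nat_lit 217], [nat_lit 15, nat_lit 5, nat_lit 16, nat_lit 16, nat_lit 11, nat_lit 26], (nat_lit 2614)⟩],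
  .cy (nat_lit 0) [] [] [] (nat_lit 2971) [],
  .cy (nat_lit 4) [] [] [nat_lit 25, nat_lit 2, nat_lit 0, nat_lit 26, nat_lit 36] (nat_lit 1010) [⟨[nat_lit 215], [nat_lit 0, nat_lit 33, nat_lit 34, nat_lit 27], (nat_lit 1298)⟩, ⟨[nat_lit 215], [nat_lit 14, nat_lit 15, nat_lit 27], (nat_lit 2842)⟩],
  .cy (nat_lit 0) [] [] [] (nat_lit 2973) [],
  .cy (nat_lit 9) [] [] [nat_lit 24, nat_lit 15, nat_lit 0, nat_lit 34, nat_lit 16, nat_lit 26] (nat_lit 1319) [⟨[nat_lit 215, nat_lit 217], [nat_lit 15, nat_lit 5, nat_lit 37, nat_lit 33, nat_lit 11, nat_lit 27], (nat_lit 446)⟩, ⟨[nat_lit 217, nat_lit 215], [nat_lit 25, nat_lit 1, nat_lit 24, nat_lit 36, nat_lit 27], (nat_lit 2870)⟩],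
  .cy (nat_lit 0) [] [] [] (nat_lit 2975) [],
  .cy (nat_lit 10) [] [] [nat_lit 24, nat_lit 15, nat_lit 0, nat_lit 32, nat_lit 24] (nat_lit 2145) [⟨[], [nat_lit 0, nat_lit 2, nat_lit 36, nat_lit 33, nat_lit 24, nat_lit 26], (nat_lit 1200)⟩, ⟨[nat_lit 215, nat_lit 217], [nat_lit 25, nat_lit 14, nat_lit 0, nat_lit 18], (nat_lit 2912)⟩],
  .cy (nat_lit 0) [] [] [] (nat_lit 2977) [],
  .cy (nat_lit 2) [] [] [nat_lit 17, nat_lit 2, nat_lit 0, nat_lit 15, nat_lit 11, nat_lit 15, nat_lit 27] (nat_lit 841) [⟨[], [nat_lit 10, nat_lit 0, nat_lit 37, nat_lit 33, nat_lit 26], (nat_lit 1509)⟩, ⟨[], [nat_lit 11, nat_lit 5, nat_lit 2, nat_lit 32, nat_lit 18, nat_lit 11, nat_lit 27], (nat_lit 2658)⟩]]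
noncomputable def P3189 : List Pf := [.cy (nat_lit 0) [] [] [] (nat_lit 2979) [],
  .cy (nat_lit 6) [] [] [nat_lit 16, nat_lit 5, nat_lit 2, nat_lit 27, nat_lit 16] (nat_lit 841) [⟨[nat_lit 215, nat_lit 217], [nat_lit 5, nat_lit 2, nat_lit 33, nat_lit 35, nat_lit 11], (nat_lit 2359)⟩, ⟨[nat_lit 215, nat_lit 217, nat_lit 215], [nat_lit 24, nat_lit 15, nat_lit 0, nat_lit 36, nat_lit 33, nat_lit 11, nat_lit 26], (nat_lit 2726)⟩],
  .cy (nat_lit 0) [] [] [] (nat_lit 2981) [],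
  .cy (nat_lit 21) [] [] [nat_lit 5, nat_lit 0, nat_lit 18, nat_lit 25] (nat_lit 841) [⟨[], [nat_lit 16, nat_lit 2, nat_lit 25, nat_lit 15, nat_lit 26], (nat_lit 452)⟩, ⟨[nat_lit 215, nat_lit 217, nat_lit 215], [nat_lit 17, nat_lit 24, nat_lit 0, nat_lit 18, nat_lit 35, nat_lit 27], (nat_lit 2950)⟩],
  .cy (nat_lit 0) [] [] [] (nat_lit 2983) [],
  .cy (nat_lit 24) [] [] [nat_lit 15, nat_lit 0, nat_lit 24, nat_lit 24, nat_lit 11, nat_lit 26] (nat_lit 2241) [⟨[nat_lit 215], [nat_lit 14, nat_lit 15, nat_lit 0, nat_lit 36, nat_lit 18, nat_lit 15], (nat_lit 1311)⟩, ⟨[nat_lit 217, nat_lit 215], [nat_lit 2, nat_lit 0, nat_lit 35, nat_lit 33], (nat_lit 2828)⟩],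
  .cy (nat_lit 0) [] [] [] (nat_lit 2985) [],
  .cy (nat_lit 1) [] [] [nat_lit 26, nat_lit 2, nat_lit 17] (nat_lit 2315) [⟨[nat_lit 215, nat_lit 217], [nat_lit 26, nat_lit 2, nat_lit 33, nat_lit 26], (nat_lit 793)⟩, ⟨[nat_lit 215, nat_lit 217], [nat_lit 26, nat_lit 2, nat_lit 0, nat_lit 24, nat_lit 37, nat_lit 26], (nat_lit 2792)⟩],
  .cy (nat_lit 0) [] [] [] (nat_lit 2987) [],
  .cy (nat_lit 22) [] [] [nat_lit 1, nat_lit 14, nat_lit 16, nat_lit 16] (nat_lit 631) [⟨[nat_lit 215], [nat_lit 26, nat_lit 2, nat_lit 18, nat_lit 11, nat_lit 27], (nat_lit 1739)⟩, ⟨[nat_lit 215, nat_lit 217], [nat_lit 24, nat_lit 1, nat_lit 26, nat_lit 24, nat_lit 11], (nat_lit 2920)⟩],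
  .cy (nat_lit 0) [] [] [] (nat_lit 2989) [],
  .cy (nat_lit 2) [] [] [nat_lit 5, nat_lit 0, nat_lit 37, nat_lit 24, nat_lit 15] (nat_lit 2085) [⟨[nat_lit 217, nat_lit 215], [nat_lit 25, nat_lit 16, nat_lit 0, nat_lit 17, nat_lit 34, nat_lit 27], (nat_lit 2161)⟩, ⟨[nat_lit 215, nat_lit 217], [nat_lit 26, nat_lit 24, nat_lit 0, nat_lit 16, nat_lit 16, nat_lit 11, nat_lit 27], (nat_lit 2980)⟩],
  .cy (nat_lit 0) [] [] [] (nat_lit 2991) [],
  .cy (nat_lit 5) [] [] [nat_lit 5, nat_lit 16, nat_lit 2, nat_lit 37, nat_lit 16, nat_lit 26] (nat_lit 726) [⟨[nat_lit 215, nat_lit 217], [nat_lit 15, nat_lit 5, nat_lit 36, nat_lit 33, nat_lit 24, nat_lit 26], (nat_lit 650)⟩, ⟨[nat_lit 217], [nat_lit 25, nat_lit 2, nat_lit 0, nat_lit 15, nat_lit 15, nat_lit 15, nat_lit 26], (nat_lit 2986)⟩],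
  .cy (nat_lit 0) [] [] [] (nat_lit 2993) [],
  .cy (nat_lit 7) [] [] [nat_lit 5, nat_lit 0, nat_lit 37, nat_lit 33, nat_lit 11] (nat_lit 1638) [⟨[nat_lit 215], [nat_lit 16, nat_lit 2, nat_lit 33, nat_lit 18, nat_lit 11], (nat_lit 1947)⟩, ⟨[], [nat_lit 33, nat_lit 24], (nat_lit 2898)⟩],
  .cy (nat_lit 0) [] [] [] (nat_lit 2995) [],
  .cy (nat_lit 1) [] [] [nat_lit 10, nat_lit 10, nat_lit 0, nat_lit 17, nat_lit 17, nat_lit 26] (nat_lit 809) [⟨[], [nat_lit 2, nat_lit 0, nat_lit 35, nat_lit 35, nat_lit 26], (nat_lit 617)⟩, ⟨[nat_lit 217], [nat_lit 5, nat_lit 16, nat_lit 2, nat_lit 37, nat_lit 37, nat_lit 11, nat_lit 27], (nat_lit 2668)⟩],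
  .cy (nat_lit 0) [] [] [] (nat_lit 2997) [],
  .cy (nat_lit 3) [] [] [nat_lit 18, nat_lit 15, nat_lit 0, nat_lit 37, nat_lit 33] (nat_lit 382) [⟨[nat_lit 205, nat_lit 209, nat_lit 203, nat_lit 205], [nat_lit 16, nat_lit 5, nat_lit 2, nat_lit 24, nat_lit 36, nat_lit 26], (nat_lit 1800)⟩, ⟨[nat_lit 215, nat_lit 217, nat_lit 215], [nat_lit 14, nat_lit 15, nat_lit 0, nat_lit 24, nat_lit 18, nat_lit 18], (nat_lit 2802)⟩],
  .cy (nat_lit 0) [] [] [] (nat_lit 2999) [],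
  .cy (nat_lit 2) [] [] [nat_lit 16, nat_lit 5, nat_lit 0, nat_lit 15, nat_lit 15, nat_lit 15] (nat_lit 2340) [⟨[nat_lit 217], [nat_lit 26, nat_lit 2, nat_lit 0, nat_lit 34, nat_lit 11, nat_lit 17, nat_lit 27], (nat_lit 612)⟩, ⟨[nat_lit 215], [nat_lit 18, nat_lit 15, nat_lit 0, nat_lit 15], (nat_lit 2828)⟩],
  .cy (nat_lit 0) [] [] [] (nat_lit 3001) [],
  .cy (nat_lit 27) [] [] [nat_lit 1, nat_lit 14, nat_lit 32, nat_lit 24, nat_lit 11, nat_lit 26] (nat_lit 1256) [⟨[nat_lit 215, nat_lit 217], [nat_lit 14, nat_lit 15, nat_lit 0, nat_lit 36, nat_lit 25, nat_lit 11, nat_lit 26], (nat_lit 2116)⟩, ⟨[nat_lit 217, nat_lit 215], [nat_lit 15, nat_lit 5, nat_lit 17, nat_lit 17, nat_lit 11, nat_lit 27], (nat_lit 2960)⟩],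
  .cy (nat_lit 0) [] [] [] (nat_lit 3003) [],
  .cy (nat_lit 23) [] [] [nat_lit 5, nat_lit 14, nat_lit 11, nat_lit 17, nat_lit 26] (nat_lit 1116) [⟨[nat_lit 217, nat_lit 215], [nat_lit 26, nat_lit 2, nat_lit 17, nat_lit 24], (nat_lit 539)⟩, ⟨[], [nat_lit 2, nat_lit 17, nat_lit 37, nat_lit 11, nat_lit 26], (nat_lit 2720)⟩],
  .cy (nat_lit 0) [] [] [] (nat_lit 3005) [],
  .cy (nat_lit 3) [] [] [nat_lit 5, nat_lit 2, nat_lit 37, nat_lit 34, nat_lit 11, nat_lit 27] (nat_lit 2103) [⟨[nat_lit 217], [nat_lit 1, nat_lit 5, nat_lit 37, nat_lit 11, nat_lit 15], (nat_lit 902)⟩, ⟨[nat_lit 215, nat_lit 217, nat_lit 215], [nat_lit 16, nat_lit 5, nat_lit 0, nat_lit 34, nat_lit 24, nat_lit 17], (nat_lit 2880)⟩],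
  .cy (nat_lit 0) [] [] [] (nat_lit 3007) [],
  .cy (nat_lit 4) [] [] [nat_lit 5, nat_lit 16, nat_lit 2, nat_lit 15, nat_lit 35, nat_lit 11, nat_lit 26] (nat_lit 2216) [⟨[nat_lit 215, nat_lit 217, nat_lit 215], [nat_lit 18, nat_lit 15, nat_lit 0, nat_lit 36, nat_lit 15, nat_lit 26], (nat_lit 2048)⟩, ⟨[nat_lit 217, nat_lit 215], [nat_lit 24, nat_lit 2, nat_lit 34, nat_lit 25, nat_lit 11, nat_lit 26], (nat_lit 2798)⟩],
  .cy (nat_lit 0) [] [] [] (nat_lit 3009) [],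
  .cy (nat_lit 26) [] [] [nat_lit 25, nat_lit 2, nat_lit 0, nat_lit 26, nat_lit 34, nat_lit 32, nat_lit 26] (nat_lit 2216) [⟨[nat_lit 215, nat_lit 217, nat_lit 215], [nat_lit 1, nat_lit 14, nat_lit 36, nat_lit 36, nat_lit 17], (nat_lit 2022)⟩, ⟨[], [nat_lit 33, nat_lit 15, nat_lit 11], (nat_lit 2666)⟩],
  .cy (nat_lit 0) [] [] [] (nat_lit 3011) [],
  .cy (nat_lit 7) [] [] [nat_lit 1, nat_lit 25, nat_lit 15, nat_lit 11] (nat_lit 2364) [⟨[nat_lit 215], [nat_lit 15, nat_lit 2, nat_lit 15, nat_lit 11, nat_lit 15, nat_lit 26], (nat_lit 2472)⟩, ⟨[nat_lit 215, nat_lit 217], [nat_lit 15, nat_lit 0, nat_lit 16, nat_lit 32, nat_lit 15], (nat_lit 2836)⟩],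
  .cy (nat_lit 0) [] [] [] (nat_lit 3013) [],
  .cy (nat_lit 7) [] [] [nat_lit 0, nat_lit 2, nat_lit 32, nat_lit 18] (nat_lit 1918) [⟨[nat_lit 215], [nat_lit 1, nat_lit 24, nat_lit 0, nat_lit 34, nat_lit 15, nat_lit 27], (nat_lit 1463)⟩, ⟨[nat_lit 217], [nat_lit 5, nat_lit 14, nat_lit 33, nat_lit 36, nat_lit 27], (nat_lit 2918)⟩],
  .cy (nat_lit 0) [] [] [] (nat_lit 3015) [],
  .cy (nat_lit 22) [] [] [nat_lit 25, nat_lit 16, nat_lit 0, nat_lit 16, nat_lit 17, nat_lit 15, nat_lit 26] (nat_lit 1918) [⟨[nat_lit 215], [nat_lit 24, nat_lit 15, nat_lit 0, nat_lit 16, nat_lit 16], (nat_lit 2025)⟩, ⟨[nat_lit 215], [nat_lit 15, nat_lit 5, nat_lit 32, nat_lit 11, nat_lit 26], (nat_lit 2700)⟩],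
  .cy (nat_lit 0) [] [] [] (nat_lit 3017) [],
  .cy (nat_lit 3) [] [] [nat_lit 5, nat_lit 2, nat_lit 0, nat_lit 15, nat_lit 15, nat_lit 11, nat_lit 26] (nat_lit 633) [⟨[], [nat_lit 5, nat_lit 34, nat_lit 11, nat_lit 17, nat_lit 27], (nat_lit 2142)⟩, ⟨[nat_lit 217], [nat_lit 24, nat_lit 2, nat_lit 24, nat_lit 36, nat_lit 11, nat_lit 27], (nat_lit 2782)⟩],
  .cy (nat_lit 0) [] [] [] (nat_lit 3019) [],
  .cy (nat_lit 5) [] [] [nat_lit 16, nat_lit 5, nat_lit 2, nat_lit 36, nat_lit 33, nat_lit 11, nat_lit 27] (nat_lit 1845) [⟨[], [nat_lit 5, nat_lit 2, nat_lit 0, nat_lit 11, nat_lit 37, nat_lit 27], (nat_lit 514)⟩, ⟨[nat_lit 523, nat_lit 206, nat_lit 523, nat_lit 209], [nat_lit 0, nat_lit 2, nat_lit 24, nat_lit 37, nat_lit 11, nat_lit 26], (nat_lit 2604)⟩],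
  .cy (nat_lit 0) [] [] [] (nat_lit 3021) [],
  .cy (nat_lit 2) [] [] [nat_lit 16, nat_lit 0, nat_lit 37, nat_lit 18, nat_lit 27] (nat_lit 1546) [⟨[], [nat_lit 25, nat_lit 14, nat_lit 0, nat_lit 33, nat_lit 37, nat_lit 11], (nat_lit 1513)⟩, ⟨[nat_lit 217], [nat_lit 26, nat_lit 2, nat_lit 15, nat_lit 32, nat_lit 15, nat_lit 27], (nat_lit 2742)⟩],
  .cy (nat_lit 0) [] [] [] (nat_lit 3023) [],
  .cy (nat_lit 20) [] [] [nat_lit 24, nat_lit 1, nat_lit 24, nat_lit 36] (nat_lit 850) [⟨[], [nat_lit 18, nat_lit 15, nat_lit 0, nat_lit 33, nat_lit 36, nat_lit 11], (nat_lit 1914)⟩, ⟨[nat_lit 215, nat_lit 217, nat_lit 215], [nat_lit 26, nat_lit 2, nat_lit 37, nat_lit 18, nat_lit 15, nat_lit 27], (nat_lit 2640)⟩],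
  .cy (nat_lit 0) [] [] [] (nat_lit 3025) [],
  .cy (nat_lit 27) [] [] [nat_lit 17, nat_lit 2, nat_lit 0, nat_lit 35, nat_lit 35, nat_lit 27] (nat_lit 850) [⟨[nat_lit 215], [nat_lit 25, nat_lit 16, nat_lit 0, nat_lit 15, nat_lit 32, nat_lit 11, nat_lit 26], (nat_lit 1892)⟩, ⟨[nat_lit 215], [nat_lit 24, nat_lit 1, nat_lit 35, nat_lit 15, nat_lit 26], (nat_lit 2852)⟩],
  .cy (nat_lit 0) [] [] [] (nat_lit 3027) [],
  .cy (nat_lit 10) [] [] [nat_lit 5, nat_lit 16, nat_lit 2, nat_lit 34, nat_lit 34, nat_lit 15, nat_lit 27] (nat_lit 1815) [⟨[nat_lit 217], [nat_lit 5, nat_lit 35, nat_lit 27, nat_lit 15, nat_lit 26], (nat_lit 960)⟩, ⟨[nat_lit 215, nat_lit 217], [nat_lit 27, nat_lit 18, nat_lit 11, nat_lit 27], (nat_lit 2826)⟩],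
  .cy (nat_lit 0) [] [] [] (nat_lit 3029) [],
  .cy (nat_lit 24) [] [] [nat_lit 11, nat_lit 2, nat_lit 0, nat_lit 32, nat_lit 34, nat_lit 11, nat_lit 27] (nat_lit 1132) [⟨[], [nat_lit 5, nat_lit 2, nat_lit 34, nat_lit 32, nat_lit 26], (nat_lit 2550)⟩, ⟨[nat_lit 215, nat_lit 217, nat_lit 215], [nat_lit 10, nat_lit 0, nat_lit 26, nat_lit 34, nat_lit 26], (nat_lit 2742)⟩],
  .cy (nat_lit 0) [] [] [] (nat_lit 3031) [],
  .cy (nat_lit 27) [] [] [nat_lit 24, nat_lit 16, nat_lit 0, nat_lit 37, nat_lit 17] (nat_lit 1633) [⟨[], [nat_lit 0, nat_lit 11, nat_lit 36, nat_lit 27], (nat_lit 2466)⟩, ⟨[nat_lit 215, nat_lit 217], [nat_lit 1, nat_lit 5, nat_lit 37, nat_lit 25], (nat_lit 2810)⟩],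
  .cy (nat_lit 0) [] [] [] (nat_lit 3033) [],
  .cy (nat_lit 3) [] [] [nat_lit 14, nat_lit 0, nat_lit 35, nat_lit 15, nat_lit 27] (nat_lit 1288) [⟨[nat_lit 215], [nat_lit 16, nat_lit 5, nat_lit 0, nat_lit 16, nat_lit 17, nat_lit 15, nat_lit 27], (nat_lit 1602)⟩, ⟨[nat_lit 217, nat_lit 215], [nat_lit 14, nat_lit 15, nat_lit 0, nat_lit 18, nat_lit 35, nat_lit 11], (nat_lit 2676)⟩],
  .cy (nat_lit 0) [] [] [] (nat_lit 3035) [],
  .cy (nat_lit 2) [] [] [nat_lit 25, nat_lit 0, nat_lit 15, nat_lit 15, nat_lit 15, nat_lit 26] (nat_lit 975) [⟨[nat_lit 215], [nat_lit 1, nat_lit 37, nat_lit 11, nat_lit 17, nat_lit 26], (nat_lit 2127)⟩, ⟨[nat_lit 215, nat_lit 217, nat_lit 215], [nat_lit 5, nat_lit 16, nat_lit 2, nat_lit 18, nat_lit 18], (nat_lit 2906)⟩],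
  .cy (nat_lit 0) [] [] [] (nat_lit 3037) [],
  .cy (nat_lit 8) [] [] [nat_lit 5, nat_lit 2, nat_lit 36, nat_lit 33, nat_lit 11, nat_lit 27] (nat_lit 395) [⟨[nat_lit 215, nat_lit 217, nat_lit 215], [nat_lit 16, nat_lit 18, nat_lit 26], (nat_lit 824)⟩, ⟨[], [nat_lit 26, nat_lit 2, nat_lit 34, nat_lit 17, nat_lit 11], (nat_lit 2722)⟩],
  .cy (nat_lit 0) [] [] [] (nat_lit 3039) [],
  .cy (nat_lit 26) [] [] [nat_lit 24, nat_lit 15, nat_lit 0, nat_lit 36, nat_lit 32, nat_lit 11] (nat_lit 1142) [⟨[nat_lit 215], [nat_lit 16, nat_lit 2, nat_lit 27, nat_lit 18, nat_lit 11, nat_lit 26], (nat_lit 1634)⟩, ⟨[], [nat_lit 5, nat_lit 16, nat_lit 16, nat_lit 11, nat_lit 27], (nat_lit 2840)⟩],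
  .cy (nat_lit 0) [] [] [] (nat_lit 3041) [],
  .cy (nat_lit 25) [] [] [nat_lit 24, nat_lit 1, nat_lit 25, nat_lit 37, nat_lit 17] (nat_lit 1333) [⟨[], [nat_lit 0, nat_lit 15, nat_lit 32, nat_lit 11, nat_lit 27], (nat_lit 674)⟩, ⟨[nat_lit 217], [nat_lit 1, nat_lit 1, nat_lit 18, nat_lit 35], (nat_lit 2890)⟩],
  .cy (nat_lit 0) [] [] [] (nat_lit 3043) [],
  .cy (nat_lit 11) [] [] [nat_lit 5, nat_lit 2, nat_lit 0, nat_lit 17, nat_lit 17, nat_lit 15, nat_lit 26] (nat_lit 1440) [⟨[nat_lit 217], [nat_lit 17, nat_lit 2, nat_lit 0, nat_lit 36], (nat_lit 688)⟩, ⟨[nat_lit 215], [nat_lit 14, nat_lit 0, nat_lit 33, nat_lit 36, nat_lit 11, nat_lit 26], (nat_lit 2906)⟩],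
  .cy (nat_lit 0) [] [] [] (nat_lit 3045) [],
  .cy (nat_lit 4) [] [] [nat_lit 5, nat_lit 34, nat_lit 17, nat_lit 33, nat_lit 26] (nat_lit 565) [⟨[nat_lit 215], [nat_lit 15, nat_lit 5, nat_lit 36, nat_lit 15, nat_lit 27], (nat_lit 560)⟩, ⟨[nat_lit 215], [nat_lit 1, nat_lit 5, nat_lit 17, nat_lit 24, nat_lit 27], (nat_lit 3044)⟩],
  .cy (nat_lit 0) [] [] [] (nat_lit 3047) [],
  .cy (nat_lit 10) [] [] [nat_lit 24, nat_lit 15, nat_lit 0, nat_lit 34, nat_lit 11, nat_lit 17, nat_lit 26] (nat_lit 252) [⟨[], [nat_lit 10, nat_lit 10, nat_lit 0, nat_lit 35, nat_lit 35, nat_lit 11, nat_lit 27], (nat_lit 1123)⟩, ⟨[nat_lit 217], [nat_lit 5, nat_lit 0, nat_lit 34, nat_lit 34, nat_lit 11, nat_lit 27], (nat_lit 2792)⟩],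
  .cy (nat_lit 0) [] [] [] (nat_lit 3049) [],
  .cy (nat_lit 10) [] [] [nat_lit 15, nat_lit 0, nat_lit 34, nat_lit 24, nat_lit 15] (nat_lit 252) [⟨[nat_lit 217, nat_lit 215], [nat_lit 1, nat_lit 5, nat_lit 34, nat_lit 37, nat_lit 26], (nat_lit 1171)⟩, ⟨[nat_lit 217, nat_lit 215], [nat_lit 24, nat_lit 16, nat_lit 0, nat_lit 34, nat_lit 15, nat_lit 11, nat_lit 27], (nat_lit 2666)⟩],
  .cy (nat_lit 0) [] [] [] (nat_lit 3051) [],
  .cy (nat_lit 8) [] [] [nat_lit 14, nat_lit 15, nat_lit 0, nat_lit 27, nat_lit 24, nat_lit 11] (nat_lit 330) [⟨[nat_lit 215, nat_lit 217, nat_lit 215], [nat_lit 14, nat_lit 0, nat_lit 35, nat_lit 26], (nat_lit 869)⟩, ⟨[nat_lit 217, nat_lit 215], [nat_lit 16, nat_lit 5, nat_lit 2, nat_lit 34, nat_lit 16], (nat_lit 2888)⟩],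
  .cy (nat_lit 0) [] [] [] (nat_lit 3053) [],
  .cy (nat_lit 10) [] [] [nat_lit 1, nat_lit 32, nat_lit 34, nat_lit 16, nat_lit 26] (nat_lit 281) [⟨[nat_lit 215, nat_lit 217], [nat_lit 17, nat_lit 2, nat_lit 0, nat_lit 33, nat_lit 18, nat_lit 11], (nat_lit 1389)⟩, ⟨[nat_lit 215, nat_lit 217], [nat_lit 25, nat_lit 0, nat_lit 17, nat_lit 16], (nat_lit 2862)⟩],
  .cy (nat_lit 0) [] [] [] (nat_lit 3055) [],
  .cy (nat_lit 1) [] [] [nat_lit 11, nat_lit 5, nat_lit 2, nat_lit 24, nat_lit 24, nat_lit 11, nat_lit 26] (nat_lit 531) [⟨[nat_lit 215], [nat_lit 26, nat_lit 24, nat_lit 0, nat_lit 18, nat_lit 36, nat_lit 27], (nat_lit 326)⟩, ⟨[nat_lit 215], [nat_lit 24, nat_lit 15, nat_lit 0, nat_lit 27, nat_lit 17, nat_lit 27], (nat_lit 2946)⟩],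
  .cy (nat_lit 0) [] [] [] (nat_lit 3057) [],
  .cy (nat_lit 24) [] [] [nat_lit 1, nat_lit 5, nat_lit 16, nat_lit 16, nat_lit 11] (nat_lit 1919) [⟨[nat_lit 217], [nat_lit 24, nat_lit 0, nat_lit 33, nat_lit 15, nat_lit 27], (nat_lit 1149)⟩, ⟨[nat_lit 217], [nat_lit 1, nat_lit 1, nat_lit 11, nat_lit 37, nat_lit 26], (nat_lit 2938)⟩],
  .cy (nat_lit 0) [] [] [] (nat_lit 3059) [],
  .cy (nat_lit 27) [] [] [nat_lit 16, nat_lit 5, nat_lit 2, nat_lit 34, nat_lit 15, nat_lit 11] (nat_lit 1613) [⟨[], [nat_lit 24, nat_lit 16, nat_lit 0, nat_lit 17, nat_lit 15, nat_lit 11, nat_lit 27], (nat_lit 1147)⟩, ⟨[nat_lit 217, nat_lit 215], [nat_lit 11, nat_lit 2, nat_lit 0, nat_lit 32, nat_lit 24, nat_lit 11, nat_lit 27], (nat_lit 2750)⟩],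
  .cy (nat_lit 0) [] [] [] (nat_lit 3061) [],
  .cy (nat_lit 23) [] [] [nat_lit 25, nat_lit 16, nat_lit 0, nat_lit 11, nat_lit 27] (nat_lit 2151) [⟨[nat_lit 217], [nat_lit 15, nat_lit 5, nat_lit 37, nat_lit 11, nat_lit 26], (nat_lit 720)⟩, ⟨[nat_lit 217, nat_lit 215], [nat_lit 14, nat_lit 16, nat_lit 18, nat_lit 15, nat_lit 26], (nat_lit 2828)⟩],
  .cy (nat_lit 0) [] [] [] (nat_lit 3063) [],
  .cy (nat_lit 3) [] [] [nat_lit 5, nat_lit 2, nat_lit 36, nat_lit 33, nat_lit 24, nat_lit 26] (nat_lit 1750) [⟨[nat_lit 215, nat_lit 217, nat_lit 215], [nat_lit 16, nat_lit 5, nat_lit 0, nat_lit 17, nat_lit 33, nat_lit 26], (nat_lit 1729)⟩, ⟨[nat_lit 217], [nat_lit 11, nat_lit 5, nat_lit 2, nat_lit 34, nat_lit 24, nat_lit 15, nat_lit 26], (nat_lit 2900)⟩],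
  .cy (nat_lit 0) [] [] [] (nat_lit 3065) [],
  .cy (nat_lit 6) [] [] [nat_lit 5, nat_lit 2, nat_lit 0, nat_lit 32, nat_lit 18, nat_lit 11, nat_lit 26] (nat_lit 2277) [⟨[], [nat_lit 11, nat_lit 2, nat_lit 0, nat_lit 26, nat_lit 34, nat_lit 32, nat_lit 26], (nat_lit 2213)⟩, ⟨[nat_lit 217, nat_lit 215], [nat_lit 5, nat_lit 0, nat_lit 16, nat_lit 25], (nat_lit 2608)⟩],
  .cy (nat_lit 0) [] [] [] (nat_lit 3067) [],
  .cy (nat_lit 26) [] [] [nat_lit 2, nat_lit 34, nat_lit 11, nat_lit 26] (nat_lit 2282) [⟨[nat_lit 215], [nat_lit 25, nat_lit 16, nat_lit 0, nat_lit 33, nat_lit 35, nat_lit 11, nat_lit 27], (nat_lit 637)⟩, ⟨[nat_lit 215, nat_lit 217, nat_lit 215], [nat_lit 24, nat_lit 2, nat_lit 0, nat_lit 17, nat_lit 16], (nat_lit 2796)⟩],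
  .cy (nat_lit 0) [] [] [] (nat_lit 3069) [],
  .cy (nat_lit 1) [] [] [nat_lit 16, nat_lit 0, nat_lit 37, nat_lit 18] (nat_lit 1614) [⟨[nat_lit 215], [nat_lit 16, nat_lit 0, nat_lit 27, nat_lit 36, nat_lit 11, nat_lit 26], (nat_lit 1420)⟩, ⟨[nat_lit 217, nat_lit 215], [nat_lit 25, nat_lit 0, nat_lit 34, nat_lit 16, nat_lit 26], (nat_lit 2904)⟩],
  .cy (nat_lit 0) [] [] [] (nat_lit 3071) [],
  .cy (nat_lit 3) [] [] [nat_lit 24, nat_lit 0, nat_lit 15, nat_lit 24, nat_lit 11] (nat_lit 2136) [⟨[], [nat_lit 16, nat_lit 0, nat_lit 25, nat_lit 11, nat_lit 27], (nat_lit 229)⟩, ⟨[nat_lit 176, nat_lit 162, nat_lit 161], [nat_lit 16, nat_lit 0, nat_lit 37, nat_lit 11, nat_lit 15], (nat_lit 2594)⟩],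
  .cy (nat_lit 0) [] [] [] (nat_lit 3073) [],
  .cy (nat_lit 5) [] [] [nat_lit 25, nat_lit 2, nat_lit 0, nat_lit 33, nat_lit 24, nat_lit 27] (nat_lit 2134) [⟨[nat_lit 215, nat_lit 217], [nat_lit 1, nat_lit 1, nat_lit 15, nat_lit 32, nat_lit 15, nat_lit 26], (nat_lit 1016)⟩, ⟨[nat_lit 215, nat_lit 217], [nat_lit 24, nat_lit 16, nat_lit 0, nat_lit 33, nat_lit 24, nat_lit 11, nat_lit 26], (nat_lit 2948)⟩],
  .cy (nat_lit 0) [] [] [] (nat_lit 3075) [],
  .cy (nat_lit 21) [] [] [nat_lit 24, nat_lit 16, nat_lit 0, nat_lit 27, nat_lit 36, nat_lit 27] (nat_lit 1123) [⟨[nat_lit 217, nat_lit 215], [nat_lit 15, nat_lit 2, nat_lit 37, nat_lit 24, nat_lit 15, nat_lit 26], (nat_lit 1607)⟩, ⟨[], [nat_lit 24, nat_lit 16, nat_lit 0, nat_lit 34, nat_lit 37], (nat_lit 2870)⟩],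
  .cy (nat_lit 0) [] [] [] (nat_lit 3077) [],
  .cy (nat_lit 23) [] [] [nat_lit 26, nat_lit 2, nat_lit 0, nat_lit 26, nat_lit 24] (nat_lit 2338) [⟨[nat_lit 215], [nat_lit 15, nat_lit 2, nat_lit 32, nat_lit 24, nat_lit 26], (nat_lit 1406)⟩, ⟨[nat_lit 215, nat_lit 217, nat_lit 215], [nat_lit 5, nat_lit 15, nat_lit 24, nat_lit 26], (nat_lit 2746)⟩],
  .cy (nat_lit 0) [] [] [] (nat_lit 3079) [],
  .cy (nat_lit 24) [] [] [nat_lit 25, nat_lit 1, nat_lit 34, nat_lit 24, nat_lit 27] (nat_lit 2141) [⟨[nat_lit 217, nat_lit 215], [nat_lit 25, nat_lit 14, nat_lit 0, nat_lit 33, nat_lit 37], (nat_lit 1770)⟩, ⟨[nat_lit 217, nat_lit 215], [nat_lit 24, nat_lit 0, nat_lit 32, nat_lit 24, nat_lit 26], (nat_lit 3012)⟩],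
  .cy (nat_lit 0) [] [] [] (nat_lit 3081) [],
  .cy (nat_lit 21) [] [] [nat_lit 1, nat_lit 24, nat_lit 0, nat_lit 36, nat_lit 33, nat_lit 11] (nat_lit 2180) [⟨[nat_lit 215], [nat_lit 26, nat_lit 24, nat_lit 0, nat_lit 25, nat_lit 36, nat_lit 11, nat_lit 27], (nat_lit 1349)⟩, ⟨[nat_lit 217, nat_lit 215], [nat_lit 18, nat_lit 15, nat_lit 0, nat_lit 37, nat_lit 17, nat_lit 26], (nat_lit 2662)⟩],
  .cy (nat_lit 0) [] [] [] (nat_lit 3083) [],
  .cy (nat_lit 20) [] [] [nat_lit 16, nat_lit 2, nat_lit 32, nat_lit 34, nat_lit 11] (nat_lit 2577) [⟨[nat_lit 109, nat_lit 90, nat_lit 109, nat_lit 102, nat_lit 90], [nat_lit 16, nat_lit 2, nat_lit 24, nat_lit 18, nat_lit 18, nat_lit 27], (nat_lit 213)⟩, ⟨[nat_lit 215], [nat_lit 5, nat_lit 14, nat_lit 35, nat_lit 16, nat_lit 16, nat_lit 27], (nat_lit 2624)⟩],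
  .cy (nat_lit 0) [] [] [] (nat_lit 3085) [],
  .cy (nat_lit 20) [] [] [nat_lit 5, nat_lit 2, nat_lit 0, nat_lit 25, nat_lit 16, nat_lit 27] (nat_lit 2577) [⟨[nat_lit 106, nat_lit 96, nat_lit 102, nat_lit 92, nat_lit 90], [nat_lit 15, nat_lit 5, nat_lit 24, nat_lit 37, nat_lit 17, nat_lit 27], (nat_lit 213)⟩, ⟨[nat_lit 215], [nat_lit 26], (nat_lit 2620)⟩],
  .cy (nat_lit 0) [] [] [] (nat_lit 3087) [],
  .cy (nat_lit 20) [] [] [nat_lit 10, nat_lit 0, nat_lit 36, nat_lit 33, nat_lit 24] (nat_lit 2577) [⟨[nat_lit 109, nat_lit 96, nat_lit 100, nat_lit 100, nat_lit 90], [nat_lit 2, nat_lit 0, nat_lit 18, nat_lit 16, nat_lit 11, nat_lit 26], (nat_lit 213)⟩, ⟨[], [nat_lit 5, nat_lit 2, nat_lit 25, nat_lit 18, nat_lit 26], (nat_lit 368)⟩],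
  .cy (nat_lit 0) [] [] [] (nat_lit 3089) [],
  .cy (nat_lit 21) [] [] [nat_lit 24, nat_lit 15, nat_lit 0, nat_lit 33, nat_lit 25, nat_lit 27] (nat_lit 2577) [⟨[nat_lit 96, nat_lit 109, nat_lit 96], [nat_lit 10, nat_lit 10, nat_lit 0, nat_lit 26, nat_lit 24, nat_lit 11, nat_lit 27], (nat_lit 159)⟩, ⟨[nat_lit 178, nat_lit 178, nat_lit 175], [nat_lit 10, nat_lit 10, nat_lit 0, nat_lit 34, nat_lit 16, nat_lit 26], (nat_lit 2594)⟩],
  .cy (nat_lit 26) [] [] [nat_lit 26, nat_lit 24, nat_lit 0, nat_lit 36, nat_lit 11, nat_lit 27] (nat_lit 2577) [⟨[nat_lit 109, nat_lit 101, nat_lit 106, nat_lit 102, nat_lit 92], [nat_lit 25, nat_lit 1, nat_lit 35, nat_lit 27, nat_lit 15, nat_lit 26], (nat_lit 213)⟩, ⟨[nat_lit 215], [nat_lit 10, nat_lit 10, nat_lit 0, nat_lit 25, nat_lit 36, nat_lit 15], (nat_lit 2608)⟩],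
  .cy (nat_lit 0) [] [] [] (nat_lit 3092) [],
  .cy (nat_lit 7) [] [] [nat_lit 5, nat_lit 16, nat_lit 2, nat_lit 33, nat_lit 33, nat_lit 26] (nat_lit 2589) [⟨[nat_lit 2579, nat_lit 2578, nat_lit 2591, nat_lit 2579], [nat_lit 18, nat_lit 15, nat_lit 0, nat_lit 24, nat_lit 36, nat_lit 26], (nat_lit 2981)⟩, ⟨[nat_lit 217, nat_lit 215], [nat_lit 16, nat_lit 0, nat_lit 34, nat_lit 37], (nat_lit 2852)⟩],
  .cy (nat_lit 13) [] [] [] (nat_lit 1413) [⟨[nat_lit 217], [nat_lit 10, nat_lit 10, nat_lit 0, nat_lit 36, nat_lit 16, nat_lit 27], (nat_lit 2956)⟩],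
  .cy (nat_lit 0) [] [] [] (nat_lit 3095) [],
  .cy (nat_lit 13) [] [] [nat_lit 39] (nat_lit 1963) [⟨[nat_lit 217, nat_lit 215], [nat_lit 26, nat_lit 2, nat_lit 24, nat_lit 18, nat_lit 18, nat_lit 27], (nat_lit 2980)⟩],
  .cy (nat_lit 0) [] [] [] (nat_lit 3097) [],
  .cy (nat_lit 13) [] [] [nat_lit 38] (nat_lit 701) [⟨[], [nat_lit 1, nat_lit 1, nat_lit 34, nat_lit 32], (nat_lit 2902)⟩],
  .cy (nat_lit 0) [] [] [] (nat_lit 3099) [],
  .cy (nat_lit 13) [] [] [] (nat_lit 2751) [⟨[nat_lit 215, nat_lit 217], [nat_lit 10, nat_lit 10, nat_lit 0, nat_lit 32, nat_lit 34, nat_lit 26], (nat_lit 2946)⟩],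
  .cy (nat_lit 13) [] [] [] (nat_lit 3033) [⟨[nat_lit 215], [nat_lit 24, nat_lit 2, nat_lit 26, nat_lit 24, nat_lit 26], (nat_lit 2842)⟩],
  .cy (nat_lit 13) [] [] [nat_lit 39] (nat_lit 2985) [⟨[nat_lit 215, nat_lit 217, nat_lit 215], [nat_lit 26, nat_lit 2, nat_lit 0, nat_lit 15, nat_lit 18, nat_lit 16], (nat_lit 2808)⟩],
  .cy (nat_lit 0) [] [] [] (nat_lit 3103) [],
  .cy (nat_lit 13) [] [] [nat_lit 38] (nat_lit 2851) [⟨[nat_lit 215, nat_lit 217, nat_lit 215], [nat_lit 2, nat_lit 0, nat_lit 36, nat_lit 16, nat_lit 11, nat_lit 27], (nat_lit 2714)⟩],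
  .cy (nat_lit 0) [] [] [] (nat_lit 3105) [],
  .df,
  .cy (nat_lit 0) [] [] [] (nat_lit 3107) [],
  .tr (nat_lit 3107) [] [] [⟨[nat_lit 164, nat_lit 175, nat_lit 175, nat_lit 179, nat_lit 176, nat_lit 161], [nat_lit 2, nat_lit 17, nat_lit 17, nat_lit 26], (nat_lit 3107)⟩],
  .ss (nat_lit 7) [(nat_lit 3109)] [],
  .cy (nat_lit 14) [] [] [nat_lit 38] (nat_lit 241) [⟨[nat_lit 161], [nat_lit 10, nat_lit 0, nat_lit 34, nat_lit 16, nat_lit 27], (nat_lit 3107)⟩],
  .cy (nat_lit 0) [] [] [] (nat_lit 3111) [],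
  .cy (nat_lit 13) [] [] [nat_lit 39] (nat_lit 235) [⟨[nat_lit 164, nat_lit 162], [nat_lit 5, nat_lit 16, nat_lit 2, nat_lit 25, nat_lit 37, nat_lit 17, nat_lit 27], (nat_lit 3107)⟩],
  .cy (nat_lit 0) [] [] [] (nat_lit 3113) [],
  .cy (nat_lit 8) [] [] [nat_lit 26, nat_lit 2, nat_lit 25, nat_lit 15, nat_lit 11, nat_lit 26] (nat_lit 185) [⟨[], [nat_lit 14, nat_lit 36, nat_lit 16, nat_lit 11], (nat_lit 193)⟩, ⟨[nat_lit 164, nat_lit 161], [nat_lit 1, nat_lit 5, nat_lit 17, nat_lit 11, nat_lit 17], (nat_lit 3107)⟩],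
  .cy (nat_lit 0) [] [] [] (nat_lit 3115) [⟨[nat_lit 162], [nat_lit 24, nat_lit 16, nat_lit 0, nat_lit 27, nat_lit 24, nat_lit 15, nat_lit 26], (nat_lit 3107)⟩],
  .ss (nat_lit 7) [(nat_lit 3116)] [],
  .cy (nat_lit 7) [] [] [nat_lit 10, nat_lit 10, nat_lit 0, nat_lit 26, nat_lit 24] (nat_lit 505) [⟨[nat_lit 215], [nat_lit 5, nat_lit 2, nat_lit 37, nat_lit 11, nat_lit 17], (nat_lit 235)⟩, ⟨[nat_lit 162, nat_lit 161], [nat_lit 25, nat_lit 0, nat_lit 37, nat_lit 32, nat_lit 26], (nat_lit 3107)⟩],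
  .cy (nat_lit 0) [] [] [] (nat_lit 3118) [⟨[nat_lit 165, nat_lit 162], [nat_lit 24, nat_lit 1, nat_lit 27, nat_lit 24, nat_lit 26], (nat_lit 3107)⟩],
  .ss (nat_lit 7) [(nat_lit 3119)] [],
  .cy (nat_lit 8) [] [] [nat_lit 1, nat_lit 24, nat_lit 0, nat_lit 35, nat_lit 36, nat_lit 11, nat_lit 26] (nat_lit 221) [⟨[nat_lit 217, nat_lit 215], [nat_lit 5, nat_lit 2, nat_lit 11, nat_lit 37, nat_lit 26], (nat_lit 260)⟩, ⟨[nat_lit 215], [nat_lit 26, nat_lit 2, nat_lit 0, nat_lit 18, nat_lit 15], (nat_lit 3114)⟩],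
  .cy (nat_lit 0) [] [] [] (nat_lit 3121) [],
  .cy (nat_lit 9) [] [] [nat_lit 24, nat_lit 15, nat_lit 0, nat_lit 35, nat_lit 27] (nat_lit 260) [⟨[nat_lit 215], [nat_lit 15, nat_lit 5, nat_lit 33, nat_lit 33, nat_lit 27], (nat_lit 2477)⟩, ⟨[nat_lit 217], [nat_lit 1, nat_lit 1, nat_lit 25, nat_lit 15, nat_lit 11], (nat_lit 3122)⟩],
  .cy (nat_lit 0) [] [] [] (nat_lit 3123) [],
  .cy (nat_lit 11) [] [] [nat_lit 15, nat_lit 5, nat_lit 17, nat_lit 11] (nat_lit 2250) [⟨[nat_lit 217, nat_lit 215], [nat_lit 1, nat_lit 24, nat_lit 0, nat_lit 25, nat_lit 37, nat_lit 11, nat_lit 26], (nat_lit 315)⟩, ⟨[], [nat_lit 15, nat_lit 2, nat_lit 33, nat_lit 11], (nat_lit 3124)⟩],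
  .cy (nat_lit 0) [] [] [] (nat_lit 3125) [],
  .cy (nat_lit 1) [] [] [nat_lit 25, nat_lit 0, nat_lit 37, nat_lit 37, nat_lit 26] (nat_lit 2115) [⟨[nat_lit 217], [nat_lit 5, nat_lit 36, nat_lit 33, nat_lit 27], (nat_lit 454)⟩, ⟨[], [nat_lit 24, nat_lit 2, nat_lit 0, nat_lit 36, nat_lit 33], (nat_lit 3114)⟩],
  .cy (nat_lit 0) [] [] [] (nat_lit 3127) [],
  .cy (nat_lit 21) [] [] [nat_lit 25, nat_lit 1, nat_lit 33, nat_lit 24, nat_lit 11, nat_lit 26] (nat_lit 3108) [⟨[], [nat_lit 1, nat_lit 14, nat_lit 18, nat_lit 11, nat_lit 15, nat_lit 26], (nat_lit 191)⟩, ⟨[nat_lit 165, nat_lit 162], [nat_lit 24, nat_lit 2, nat_lit 0, nat_lit 24, nat_lit 11], (nat_lit 3107)⟩],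
  .df,
  .cy (nat_lit 0) [] [] [] (nat_lit 3130) [],
  .tr (nat_lit 3130) [] [] [⟨[nat_lit 167, nat_lit 165, nat_lit 161, nat_lit 164], [nat_lit 0], (nat_lit 3130)⟩],
  .tr (nat_lit 3130) [] [] [⟨[nat_lit 162, nat_lit 163, nat_lit 179, nat_lit 166, nat_lit 175, nat_lit 167], [nat_lit 16, nat_lit 2, nat_lit 37, nat_lit 37, nat_lit 16, nat_lit 27], (nat_lit 3130)⟩],
  .ss (nat_lit 8) [(nat_lit 3133)] [],
  .cy (nat_lit 14) [] [] [nat_lit 38] (nat_lit 239) [⟨[nat_lit 162, nat_lit 161], [nat_lit 16, nat_lit 5, nat_lit 0, nat_lit 33, nat_lit 24], (nat_lit 3130)⟩],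
  .cy (nat_lit 0) [] [] [] (nat_lit 3135) [],
  .cy (nat_lit 14) [] [] [nat_lit 38] (nat_lit 271) [⟨[], [nat_lit 5, nat_lit 16, nat_lit 2, nat_lit 32, nat_lit 32, nat_lit 11, nat_lit 27], (nat_lit 3136)⟩],
  .cy (nat_lit 0) [] [] [] (nat_lit 3137) [],
  .cy (nat_lit 11) [] [] [nat_lit 26, nat_lit 24, nat_lit 0, nat_lit 37, nat_lit 24, nat_lit 15] (nat_lit 190) [⟨[], [nat_lit 15, nat_lit 1, nat_lit 34, nat_lit 34, nat_lit 11, nat_lit 27], (nat_lit 194)⟩, ⟨[], [nat_lit 1, nat_lit 1, nat_lit 33, nat_lit 25], (nat_lit 3130)⟩],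
  .cy (nat_lit 0) [] [] [] (nat_lit 3139) [⟨[nat_lit 167, nat_lit 162], [nat_lit 5, nat_lit 2, nat_lit 0, nat_lit 32, nat_lit 18], (nat_lit 3130)⟩],
  .ss (nat_lit 8) [(nat_lit 3140)] [],
  .cy (nat_lit 12) [] [] [nat_lit 15, nat_lit 5, nat_lit 32, nat_lit 18] (nat_lit 253) [⟨[nat_lit 215], [nat_lit 14, nat_lit 17, nat_lit 15, nat_lit 27], (nat_lit 326)⟩, ⟨[nat_lit 217], [nat_lit 24, nat_lit 1, nat_lit 32, nat_lit 37, nat_lit 15, nat_lit 27], (nat_lit 3138)⟩],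
  .cy (nat_lit 0) [] [] [] (nat_lit 3142) [],
  .cy (nat_lit 5) [] [] [nat_lit 1, nat_lit 24, nat_lit 0, nat_lit 36, nat_lit 33, nat_lit 11, nat_lit 27] (nat_lit 2728) [⟨[nat_lit 2579, nat_lit 2578], [nat_lit 25, nat_lit 16, nat_lit 0, nat_lit 33, nat_lit 15, nat_lit 11, nat_lit 27], (nat_lit 2939)⟩, ⟨[], [nat_lit 0, nat_lit 2, nat_lit 32, nat_lit 18], (nat_lit 3143)⟩],
  .cy (nat_lit 0) [] [] [] (nat_lit 3144) [],
  .cy (nat_lit 6) [] [] [nat_lit 25, nat_lit 0, nat_lit 17, nat_lit 11, nat_lit 17] (nat_lit 2556) [⟨[], [nat_lit 14, nat_lit 0, nat_lit 33, nat_lit 18, nat_lit 27], (nat_lit 615)⟩, ⟨[nat_lit 217], [nat_lit 5, nat_lit 2, nat_lit 0, nat_lit 34, nat_lit 34, nat_lit 27], (nat_lit 3143)⟩],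
  .cy (nat_lit 0) [] [] [] (nat_lit 3146) [],
  .cy (nat_lit 2) [] [] [nat_lit 1, nat_lit 14, nat_lit 34, nat_lit 34, nat_lit 15, nat_lit 27] (nat_lit 2614) [⟨[nat_lit 2591, nat_lit 2579, nat_lit 2578, nat_lit 2591], [nat_lit 0, nat_lit 36, nat_lit 33], (nat_lit 2727)⟩, ⟨[nat_lit 217, nat_lit 215], [nat_lit 1, nat_lit 5, nat_lit 34, nat_lit 11], (nat_lit 3145)⟩],
  .cy (nat_lit 0) [] [] [] (nat_lit 3148) [],
  .cy (nat_lit 11) [] [] [nat_lit 0, nat_lit 2, nat_lit 24, nat_lit 37, nat_lit 15] (nat_lit 2027) [⟨[], [nat_lit 1, nat_lit 5, nat_lit 18, nat_lit 35, nat_lit 11, nat_lit 27], (nat_lit 694)⟩, ⟨[], [nat_lit 5, nat_lit 2, nat_lit 18, nat_lit 25], (nat_lit 3149)⟩],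
  .cy (nat_lit 0) [] [] [] (nat_lit 3150) [],
  .cy (nat_lit 25) [] [] [nat_lit 5, nat_lit 14, nat_lit 25, nat_lit 16, nat_lit 27] (nat_lit 400) [⟨[], [nat_lit 1, nat_lit 15, nat_lit 27, nat_lit 16, nat_lit 27], (nat_lit 2221)⟩, ⟨[], [nat_lit 1, nat_lit 1, nat_lit 37, nat_lit 32, nat_lit 27], (nat_lit 3151)⟩],
  .cy (nat_lit 0) [] [] [] (nat_lit 3152) [],
  .cy (nat_lit 25) [] [] [nat_lit 26, nat_lit 24, nat_lit 0, nat_lit 24, nat_lit 33, nat_lit 15] (nat_lit 585) [⟨[], [nat_lit 25, nat_lit 2, nat_lit 0, nat_lit 33, nat_lit 18, nat_lit 11], (nat_lit 956)⟩, ⟨[nat_lit 217], [nat_lit 24, nat_lit 1, nat_lit 18, nat_lit 35, nat_lit 15, nat_lit 26], (nat_lit 3149)⟩],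
  .cy (nat_lit 0) [] [] [] (nat_lit 3154) [],
  .cy (nat_lit 2) [] [] [nat_lit 1, nat_lit 24, nat_lit 0, nat_lit 16, nat_lit 37, nat_lit 27] (nat_lit 370) [⟨[nat_lit 203, nat_lit 205, nat_lit 523], [nat_lit 1, nat_lit 24, nat_lit 0, nat_lit 25, nat_lit 37, nat_lit 17, nat_lit 27], (nat_lit 904)⟩, ⟨[nat_lit 215], [nat_lit 25, nat_lit 14, nat_lit 0, nat_lit 27, nat_lit 15, nat_lit 27], (nat_lit 3145)⟩],
  .cy (nat_lit 0) [] [] [] (nat_lit 3156) [],
  .cy (nat_lit 6) [] [] [nat_lit 0, nat_lit 24, nat_lit 16, nat_lit 26] (nat_lit 2033) [⟨[], [nat_lit 15, nat_lit 2, nat_lit 15, nat_lit 26], (nat_lit 2228)⟩, ⟨[], [nat_lit 2, nat_lit 0, nat_lit 26, nat_lit 34, nat_lit 11, nat_lit 27], (nat_lit 3147)⟩],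
  .cy (nat_lit 0) [] [] [] (nat_lit 3158) [],
  .cy (nat_lit 11) [] [] [nat_lit 0, nat_lit 2, nat_lit 15, nat_lit 32, nat_lit 15] (nat_lit 2011) [⟨[nat_lit 217], [nat_lit 24, nat_lit 2, nat_lit 0, nat_lit 32, nat_lit 37, nat_lit 15, nat_lit 26], (nat_lit 1065)⟩, ⟨[nat_lit 217], [nat_lit 14, nat_lit 35, nat_lit 36, nat_lit 11, nat_lit 26], (nat_lit 3159)⟩],
  .cy (nat_lit 0) [] [] [] (nat_lit 3160) [],
  .cy (nat_lit 11) [] [] [nat_lit 16, nat_lit 0, nat_lit 36, nat_lit 32, nat_lit 11, nat_lit 27] (nat_lit 1635) [⟨[nat_lit 215, nat_lit 217], [nat_lit 17, nat_lit 2, nat_lit 0, nat_lit 24, nat_lit 18, nat_lit 16, nat_lit 26], (nat_lit 714)⟩, ⟨[nat_lit 215], [nat_lit 25, nat_lit 14, nat_lit 0, nat_lit 37, nat_lit 17, nat_lit 11, nat_lit 26], (nat_lit 3143)⟩],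
  .cy (nat_lit 0) [] [] [] (nat_lit 3162) [],
  .cy (nat_lit 11) [] [] [nat_lit 5, nat_lit 2, nat_lit 0, nat_lit 36, nat_lit 33, nat_lit 11, nat_lit 26] (nat_lit 579) [⟨[nat_lit 215, nat_lit 217], [nat_lit 16, nat_lit 2, nat_lit 17, nat_lit 16], (nat_lit 1387)⟩, ⟨[nat_lit 215, nat_lit 217, nat_lit 215], [nat_lit 24, nat_lit 0, nat_lit 35, nat_lit 27, nat_lit 15, nat_lit 26], (nat_lit 3163)⟩],
  .cy (nat_lit 0) [] [] [] (nat_lit 3164) [],
  .cy (nat_lit 20) [] [] [nat_lit 25, nat_lit 2, nat_lit 0, nat_lit 25, nat_lit 27] (nat_lit 2100) [⟨[nat_lit 215, nat_lit 217, nat_lit 215], [nat_lit 24, nat_lit 2, nat_lit 16, nat_lit 26], (nat_lit 300)⟩, ⟨[nat_lit 217], [nat_lit 16, nat_lit 2, nat_lit 25, nat_lit 35], (nat_lit 3153)⟩],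
  .cy (nat_lit 0) [] [] [] (nat_lit 3166) [],
  .cy (nat_lit 3) [] [] [nat_lit 16, nat_lit 5, nat_lit 2, nat_lit 27, nat_lit 15, nat_lit 11, nat_lit 27] (nat_lit 2047) [⟨[nat_lit 215], [nat_lit 2, nat_lit 0, nat_lit 35, nat_lit 33, nat_lit 27], (nat_lit 1710)⟩, ⟨[nat_lit 215], [nat_lit 24, nat_lit 0, nat_lit 25, nat_lit 18, nat_lit 16], (nat_lit 3149)⟩],
  .cy (nat_lit 0) [] [] [] (nat_lit 3168) [],
  .cy (nat_lit 1) [] [] [nat_lit 24, nat_lit 0, nat_lit 16, nat_lit 32, nat_lit 15, nat_lit 27] (nat_lit 751) [⟨[], [nat_lit 24, nat_lit 15, nat_lit 0, nat_lit 36, nat_lit 32, nat_lit 11], (nat_lit 2062)⟩, ⟨[], [nat_lit 11, nat_lit 2, nat_lit 0, nat_lit 16, nat_lit 18, nat_lit 27], (nat_lit 3153)⟩],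
  .cy (nat_lit 0) [] [] [] (nat_lit 3170) [],
  .cy (nat_lit 15) [] [] [nat_lit 16, nat_lit 2, nat_lit 33, nat_lit 34, nat_lit 26] (nat_lit 2324) [⟨[], [nat_lit 24, nat_lit 2, nat_lit 16, nat_lit 18, nat_lit 27], (nat_lit 2387)⟩, ⟨[], [nat_lit 26, nat_lit 2, nat_lit 0, nat_lit 25], (nat_lit 869)⟩, ⟨[nat_lit 215], [nat_lit 14, nat_lit 26, nat_lit 34, nat_lit 26], (nat_lit 2418)⟩, ⟨[], [nat_lit 16, nat_lit 5, nat_lit 0, nat_lit 35, nat_lit 35, nat_lit 26], (nat_lit 2503)⟩, ⟨[], [nat_lit 14, nat_lit 26, nat_lit 24, nat_lit 11, nat_lit 27], (nat_lit 675)⟩, ⟨[], [nat_lit 16, nat_lit 2, nat_lit 33, nat_lit 11], (nat_lit 3159)⟩],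
  .cy (nat_lit 0) [] [] [] (nat_lit 3172) [],
  .cy (nat_lit 6) [] [] [nat_lit 15, nat_lit 2, nat_lit 25, nat_lit 37, nat_lit 17, nat_lit 27] (nat_lit 1315) [⟨[nat_lit 217], [nat_lit 24, nat_lit 2, nat_lit 11, nat_lit 17, nat_lit 26], (nat_lit 2255)⟩, ⟨[nat_lit 217, nat_lit 215], [nat_lit 0, nat_lit 34, nat_lit 37, nat_lit 11, nat_lit 26], (nat_lit 3169)⟩],
  .cy (nat_lit 0) [] [] [] (nat_lit 3174) [],
  .cy (nat_lit 11) [] [] [nat_lit 18, nat_lit 15, nat_lit 0, nat_lit 11, nat_lit 15, nat_lit 27] (nat_lit 2932) [⟨[nat_lit 2578, nat_lit 2591], [nat_lit 16, nat_lit 5, nat_lit 2, nat_lit 18, nat_lit 36, nat_lit 11], (nat_lit 2669)⟩, ⟨[nat_lit 215, nat_lit 217], [nat_lit 5, nat_lit 0, nat_lit 37, nat_lit 32, nat_lit 11], (nat_lit 3173)⟩],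
  .cy (nat_lit 0) [] [] [] (nat_lit 3176) [],
  .cy (nat_lit 20) [] [] [nat_lit 25, nat_lit 2, nat_lit 0, nat_lit 32, nat_lit 34, nat_lit 26] (nat_lit 2091) [⟨[nat_lit 215, nat_lit 217], [nat_lit 16, nat_lit 0, nat_lit 35, nat_lit 27, nat_lit 15, nat_lit 27], (nat_lit 2204)⟩, ⟨[nat_lit 215, nat_lit 217], [nat_lit 5, nat_lit 33, nat_lit 15, nat_lit 26], (nat_lit 3151)⟩],
  .cy (nat_lit 0) [] [] [] (nat_lit 3178) [],
  .cy (nat_lit 22) [] [] [nat_lit 10, nat_lit 0, nat_lit 33, nat_lit 34] (nat_lit 2327) [⟨[], [nat_lit 5, nat_lit 2, nat_lit 0, nat_lit 37, nat_lit 32, nat_lit 27], (nat_lit 2175)⟩, ⟨[], [nat_lit 0, nat_lit 2, nat_lit 35, nat_lit 35, nat_lit 11, nat_lit 26], (nat_lit 3171)⟩],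
  .cy (nat_lit 0) [] [] [] (nat_lit 3180) [],
  .cy (nat_lit 4) [] [] [nat_lit 14, nat_lit 17, nat_lit 36, nat_lit 15, nat_lit 26] (nat_lit 1407) [⟨[nat_lit 215], [nat_lit 1, nat_lit 14, nat_lit 33, nat_lit 27], (nat_lit 1823)⟩, ⟨[nat_lit 215, nat_lit 217], [nat_lit 24, nat_lit 15, nat_lit 0, nat_lit 37, nat_lit 34, nat_lit 11, nat_lit 26], (nat_lit 3167)⟩],
  .cy (nat_lit 0) [] [] [] (nat_lit 3182) [],
  .cy (nat_lit 9) [] [] [nat_lit 16, nat_lit 0, nat_lit 16, nat_lit 16, nat_lit 11, nat_lit 27] (nat_lit 1428) [⟨[nat_lit 215, nat_lit 217], [nat_lit 1, nat_lit 24, nat_lit 0, nat_lit 26, nat_lit 15, nat_lit 26], (nat_lit 927)⟩, ⟨[nat_lit 215, nat_lit 217, nat_lit 215], [nat_lit 24, nat_lit 1, nat_lit 15, nat_lit 24, nat_lit 27], (nat_lit 3171)⟩],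
  .cy (nat_lit 0) [] [] [] (nat_lit 3184) [],
  .cy (nat_lit 12) [] [] [nat_lit 34, nat_lit 34, nat_lit 27] (nat_lit 2061) [⟨[nat_lit 217], [nat_lit 24, nat_lit 2, nat_lit 0, nat_lit 27, nat_lit 37], (nat_lit 1700)⟩, ⟨[nat_lit 217, nat_lit 215], [nat_lit 14, nat_lit 0, nat_lit 37, nat_lit 11, nat_lit 17, nat_lit 26], (nat_lit 3145)⟩],
  .cy (nat_lit 0) [] [] [] (nat_lit 3186) [],
  .cy (nat_lit 2) [] [] [nat_lit 5, nat_lit 37, nat_lit 17] (nat_lit 2198) [⟨[nat_lit 215, nat_lit 217, nat_lit 215], [nat_lit 26, nat_lit 24, nat_lit 0, nat_lit 24, nat_lit 18, nat_lit 18], (nat_lit 969)⟩, ⟨[], [nat_lit 10, nat_lit 0, nat_lit 34, nat_lit 11, nat_lit 17, nat_lit 27], (nat_lit 3165)⟩]]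
noncomputable def P3381 : List Pf := [.cy (nat_lit 0) [] [] [] (nat_lit 3188) [],
  .cy (nat_lit 22) [] [] [nat_lit 25, nat_lit 14, nat_lit 0, nat_lit 37, nat_lit 18] (nat_lit 2198) [⟨[nat_lit 215], [nat_lit 16, nat_lit 5, nat_lit 0, nat_lit 36, nat_lit 17], (nat_lit 2422)⟩, ⟨[nat_lit 215], [nat_lit 15, nat_lit 1, nat_lit 26, nat_lit 36], (nat_lit 3143)⟩],
  .cy (nat_lit 0) [] [] [] (nat_lit 3190) [],
  .cy (nat_lit 5) [] [] [nat_lit 25, nat_lit 1, nat_lit 33, nat_lit 34, nat_lit 27] (nat_lit 2868) [⟨[nat_lit 2592, nat_lit 2578, nat_lit 2591, nat_lit 2579, nat_lit 2578], [nat_lit 5, nat_lit 16, nat_lit 2, nat_lit 25, nat_lit 18, nat_lit 16, nat_lit 27], (nat_lit 2731)⟩, ⟨[], [nat_lit 5, nat_lit 0, nat_lit 18, nat_lit 11, nat_lit 15, nat_lit 26], (nat_lit 3191)⟩],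
  .cy (nat_lit 0) [] [] [] (nat_lit 3192) [],
  .cy (nat_lit 6) [] [] [nat_lit 36, nat_lit 32] (nat_lit 2868) [⟨[nat_lit 2579, nat_lit 2592], [nat_lit 5, nat_lit 25, nat_lit 36, nat_lit 15, nat_lit 26], (nat_lit 3035)⟩, ⟨[nat_lit 215, nat_lit 217], [nat_lit 1, nat_lit 14, nat_lit 33, nat_lit 15, nat_lit 27], (nat_lit 3169)⟩],
  .cy (nat_lit 0) [] [] [] (nat_lit 3194) [],
  .cy (nat_lit 4) [] [] [nat_lit 26, nat_lit 2, nat_lit 33, nat_lit 15, nat_lit 11] (nat_lit 1972) [⟨[nat_lit 178, nat_lit 164, nat_lit 175], [nat_lit 1, nat_lit 14, nat_lit 33, nat_lit 35, nat_lit 27], (nat_lit 1975)⟩, ⟨[nat_lit 215, nat_lit 217], [nat_lit 26, nat_lit 2, nat_lit 34, nat_lit 11, nat_lit 17, nat_lit 26], (nat_lit 3177)⟩],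
  .cy (nat_lit 0) [] [] [] (nat_lit 3196) [],
  .cy (nat_lit 10) [] [] [nat_lit 25, nat_lit 2, nat_lit 0, nat_lit 26, nat_lit 16, nat_lit 11] (nat_lit 793) [⟨[nat_lit 215, nat_lit 217, nat_lit 215], [nat_lit 5, nat_lit 16, nat_lit 2, nat_lit 15, nat_lit 18, nat_lit 11, nat_lit 26], (nat_lit 968)⟩, ⟨[nat_lit 215, nat_lit 217], [nat_lit 24, nat_lit 2, nat_lit 24, nat_lit 18, nat_lit 18, nat_lit 27], (nat_lit 3187)⟩],
  .cy (nat_lit 0) [] [] [] (nat_lit 3198) [],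
  .cy (nat_lit 10) [] [] [nat_lit 14, nat_lit 36, nat_lit 15] (nat_lit 1868) [⟨[nat_lit 217], [nat_lit 5, nat_lit 2, nat_lit 0, nat_lit 34, nat_lit 32], (nat_lit 1897)⟩, ⟨[nat_lit 215, nat_lit 217, nat_lit 215], [nat_lit 1, nat_lit 33, nat_lit 36, nat_lit 11, nat_lit 27], (nat_lit 3195)⟩],
  .cy (nat_lit 0) [] [] [] (nat_lit 3200) [],
  .cy (nat_lit 11) [] [] [nat_lit 5, nat_lit 16, nat_lit 2, nat_lit 15, nat_lit 17, nat_lit 11] (nat_lit 2222) [⟨[nat_lit 215, nat_lit 217, nat_lit 215], [nat_lit 24, nat_lit 2, nat_lit 0, nat_lit 37, nat_lit 34, nat_lit 24, nat_lit 26], (nat_lit 981)⟩, ⟨[nat_lit 215], [nat_lit 26, nat_lit 24, nat_lit 0, nat_lit 33, nat_lit 18, nat_lit 11, nat_lit 26], (nat_lit 3197)⟩],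
  .cy (nat_lit 0) [] [] [] (nat_lit 3202) [],
  .cy (nat_lit 12) [] [] [nat_lit 1, nat_lit 24, nat_lit 17, nat_lit 26] (nat_lit 1434) [⟨[nat_lit 215, nat_lit 217], [nat_lit 26, nat_lit 2, nat_lit 34, nat_lit 32, nat_lit 26], (nat_lit 2023)⟩, ⟨[nat_lit 217], [nat_lit 1, nat_lit 14, nat_lit 11, nat_lit 27], (nat_lit 3167)⟩],
  .cy (nat_lit 0) [] [] [] (nat_lit 3204) [],
  .cy (nat_lit 22) [] [] [nat_lit 15, nat_lit 5, nat_lit 24, nat_lit 18, nat_lit 18] (nat_lit 1434) [⟨[nat_lit 215], [nat_lit 24, nat_lit 0, nat_lit 25, nat_lit 11, nat_lit 26], (nat_lit 1323)⟩, ⟨[nat_lit 215, nat_lit 217, nat_lit 215], [nat_lit 16, nat_lit 2, nat_lit 24, nat_lit 18, nat_lit 18], (nat_lit 3189)⟩],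
  .cy (nat_lit 0) [] [] [] (nat_lit 3206) [],
  .cy (nat_lit 27) [] [] [nat_lit 24, nat_lit 15, nat_lit 0, nat_lit 25, nat_lit 15] (nat_lit 1041) [⟨[nat_lit 217], [nat_lit 1, nat_lit 14, nat_lit 35, nat_lit 32, nat_lit 26], (nat_lit 399)⟩, ⟨[], [nat_lit 26, nat_lit 2, nat_lit 35, nat_lit 16, nat_lit 16, nat_lit 26], (nat_lit 3159)⟩],
  .cy (nat_lit 0) [] [] [] (nat_lit 3208) [],
  .cy (nat_lit 26) [] [] [nat_lit 26, nat_lit 2, nat_lit 34, nat_lit 16, nat_lit 11, nat_lit 26] (nat_lit 315) [⟨[nat_lit 215], [nat_lit 5, nat_lit 14, nat_lit 37, nat_lit 34, nat_lit 11], (nat_lit 351)⟩, ⟨[nat_lit 215], [nat_lit 16, nat_lit 5, nat_lit 0, nat_lit 36, nat_lit 25, nat_lit 11, nat_lit 26], (nat_lit 3138)⟩],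
  .cy (nat_lit 0) [] [] [] (nat_lit 3210) [],
  .cy (nat_lit 5) [] [] [nat_lit 24, nat_lit 1, nat_lit 16, nat_lit 18, nat_lit 27] (nat_lit 2257) [⟨[nat_lit 215, nat_lit 217, nat_lit 215], [nat_lit 25, nat_lit 0, nat_lit 17, nat_lit 34, nat_lit 11, nat_lit 27], (nat_lit 1817)⟩, ⟨[nat_lit 215, nat_lit 217, nat_lit 215], [nat_lit 0, nat_lit 35, nat_lit 35, nat_lit 11, nat_lit 27], (nat_lit 3203)⟩],
  .cy (nat_lit 0) [] [] [] (nat_lit 3212) [],
  .cy (nat_lit 6) [] [] [nat_lit 11, nat_lit 5, nat_lit 2, nat_lit 35, nat_lit 32, nat_lit 26] (nat_lit 2646) [⟨[nat_lit 2592, nat_lit 2579, nat_lit 2578, nat_lit 2591], [nat_lit 25, nat_lit 16, nat_lit 0, nat_lit 16, nat_lit 16, nat_lit 11, nat_lit 27], (nat_lit 3009)⟩, ⟨[nat_lit 215, nat_lit 217], [nat_lit 25, nat_lit 1, nat_lit 35, nat_lit 32, nat_lit 11, nat_lit 27], (nat_lit 3195)⟩],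
  .cy (nat_lit 0) [] [] [] (nat_lit 3214) [],
  .cy (nat_lit 21) [] [] [nat_lit 15, nat_lit 5, nat_lit 18, nat_lit 15, nat_lit 11, nat_lit 27] (nat_lit 908) [⟨[nat_lit 215, nat_lit 217, nat_lit 215], [nat_lit 24, nat_lit 1, nat_lit 15, nat_lit 18, nat_lit 27], (nat_lit 1241)⟩, ⟨[], [nat_lit 1, nat_lit 14, nat_lit 25, nat_lit 37, nat_lit 17, nat_lit 27], (nat_lit 3207)⟩],
  .cy (nat_lit 0) [] [] [] (nat_lit 3216) [],
  .cy (nat_lit 22) [] [] [nat_lit 16, nat_lit 2, nat_lit 34, nat_lit 16] (nat_lit 908) [⟨[nat_lit 217], [nat_lit 25, nat_lit 16, nat_lit 0, nat_lit 37, nat_lit 11, nat_lit 17, nat_lit 26], (nat_lit 669)⟩, ⟨[nat_lit 217], [nat_lit 26, nat_lit 2, nat_lit 26, nat_lit 34, nat_lit 32, nat_lit 27], (nat_lit 3187)⟩],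
  .cy (nat_lit 0) [] [] [] (nat_lit 3218) [],
  .cy (nat_lit 7) [] [] [nat_lit 25, nat_lit 2, nat_lit 0, nat_lit 24, nat_lit 11, nat_lit 26] (nat_lit 1946) [⟨[nat_lit 215], [nat_lit 24, nat_lit 16, nat_lit 0, nat_lit 35, nat_lit 32, nat_lit 11], (nat_lit 2424)⟩, ⟨[nat_lit 217, nat_lit 215], [nat_lit 1, nat_lit 24, nat_lit 0, nat_lit 33, nat_lit 15, nat_lit 11, nat_lit 27], (nat_lit 3179)⟩],
  .cy (nat_lit 0) [] [] [] (nat_lit 3220) [],
  .cy (nat_lit 11) [] [] [nat_lit 5, nat_lit 2, nat_lit 0, nat_lit 36, nat_lit 24, nat_lit 15] (nat_lit 1946) [⟨[nat_lit 217], [nat_lit 0, nat_lit 37, nat_lit 25], (nat_lit 1662)⟩, ⟨[nat_lit 215, nat_lit 217], [nat_lit 11, nat_lit 2, nat_lit 0, nat_lit 32, nat_lit 35], (nat_lit 3215)⟩],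
  .cy (nat_lit 0) [] [] [] (nat_lit 3222) [],
  .cy (nat_lit 8) [] [] [nat_lit 1, nat_lit 25, nat_lit 15, nat_lit 11, nat_lit 27] (nat_lit 778) [⟨[nat_lit 215, nat_lit 217, nat_lit 215], [nat_lit 14, nat_lit 25, nat_lit 16, nat_lit 26], (nat_lit 1041)⟩, ⟨[nat_lit 215, nat_lit 217, nat_lit 215], [nat_lit 17, nat_lit 24, nat_lit 0, nat_lit 37, nat_lit 32, nat_lit 26], (nat_lit 3187)⟩],
  .cy (nat_lit 0) [] [] [] (nat_lit 3224) [],
  .cy (nat_lit 4) [] [] [nat_lit 2, nat_lit 0, nat_lit 15, nat_lit 15, nat_lit 15, nat_lit 26] (nat_lit 473) [⟨[nat_lit 215, nat_lit 217, nat_lit 215], [nat_lit 5, nat_lit 17, nat_lit 16, nat_lit 26], (nat_lit 1324)⟩, ⟨[], [nat_lit 0, nat_lit 18, nat_lit 35, nat_lit 15], (nat_lit 3209)⟩],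
  .cy (nat_lit 0) [] [] [] (nat_lit 3226) [],
  .cy (nat_lit 21) [] [] [nat_lit 5, nat_lit 0, nat_lit 33, nat_lit 11, nat_lit 16, nat_lit 26] (nat_lit 2121) [⟨[nat_lit 215, nat_lit 217], [nat_lit 15, nat_lit 0, nat_lit 25, nat_lit 33, nat_lit 15, nat_lit 26], (nat_lit 1731)⟩, ⟨[nat_lit 217], [nat_lit 1, nat_lit 24, nat_lit 0, nat_lit 16, nat_lit 11, nat_lit 26], (nat_lit 3215)⟩],
  .cy (nat_lit 0) [] [] [] (nat_lit 3228) [],
  .cy (nat_lit 8) [] [] [nat_lit 15, nat_lit 5, nat_lit 25, nat_lit 11] (nat_lit 250) [⟨[nat_lit 217], [nat_lit 5, nat_lit 32, nat_lit 24, nat_lit 11, nat_lit 27], (nat_lit 249)⟩, ⟨[nat_lit 215], [nat_lit 27, nat_lit 16], (nat_lit 3229)⟩],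
  .cy (nat_lit 0) [] [] [] (nat_lit 3230) [],
  .cy (nat_lit 24) [] [] [nat_lit 24, nat_lit 2, nat_lit 25, nat_lit 33, nat_lit 15] (nat_lit 250) [⟨[], [nat_lit 16, nat_lit 2, nat_lit 37, nat_lit 17, nat_lit 27], (nat_lit 2220)⟩, ⟨[nat_lit 217], [nat_lit 17, nat_lit 2, nat_lit 0, nat_lit 37, nat_lit 34, nat_lit 25, nat_lit 26], (nat_lit 3151)⟩],
  .cy (nat_lit 0) [] [] [] (nat_lit 3232) [],
  .cy (nat_lit 7) [] [] [nat_lit 5, nat_lit 16, nat_lit 2, nat_lit 26, nat_lit 16, nat_lit 27] (nat_lit 1498) [⟨[nat_lit 215], [nat_lit 14, nat_lit 15, nat_lit 0, nat_lit 34, nat_lit 11, nat_lit 17, nat_lit 27], (nat_lit 2256)⟩, ⟨[nat_lit 217, nat_lit 215], [nat_lit 14, nat_lit 15, nat_lit 0, nat_lit 15, nat_lit 17, nat_lit 11, nat_lit 27], (nat_lit 3221)⟩],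
  .cy (nat_lit 0) [] [] [] (nat_lit 3234) [],
  .cy (nat_lit 4) [] [] [nat_lit 16, nat_lit 5, nat_lit 0, nat_lit 37, nat_lit 15, nat_lit 11, nat_lit 27] (nat_lit 693) [⟨[nat_lit 217], [nat_lit 2, nat_lit 15, nat_lit 11, nat_lit 27], (nat_lit 2036)⟩, ⟨[nat_lit 215], [nat_lit 2, nat_lit 25, nat_lit 11, nat_lit 27], (nat_lit 3227)⟩],
  .cy (nat_lit 0) [] [] [] (nat_lit 3236) [],
  .cy (nat_lit 6) [] [] [nat_lit 24, nat_lit 2, nat_lit 0, nat_lit 25, nat_lit 11, nat_lit 27] (nat_lit 693) [⟨[nat_lit 215, nat_lit 217, nat_lit 215], [nat_lit 2, nat_lit 37], (nat_lit 1729)⟩, ⟨[nat_lit 215, nat_lit 217, nat_lit 215], [nat_lit 1, nat_lit 16, nat_lit 25, nat_lit 26], (nat_lit 3181)⟩],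
  .cy (nat_lit 0) [] [] [] (nat_lit 3238) [],
  .cy (nat_lit 1) [] [] [nat_lit 25, nat_lit 0, nat_lit 37, nat_lit 25, nat_lit 27] (nat_lit 2252) [⟨[], [nat_lit 14, nat_lit 15, nat_lit 0, nat_lit 27, nat_lit 18, nat_lit 27], (nat_lit 272)⟩, ⟨[nat_lit 215, nat_lit 217, nat_lit 215], [nat_lit 25, nat_lit 16, nat_lit 0, nat_lit 11, nat_lit 16], (nat_lit 3225)⟩],
  .cy (nat_lit 0) [] [] [] (nat_lit 3240) [],
  .cy (nat_lit 23) [] [] [nat_lit 15, nat_lit 1, nat_lit 36] (nat_lit 2252) [⟨[nat_lit 217], [nat_lit 11, nat_lit 2, nat_lit 0, nat_lit 33, nat_lit 15, nat_lit 11, nat_lit 27], (nat_lit 557)⟩, ⟨[], [nat_lit 16, nat_lit 5, nat_lit 0, nat_lit 33, nat_lit 36, nat_lit 11, nat_lit 27], (nat_lit 3203)⟩],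
  .cy (nat_lit 0) [] [] [] (nat_lit 3242) [],
  .cy (nat_lit 10) [] [] [nat_lit 14, nat_lit 35, nat_lit 36] (nat_lit 1063) [⟨[], [nat_lit 1, nat_lit 24, nat_lit 0, nat_lit 33, nat_lit 15, nat_lit 11], (nat_lit 2133)⟩, ⟨[nat_lit 215], [nat_lit 26, nat_lit 2, nat_lit 27, nat_lit 36, nat_lit 27], (nat_lit 3136)⟩],
  .cy (nat_lit 0) [] [] [] (nat_lit 3244) [],
  .cy (nat_lit 26) [] [] [nat_lit 15, nat_lit 5, nat_lit 18, nat_lit 11, nat_lit 15, nat_lit 26] (nat_lit 1063) [⟨[nat_lit 215], [nat_lit 24, nat_lit 16, nat_lit 0, nat_lit 33, nat_lit 35, nat_lit 11, nat_lit 27], (nat_lit 1488)⟩, ⟨[nat_lit 217], [nat_lit 1, nat_lit 24, nat_lit 0, nat_lit 37, nat_lit 15, nat_lit 27], (nat_lit 3203)⟩],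
  .cy (nat_lit 0) [] [] [] (nat_lit 3246) [],
  .cy (nat_lit 4) [] [] [nat_lit 16, nat_lit 5, nat_lit 0, nat_lit 32, nat_lit 34, nat_lit 16, nat_lit 27] (nat_lit 604) [⟨[nat_lit 217], [nat_lit 24, nat_lit 16, nat_lit 0, nat_lit 16, nat_lit 18, nat_lit 11], (nat_lit 1905)⟩, ⟨[nat_lit 215, nat_lit 217], [nat_lit 17, nat_lit 24, nat_lit 0, nat_lit 27, nat_lit 17, nat_lit 27], (nat_lit 3185)⟩],
  .cy (nat_lit 0) [] [] [] (nat_lit 3248) [],
  .cy (nat_lit 21) [] [] [nat_lit 5, nat_lit 16, nat_lit 2, nat_lit 15, nat_lit 27, nat_lit 16, nat_lit 26] (nat_lit 2640) [⟨[nat_lit 2592, nat_lit 2579, nat_lit 2578, nat_lit 2591, nat_lit 2578], [nat_lit 24, nat_lit 1, nat_lit 34, nat_lit 34, nat_lit 11, nat_lit 26], (nat_lit 2985)⟩, ⟨[nat_lit 215, nat_lit 217, nat_lit 215], [nat_lit 14, nat_lit 32, nat_lit 24, nat_lit 11, nat_lit 26], (nat_lit 3245)⟩],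
  .cy (nat_lit 0) [] [] [] (nat_lit 3250) [],
  .cy (nat_lit 6) [] [] [nat_lit 15, nat_lit 5, nat_lit 33, nat_lit 16, nat_lit 11, nat_lit 26] (nat_lit 1025) [⟨[nat_lit 215, nat_lit 217], [nat_lit 18, nat_lit 15, nat_lit 0, nat_lit 35, nat_lit 27, nat_lit 15], (nat_lit 2520)⟩, ⟨[nat_lit 215], [nat_lit 5, nat_lit 2, nat_lit 37, nat_lit 11, nat_lit 17, nat_lit 26], (nat_lit 3213)⟩],
  .cy (nat_lit 0) [] [] [] (nat_lit 3252) [],
  .cy (nat_lit 9) [] [] [nat_lit 24, nat_lit 0, nat_lit 25, nat_lit 33, nat_lit 15] (nat_lit 2196) [⟨[nat_lit 215, nat_lit 217], [nat_lit 10, nat_lit 10, nat_lit 0, nat_lit 32, nat_lit 34, nat_lit 11, nat_lit 26], (nat_lit 1367)⟩, ⟨[nat_lit 215], [nat_lit 1, nat_lit 24, nat_lit 0, nat_lit 33, nat_lit 18, nat_lit 11], (nat_lit 3235)⟩],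
  .cy (nat_lit 0) [] [] [] (nat_lit 3254) [],
  .cy (nat_lit 12) [] [] [nat_lit 5, nat_lit 2, nat_lit 0, nat_lit 18, nat_lit 15, nat_lit 11, nat_lit 27] (nat_lit 2196) [⟨[nat_lit 215, nat_lit 217, nat_lit 215], [nat_lit 11, nat_lit 2, nat_lit 0, nat_lit 16, nat_lit 25], (nat_lit 2083)⟩, ⟨[nat_lit 215, nat_lit 217], [nat_lit 5, nat_lit 26, nat_lit 34, nat_lit 32, nat_lit 26], (nat_lit 3223)⟩],
  .cy (nat_lit 0) [] [] [] (nat_lit 3256) [],
  .cy (nat_lit 9) [] [] [nat_lit 1, nat_lit 24, nat_lit 0, nat_lit 33, nat_lit 37, nat_lit 11, nat_lit 26] (nat_lit 617) [⟨[nat_lit 215], [nat_lit 24, nat_lit 1, nat_lit 24, nat_lit 11, nat_lit 26], (nat_lit 1943)⟩, ⟨[nat_lit 217], [nat_lit 16, nat_lit 5, nat_lit 0, nat_lit 17, nat_lit 37, nat_lit 11, nat_lit 27], (nat_lit 3203)⟩],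
  .cy (nat_lit 0) [] [] [] (nat_lit 3258) [],
  .cy (nat_lit 3) [] [] [nat_lit 10, nat_lit 10, nat_lit 0, nat_lit 15, nat_lit 18, nat_lit 27] (nat_lit 637) [⟨[nat_lit 215], [nat_lit 5, nat_lit 14, nat_lit 24, nat_lit 11, nat_lit 27], (nat_lit 539)⟩, ⟨[], [nat_lit 15, nat_lit 1, nat_lit 18, nat_lit 35, nat_lit 15, nat_lit 26], (nat_lit 3253)⟩],
  .cy (nat_lit 0) [] [] [] (nat_lit 3260) [],
  .cy (nat_lit 2) [] [] [nat_lit 5, nat_lit 2, nat_lit 32, nat_lit 34, nat_lit 16] (nat_lit 2279) [⟨[nat_lit 217, nat_lit 215], [nat_lit 25, nat_lit 1, nat_lit 35, nat_lit 15, nat_lit 26], (nat_lit 1435)⟩, ⟨[nat_lit 217, nat_lit 215], [nat_lit 0, nat_lit 37, nat_lit 24, nat_lit 15], (nat_lit 3177)⟩],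
  .cy (nat_lit 0) [] [] [] (nat_lit 3262) [],
  .cy (nat_lit 3) [] [] [nat_lit 0, nat_lit 2, nat_lit 36, nat_lit 33, nat_lit 24, nat_lit 27] (nat_lit 2279) [⟨[nat_lit 217, nat_lit 215], [nat_lit 1, nat_lit 24, nat_lit 16, nat_lit 27], (nat_lit 1696)⟩, ⟨[nat_lit 215], [nat_lit 15, nat_lit 5, nat_lit 35, nat_lit 27, nat_lit 15], (nat_lit 3153)⟩],
  .cy (nat_lit 0) [] [] [] (nat_lit 3264) [],
  .cy (nat_lit 7) [] [] [nat_lit 16, nat_lit 5, nat_lit 2, nat_lit 33, nat_lit 11, nat_lit 16, nat_lit 27] (nat_lit 572) [⟨[nat_lit 217, nat_lit 215], [nat_lit 25, nat_lit 14, nat_lit 0, nat_lit 36, nat_lit 33, nat_lit 11, nat_lit 26], (nat_lit 1402)⟩, ⟨[nat_lit 215, nat_lit 217, nat_lit 215], [nat_lit 2, nat_lit 33, nat_lit 16, nat_lit 27], (nat_lit 3201)⟩],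
  .cy (nat_lit 0) [] [] [] (nat_lit 3266) [],
  .cy (nat_lit 8) [] [] [nat_lit 25, nat_lit 16, nat_lit 0, nat_lit 26, nat_lit 16, nat_lit 11] (nat_lit 2271) [⟨[nat_lit 215, nat_lit 217, nat_lit 215], [nat_lit 18, nat_lit 15, nat_lit 0, nat_lit 32, nat_lit 27, nat_lit 17, nat_lit 27], (nat_lit 2164)⟩, ⟨[nat_lit 215, nat_lit 217], [nat_lit 16, nat_lit 2, nat_lit 17, nat_lit 11, nat_lit 17, nat_lit 26], (nat_lit 3201)⟩],
  .cy (nat_lit 0) [] [] [] (nat_lit 3268) [],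
  .cy (nat_lit 6) [] [] [nat_lit 14, nat_lit 15, nat_lit 0, nat_lit 32, nat_lit 34] (nat_lit 757) [⟨[nat_lit 217, nat_lit 215], [nat_lit 24, nat_lit 2, nat_lit 0, nat_lit 17, nat_lit 15], (nat_lit 2557)⟩, ⟨[nat_lit 215], [nat_lit 0, nat_lit 2, nat_lit 32, nat_lit 32], (nat_lit 3193)⟩],
  .cy (nat_lit 0) [] [] [] (nat_lit 3270) [],
  .cy (nat_lit 22) [] [] [nat_lit 24, nat_lit 2, nat_lit 17, nat_lit 36, nat_lit 15, nat_lit 27] (nat_lit 2140) [⟨[nat_lit 215], [nat_lit 5, nat_lit 15, nat_lit 18, nat_lit 16, nat_lit 27], (nat_lit 1477)⟩, ⟨[nat_lit 217, nat_lit 215], [nat_lit 25, nat_lit 2, nat_lit 0, nat_lit 33, nat_lit 37], (nat_lit 3223)⟩],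
  .cy (nat_lit 0) [] [] [] (nat_lit 3272) [],
  .cy (nat_lit 20) [] [] [nat_lit 0, nat_lit 24, nat_lit 18, nat_lit 16] (nat_lit 2260) [⟨[nat_lit 215], [nat_lit 1, nat_lit 14, nat_lit 33, nat_lit 16, nat_lit 26], (nat_lit 1893)⟩, ⟨[nat_lit 217, nat_lit 215], [nat_lit 15, nat_lit 1, nat_lit 32, nat_lit 37, nat_lit 15, nat_lit 26], (nat_lit 3207)⟩],
  .cy (nat_lit 0) [] [] [] (nat_lit 3274) [],
  .cy (nat_lit 7) [] [] [nat_lit 16, nat_lit 2, nat_lit 34, nat_lit 32, nat_lit 16] (nat_lit 3068) [⟨[nat_lit 2591, nat_lit 2579, nat_lit 2578, nat_lit 2591, nat_lit 2578], [nat_lit 5, nat_lit 24, nat_lit 36, nat_lit 27], (nat_lit 2969)⟩, ⟨[nat_lit 215], [nat_lit 5, nat_lit 14, nat_lit 11, nat_lit 17], (nat_lit 3193)⟩],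
  .cy (nat_lit 0) [] [] [] (nat_lit 3276) [],
  .cy (nat_lit 23) [] [] [nat_lit 15, nat_lit 1, nat_lit 11, nat_lit 37, nat_lit 27] (nat_lit 3068) [⟨[nat_lit 2578, nat_lit 2591, nat_lit 2579], [nat_lit 24, nat_lit 15, nat_lit 0, nat_lit 27, nat_lit 24, nat_lit 15, nat_lit 27], (nat_lit 2921)⟩, ⟨[nat_lit 217], [nat_lit 1, nat_lit 24, nat_lit 0, nat_lit 36, nat_lit 36, nat_lit 17, nat_lit 26], (nat_lit 3179)⟩],
  .cy (nat_lit 0) [] [] [] (nat_lit 3278) [],
  .cy (nat_lit 2) [] [] [nat_lit 25, nat_lit 1, nat_lit 33, nat_lit 34, nat_lit 27] (nat_lit 916) [⟨[], [nat_lit 25, nat_lit 16, nat_lit 0, nat_lit 25, nat_lit 36, nat_lit 27], (nat_lit 1427)⟩, ⟨[], [nat_lit 10, nat_lit 10, nat_lit 0, nat_lit 24, nat_lit 24, nat_lit 11, nat_lit 27], (nat_lit 3185)⟩],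
  .cy (nat_lit 0) [] [] [] (nat_lit 3280) [],
  .cy (nat_lit 5) [] [] [nat_lit 25, nat_lit 2, nat_lit 0, nat_lit 25, nat_lit 36, nat_lit 11] (nat_lit 2076) [⟨[nat_lit 217], [nat_lit 14, nat_lit 15, nat_lit 0, nat_lit 36, nat_lit 16, nat_lit 11, nat_lit 26], (nat_lit 1939)⟩, ⟨[nat_lit 217], [nat_lit 25, nat_lit 16, nat_lit 0, nat_lit 26, nat_lit 15, nat_lit 15], (nat_lit 3281)⟩],
  .cy (nat_lit 0) [] [] [] (nat_lit 3282) [],
  .cy (nat_lit 22) [] [] [nat_lit 15, nat_lit 5, nat_lit 32, nat_lit 24, nat_lit 27] (nat_lit 2076) [⟨[nat_lit 217, nat_lit 215], [nat_lit 18, nat_lit 15, nat_lit 0, nat_lit 17, nat_lit 17, nat_lit 15], (nat_lit 325)⟩, ⟨[nat_lit 215, nat_lit 217, nat_lit 215], [nat_lit 18, nat_lit 26], (nat_lit 3183)⟩],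
  .cy (nat_lit 0) [] [] [] (nat_lit 3284) [],
  .cy (nat_lit 11) [] [] [nat_lit 25, nat_lit 1, nat_lit 37, nat_lit 24, nat_lit 27] (nat_lit 1248) [⟨[nat_lit 215, nat_lit 217], [nat_lit 5, nat_lit 37, nat_lit 34, nat_lit 11, nat_lit 27], (nat_lit 930)⟩, ⟨[nat_lit 215, nat_lit 217], [nat_lit 16, nat_lit 5, nat_lit 2, nat_lit 34, nat_lit 32, nat_lit 16, nat_lit 27], (nat_lit 3149)⟩],
  .cy (nat_lit 0) [] [] [] (nat_lit 3286) [],
  .cy (nat_lit 20) [] [] [nat_lit 5, nat_lit 2, nat_lit 33, nat_lit 16, nat_lit 26] (nat_lit 2193) [⟨[nat_lit 215, nat_lit 217, nat_lit 215], [nat_lit 26, nat_lit 2, nat_lit 34, nat_lit 34, nat_lit 27], (nat_lit 626)⟩, ⟨[nat_lit 215, nat_lit 217, nat_lit 215], [nat_lit 26, nat_lit 2, nat_lit 0, nat_lit 11, nat_lit 17], (nat_lit 3185)⟩],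
  .cy (nat_lit 0) [] [] [] (nat_lit 3288) [],
  .cy (nat_lit 9) [] [] [nat_lit 1, nat_lit 17, nat_lit 16] (nat_lit 2948) [⟨[nat_lit 2579, nat_lit 2592, nat_lit 2579, nat_lit 2578], [nat_lit 2, nat_lit 0, nat_lit 15, nat_lit 32, nat_lit 15, nat_lit 26], (nat_lit 3045)⟩, ⟨[nat_lit 215, nat_lit 217], [nat_lit 24, nat_lit 2, nat_lit 0, nat_lit 18, nat_lit 11, nat_lit 26], (nat_lit 3277)⟩],
  .cy (nat_lit 0) [] [] [] (nat_lit 3290) [],
  .cy (nat_lit 25) [] [] [nat_lit 5, nat_lit 17, nat_lit 16] (nat_lit 463) [⟨[nat_lit 215], [nat_lit 14, nat_lit 0, nat_lit 18, nat_lit 15, nat_lit 26], (nat_lit 497)⟩, ⟨[nat_lit 217, nat_lit 215], [nat_lit 17, nat_lit 24, nat_lit 0, nat_lit 37, nat_lit 34], (nat_lit 3233)⟩],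
  .cy (nat_lit 0) [] [] [] (nat_lit 3292) [],
  .cy (nat_lit 27) [] [] [nat_lit 25, nat_lit 0, nat_lit 25, nat_lit 15, nat_lit 11, nat_lit 27] (nat_lit 463) [⟨[nat_lit 217, nat_lit 215], [nat_lit 26, nat_lit 2, nat_lit 11, nat_lit 36], (nat_lit 495)⟩, ⟨[nat_lit 217, nat_lit 215], [nat_lit 24, nat_lit 1, nat_lit 37, nat_lit 24, nat_lit 15, nat_lit 27], (nat_lit 3275)⟩],
  .cy (nat_lit 0) [] [] [] (nat_lit 3294) [],
  .cy (nat_lit 20) [] [] [nat_lit 26, nat_lit 2, nat_lit 34, nat_lit 15] (nat_lit 2926) [⟨[nat_lit 2578], [nat_lit 15, nat_lit 0, nat_lit 34, nat_lit 32, nat_lit 16], (nat_lit 2863)⟩, ⟨[nat_lit 215, nat_lit 217, nat_lit 215], [nat_lit 0, nat_lit 2, nat_lit 25, nat_lit 37, nat_lit 11, nat_lit 26], (nat_lit 3221)⟩],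
  .cy (nat_lit 0) [] [] [] (nat_lit 3296) [],
  .cy (nat_lit 7) [] [] [nat_lit 24, nat_lit 1, nat_lit 37, nat_lit 32, nat_lit 11, nat_lit 27] (nat_lit 1939) [⟨[nat_lit 215, nat_lit 217, nat_lit 215], [nat_lit 25, nat_lit 16, nat_lit 0, nat_lit 34, nat_lit 34, nat_lit 11], (nat_lit 887)⟩, ⟨[nat_lit 215, nat_lit 217], [nat_lit 24, nat_lit 2, nat_lit 0, nat_lit 27, nat_lit 36, nat_lit 11, nat_lit 26], (nat_lit 3203)⟩],
  .cy (nat_lit 0) [] [] [] (nat_lit 3298) [],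
  .cy (nat_lit 11) [] [] [nat_lit 1, nat_lit 1, nat_lit 24, nat_lit 36, nat_lit 26] (nat_lit 734) [⟨[nat_lit 217, nat_lit 215], [nat_lit 5, nat_lit 0, nat_lit 37, nat_lit 16, nat_lit 27], (nat_lit 1412)⟩, ⟨[], [nat_lit 15, nat_lit 5, nat_lit 15, nat_lit 32, nat_lit 11, nat_lit 26], (nat_lit 3237)⟩],
  .cy (nat_lit 0) [] [] [] (nat_lit 3300) [],
  .cy (nat_lit 21) [] [] [nat_lit 15, nat_lit 0, nat_lit 32, nat_lit 18, nat_lit 11, nat_lit 26] (nat_lit 734) [⟨[nat_lit 215], [nat_lit 5, nat_lit 14, nat_lit 16, nat_lit 18], (nat_lit 1544)⟩, ⟨[nat_lit 217], [nat_lit 26, nat_lit 24, nat_lit 0, nat_lit 35, nat_lit 11, nat_lit 26], (nat_lit 3285)⟩],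
  .cy (nat_lit 0) [] [] [] (nat_lit 3302) [],
  .cy (nat_lit 2) [] [] [nat_lit 15, nat_lit 5, nat_lit 24, nat_lit 18, nat_lit 16, nat_lit 27] (nat_lit 1571) [⟨[nat_lit 215, nat_lit 217, nat_lit 215], [nat_lit 24, nat_lit 15, nat_lit 0, nat_lit 25, nat_lit 18, nat_lit 26], (nat_lit 1461)⟩, ⟨[], [nat_lit 24, nat_lit 1, nat_lit 37, nat_lit 37], (nat_lit 3263)⟩],
  .cy (nat_lit 0) [] [] [] (nat_lit 3304) [],
  .cy (nat_lit 5) [] [] [nat_lit 5, nat_lit 16, nat_lit 2, nat_lit 15, nat_lit 35, nat_lit 11] (nat_lit 1571) [⟨[nat_lit 215], [nat_lit 14, nat_lit 15, nat_lit 0, nat_lit 36, nat_lit 36, nat_lit 17, nat_lit 26], (nat_lit 1526)⟩, ⟨[], [nat_lit 1, nat_lit 24, nat_lit 18, nat_lit 18, nat_lit 27], (nat_lit 3177)⟩],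
  .cy (nat_lit 0) [] [] [] (nat_lit 3306) [],
  .cy (nat_lit 20) [] [] [nat_lit 5, nat_lit 14, nat_lit 27, nat_lit 18, nat_lit 11, nat_lit 27] (nat_lit 1571) [⟨[nat_lit 217], [nat_lit 25, nat_lit 2, nat_lit 0, nat_lit 27, nat_lit 16], (nat_lit 272)⟩, ⟨[nat_lit 215, nat_lit 217], [nat_lit 24, nat_lit 15, nat_lit 0, nat_lit 33, nat_lit 36, nat_lit 11, nat_lit 27], (nat_lit 3289)⟩],
  .cy (nat_lit 0) [] [] [] (nat_lit 3308) [],
  .cy (nat_lit 27) [] [] [nat_lit 25, nat_lit 0, nat_lit 24, nat_lit 16] (nat_lit 2317) [⟨[], [nat_lit 24, nat_lit 2, nat_lit 0, nat_lit 27, nat_lit 16, nat_lit 26], (nat_lit 1818)⟩, ⟨[nat_lit 217, nat_lit 215], [nat_lit 10, nat_lit 0, nat_lit 18, nat_lit 11], (nat_lit 3265)⟩],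
  .cy (nat_lit 0) [] [] [] (nat_lit 3310) [],
  .cy (nat_lit 26) [] [] [nat_lit 15, nat_lit 5, nat_lit 32, nat_lit 24, nat_lit 26] (nat_lit 1319) [⟨[nat_lit 215, nat_lit 217, nat_lit 215], [nat_lit 15, nat_lit 0, nat_lit 26, nat_lit 16, nat_lit 11, nat_lit 27], (nat_lit 2173)⟩, ⟨[nat_lit 217], [nat_lit 2, nat_lit 25, nat_lit 36, nat_lit 11, nat_lit 26], (nat_lit 3163)⟩],
  .cy (nat_lit 0) [] [] [] (nat_lit 3312) [],
  .cy (nat_lit 8) [] [] [nat_lit 16, nat_lit 2, nat_lit 33, nat_lit 16, nat_lit 26] (nat_lit 2776) [⟨[nat_lit 2579, nat_lit 2592, nat_lit 2578, nat_lit 2579, nat_lit 2578], [nat_lit 11, nat_lit 2, nat_lit 0, nat_lit 24, nat_lit 18, nat_lit 18, nat_lit 26], (nat_lit 2875)⟩, ⟨[nat_lit 215, nat_lit 217, nat_lit 215], [nat_lit 15, nat_lit 2, nat_lit 37, nat_lit 34, nat_lit 24, nat_lit 26], (nat_lit 3279)⟩],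
  .cy (nat_lit 0) [] [] [] (nat_lit 3314) [],
  .cy (nat_lit 9) [] [] [nat_lit 17, nat_lit 24, nat_lit 0, nat_lit 17, nat_lit 15] (nat_lit 2776) [⟨[nat_lit 2592, nat_lit 2578, nat_lit 2579], [nat_lit 1, nat_lit 5, nat_lit 35, nat_lit 17], (nat_lit 2729)⟩, ⟨[nat_lit 215, nat_lit 217, nat_lit 215], [nat_lit 17, nat_lit 2, nat_lit 0, nat_lit 32, nat_lit 32, nat_lit 11, nat_lit 27], (nat_lit 3249)⟩],
  .cy (nat_lit 0) [] [] [] (nat_lit 3316) [],
  .cy (nat_lit 20) [] [] [nat_lit 26, nat_lit 24, nat_lit 0, nat_lit 37, nat_lit 34, nat_lit 11] (nat_lit 841) [⟨[nat_lit 215, nat_lit 217, nat_lit 215], [nat_lit 11, nat_lit 2, nat_lit 0, nat_lit 24, nat_lit 24, nat_lit 11, nat_lit 26], (nat_lit 1161)⟩, ⟨[], [nat_lit 2, nat_lit 0, nat_lit 33, nat_lit 35, nat_lit 11], (nat_lit 3225)⟩],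
  .cy (nat_lit 0) [] [] [] (nat_lit 3318) [],
  .cy (nat_lit 21) [] [] [nat_lit 14, nat_lit 18, nat_lit 35, nat_lit 11, nat_lit 27] (nat_lit 2804) [⟨[nat_lit 2592, nat_lit 2578, nat_lit 2591, nat_lit 2578, nat_lit 2579, nat_lit 2578], [nat_lit 1, nat_lit 24, nat_lit 0, nat_lit 26, nat_lit 36], (nat_lit 2657)⟩, ⟨[nat_lit 217, nat_lit 215], [nat_lit 26, nat_lit 2, nat_lit 27, nat_lit 16, nat_lit 26], (nat_lit 3221)⟩],
  .cy (nat_lit 0) [] [] [] (nat_lit 3320) [],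
  .cy (nat_lit 7) [] [] [nat_lit 15, nat_lit 2, nat_lit 27, nat_lit 16] (nat_lit 641) [⟨[nat_lit 217], [nat_lit 18, nat_lit 15, nat_lit 0, nat_lit 36, nat_lit 17, nat_lit 26], (nat_lit 677)⟩, ⟨[nat_lit 215, nat_lit 217], [nat_lit 11, nat_lit 2, nat_lit 0, nat_lit 33, nat_lit 15], (nat_lit 3287)⟩],
  .cy (nat_lit 0) [] [] [] (nat_lit 3322) [],
  .cy (nat_lit 7) [] [] [nat_lit 10, nat_lit 0, nat_lit 24, nat_lit 11] (nat_lit 2332) [⟨[nat_lit 217], [nat_lit 25, nat_lit 0, nat_lit 34, nat_lit 24, nat_lit 26], (nat_lit 1263)⟩, ⟨[nat_lit 217, nat_lit 215], [nat_lit 14, nat_lit 15, nat_lit 35], (nat_lit 3195)⟩],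
  .cy (nat_lit 0) [] [] [] (nat_lit 3324) [],
  .cy (nat_lit 16) [] [] [nat_lit 16, nat_lit 2, nat_lit 35, nat_lit 27, nat_lit 15, nat_lit 26] (nat_lit 1367) [⟨[nat_lit 215, nat_lit 217], [nat_lit 15, nat_lit 1, nat_lit 17, nat_lit 16], (nat_lit 710)⟩, ⟨[nat_lit 217], [nat_lit 1, nat_lit 24, nat_lit 0, nat_lit 34, nat_lit 11, nat_lit 17], (nat_lit 1391)⟩, ⟨[nat_lit 215, nat_lit 217, nat_lit 215], [nat_lit 16, nat_lit 0, nat_lit 24, nat_lit 26], (nat_lit 1479)⟩, ⟨[nat_lit 215], [nat_lit 10, nat_lit 10, nat_lit 0, nat_lit 37, nat_lit 18, nat_lit 15, nat_lit 27], (nat_lit 645)⟩, ⟨[nat_lit 217, nat_lit 215], [nat_lit 11, nat_lit 5, nat_lit 2, nat_lit 37, nat_lit 15, nat_lit 11], (nat_lit 2211)⟩, ⟨[], [nat_lit 14, nat_lit 18, nat_lit 16, nat_lit 11], (nat_lit 3189)⟩],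
  .cy (nat_lit 0) [] [] [] (nat_lit 3326) [],
  .cy (nat_lit 21) [] [] [nat_lit 16, nat_lit 5, nat_lit 2, nat_lit 17, nat_lit 15, nat_lit 26] (nat_lit 1370) [⟨[nat_lit 217], [nat_lit 15, nat_lit 1, nat_lit 32, nat_lit 32, nat_lit 26], (nat_lit 365)⟩, ⟨[nat_lit 215, nat_lit 217, nat_lit 215], [nat_lit 1, nat_lit 24, nat_lit 0, nat_lit 33, nat_lit 33], (nat_lit 3303)⟩],
  .cy (nat_lit 0) [] [] [] (nat_lit 3328) [],
  .cy (nat_lit 10) [] [] [nat_lit 17, nat_lit 24, nat_lit 0, nat_lit 17, nat_lit 15, nat_lit 11] (nat_lit 1678) [⟨[nat_lit 217], [nat_lit 16, nat_lit 2, nat_lit 18, nat_lit 15, nat_lit 11], (nat_lit 2499)⟩, ⟨[nat_lit 217, nat_lit 215], [nat_lit 14, nat_lit 37, nat_lit 17, nat_lit 27], (nat_lit 3229)⟩],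
  .cy (nat_lit 0) [] [] [] (nat_lit 3330) [],
  .cy (nat_lit 24) [] [] [nat_lit 11, nat_lit 5, nat_lit 2, nat_lit 17, nat_lit 34, nat_lit 26] (nat_lit 2952) [⟨[nat_lit 2592, nat_lit 2579], [nat_lit 15, nat_lit 5, nat_lit 35, nat_lit 27, nat_lit 15, nat_lit 26], (nat_lit 2897)⟩, ⟨[], [nat_lit 14, nat_lit 0], (nat_lit 3215)⟩],
  .cy (nat_lit 0) [] [] [] (nat_lit 3332) [],
  .cy (nat_lit 21) [] [] [nat_lit 25, nat_lit 1, nat_lit 17, nat_lit 17, nat_lit 11] (nat_lit 864) [⟨[], [nat_lit 5, nat_lit 14, nat_lit 36, nat_lit 18, nat_lit 27], (nat_lit 1700)⟩, ⟨[], [nat_lit 1, nat_lit 1, nat_lit 34, nat_lit 32], (nat_lit 3319)⟩],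
  .cy (nat_lit 0) [] [] [] (nat_lit 3334) [],
  .cy (nat_lit 22) [] [] [nat_lit 24, nat_lit 15, nat_lit 0, nat_lit 24, nat_lit 26] (nat_lit 1189) [⟨[nat_lit 215], [nat_lit 1, nat_lit 1, nat_lit 15, nat_lit 18, nat_lit 26], (nat_lit 930)⟩, ⟨[nat_lit 217, nat_lit 215], [nat_lit 25, nat_lit 2, nat_lit 0, nat_lit 35, nat_lit 33, nat_lit 26], (nat_lit 3193)⟩],
  .cy (nat_lit 0) [] [] [] (nat_lit 3336) [],
  .cy (nat_lit 2) [] [] [nat_lit 25, nat_lit 2, nat_lit 0, nat_lit 15, nat_lit 15, nat_lit 15, nat_lit 26] (nat_lit 607) [⟨[nat_lit 217, nat_lit 215], [nat_lit 0, nat_lit 25, nat_lit 11, nat_lit 26], (nat_lit 618)⟩, ⟨[nat_lit 215, nat_lit 217, nat_lit 215], [nat_lit 16, nat_lit 5, nat_lit 2, nat_lit 36, nat_lit 17], (nat_lit 3201)⟩],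
  .cy (nat_lit 0) [] [] [] (nat_lit 3338) [],
  .cy (nat_lit 6) [] [] [nat_lit 15, nat_lit 0, nat_lit 34, nat_lit 17, nat_lit 11, nat_lit 26] (nat_lit 2053) [⟨[nat_lit 217, nat_lit 215], [nat_lit 16, nat_lit 2, nat_lit 35, nat_lit 36, nat_lit 26], (nat_lit 2181)⟩, ⟨[nat_lit 215, nat_lit 217, nat_lit 215], [nat_lit 15, nat_lit 5, nat_lit 34, nat_lit 25, nat_lit 26], (nat_lit 3171)⟩],
  .cy (nat_lit 0) [] [] [] (nat_lit 3340) [],
  .cy (nat_lit 12) [] [] [nat_lit 24, nat_lit 2, nat_lit 32, nat_lit 34, nat_lit 11] (nat_lit 2053) [⟨[nat_lit 215, nat_lit 217, nat_lit 215], [nat_lit 26, nat_lit 24, nat_lit 0, nat_lit 25, nat_lit 36, nat_lit 15, nat_lit 27], (nat_lit 1695)⟩, ⟨[nat_lit 217, nat_lit 215], [nat_lit 0, nat_lit 24, nat_lit 18, nat_lit 16, nat_lit 26], (nat_lit 3245)⟩],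
  .cy (nat_lit 0) [] [] [] (nat_lit 3342) [],
  .cy (nat_lit 25) [] [] [nat_lit 25, nat_lit 14, nat_lit 0, nat_lit 25, nat_lit 18, nat_lit 16, nat_lit 26] (nat_lit 2053) [⟨[nat_lit 215], [nat_lit 14, nat_lit 0, nat_lit 36, nat_lit 18, nat_lit 27], (nat_lit 726)⟩, ⟨[nat_lit 217], [nat_lit 10, nat_lit 10, nat_lit 0, nat_lit 34, nat_lit 15, nat_lit 11, nat_lit 26], (nat_lit 3267)⟩],
  .cy (nat_lit 0) [] [] [] (nat_lit 3344) [],
  .cy (nat_lit 4) [] [] [nat_lit 17, nat_lit 2, nat_lit 0, nat_lit 18, nat_lit 25] (nat_lit 2682) [⟨[nat_lit 2592, nat_lit 2578, nat_lit 2579, nat_lit 2592], [nat_lit 15, nat_lit 2, nat_lit 18, nat_lit 36, nat_lit 27], (nat_lit 2743)⟩, ⟨[nat_lit 215, nat_lit 217, nat_lit 215], [nat_lit 5, nat_lit 26, nat_lit 36, nat_lit 26], (nat_lit 3333)⟩],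
  .cy (nat_lit 0) [] [] [] (nat_lit 3346) [],
  .cy (nat_lit 7) [] [] [nat_lit 5, nat_lit 2, nat_lit 0, nat_lit 34, nat_lit 17, nat_lit 33, nat_lit 26] (nat_lit 2093) [⟨[], [nat_lit 24, nat_lit 2, nat_lit 17], (nat_lit 925)⟩, ⟨[nat_lit 217, nat_lit 215], [nat_lit 25, nat_lit 2, nat_lit 0, nat_lit 24, nat_lit 18, nat_lit 16], (nat_lit 3275)⟩],
  .cy (nat_lit 0) [] [] [] (nat_lit 3348) [],
  .cy (nat_lit 20) [] [] [nat_lit 25, nat_lit 2, nat_lit 0, nat_lit 17, nat_lit 17, nat_lit 15, nat_lit 26] (nat_lit 1588) [⟨[nat_lit 217], [nat_lit 16, nat_lit 2, nat_lit 16, nat_lit 11, nat_lit 26], (nat_lit 1052)⟩, ⟨[nat_lit 215, nat_lit 217], [nat_lit 15, nat_lit 5, nat_lit 34, nat_lit 11], (nat_lit 3299)⟩],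
  .cy (nat_lit 0) [] [] [] (nat_lit 3350) [],
  .cy (nat_lit 20) [] [] [nat_lit 24, nat_lit 16, nat_lit 0, nat_lit 24, nat_lit 11, nat_lit 26] (nat_lit 2085) [⟨[nat_lit 215, nat_lit 217, nat_lit 215], [nat_lit 0, nat_lit 2, nat_lit 27, nat_lit 24, nat_lit 15], (nat_lit 1616)⟩, ⟨[], [nat_lit 25, nat_lit 1, nat_lit 27, nat_lit 18, nat_lit 11, nat_lit 26], (nat_lit 3271)⟩],
  .cy (nat_lit 0) [] [] [] (nat_lit 3352) [],
  .cy (nat_lit 10) [] [] [nat_lit 24, nat_lit 15, nat_lit 0, nat_lit 33, nat_lit 35, nat_lit 11, nat_lit 26] (nat_lit 1013) [⟨[nat_lit 215, nat_lit 217], [nat_lit 26, nat_lit 2, nat_lit 0, nat_lit 11, nat_lit 36], (nat_lit 1002)⟩, ⟨[], [nat_lit 24, nat_lit 2, nat_lit 33], (nat_lit 3233)⟩],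
  .cy (nat_lit 0) [] [] [] (nat_lit 3354) [],
  .cy (nat_lit 21) [] [] [nat_lit 17, nat_lit 2, nat_lit 0, nat_lit 32, nat_lit 18, nat_lit 15] (nat_lit 726) [⟨[nat_lit 215], [nat_lit 11, nat_lit 2, nat_lit 0, nat_lit 11, nat_lit 26], (nat_lit 945)⟩, ⟨[nat_lit 215, nat_lit 217, nat_lit 215], [nat_lit 11, nat_lit 5, nat_lit 2, nat_lit 33, nat_lit 34], (nat_lit 3345)⟩],
  .cy (nat_lit 0) [] [] [] (nat_lit 3356) [],
  .cy (nat_lit 5) [] [] [nat_lit 17, nat_lit 2, nat_lit 0, nat_lit 32, nat_lit 15, nat_lit 27] (nat_lit 2666) [⟨[nat_lit 2579, nat_lit 2592, nat_lit 2578, nat_lit 2591, nat_lit 2579], [nat_lit 16, nat_lit 0, nat_lit 36, nat_lit 17, nat_lit 26], (nat_lit 2739)⟩, ⟨[nat_lit 215], [nat_lit 5, nat_lit 16, nat_lit 2, nat_lit 26, nat_lit 15, nat_lit 27], (nat_lit 3185)⟩],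
  .cy (nat_lit 0) [] [] [] (nat_lit 3358) [],
  .cy (nat_lit 7) [] [] [nat_lit 18, nat_lit 15, nat_lit 0, nat_lit 16, nat_lit 26] (nat_lit 2666) [⟨[nat_lit 2578, nat_lit 2591, nat_lit 2579], [nat_lit 24, nat_lit 2, nat_lit 0, nat_lit 17, nat_lit 36, nat_lit 15], (nat_lit 2805)⟩, ⟨[nat_lit 215, nat_lit 217, nat_lit 215], [nat_lit 5, nat_lit 2, nat_lit 0, nat_lit 34, nat_lit 34, nat_lit 11], (nat_lit 3253)⟩],
  .cy (nat_lit 0) [] [] [] (nat_lit 3360) [],
  .cy (nat_lit 7) [] [] [nat_lit 16, nat_lit 5, nat_lit 2, nat_lit 15, nat_lit 17, nat_lit 27] (nat_lit 979) [⟨[nat_lit 215], [nat_lit 25, nat_lit 16, nat_lit 0, nat_lit 33, nat_lit 37, nat_lit 27], (nat_lit 897)⟩, ⟨[nat_lit 217], [nat_lit 18, nat_lit 15, nat_lit 0, nat_lit 33, nat_lit 15, nat_lit 11], (nat_lit 3169)⟩],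
  .cy (nat_lit 0) [] [] [] (nat_lit 3362) [],
  .cy (nat_lit 24) [] [] [nat_lit 15, nat_lit 5, nat_lit 36, nat_lit 16, nat_lit 11, nat_lit 26] (nat_lit 2896) [⟨[nat_lit 2579, nat_lit 2592, nat_lit 2578, nat_lit 2591], [nat_lit 11, nat_lit 5, nat_lit 2, nat_lit 24, nat_lit 18, nat_lit 16], (nat_lit 2899)⟩, ⟨[], [nat_lit 24, nat_lit 15, nat_lit 0, nat_lit 34, nat_lit 25, nat_lit 26], (nat_lit 3215)⟩],
  .cy (nat_lit 0) [] [] [] (nat_lit 3364) [],
  .cy (nat_lit 8) [] [] [nat_lit 5, nat_lit 2, nat_lit 33, nat_lit 18, nat_lit 11, nat_lit 26] (nat_lit 1680) [⟨[nat_lit 215, nat_lit 217], [nat_lit 24, nat_lit 2, nat_lit 35, nat_lit 35, nat_lit 11, nat_lit 26], (nat_lit 2229)⟩, ⟨[], [nat_lit 5, nat_lit 14, nat_lit 34, nat_lit 32, nat_lit 26], (nat_lit 3205)⟩],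
  .cy (nat_lit 0) [] [] [] (nat_lit 3366) [],
  .cy (nat_lit 12) [] [] [nat_lit 15, nat_lit 0, nat_lit 36, nat_lit 16, nat_lit 26] (nat_lit 1680) [⟨[nat_lit 217], [nat_lit 11, nat_lit 5, nat_lit 2, nat_lit 27, nat_lit 24, nat_lit 15, nat_lit 26], (nat_lit 1541)⟩, ⟨[], [nat_lit 14, nat_lit 0, nat_lit 35], (nat_lit 3147)⟩],
  .cy (nat_lit 0) [] [] [] (nat_lit 3368) [],
  .cy (nat_lit 25) [] [] [nat_lit 1, nat_lit 15, nat_lit 15, nat_lit 15, nat_lit 27] (nat_lit 2340) [⟨[nat_lit 215], [nat_lit 1, nat_lit 1, nat_lit 37, nat_lit 34], (nat_lit 1059)⟩, ⟨[nat_lit 215, nat_lit 217], [nat_lit 5, nat_lit 2, nat_lit 18, nat_lit 16, nat_lit 27], (nat_lit 3253)⟩],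
  .cy (nat_lit 0) [] [] [] (nat_lit 3370) [],
  .cy (nat_lit 25) [] [] [nat_lit 5, nat_lit 14, nat_lit 36, nat_lit 32, nat_lit 27] (nat_lit 1295) [⟨[], [nat_lit 25, nat_lit 14, nat_lit 0, nat_lit 24, nat_lit 37, nat_lit 11], (nat_lit 2346)⟩, ⟨[nat_lit 217], [nat_lit 25, nat_lit 0, nat_lit 37, nat_lit 32, nat_lit 11], (nat_lit 3173)⟩],
  .cy (nat_lit 0) [] [] [] (nat_lit 3372) [],
  .cy (nat_lit 5) [] [] [nat_lit 5, nat_lit 14, nat_lit 26, nat_lit 24, nat_lit 11] (nat_lit 2103) [⟨[nat_lit 215, nat_lit 217], [nat_lit 0, nat_lit 35, nat_lit 27, nat_lit 15, nat_lit 26], (nat_lit 1822)⟩, ⟨[nat_lit 215, nat_lit 217], [nat_lit 1, nat_lit 1, nat_lit 25, nat_lit 35, nat_lit 11, nat_lit 27], (nat_lit 3309)⟩],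
  .cy (nat_lit 0) [] [] [] (nat_lit 3374) [],
  .cy (nat_lit 22) [] [] [nat_lit 17, nat_lit 2, nat_lit 0, nat_lit 37, nat_lit 37, nat_lit 11, nat_lit 27] (nat_lit 1450) [⟨[nat_lit 217], [nat_lit 18, nat_lit 15, nat_lit 0, nat_lit 15, nat_lit 18, nat_lit 26], (nat_lit 2569)⟩, ⟨[nat_lit 217, nat_lit 215], [nat_lit 5, nat_lit 16, nat_lit 2, nat_lit 16, nat_lit 18, nat_lit 26], (nat_lit 3159)⟩],
  .cy (nat_lit 0) [] [] [] (nat_lit 3376) [],
  .cy (nat_lit 10) [] [] [nat_lit 1, nat_lit 14, nat_lit 33, nat_lit 15, nat_lit 11] (nat_lit 2166) [⟨[nat_lit 215, nat_lit 217, nat_lit 215], [nat_lit 2, nat_lit 0, nat_lit 34, nat_lit 32, nat_lit 16, nat_lit 27], (nat_lit 2379)⟩, ⟨[nat_lit 217], [nat_lit 0, nat_lit 37, nat_lit 34, nat_lit 11, nat_lit 27], (nat_lit 3203)⟩],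
  .cy (nat_lit 0) [] [] [] (nat_lit 3378) [],
  .cy (nat_lit 26) [] [] [nat_lit 25, nat_lit 2, nat_lit 0, nat_lit 24, nat_lit 17, nat_lit 26] (nat_lit 2166) [⟨[nat_lit 217, nat_lit 215], [nat_lit 25, nat_lit 14, nat_lit 0, nat_lit 18, nat_lit 11, nat_lit 15, nat_lit 27], (nat_lit 2482)⟩, ⟨[nat_lit 215, nat_lit 217, nat_lit 215], [nat_lit 1, nat_lit 14, nat_lit 16, nat_lit 18, nat_lit 11, nat_lit 27], (nat_lit 3175)⟩]]
noncomputable def P3575 : List Pf := [.cy (nat_lit 0) [] [] [] (nat_lit 3380) [],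
  .cy (nat_lit 20) [] [] [nat_lit 15, nat_lit 1, nat_lit 15, nat_lit 32, nat_lit 15] (nat_lit 2366) [⟨[], [nat_lit 2, nat_lit 34, nat_lit 34, nat_lit 15, nat_lit 27], (nat_lit 1892)⟩, ⟨[nat_lit 217], [nat_lit 15, nat_lit 1, nat_lit 35, nat_lit 32], (nat_lit 3237)⟩],
  .cy (nat_lit 0) [] [] [] (nat_lit 3382) [],
  .cy (nat_lit 8) [] [] [nat_lit 14, nat_lit 24, nat_lit 26] (nat_lit 1918) [⟨[nat_lit 217], [nat_lit 18, nat_lit 15, nat_lit 0, nat_lit 37, nat_lit 24, nat_lit 27], (nat_lit 2520)⟩, ⟨[nat_lit 217], [nat_lit 14, nat_lit 0, nat_lit 33, nat_lit 33, nat_lit 27], (nat_lit 3187)⟩],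
  .cy (nat_lit 0) [] [] [] (nat_lit 3384) [],
  .cy (nat_lit 10) [] [] [nat_lit 25, nat_lit 2, nat_lit 0, nat_lit 37, nat_lit 15, nat_lit 27] (nat_lit 1918) [⟨[nat_lit 215], [nat_lit 25, nat_lit 16, nat_lit 0, nat_lit 37, nat_lit 11, nat_lit 15, nat_lit 27], (nat_lit 1395)⟩, ⟨[nat_lit 217, nat_lit 215], [nat_lit 25, nat_lit 16, nat_lit 0, nat_lit 33, nat_lit 16, nat_lit 26], (nat_lit 3275)⟩],
  .cy (nat_lit 0) [] [] [] (nat_lit 3386) [],
  .cy (nat_lit 16) [] [] [nat_lit 0, nat_lit 2, nat_lit 37, nat_lit 16, nat_lit 27] (nat_lit 1918) [⟨[nat_lit 215], [nat_lit 26, nat_lit 2, nat_lit 37, nat_lit 24, nat_lit 11, nat_lit 26], (nat_lit 1655)⟩, ⟨[], [nat_lit 5, nat_lit 34, nat_lit 17, nat_lit 33], (nat_lit 1486)⟩, ⟨[nat_lit 215], [nat_lit 5, nat_lit 34, nat_lit 24, nat_lit 27], (nat_lit 1628)⟩, ⟨[nat_lit 215, nat_lit 217], [nat_lit 14, nat_lit 37], (nat_lit 909)⟩, ⟨[nat_lit 215], [nat_lit 0, nat_lit 25, nat_lit 18, nat_lit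 16, nat_lit 27], (nat_lit 618)⟩, ⟨[nat_lit 215], [nat_lit 2, nat_lit 0, nat_lit 25, nat_lit 18, nat_lit 18], (nat_lit 3365)⟩],
  .cy (nat_lit 0) [] [] [] (nat_lit 3388) [],
  .cy (nat_lit 11) [] [] [nat_lit 17, nat_lit 24, nat_lit 0, nat_lit 37, nat_lit 34, nat_lit 11] (nat_lit 1845) [⟨[nat_lit 215, nat_lit 217, nat_lit 215], [nat_lit 24, nat_lit 16, nat_lit 0, nat_lit 24, nat_lit 18, nat_lit 27], (nat_lit 2353)⟩, ⟨[nat_lit 215], [nat_lit 15, nat_lit 0, nat_lit 24, nat_lit 24, nat_lit 11], (nat_lit 3275)⟩],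
  .cy (nat_lit 0) [] [] [] (nat_lit 3390) [],
  .cy (nat_lit 8) [] [] [nat_lit 5, nat_lit 2, nat_lit 0, nat_lit 15, nat_lit 27, nat_lit 16, nat_lit 26] (nat_lit 2348) [⟨[nat_lit 217, nat_lit 215], [nat_lit 15, nat_lit 5, nat_lit 35, nat_lit 32, nat_lit 11, nat_lit 26], (nat_lit 1167)⟩, ⟨[nat_lit 215, nat_lit 217, nat_lit 215], [nat_lit 14, nat_lit 0, nat_lit 34, nat_lit 25, nat_lit 27], (nat_lit 3145)⟩],
  .cy (nat_lit 0) [] [] [] (nat_lit 3392) [],
  .cy (nat_lit 12) [] [] [nat_lit 14, nat_lit 0, nat_lit 33, nat_lit 34, nat_lit 26] (nat_lit 2348) [⟨[nat_lit 215], [nat_lit 15, nat_lit 2, nat_lit 37, nat_lit 15, nat_lit 11, nat_lit 27], (nat_lit 2362)⟩, ⟨[nat_lit 217, nat_lit 215], [nat_lit 11, nat_lit 2, nat_lit 0, nat_lit 37, nat_lit 37, nat_lit 11, nat_lit 27], (nat_lit 3207)⟩],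
  .cy (nat_lit 0) [] [] [] (nat_lit 3394) [],
  .cy (nat_lit 22) [] [] [nat_lit 17, nat_lit 2, nat_lit 0, nat_lit 35, nat_lit 35, nat_lit 11, nat_lit 26] (nat_lit 2348) [⟨[nat_lit 217], [nat_lit 26, nat_lit 2, nat_lit 25, nat_lit 11, nat_lit 27], (nat_lit 1996)⟩, ⟨[nat_lit 215, nat_lit 217, nat_lit 215], [nat_lit 25, nat_lit 14, nat_lit 0, nat_lit 36, nat_lit 16, nat_lit 11], (nat_lit 3223)⟩],
  .cy (nat_lit 0) [] [] [] (nat_lit 3396) [],
  .cy (nat_lit 6) [] [] [nat_lit 24, nat_lit 16, nat_lit 0, nat_lit 16, nat_lit 32, nat_lit 15] (nat_lit 767) [⟨[nat_lit 215, nat_lit 217], [nat_lit 25, nat_lit 14, nat_lit 0, nat_lit 25, nat_lit 37, nat_lit 27], (nat_lit 660)⟩, ⟨[nat_lit 215, nat_lit 217, nat_lit 215], [nat_lit 15, nat_lit 2, nat_lit 15, nat_lit 15, nat_lit 15, nat_lit 27], (nat_lit 3365)⟩],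
  .cy (nat_lit 0) [] [] [] (nat_lit 3398) [],
  .cy (nat_lit 19) [] [] [nat_lit 15, nat_lit 1, nat_lit 35, nat_lit 36, nat_lit 11, nat_lit 27] (nat_lit 767) [⟨[nat_lit 217, nat_lit 215], [nat_lit 24, nat_lit 15, nat_lit 0, nat_lit 36, nat_lit 16, nat_lit 11, nat_lit 26], (nat_lit 709)⟩, ⟨[], [nat_lit 25, nat_lit 16, nat_lit 0, nat_lit 27, nat_lit 18, nat_lit 11, nat_lit 26], (nat_lit 2106)⟩, ⟨[nat_lit 215, nat_lit 217, nat_lit 215], [nat_lit 14, nat_lit 26, nat_lit 24], (nat_lit 1480)⟩, ⟨[nat_lit 215, nat_lit 217, nat_lit 215], [nat_lit 25, nat_lit 14, nat_lit 0, nat_lit 27], (nat_lit 1402)⟩, ⟨[nat_lit 217], [nat_lit 1, nat_lit 15, nat_lit 15, nat_lit 15], (nat_lit 1304)⟩, ⟨[], [nat_lit 25, nat_lit 0, nat_lit 16, nat_lit 18, nat_lit 27], (nat_lit 3189)⟩],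
  .cy (nat_lit 0) [] [] [] (nat_lit 3400) [],
  .cy (nat_lit 21) [] [] [nat_lit 5, nat_lit 16, nat_lit 2, nat_lit 35, nat_lit 17] (nat_lit 1546) [⟨[], [nat_lit 1, nat_lit 24, nat_lit 0, nat_lit 26, nat_lit 24, nat_lit 11], (nat_lit 1094)⟩, ⟨[nat_lit 217], [nat_lit 11, nat_lit 5, nat_lit 2, nat_lit 17, nat_lit 17, nat_lit 11, nat_lit 26], (nat_lit 3349)⟩],
  .cy (nat_lit 0) [] [] [] (nat_lit 3402) [],
  .cy (nat_lit 21) [] [] [nat_lit 17, nat_lit 2, nat_lit 0, nat_lit 34, nat_lit 37, nat_lit 11, nat_lit 26] (nat_lit 1815) [⟨[nat_lit 215, nat_lit 217], [nat_lit 25, nat_lit 0, nat_lit 17, nat_lit 37], (nat_lit 936)⟩, ⟨[nat_lit 215, nat_lit 217, nat_lit 215], [nat_lit 26, nat_lit 2, nat_lit 17, nat_lit 24, nat_lit 27], (nat_lit 3299)⟩],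
  .cy (nat_lit 0) [] [] [] (nat_lit 3404) [],
  .cy (nat_lit 27) [] [] [nat_lit 24, nat_lit 0, nat_lit 32, nat_lit 34, nat_lit 16] (nat_lit 2928) [⟨[nat_lit 2592, nat_lit 2578, nat_lit 2591, nat_lit 2579], [nat_lit 5, nat_lit 0, nat_lit 32, nat_lit 18, nat_lit 11, nat_lit 27], (nat_lit 2897)⟩, ⟨[nat_lit 217, nat_lit 215], [nat_lit 0, nat_lit 25, nat_lit 37, nat_lit 15, nat_lit 26], (nat_lit 3323)⟩],
  .cy (nat_lit 0) [] [] [] (nat_lit 3406) [],
  .cy (nat_lit 6) [] [] [nat_lit 5, nat_lit 14, nat_lit 25, nat_lit 36, nat_lit 15] (nat_lit 2374) [⟨[nat_lit 217, nat_lit 215], [nat_lit 5, nat_lit 2, nat_lit 17, nat_lit 24], (nat_lit 1874)⟩, ⟨[nat_lit 215], [nat_lit 17, nat_lit 2, nat_lit 0, nat_lit 36, nat_lit 33, nat_lit 11], (nat_lit 3305)⟩],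
  .cy (nat_lit 0) [] [] [] (nat_lit 3408) [],
  .cy (nat_lit 15) [] [] [nat_lit 24, nat_lit 2, nat_lit 15, nat_lit 35, nat_lit 26] (nat_lit 2374) [⟨[], [nat_lit 24, nat_lit 16, nat_lit 0, nat_lit 24], (nat_lit 1739)⟩, ⟨[nat_lit 215, nat_lit 217, nat_lit 215], [nat_lit 16, nat_lit 5, nat_lit 0, nat_lit 36, nat_lit 26], (nat_lit 3369)⟩, ⟨[nat_lit 3141, nat_lit 3134, nat_lit 3141, nat_lit 3132], [nat_lit 1, nat_lit 34, nat_lit 16, nat_lit 11, nat_lit 26], (nat_lit 3318)⟩, ⟨[], [nat_lit 24, nat_lit 2, nat_lit 0, nat_lit 26, nat_lit 24, nat_lit 27], (nat_lit 2270)⟩, ⟨[], [nat_lit 10, nat_lit 10, nat_lit 0, nat_lit 16, nat_lit 16, nat_lit 11], (nat_lit 2545)⟩, ⟨[nat_lit 217, nat_lit 215], [nat_lit 5, nat_lit 14, nat_lit 32, nat_lit 32], (nat_lit 3279)⟩],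
  .cy (nat_lit 0) [] [] [] (nat_lit 3410) [],
  .cy (nat_lit 7) [] [] [nat_lit 25, nat_lit 16, nat_lit 0, nat_lit 27, nat_lit 17, nat_lit 26] (nat_lit 1681) [⟨[], [nat_lit 24, nat_lit 2, nat_lit 17, nat_lit 37, nat_lit 26], (nat_lit 1621)⟩, ⟨[nat_lit 215], [nat_lit 11, nat_lit 2, nat_lit 0, nat_lit 26, nat_lit 17, nat_lit 15, nat_lit 26], (nat_lit 3163)⟩],
  .cy (nat_lit 0) [] [] [] (nat_lit 3412) [],
  .cy (nat_lit 26) [] [] [nat_lit 15, nat_lit 1, nat_lit 26, nat_lit 34, nat_lit 11, nat_lit 27] (nat_lit 2345) [⟨[], [nat_lit 1, nat_lit 15, nat_lit 15, nat_lit 15, nat_lit 27], (nat_lit 1312)⟩, ⟨[nat_lit 217, nat_lit 215], [nat_lit 24, nat_lit 2, nat_lit 25, nat_lit 16, nat_lit 27], (nat_lit 3225)⟩],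
  .cy (nat_lit 0) [] [] [] (nat_lit 3414) [],
  .cy (nat_lit 1) [] [] [nat_lit 25, nat_lit 2, nat_lit 0, nat_lit 15, nat_lit 27, nat_lit 16] (nat_lit 1494) [⟨[nat_lit 217], [nat_lit 16, nat_lit 5, nat_lit 2, nat_lit 37, nat_lit 27], (nat_lit 2396)⟩, ⟨[], [nat_lit 25, nat_lit 1, nat_lit 37, nat_lit 18, nat_lit 15, nat_lit 27], (nat_lit 3329)⟩],
  .cy (nat_lit 0) [] [] [] (nat_lit 3416) [],
  .cy (nat_lit 5) [] [] [nat_lit 1, nat_lit 14, nat_lit 33, nat_lit 16, nat_lit 11, nat_lit 27] (nat_lit 1494) [⟨[nat_lit 217], [nat_lit 5, nat_lit 0, nat_lit 36, nat_lit 11, nat_lit 27], (nat_lit 1379)⟩, ⟨[nat_lit 215, nat_lit 217], [nat_lit 1, nat_lit 14, nat_lit 36], (nat_lit 3167)⟩],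
  .cy (nat_lit 0) [] [] [] (nat_lit 3418) [],
  .cy (nat_lit 8) [] [] [nat_lit 17, nat_lit 24, nat_lit 0, nat_lit 35, nat_lit 35, nat_lit 27] (nat_lit 1933) [⟨[nat_lit 215], [nat_lit 10, nat_lit 0, nat_lit 27, nat_lit 24, nat_lit 11], (nat_lit 842)⟩, ⟨[nat_lit 215, nat_lit 217], [nat_lit 26, nat_lit 24, nat_lit 0, nat_lit 17, nat_lit 11, nat_lit 17], (nat_lit 3311)⟩],
  .cy (nat_lit 0) [] [] [] (nat_lit 3420) [],
  .cy (nat_lit 5) [] [] [nat_lit 0, nat_lit 2, nat_lit 24, nat_lit 18, nat_lit 18] (nat_lit 1216) [⟨[nat_lit 215], [nat_lit 1, nat_lit 1, nat_lit 35, nat_lit 27, nat_lit 15], (nat_lit 445)⟩, ⟨[nat_lit 215, nat_lit 217, nat_lit 215], [nat_lit 24, nat_lit 15, nat_lit 0, nat_lit 15, nat_lit 18, nat_lit 26], (nat_lit 3145)⟩],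
  .cy (nat_lit 0) [] [] [] (nat_lit 3422) [],
  .cy (nat_lit 17) [] [] [nat_lit 5, nat_lit 16, nat_lit 2, nat_lit 24] (nat_lit 2063) [⟨[], [nat_lit 14, nat_lit 0, nat_lit 37, nat_lit 11], (nat_lit 2487)⟩, ⟨[], [nat_lit 26, nat_lit 2, nat_lit 0, nat_lit 24, nat_lit 24, nat_lit 27], (nat_lit 1558)⟩, ⟨[nat_lit 215, nat_lit 217, nat_lit 215], [nat_lit 15, nat_lit 2, nat_lit 17, nat_lit 25, nat_lit 15], (nat_lit 1876)⟩, ⟨[nat_lit 215, nat_lit 217, nat_lit 215], [nat_lit 15, nat_lit 0, nat_lit 37, nat_lit 17, nat_lit 26], (nat_lit 1091)⟩, ⟨[], [nat_lit 0, nat_lit 2, nat_lit 37, nat_lit 32, nat_lit 11, nat_lit 26], (nat_lit 570)⟩, ⟨[nat_lit 215, nat_lit 217], [nat_lit 2, nat_lit 36, nat_lit 11, nat_lit 26], (nat_lit 3175)⟩],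
  .cy (nat_lit 0) [] [] [] (nat_lit 3424) [],
  .cy (nat_lit 25) [] [] [nat_lit 1, nat_lit 11, nat_lit 15] (nat_lit 975) [⟨[nat_lit 215, nat_lit 217], [nat_lit 26, nat_lit 2, nat_lit 0, nat_lit 25, nat_lit 15, nat_lit 26], (nat_lit 2254)⟩, ⟨[nat_lit 215, nat_lit 217], [nat_lit 5, nat_lit 16, nat_lit 2, nat_lit 36, nat_lit 16, nat_lit 11, nat_lit 27], (nat_lit 3215)⟩],
  .cy (nat_lit 0) [] [] [] (nat_lit 3426) [],
  .cy (nat_lit 7) [] [] [nat_lit 25, nat_lit 14, nat_lit 0, nat_lit 17, nat_lit 15, nat_lit 27] (nat_lit 395) [⟨[nat_lit 217], [nat_lit 10, nat_lit 0, nat_lit 17, nat_lit 11, nat_lit 17, nat_lit 27], (nat_lit 2186)⟩, ⟨[nat_lit 215, nat_lit 217], [nat_lit 17, nat_lit 24, nat_lit 0, nat_lit 16, nat_lit 18, nat_lit 15, nat_lit 26], (nat_lit 3393)⟩],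
  .cy (nat_lit 0) [] [] [] (nat_lit 3428) [],
  .cy (nat_lit 7) [] [] [nat_lit 25, nat_lit 1, nat_lit 11, nat_lit 16] (nat_lit 2984) [⟨[nat_lit 2579, nat_lit 2592, nat_lit 2578, nat_lit 2579, nat_lit 2578], [nat_lit 5, nat_lit 2, nat_lit 0, nat_lit 25, nat_lit 35, nat_lit 11, nat_lit 26], (nat_lit 3001)⟩, ⟨[nat_lit 217], [nat_lit 5, nat_lit 2, nat_lit 26, nat_lit 34], (nat_lit 3209)⟩],
  .cy (nat_lit 0) [] [] [] (nat_lit 3430) [],
  .cy (nat_lit 20) [] [] [nat_lit 16, nat_lit 5, nat_lit 0, nat_lit 35, nat_lit 11, nat_lit 26] (nat_lit 2200) [⟨[nat_lit 217, nat_lit 215], [nat_lit 14, nat_lit 15, nat_lit 0, nat_lit 32, nat_lit 34, nat_lit 16, nat_lit 26], (nat_lit 1905)⟩, ⟨[nat_lit 217], [nat_lit 24, nat_lit 2, nat_lit 33, nat_lit 35, nat_lit 11, nat_lit 27], (nat_lit 3136)⟩],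
  .cy (nat_lit 0) [] [] [] (nat_lit 3432) [],
  .cy (nat_lit 10) [] [] [nat_lit 24, nat_lit 2, nat_lit 0, nat_lit 15, nat_lit 35, nat_lit 27] (nat_lit 3012) [⟨[nat_lit 2578, nat_lit 2591, nat_lit 2579, nat_lit 2578], [nat_lit 15, nat_lit 5, nat_lit 36, nat_lit 24], (nat_lit 2785)⟩, ⟨[], [nat_lit 15, nat_lit 2, nat_lit 24, nat_lit 35], (nat_lit 3151)⟩],
  .cy (nat_lit 0) [] [] [] (nat_lit 3434) [],
  .cy (nat_lit 25) [] [] [nat_lit 14, nat_lit 15, nat_lit 0, nat_lit 33, nat_lit 15, nat_lit 26] (nat_lit 539) [⟨[], [nat_lit 5, nat_lit 2, nat_lit 0, nat_lit 32, nat_lit 34, nat_lit 16, nat_lit 27], (nat_lit 2463)⟩, ⟨[nat_lit 215], [nat_lit 25, nat_lit 0, nat_lit 35, nat_lit 16, nat_lit 16, nat_lit 26], (nat_lit 3251)⟩],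
  .cy (nat_lit 0) [] [] [] (nat_lit 3436) [],
  .cy (nat_lit 3) [] [] [nat_lit 5, nat_lit 14, nat_lit 24, nat_lit 17, nat_lit 11, nat_lit 26] (nat_lit 1333) [⟨[], [nat_lit 24, nat_lit 0, nat_lit 25, nat_lit 18, nat_lit 26], (nat_lit 1861)⟩, ⟨[nat_lit 217, nat_lit 215], [nat_lit 16, nat_lit 5, nat_lit 2, nat_lit 27, nat_lit 25, nat_lit 26], (nat_lit 3183)⟩],
  .cy (nat_lit 0) [] [] [] (nat_lit 3438) [],
  .cy (nat_lit 11) [] [] [nat_lit 5, nat_lit 2, nat_lit 15, nat_lit 32, nat_lit 15, nat_lit 27] (nat_lit 1333) [⟨[nat_lit 215], [nat_lit 2, nat_lit 24, nat_lit 36, nat_lit 11], (nat_lit 1068)⟩, ⟨[nat_lit 217, nat_lit 215], [nat_lit 24, nat_lit 2, nat_lit 0, nat_lit 27, nat_lit 17, nat_lit 26], (nat_lit 3267)⟩],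
  .cy (nat_lit 0) [] [] [] (nat_lit 3440) [],
  .cy (nat_lit 22) [] [] [nat_lit 24, nat_lit 1, nat_lit 33, nat_lit 15] (nat_lit 2986) [⟨[nat_lit 2591, nat_lit 2579, nat_lit 2578], [nat_lit 11, nat_lit 2, nat_lit 0, nat_lit 37, nat_lit 26], (nat_lit 2653)⟩, ⟨[nat_lit 215, nat_lit 217, nat_lit 215], [nat_lit 11, nat_lit 2, nat_lit 0, nat_lit 17, nat_lit 26], (nat_lit 3191)⟩],
  .cy (nat_lit 0) [] [] [] (nat_lit 3442) [],
  .cy (nat_lit 23) [] [] [nat_lit 16, nat_lit 5, nat_lit 2, nat_lit 36, nat_lit 18] (nat_lit 899) [⟨[], [nat_lit 25, nat_lit 16, nat_lit 0, nat_lit 25, nat_lit 15, nat_lit 11], (nat_lit 712)⟩, ⟨[nat_lit 217], [nat_lit 25, nat_lit 0, nat_lit 15, nat_lit 18, nat_lit 27], (nat_lit 3299)⟩],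
  .cy (nat_lit 0) [] [] [] (nat_lit 3444) [],
  .cy (nat_lit 6) [] [] [nat_lit 1, nat_lit 14, nat_lit 33, nat_lit 25, nat_lit 26] (nat_lit 530) [⟨[nat_lit 217], [nat_lit 16, nat_lit 5, nat_lit 0, nat_lit 33, nat_lit 35, nat_lit 11], (nat_lit 1397)⟩, ⟨[nat_lit 215], [nat_lit 1, nat_lit 24, nat_lit 0, nat_lit 17, nat_lit 24, nat_lit 27], (nat_lit 3201)⟩],
  .cy (nat_lit 0) [] [] [] (nat_lit 3446) [],
  .cy (nat_lit 9) [] [] [nat_lit 11, nat_lit 2, nat_lit 0, nat_lit 33] (nat_lit 559) [⟨[nat_lit 215, nat_lit 217], [nat_lit 24, nat_lit 16, nat_lit 0, nat_lit 17, nat_lit 11, nat_lit 26], (nat_lit 1776)⟩, ⟨[], [nat_lit 24, nat_lit 16, nat_lit 0, nat_lit 37, nat_lit 37, nat_lit 27], (nat_lit 3201)⟩],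
  .cy (nat_lit 0) [] [] [] (nat_lit 3448) [],
  .cy (nat_lit 3) [] [] [nat_lit 0, nat_lit 32, nat_lit 34, nat_lit 27] (nat_lit 1773) [⟨[nat_lit 215], [nat_lit 24, nat_lit 1, nat_lit 24, nat_lit 16], (nat_lit 1184)⟩, ⟨[nat_lit 215, nat_lit 217], [nat_lit 5, nat_lit 16, nat_lit 2, nat_lit 36, nat_lit 15, nat_lit 27], (nat_lit 3385)⟩],
  .cy (nat_lit 0) [] [] [] (nat_lit 3450) [],
  .cy (nat_lit 1) [] [] [nat_lit 15, nat_lit 0, nat_lit 11, nat_lit 36, nat_lit 26] (nat_lit 316) [⟨[], [nat_lit 25, nat_lit 0, nat_lit 24, nat_lit 37, nat_lit 26], (nat_lit 628)⟩, ⟨[nat_lit 215, nat_lit 217], [nat_lit 11, nat_lit 5, nat_lit 2, nat_lit 26, nat_lit 17, nat_lit 15, nat_lit 26], (nat_lit 3191)⟩],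
  .cy (nat_lit 0) [] [] [] (nat_lit 3452) [],
  .cy (nat_lit 22) [] [] [nat_lit 5, nat_lit 14, nat_lit 33, nat_lit 16, nat_lit 27] (nat_lit 286) [⟨[nat_lit 217], [nat_lit 15, nat_lit 2, nat_lit 27, nat_lit 15, nat_lit 27], (nat_lit 854)⟩, ⟨[nat_lit 217], [nat_lit 2, nat_lit 37, nat_lit 15, nat_lit 11, nat_lit 27], (nat_lit 3429)⟩],
  .cy (nat_lit 0) [] [] [] (nat_lit 3454) [],
  .cy (nat_lit 20) [] [] [nat_lit 11, nat_lit 2, nat_lit 0, nat_lit 25, nat_lit 11] (nat_lit 3122) [⟨[nat_lit 3119, nat_lit 3109, nat_lit 3117, nat_lit 3120, nat_lit 3116], [nat_lit 10, nat_lit 0, nat_lit 34, nat_lit 17, nat_lit 26], (nat_lit 3123)⟩, ⟨[nat_lit 215, nat_lit 217], [nat_lit 25, nat_lit 14, nat_lit 0, nat_lit 34, nat_lit 17, nat_lit 27], (nat_lit 3387)⟩],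
  .cy (nat_lit 0) [] [] [] (nat_lit 3456) [],
  .cy (nat_lit 20) [] [] [nat_lit 24, nat_lit 0, nat_lit 35, nat_lit 36, nat_lit 11] (nat_lit 252) [⟨[], [nat_lit 25, nat_lit 16, nat_lit 0, nat_lit 24, nat_lit 36], (nat_lit 1630)⟩, ⟨[], [nat_lit 11, nat_lit 5, nat_lit 2, nat_lit 33, nat_lit 33, nat_lit 11, nat_lit 27], (nat_lit 3411)⟩],
  .cy (nat_lit 0) [] [] [] (nat_lit 3458) [],
  .cy (nat_lit 26) [] [] [nat_lit 15, nat_lit 1, nat_lit 34, nat_lit 24, nat_lit 15, nat_lit 27] (nat_lit 225) [⟨[nat_lit 176, nat_lit 162], [nat_lit 24, nat_lit 1, nat_lit 24, nat_lit 37, nat_lit 11], (nat_lit 507)⟩, ⟨[nat_lit 215], [nat_lit 10, nat_lit 0, nat_lit 33, nat_lit 26], (nat_lit 3357)⟩],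
  .cy (nat_lit 0) [] [] [] (nat_lit 3460) [],
  .cy (nat_lit 7) [] [] [nat_lit 1, nat_lit 14, nat_lit 34, nat_lit 24, nat_lit 27] (nat_lit 237) [⟨[nat_lit 165, nat_lit 162, nat_lit 161], [nat_lit 17, nat_lit 2, nat_lit 0, nat_lit 36, nat_lit 33, nat_lit 11], (nat_lit 499)⟩, ⟨[nat_lit 215, nat_lit 217], [nat_lit 16, nat_lit 2, nat_lit 34, nat_lit 37], (nat_lit 3189)⟩],
  .cy (nat_lit 0) [] [] [] (nat_lit 3462) [],
  .cy (nat_lit 1) [] [] [nat_lit 25, nat_lit 2, nat_lit 0, nat_lit 32, nat_lit 36, nat_lit 16, nat_lit 27] (nat_lit 531) [⟨[nat_lit 215, nat_lit 217, nat_lit 215], [nat_lit 17, nat_lit 2, nat_lit 0, nat_lit 16, nat_lit 11, nat_lit 27], (nat_lit 1694)⟩, ⟨[nat_lit 217, nat_lit 215], [nat_lit 24, nat_lit 0, nat_lit 15, nat_lit 32, nat_lit 15], (nat_lit 3313)⟩],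
  .cy (nat_lit 0) [] [] [] (nat_lit 3464) [],
  .cy (nat_lit 23) [] [] [nat_lit 5, nat_lit 26, nat_lit 24, nat_lit 26] (nat_lit 2365) [⟨[nat_lit 215, nat_lit 217, nat_lit 215], [nat_lit 36, nat_lit 33, nat_lit 27], (nat_lit 2505)⟩, ⟨[nat_lit 215, nat_lit 217], [nat_lit 14, nat_lit 15, nat_lit 0, nat_lit 34, nat_lit 34, nat_lit 26], (nat_lit 3437)⟩],
  .cy (nat_lit 0) [] [] [] (nat_lit 3466) [],
  .cy (nat_lit 21) [] [] [nat_lit 24, nat_lit 1, nat_lit 18, nat_lit 27] (nat_lit 1388) [⟨[nat_lit 217, nat_lit 215], [nat_lit 14, nat_lit 15, nat_lit 0, nat_lit 26, nat_lit 16], (nat_lit 2254)⟩, ⟨[nat_lit 217, nat_lit 215], [nat_lit 26, nat_lit 2, nat_lit 0, nat_lit 15, nat_lit 17, nat_lit 27], (nat_lit 3197)⟩],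
  .cy (nat_lit 0) [] [] [] (nat_lit 3468) [],
  .cy (nat_lit 26) [] [] [nat_lit 17, nat_lit 2, nat_lit 0, nat_lit 36, nat_lit 36, nat_lit 17, nat_lit 26] (nat_lit 1388) [⟨[nat_lit 217, nat_lit 215], [nat_lit 16, nat_lit 5, nat_lit 2, nat_lit 18, nat_lit 18, nat_lit 26], (nat_lit 2147)⟩, ⟨[nat_lit 215, nat_lit 217], [nat_lit 16, nat_lit 5, nat_lit 2, nat_lit 15, nat_lit 18, nat_lit 16, nat_lit 27], (nat_lit 3423)⟩],
  .cy (nat_lit 0) [] [] [] (nat_lit 3470) [],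
  .cy (nat_lit 22) [] [] [nat_lit 5, nat_lit 2, nat_lit 0, nat_lit 16, nat_lit 27] (nat_lit 1104) [⟨[nat_lit 215, nat_lit 217], [nat_lit 1, nat_lit 14, nat_lit 15, nat_lit 17, nat_lit 27], (nat_lit 1181)⟩, ⟨[nat_lit 215, nat_lit 217, nat_lit 215], [nat_lit 1, nat_lit 26, nat_lit 34, nat_lit 32, nat_lit 26], (nat_lit 3289)⟩],
  .cy (nat_lit 0) [] [] [] (nat_lit 3472) [],
  .cy (nat_lit 3) [] [] [nat_lit 11, nat_lit 5, nat_lit 2, nat_lit 25, nat_lit 18, nat_lit 18, nat_lit 26] (nat_lit 2644) [⟨[nat_lit 2579], [nat_lit 24, nat_lit 0, nat_lit 25, nat_lit 37, nat_lit 17, nat_lit 27], (nat_lit 2683)⟩, ⟨[nat_lit 215], [nat_lit 17, nat_lit 24, nat_lit 0, nat_lit 15, nat_lit 32, nat_lit 15], (nat_lit 3465)⟩],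
  .cy (nat_lit 0) [] [] [] (nat_lit 3474) [],
  .cy (nat_lit 8) [] [] [nat_lit 11, nat_lit 2, nat_lit 0, nat_lit 25, nat_lit 36, nat_lit 15, nat_lit 26] (nat_lit 2119) [⟨[nat_lit 215, nat_lit 217, nat_lit 215], [nat_lit 24, nat_lit 1, nat_lit 16, nat_lit 17, nat_lit 15, nat_lit 27], (nat_lit 2573)⟩, ⟨[], [nat_lit 24, nat_lit 16, nat_lit 0, nat_lit 25, nat_lit 36, nat_lit 27], (nat_lit 3227)⟩],
  .cy (nat_lit 0) [] [] [] (nat_lit 3476) [],
  .cy (nat_lit 26) [] [] [nat_lit 17, nat_lit 24, nat_lit 0, nat_lit 25, nat_lit 37] (nat_lit 391) [⟨[nat_lit 215], [nat_lit 1, nat_lit 1, nat_lit 27, nat_lit 24, nat_lit 26], (nat_lit 559)⟩, ⟨[], [nat_lit 1, nat_lit 33, nat_lit 24], (nat_lit 3209)⟩],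
  .cy (nat_lit 0) [] [] [] (nat_lit 3478) [],
  .cy (nat_lit 5) [] [] [nat_lit 5, nat_lit 2, nat_lit 24, nat_lit 24, nat_lit 27] (nat_lit 1281) [⟨[nat_lit 217], [nat_lit 24, nat_lit 0, nat_lit 34, nat_lit 32, nat_lit 11], (nat_lit 1781)⟩, ⟨[], [nat_lit 33, nat_lit 37], (nat_lit 3319)⟩],
  .cy (nat_lit 0) [] [] [] (nat_lit 3480) [],
  .cy (nat_lit 25) [] [] [nat_lit 24, nat_lit 0, nat_lit 17, nat_lit 15, nat_lit 11, nat_lit 26] (nat_lit 2254) [⟨[nat_lit 217, nat_lit 215], [nat_lit 15, nat_lit 2, nat_lit 24, nat_lit 37, nat_lit 11], (nat_lit 2148)⟩, ⟨[nat_lit 215, nat_lit 217], [nat_lit 10, nat_lit 0, nat_lit 34, nat_lit 32, nat_lit 11, nat_lit 27], (nat_lit 3397)⟩],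
  .cy (nat_lit 0) [] [] [] (nat_lit 3482) [],
  .cy (nat_lit 21) [] [] [nat_lit 14, nat_lit 15, nat_lit 0, nat_lit 17, nat_lit 17, nat_lit 27] (nat_lit 2277) [⟨[nat_lit 217, nat_lit 215], [nat_lit 14, nat_lit 0, nat_lit 37, nat_lit 25, nat_lit 26], (nat_lit 1227)⟩, ⟨[nat_lit 217, nat_lit 215], [nat_lit 2, nat_lit 32, nat_lit 36, nat_lit 16], (nat_lit 3467)⟩],
  .cy (nat_lit 0) [] [] [] (nat_lit 3484) [],
  .cy (nat_lit 5) [] [] [nat_lit 5, nat_lit 2, nat_lit 17, nat_lit 34, nat_lit 27] (nat_lit 1908) [⟨[], [nat_lit 15, nat_lit 1, nat_lit 33, nat_lit 18, nat_lit 27], (nat_lit 895)⟩, ⟨[nat_lit 215, nat_lit 217], [nat_lit 18, nat_lit 15, nat_lit 0, nat_lit 25, nat_lit 15, nat_lit 11, nat_lit 27], (nat_lit 3393)⟩],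
  .cy (nat_lit 0) [] [] [] (nat_lit 3486) [],
  .cy (nat_lit 11) [] [] [nat_lit 15, nat_lit 0, nat_lit 32, nat_lit 32, nat_lit 11, nat_lit 26] (nat_lit 410) [⟨[nat_lit 215, nat_lit 217, nat_lit 215], [nat_lit 18, nat_lit 15, nat_lit 0, nat_lit 25, nat_lit 11], (nat_lit 496)⟩, ⟨[nat_lit 215, nat_lit 217], [nat_lit 15, nat_lit 2, nat_lit 25, nat_lit 36, nat_lit 15, nat_lit 27], (nat_lit 3277)⟩],
  .cy (nat_lit 0) [] [] [] (nat_lit 3488) [],
  .cy (nat_lit 26) [] [] [nat_lit 1, nat_lit 1, nat_lit 34, nat_lit 34, nat_lit 11] (nat_lit 2074) [⟨[nat_lit 215, nat_lit 217], [nat_lit 24, nat_lit 2, nat_lit 0, nat_lit 34, nat_lit 11, nat_lit 17, nat_lit 26], (nat_lit 478)⟩, ⟨[], [nat_lit 10, nat_lit 10, nat_lit 0, nat_lit 33, nat_lit 18, nat_lit 11, nat_lit 26], (nat_lit 3375)⟩],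
  .cy (nat_lit 0) [] [] [] (nat_lit 3490) [],
  .cy (nat_lit 8) [] [] [nat_lit 14, nat_lit 25, nat_lit 15, nat_lit 27] (nat_lit 1296) [⟨[nat_lit 215, nat_lit 217, nat_lit 215], [nat_lit 16, nat_lit 0, nat_lit 34, nat_lit 16, nat_lit 11, nat_lit 26], (nat_lit 941)⟩, ⟨[nat_lit 217, nat_lit 215], [nat_lit 15, nat_lit 0, nat_lit 32, nat_lit 27, nat_lit 17, nat_lit 26], (nat_lit 3261)⟩],
  .cy (nat_lit 0) [] [] [] (nat_lit 3492) [],
  .cy (nat_lit 26) [] [] [nat_lit 11, nat_lit 2, nat_lit 0, nat_lit 33, nat_lit 33, nat_lit 11, nat_lit 27] (nat_lit 846) [⟨[nat_lit 215, nat_lit 217], [nat_lit 15, nat_lit 2, nat_lit 17, nat_lit 17, nat_lit 26], (nat_lit 2042)⟩, ⟨[nat_lit 215, nat_lit 217, nat_lit 215], [nat_lit 5, nat_lit 14, nat_lit 36, nat_lit 33, nat_lit 26], (nat_lit 3359)⟩],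
  .cy (nat_lit 0) [] [] [] (nat_lit 3494) [],
  .cy (nat_lit 10) [] [] [nat_lit 11, nat_lit 5, nat_lit 2, nat_lit 34, nat_lit 11, nat_lit 26] (nat_lit 2219) [⟨[nat_lit 215, nat_lit 217, nat_lit 215], [nat_lit 24, nat_lit 1, nat_lit 35, nat_lit 33, nat_lit 11, nat_lit 27], (nat_lit 2198)⟩, ⟨[], [nat_lit 14, nat_lit 24, nat_lit 24, nat_lit 11, nat_lit 27], (nat_lit 3237)⟩],
  .cy (nat_lit 0) [] [] [] (nat_lit 3496) [],
  .cy (nat_lit 7) [] [] [nat_lit 24, nat_lit 2, nat_lit 0, nat_lit 25, nat_lit 16] (nat_lit 2588) [⟨[nat_lit 2591, nat_lit 2578, nat_lit 2579], [nat_lit 1, nat_lit 5, nat_lit 25, nat_lit 36], (nat_lit 2919)⟩, ⟨[nat_lit 215], [nat_lit 15, nat_lit 5, nat_lit 33, nat_lit 15, nat_lit 11], (nat_lit 3369)⟩],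
  .cy (nat_lit 0) [] [] [] (nat_lit 3498) [],
  .cy (nat_lit 7) [] [] [nat_lit 15, nat_lit 1, nat_lit 15, nat_lit 18, nat_lit 16] (nat_lit 2589) [⟨[nat_lit 2591, nat_lit 2579, nat_lit 2578], [nat_lit 16, nat_lit 5, nat_lit 2, nat_lit 33, nat_lit 35, nat_lit 27], (nat_lit 2727)⟩, ⟨[], [nat_lit 10, nat_lit 10, nat_lit 0, nat_lit 33, nat_lit 37, nat_lit 26], (nat_lit 3145)⟩],
  .cy (nat_lit 0) [] [] [] (nat_lit 3500) [],
  .cy (nat_lit 8) [] [] [nat_lit 24, nat_lit 0, nat_lit 33, nat_lit 18, nat_lit 27] (nat_lit 2597) [⟨[nat_lit 165], [nat_lit 18, nat_lit 15, nat_lit 0, nat_lit 16, nat_lit 24, nat_lit 26], (nat_lit 296)⟩, ⟨[nat_lit 217], [nat_lit 16, nat_lit 5, nat_lit 0, nat_lit 33, nat_lit 27], (nat_lit 3389)⟩],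
  .cy (nat_lit 0) [] [] [] (nat_lit 3502) [],
  .cy (nat_lit 10) [] [] [nat_lit 14, nat_lit 15, nat_lit 0, nat_lit 26, nat_lit 34, nat_lit 11, nat_lit 26] (nat_lit 3073) [⟨[nat_lit 217], [nat_lit 24, nat_lit 1, nat_lit 37, nat_lit 11, nat_lit 15, nat_lit 26], (nat_lit 804)⟩, ⟨[nat_lit 217, nat_lit 215], [nat_lit 5, nat_lit 0, nat_lit 16, nat_lit 16, nat_lit 11, nat_lit 27], (nat_lit 3365)⟩],
  .cy (nat_lit 0) [] [] [] (nat_lit 3504) [],
  .cy (nat_lit 21) [] [] [nat_lit 1, nat_lit 1, nat_lit 34, nat_lit 24, nat_lit 17, nat_lit 26] (nat_lit 3073) [⟨[nat_lit 215], [nat_lit 14, nat_lit 0, nat_lit 33, nat_lit 35, nat_lit 11], (nat_lit 1086)⟩, ⟨[nat_lit 215, nat_lit 217], [nat_lit 16, nat_lit 5, nat_lit 0, nat_lit 18, nat_lit 25, nat_lit 27], (nat_lit 3337)⟩],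
  .cy (nat_lit 0) [] [] [] (nat_lit 3506) [],
  .cy (nat_lit 22) [] [] [nat_lit 1, nat_lit 14, nat_lit 34, nat_lit 24, nat_lit 26] (nat_lit 3073) [⟨[nat_lit 215, nat_lit 217, nat_lit 215], [nat_lit 17, nat_lit 2, nat_lit 0, nat_lit 33, nat_lit 33, nat_lit 27], (nat_lit 1605)⟩, ⟨[nat_lit 215], [nat_lit 18, nat_lit 15, nat_lit 0, nat_lit 35, nat_lit 15, nat_lit 27], (nat_lit 3273)⟩],
  .cy (nat_lit 0) [] [] [] (nat_lit 3508) [],
  .cy (nat_lit 1) [] [] [nat_lit 2, nat_lit 0, nat_lit 27, nat_lit 15, nat_lit 11, nat_lit 27] (nat_lit 3092) [⟨[nat_lit 2591, nat_lit 2578, nat_lit 2579, nat_lit 2578], [nat_lit 24, nat_lit 2, nat_lit 0, nat_lit 34, nat_lit 37, nat_lit 11, nat_lit 26], (nat_lit 2865)⟩, ⟨[nat_lit 215], [nat_lit 11, nat_lit 2, nat_lit 0, nat_lit 18, nat_lit 18], (nat_lit 3453)⟩],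
  .cy (nat_lit 0) [] [] [] (nat_lit 3510) [],
  .cy (nat_lit 2) [] [] [nat_lit 14, nat_lit 0, nat_lit 24, nat_lit 17, nat_lit 11] (nat_lit 2903) [⟨[nat_lit 217], [nat_lit 15, nat_lit 2, nat_lit 32, nat_lit 18, nat_lit 15], (nat_lit 744)⟩, ⟨[nat_lit 215], [nat_lit 11, nat_lit 2, nat_lit 0, nat_lit 33, nat_lit 15, nat_lit 11, nat_lit 26], (nat_lit 3267)⟩],
  .cy (nat_lit 0) [] [] [] (nat_lit 3512) [],
  .cy (nat_lit 10) [] [] [nat_lit 1, nat_lit 24, nat_lit 0, nat_lit 34, nat_lit 24, nat_lit 15, nat_lit 27] (nat_lit 2967) [⟨[nat_lit 215], [nat_lit 1, nat_lit 1, nat_lit 25, nat_lit 36, nat_lit 27], (nat_lit 1770)⟩, ⟨[nat_lit 217], [nat_lit 24, nat_lit 1, nat_lit 15, nat_lit 27, nat_lit 16, nat_lit 26], (nat_lit 3239)⟩],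
  .cy (nat_lit 0) [] [] [] (nat_lit 3514) [],
  .cy (nat_lit 7) [] [] [nat_lit 25, nat_lit 16, nat_lit 0, nat_lit 15, nat_lit 24] (nat_lit 2605) [⟨[nat_lit 217], [nat_lit 5, nat_lit 2, nat_lit 0, nat_lit 35, nat_lit 33, nat_lit 11, nat_lit 26], (nat_lit 1843)⟩, ⟨[nat_lit 217], [nat_lit 1, nat_lit 24, nat_lit 0, nat_lit 37, nat_lit 18], (nat_lit 3319)⟩],
  .cy (nat_lit 0) [] [] [] (nat_lit 3516) [],
  .cy (nat_lit 11) [] [] [nat_lit 15, nat_lit 0, nat_lit 32, nat_lit 18] (nat_lit 2615) [⟨[], [nat_lit 1, nat_lit 1, nat_lit 34, nat_lit 17, nat_lit 33, nat_lit 26], (nat_lit 2093)⟩, ⟨[nat_lit 215], [nat_lit 25, nat_lit 16, nat_lit 0, nat_lit 36, nat_lit 18, nat_lit 26], (nat_lit 3351)⟩],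
  .cy (nat_lit 0) [] [] [] (nat_lit 3518) [],
  .cy (nat_lit 8) [] [] [nat_lit 5, nat_lit 27, nat_lit 36] (nat_lit 2921) [⟨[nat_lit 215, nat_lit 217], [nat_lit 25, nat_lit 14, nat_lit 0, nat_lit 17, nat_lit 36], (nat_lit 1324)⟩, ⟨[], [nat_lit 10, nat_lit 0, nat_lit 36, nat_lit 32], (nat_lit 3209)⟩],
  .cy (nat_lit 0) [] [] [] (nat_lit 3520) [],
  .cy (nat_lit 4) [] [] [nat_lit 1, nat_lit 14, nat_lit 15, nat_lit 18, nat_lit 16, nat_lit 27] (nat_lit 2993) [⟨[nat_lit 217], [nat_lit 24, nat_lit 2, nat_lit 15, nat_lit 11, nat_lit 15], (nat_lit 2489)⟩, ⟨[], [nat_lit 25, nat_lit 14, nat_lit 0, nat_lit 18, nat_lit 25, nat_lit 26], (nat_lit 3349)⟩],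
  .cy (nat_lit 0) [] [] [] (nat_lit 3522) [],
  .cy (nat_lit 7) [] [] [nat_lit 5, nat_lit 2, nat_lit 35, nat_lit 32, nat_lit 11, nat_lit 27] (nat_lit 2885) [⟨[], [nat_lit 5, nat_lit 2, nat_lit 32, nat_lit 27, nat_lit 17, nat_lit 26], (nat_lit 2972)⟩, ⟨[nat_lit 2592, nat_lit 2579, nat_lit 2578], [nat_lit 1, nat_lit 5, nat_lit 24, nat_lit 17], (nat_lit 3501)⟩],
  .cy (nat_lit 0) [] [] [] (nat_lit 3524) [],
  .cy (nat_lit 2) [] [] [nat_lit 1, nat_lit 14, nat_lit 15, nat_lit 15, nat_lit 26] (nat_lit 2631) [⟨[], [nat_lit 1, nat_lit 1, nat_lit 25, nat_lit 37, nat_lit 15], (nat_lit 2474)⟩, ⟨[nat_lit 215], [nat_lit 2, nat_lit 0, nat_lit 35, nat_lit 36, nat_lit 11, nat_lit 27], (nat_lit 3369)⟩],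
  .cy (nat_lit 0) [] [] [] (nat_lit 3526) [],
  .cy (nat_lit 8) [] [] [nat_lit 5, nat_lit 14, nat_lit 37, nat_lit 34, nat_lit 27] (nat_lit 2627) [⟨[], [nat_lit 10, nat_lit 10, nat_lit 0, nat_lit 17, nat_lit 17, nat_lit 11], (nat_lit 323)⟩, ⟨[nat_lit 215, nat_lit 217, nat_lit 215], [nat_lit 5, nat_lit 2, nat_lit 36, nat_lit 18, nat_lit 15, nat_lit 27], (nat_lit 3181)⟩],
  .cy (nat_lit 0) [] [] [] (nat_lit 3528) [],
  .cy (nat_lit 25) [] [] [nat_lit 15, nat_lit 2, nat_lit 27, nat_lit 17, nat_lit 27] (nat_lit 2731) [⟨[nat_lit 217, nat_lit 215], [nat_lit 11, nat_lit 2, nat_lit 0, nat_lit 24, nat_lit 11, nat_lit 26], (nat_lit 2255)⟩, ⟨[], [nat_lit 5, nat_lit 2, nat_lit 37, nat_lit 37, nat_lit 26], (nat_lit 3183)⟩],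
  .cy (nat_lit 0) [] [] [] (nat_lit 3530) [],
  .cy (nat_lit 3) [] [] [nat_lit 24, nat_lit 15, nat_lit 0, nat_lit 35, nat_lit 32, nat_lit 11] (nat_lit 3108) [⟨[], [nat_lit 1, nat_lit 14, nat_lit 36, nat_lit 24, nat_lit 26], (nat_lit 194)⟩, ⟨[], [nat_lit 17, nat_lit 24, nat_lit 0, nat_lit 17, nat_lit 17, nat_lit 11, nat_lit 27], (nat_lit 3130)⟩],
  .cy (nat_lit 0) [] [] [] (nat_lit 3532) [],
  .cy (nat_lit 8) [] [] [nat_lit 24, nat_lit 0, nat_lit 24, nat_lit 37, nat_lit 26] (nat_lit 3108) [⟨[nat_lit 165, nat_lit 161], [nat_lit 15, nat_lit 0, nat_lit 24, nat_lit 37, nat_lit 26], (nat_lit 3107)⟩, ⟨[nat_lit 3117, nat_lit 3117, nat_lit 3119, nat_lit 3119], [nat_lit 11, nat_lit 2, nat_lit 0, nat_lit 33, nat_lit 33, nat_lit 11], (nat_lit 3533)⟩],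
  .cy (nat_lit 0) [] [] [] (nat_lit 3534) [],
  .cy (nat_lit 11) [] [] [nat_lit 1, nat_lit 36, nat_lit 18, nat_lit 27] (nat_lit 3108) [⟨[nat_lit 176, nat_lit 165, nat_lit 164, nat_lit 161], [nat_lit 1, nat_lit 1, nat_lit 32, nat_lit 32, nat_lit 27], (nat_lit 1961)⟩, ⟨[], [nat_lit 25, nat_lit 0, nat_lit 11, nat_lit 16, nat_lit 27], (nat_lit 3425)⟩],
  .cy (nat_lit 0) [] [] [] (nat_lit 3536) [],
  .cy (nat_lit 21) [] [] [nat_lit 11, nat_lit 2, nat_lit 0, nat_lit 15, nat_lit 32, nat_lit 15, nat_lit 27] (nat_lit 3111) [⟨[], [nat_lit 18, nat_lit 15, nat_lit 0, nat_lit 37, nat_lit 24, nat_lit 11, nat_lit 27], (nat_lit 260)⟩, ⟨[nat_lit 215], [nat_lit 10, nat_lit 10, nat_lit 0, nat_lit 27, nat_lit 15, nat_lit 11, nat_lit 26], (nat_lit 3143)⟩],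
  .cy (nat_lit 0) [] [] [] (nat_lit 3538) [],
  .cy (nat_lit 23) [] [] [nat_lit 27, nat_lit 15] (nat_lit 3123) [⟨[], [nat_lit 25, nat_lit 16, nat_lit 0, nat_lit 34, nat_lit 16], (nat_lit 334)⟩, ⟨[nat_lit 215], [nat_lit 16, nat_lit 5, nat_lit 0, nat_lit 24, nat_lit 36, nat_lit 16, nat_lit 26], (nat_lit 3136)⟩],
  .cy (nat_lit 0) [] [] [] (nat_lit 3540) [],
  .cy (nat_lit 5) [] [] [nat_lit 1, nat_lit 35, nat_lit 33, nat_lit 27] (nat_lit 3131) [⟨[nat_lit 165, nat_lit 179, nat_lit 175], [nat_lit 5, nat_lit 14, nat_lit 17, nat_lit 17, nat_lit 11, nat_lit 27], (nat_lit 226)⟩, ⟨[], [nat_lit 24, nat_lit 16, nat_lit 0, nat_lit 18, nat_lit 35, nat_lit 15, nat_lit 27], (nat_lit 3223)⟩],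
  .cy (nat_lit 0) [] [] [] (nat_lit 3542) [],
  .cy (nat_lit 12) [] [] [nat_lit 16, nat_lit 5, nat_lit 2, nat_lit 37, nat_lit 18, nat_lit 15, nat_lit 26] (nat_lit 3131) [⟨[nat_lit 175, nat_lit 161, nat_lit 179, nat_lit 162], [nat_lit 25, nat_lit 1, nat_lit 16, nat_lit 18, nat_lit 27], (nat_lit 701)⟩, ⟨[nat_lit 215, nat_lit 217, nat_lit 215], [nat_lit 25, nat_lit 2, nat_lit 0, nat_lit 16, nat_lit 16, nat_lit 11], (nat_lit 3173)⟩],
  .cy (nat_lit 21) [] [] [nat_lit 14, nat_lit 11, nat_lit 18, nat_lit 27] (nat_lit 3131) [⟨[nat_lit 164, nat_lit 176, nat_lit 161], [nat_lit 16, nat_lit 5, nat_lit 2, nat_lit 15, nat_lit 17, nat_lit 11], (nat_lit 1963)⟩, ⟨[nat_lit 217], [nat_lit 25, nat_lit 0, nat_lit 34, nat_lit 32, nat_lit 16, nat_lit 27], (nat_lit 3309)⟩],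
  .cy (nat_lit 0) [] [] [] (nat_lit 3545) [],
  .cy (nat_lit 27) [] [] [nat_lit 5, nat_lit 0, nat_lit 18] (nat_lit 3131) [⟨[], [nat_lit 14, nat_lit 0, nat_lit 37, nat_lit 11, nat_lit 27], (nat_lit 198)⟩, ⟨[nat_lit 176, nat_lit 178], [nat_lit 25, nat_lit 2, nat_lit 0, nat_lit 36, nat_lit 18, nat_lit 15, nat_lit 26], (nat_lit 3130)⟩],
  .cy (nat_lit 10) [] [] [nat_lit 24, nat_lit 2, nat_lit 0, nat_lit 15, nat_lit 18] (nat_lit 3137) [⟨[nat_lit 215, nat_lit 217], [nat_lit 25, nat_lit 14, nat_lit 0, nat_lit 37, nat_lit 15], (nat_lit 2081)⟩, ⟨[], [nat_lit 26, nat_lit 24, nat_lit 0, nat_lit 32, nat_lit 18, nat_lit 15, nat_lit 26], (nat_lit 3415)⟩],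
  .cy (nat_lit 0) [] [] [] (nat_lit 3548) [],
  .cy (nat_lit 7) [] [] [nat_lit 24, nat_lit 1, nat_lit 37, nat_lit 34, nat_lit 24] (nat_lit 3135) [⟨[nat_lit 217], [nat_lit 2, nat_lit 37, nat_lit 32, nat_lit 11, nat_lit 26], (nat_lit 2041)⟩, ⟨[nat_lit 215], [nat_lit 24, nat_lit 2, nat_lit 0, nat_lit 17, nat_lit 34, nat_lit 15], (nat_lit 3323)⟩],
  .cy (nat_lit 0) [] [] [] (nat_lit 3550) [],
  .cy (nat_lit 8) [] [] [nat_lit 24, nat_lit 1, nat_lit 36, nat_lit 18, nat_lit 15] (nat_lit 3135) [⟨[nat_lit 215, nat_lit 217, nat_lit 215], [nat_lit 36, nat_lit 16, nat_lit 11, nat_lit 26], (nat_lit 625)⟩, ⟨[nat_lit 217], [nat_lit 15, nat_lit 5, nat_lit 15, nat_lit 17], (nat_lit 3163)⟩],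
  .cy (nat_lit 0) [] [] [] (nat_lit 3552) [],
  .cy (nat_lit 10) [] [] [nat_lit 24, nat_lit 16, nat_lit 0, nat_lit 24, nat_lit 15, nat_lit 26] (nat_lit 3135) [⟨[nat_lit 217, nat_lit 215], [nat_lit 5, nat_lit 15, nat_lit 24, nat_lit 27], (nat_lit 1518)⟩, ⟨[nat_lit 215, nat_lit 217], [nat_lit 17, nat_lit 2, nat_lit 0, nat_lit 15, nat_lit 18, nat_lit 16, nat_lit 26], (nat_lit 3445)⟩],
  .cy (nat_lit 10) [] [] [nat_lit 5, nat_lit 0, nat_lit 32, nat_lit 18, nat_lit 11, nat_lit 27] (nat_lit 3135) [⟨[nat_lit 215], [nat_lit 25, nat_lit 2, nat_lit 0, nat_lit 33, nat_lit 36, nat_lit 26], (nat_lit 1066)⟩, ⟨[], [nat_lit 15, nat_lit 2, nat_lit 33, nat_lit 16, nat_lit 11, nat_lit 26], (nat_lit 3247)⟩],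
  .cy (nat_lit 0) [] [] [] (nat_lit 3555) [],
  .cy (nat_lit 14) [] [] [nat_lit 38] (nat_lit 1963) [⟨[nat_lit 217, nat_lit 215], [nat_lit 14, nat_lit 24, nat_lit 18, nat_lit 16, nat_lit 26], (nat_lit 3373)⟩],
  .cy (nat_lit 0) [] [] [] (nat_lit 3557) [],
  .cy (nat_lit 14) [] [] [nat_lit 38] (nat_lit 507) [⟨[], [nat_lit 24, nat_lit 2, nat_lit 17, nat_lit 17, nat_lit 15], (nat_lit 3371)⟩],
  .cy (nat_lit 0) [] [] [] (nat_lit 3559) [],
  .cy (nat_lit 14) [] [] [] (nat_lit 298) [⟨[nat_lit 217, nat_lit 215], [nat_lit 25, nat_lit 0, nat_lit 18, nat_lit 11, nat_lit 15], (nat_lit 3255)⟩],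
  .cy (nat_lit 0) [] [] [] (nat_lit 3561) [],
  .cy (nat_lit 14) [] [] [nat_lit 39] (nat_lit 3452) [⟨[], [nat_lit 15, nat_lit 0, nat_lit 27, nat_lit 16], (nat_lit 3235)⟩],
  .cy (nat_lit 0) [] [] [] (nat_lit 3563) [],
  .cy (nat_lit 13) [] [] [] (nat_lit 3194) [⟨[], [nat_lit 14, nat_lit 15, nat_lit 0, nat_lit 15, nat_lit 27], (nat_lit 3449)⟩],
  .cy (nat_lit 14) [] [] [nat_lit 38] (nat_lit 3252) [⟨[], [nat_lit 24, nat_lit 2, nat_lit 0, nat_lit 17, nat_lit 11, nat_lit 17, nat_lit 26], (nat_lit 3177)⟩],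
  .cy (nat_lit 0) [] [] [] (nat_lit 3566) [],
  .cy (nat_lit 13) [] [] [] (nat_lit 3286) [⟨[nat_lit 215], [nat_lit 25, nat_lit 2, nat_lit 0, nat_lit 26, nat_lit 17, nat_lit 15], (nat_lit 3479)⟩],
  .cy (nat_lit 0) [] [] [] (nat_lit 3568) [],
  .cy (nat_lit 13) [] [] [] (nat_lit 3476) [⟨[], [nat_lit 24, nat_lit 1, nat_lit 27, nat_lit 24, nat_lit 11, nat_lit 26], (nat_lit 3431)⟩],
  .cy (nat_lit 13) [] [] [nat_lit 38] (nat_lit 3182) [⟨[nat_lit 217, nat_lit 215], [nat_lit 15, nat_lit 5, nat_lit 24, nat_lit 37, nat_lit 11], (nat_lit 3285)⟩],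
  .cy (nat_lit 0) [] [] [] (nat_lit 3571) [],
  .cy (nat_lit 14) [] [] [nat_lit 39] (nat_lit 3258) [⟨[nat_lit 217], [nat_lit 15, nat_lit 1, nat_lit 34, nat_lit 16, nat_lit 26], (nat_lit 3145)⟩],
  .cy (nat_lit 13) [] [] [] (nat_lit 3534) [⟨[nat_lit 3119, nat_lit 3116, nat_lit 3120, nat_lit 3110, nat_lit 3117], [nat_lit 1, nat_lit 24, nat_lit 0, nat_lit 34, nat_lit 11], (nat_lit 3535)⟩]]
noncomputable def P3768 : List Pf := [.cy (nat_lit 0) [] [] [] (nat_lit 3574) [],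
  .cy (nat_lit 8) [] [] [nat_lit 18, nat_lit 15, nat_lit 0, nat_lit 18, nat_lit 35, nat_lit 26] (nat_lit 2594) [⟨[], [nat_lit 10, nat_lit 10, nat_lit 0, nat_lit 32, nat_lit 18], (nat_lit 3073)⟩, ⟨[nat_lit 217], [nat_lit 25, nat_lit 0, nat_lit 33, nat_lit 15, nat_lit 27], (nat_lit 3329)⟩],
  .cy (nat_lit 0) [] [] [] (nat_lit 3576) [],
  .cy (nat_lit 8) [] [] [nat_lit 11, nat_lit 5, nat_lit 2, nat_lit 37, nat_lit 17, nat_lit 11, nat_lit 27] (nat_lit 296) [⟨[nat_lit 215], [nat_lit 25, nat_lit 14, nat_lit 0, nat_lit 32, nat_lit 18, nat_lit 11, nat_lit 26], (nat_lit 636)⟩, ⟨[], [nat_lit 11, nat_lit 15], (nat_lit 3261)⟩],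
  .cy (nat_lit 0) [] [] [] (nat_lit 3578) [],
  .cy (nat_lit 6) [] [] [nat_lit 24, nat_lit 2, nat_lit 34, nat_lit 32, nat_lit 11, nat_lit 26] (nat_lit 3392) [⟨[nat_lit 217, nat_lit 215], [nat_lit 24, nat_lit 15, nat_lit 0, nat_lit 15, nat_lit 17, nat_lit 27], (nat_lit 1105)⟩, ⟨[nat_lit 217, nat_lit 215], [nat_lit 5, nat_lit 0, nat_lit 24, nat_lit 37, nat_lit 17], (nat_lit 3225)⟩],
  .cy (nat_lit 0) [] [] [] (nat_lit 3580) [],
  .cy (nat_lit 11) [] [] [nat_lit 1, nat_lit 26, nat_lit 36] (nat_lit 3392) [⟨[nat_lit 215], [nat_lit 16, nat_lit 5, nat_lit 2, nat_lit 18, nat_lit 35, nat_lit 15, nat_lit 27], (nat_lit 1880)⟩, ⟨[nat_lit 217], [nat_lit 18, nat_lit 15, nat_lit 0, nat_lit 37, nat_lit 34, nat_lit 24, nat_lit 27], (nat_lit 3405)⟩],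
  .cy (nat_lit 20) [] [] [nat_lit 26, nat_lit 2, nat_lit 17, nat_lit 15, nat_lit 26] (nat_lit 3392) [⟨[nat_lit 215], [nat_lit 16, nat_lit 5, nat_lit 0, nat_lit 35, nat_lit 35, nat_lit 27], (nat_lit 765)⟩, ⟨[nat_lit 215, nat_lit 217, nat_lit 215], [nat_lit 10, nat_lit 10, nat_lit 0, nat_lit 17, nat_lit 15, nat_lit 11, nat_lit 27], (nat_lit 3367)⟩],
  .cy (nat_lit 20) [] [] [nat_lit 14, nat_lit 37, nat_lit 24, nat_lit 15, nat_lit 27] (nat_lit 3392) [⟨[nat_lit 215], [nat_lit 25, nat_lit 0, nat_lit 24, nat_lit 37, nat_lit 11, nat_lit 27], (nat_lit 608)⟩, ⟨[nat_lit 215, nat_lit 217], [nat_lit 1, nat_lit 1, nat_lit 17, nat_lit 36, nat_lit 15], (nat_lit 3335)⟩],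
  .df,
  .cy (nat_lit 0) [] [] [] (nat_lit 3585) [],
  .tr (nat_lit 3585) [] [] [⟨[nat_lit 216, nat_lit 215, nat_lit 218, nat_lit 215], [nat_lit 26, nat_lit 2, nat_lit 0, nat_lit 33, nat_lit 37, nat_lit 27], (nat_lit 3585)⟩],
  .ss (nat_lit 9) [(nat_lit 3587)] [],
  .cy (nat_lit 13) [] [] [nat_lit 39] (nat_lit 521) [⟨[], [nat_lit 16, nat_lit 0, nat_lit 15, nat_lit 18, nat_lit 11], (nat_lit 3585)⟩],
  .cy (nat_lit 0) [] [] [] (nat_lit 3589) [],
  .cy (nat_lit 14) [] [] [nat_lit 39] (nat_lit 1420) [⟨[], [nat_lit 26, nat_lit 24, nat_lit 0, nat_lit 33, nat_lit 11, nat_lit 16, nat_lit 26], (nat_lit 3585)⟩],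
  .cy (nat_lit 0) [] [] [] (nat_lit 3591) [],
  .cy (nat_lit 13) [] [] [] (nat_lit 2546) [⟨[], [nat_lit 25, nat_lit 2, nat_lit 0, nat_lit 33, nat_lit 35, nat_lit 26], (nat_lit 3592)⟩],
  .cy (nat_lit 0) [] [] [] (nat_lit 3593) [⟨[], [nat_lit 16, nat_lit 5, nat_lit 2, nat_lit 17, nat_lit 15, nat_lit 26], (nat_lit 3592)⟩],
  .ss (nat_lit 9) [(nat_lit 3594)] [],
  .cy (nat_lit 20) [] [] [nat_lit 15, nat_lit 1, nat_lit 33, nat_lit 35, nat_lit 11, nat_lit 26] (nat_lit 1983) [⟨[nat_lit 217], [nat_lit 11, nat_lit 2, nat_lit 0, nat_lit 34, nat_lit 26], (nat_lit 1593)⟩, ⟨[nat_lit 215], [nat_lit 24, nat_lit 0, nat_lit 15, nat_lit 15], (nat_lit 3585)⟩],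
  .cy (nat_lit 0) [] [] [] (nat_lit 3596) [],
  .cy (nat_lit 20) [] [] [nat_lit 5, nat_lit 16, nat_lit 2, nat_lit 15, nat_lit 17, nat_lit 11, nat_lit 27] (nat_lit 251) [⟨[nat_lit 217], [nat_lit 24, nat_lit 1, nat_lit 36, nat_lit 11], (nat_lit 370)⟩, ⟨[nat_lit 522, nat_lit 208, nat_lit 202], [nat_lit 26, nat_lit 2, nat_lit 0, nat_lit 18, nat_lit 16, nat_lit 11, nat_lit 26], (nat_lit 3597)⟩],
  .cy (nat_lit 0) [] [] [] (nat_lit 3598) [],
  .cy (nat_lit 25) [] [] [nat_lit 1, nat_lit 24, nat_lit 0, nat_lit 27, nat_lit 36, nat_lit 11, nat_lit 27] (nat_lit 310) [⟨[nat_lit 215], [nat_lit 1, nat_lit 5, nat_lit 36, nat_lit 11, nat_lit 26], (nat_lit 258)⟩, ⟨[nat_lit 522, nat_lit 201], [nat_lit 5, nat_lit 2, nat_lit 0, nat_lit 17], (nat_lit 3597)⟩],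
  .cy (nat_lit 0) [] [] [] (nat_lit 3600) [],
  .cy (nat_lit 7) [] [] [nat_lit 16, nat_lit 5, nat_lit 2, nat_lit 33, nat_lit 16, nat_lit 11, nat_lit 26] (nat_lit 263) [⟨[nat_lit 217, nat_lit 215], [nat_lit 10, nat_lit 10, nat_lit 0, nat_lit 32, nat_lit 15, nat_lit 26], (nat_lit 301)⟩, ⟨[nat_lit 217], [nat_lit 16, nat_lit 5, nat_lit 0, nat_lit 35, nat_lit 33, nat_lit 26], (nat_lit 3601)⟩],
  .cy (nat_lit 0) [] [] [] (nat_lit 3602) [],
  .cy (nat_lit 21) [] [] [nat_lit 15, nat_lit 1, nat_lit 15, nat_lit 35, nat_lit 27] (nat_lit 1229) [⟨[nat_lit 215, nat_lit 217, nat_lit 215], [nat_lit 2, nat_lit 0, nat_lit 36, nat_lit 33], (nat_lit 2100)⟩, ⟨[], [nat_lit 26, nat_lit 2, nat_lit 0, nat_lit 15, nat_lit 32, nat_lit 11, nat_lit 27], (nat_lit 3585)⟩],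
  .cy (nat_lit 0) [] [] [] (nat_lit 3604) [],
  .cy (nat_lit 11) [] [] [nat_lit 16, nat_lit 5, nat_lit 2, nat_lit 26, nat_lit 16, nat_lit 27] (nat_lit 2079) [⟨[nat_lit 217, nat_lit 215], [nat_lit 24, nat_lit 16, nat_lit 0, nat_lit 15, nat_lit 32, nat_lit 15, nat_lit 26], (nat_lit 456)⟩, ⟨[nat_lit 217, nat_lit 215], [nat_lit 24, nat_lit 16, nat_lit 0, nat_lit 25, nat_lit 36], (nat_lit 3603)⟩],
  .cy (nat_lit 0) [] [] [] (nat_lit 3606) [],
  .cy (nat_lit 11) [] [] [nat_lit 24, nat_lit 16, nat_lit 0, nat_lit 35, nat_lit 32] (nat_lit 2796) [⟨[nat_lit 2591], [nat_lit 16, nat_lit 5, nat_lit 0, nat_lit 26, nat_lit 15, nat_lit 15, nat_lit 26], (nat_lit 3015)⟩, ⟨[nat_lit 215, nat_lit 217, nat_lit 215], [nat_lit 10, nat_lit 0, nat_lit 27, nat_lit 25, nat_lit 26], (nat_lit 3603)⟩],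
  .cy (nat_lit 0) [] [] [] (nat_lit 3608) [],
  .cy (nat_lit 16) [] [] [nat_lit 1, nat_lit 14, nat_lit 15, nat_lit 27, nat_lit 16] (nat_lit 2027) [⟨[], [nat_lit 18, nat_lit 15, nat_lit 0, nat_lit 15, nat_lit 24, nat_lit 11, nat_lit 27], (nat_lit 2920)⟩, ⟨[], [nat_lit 17, nat_lit 24, nat_lit 0, nat_lit 33, nat_lit 25], (nat_lit 2879)⟩, ⟨[nat_lit 215, nat_lit 217], [nat_lit 26, nat_lit 2, nat_lit 0, nat_lit 35, nat_lit 16, nat_lit 16, nat_lit 26], (nat_lit 1293)⟩, ⟨[], [nat_lit 10, nat_lit 10, nat_lit 0, nat_lit 24, nat_lit 37, nat_lit 11, nat_lit 26], (nat_lit 1206)⟩, ⟨[], [nat_lit 24, nat_lit 2, nat_lit 11, nat_lit 17, nat_lit 26], (nat_lit 2298)⟩, ⟨[nat_lit 217], [nat_lit 15, nat_lit 0, nat_lit 35, nat_lit 27, nat_lit 15, nat_lit 27], (nat_lit 3607)⟩],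
  .cy (nat_lit 0) [] [] [] (nat_lit 3610) [],
  .cy (nat_lit 2) [] [] [nat_lit 11, nat_lit 5, nat_lit 2, nat_lit 27, nat_lit 15, nat_lit 11, nat_lit 27] (nat_lit 2124) [⟨[nat_lit 215, nat_lit 217, nat_lit 215], [nat_lit 15, nat_lit 2, nat_lit 17, nat_lit 24, nat_lit 27], (nat_lit 2123)⟩, ⟨[nat_lit 215], [nat_lit 18, nat_lit 15, nat_lit 0, nat_lit 36, nat_lit 15], (nat_lit 3603)⟩],
  .cy (nat_lit 0) [] [] [] (nat_lit 3612) [],
  .cy (nat_lit 23) [] [] [nat_lit 11, nat_lit 2, nat_lit 0, nat_lit 18, nat_lit 16, nat_lit 26] (nat_lit 862) [⟨[nat_lit 215], [nat_lit 16, nat_lit 5, nat_lit 0, nat_lit 24, nat_lit 24, nat_lit 27], (nat_lit 2222)⟩, ⟨[], [nat_lit 15, nat_lit 1, nat_lit 25, nat_lit 36, nat_lit 11, nat_lit 26], (nat_lit 3601)⟩],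
  .cy (nat_lit 0) [] [] [] (nat_lit 3614) [],
  .cy (nat_lit 23) [] [] [nat_lit 16, nat_lit 0, nat_lit 18, nat_lit 26] (nat_lit 1767) [⟨[nat_lit 215, nat_lit 217], [nat_lit 14, nat_lit 0, nat_lit 37, nat_lit 17, nat_lit 26], (nat_lit 1606)⟩, ⟨[nat_lit 215], [nat_lit 1, nat_lit 35, nat_lit 27], (nat_lit 3607)⟩],
  .cy (nat_lit 0) [] [] [] (nat_lit 3616) [],
  .cy (nat_lit 20) [] [] [nat_lit 1, nat_lit 33, nat_lit 11, nat_lit 26] (nat_lit 573) [⟨[nat_lit 215, nat_lit 217], [nat_lit 1, nat_lit 14, nat_lit 24, nat_lit 18, nat_lit 26], (nat_lit 1200)⟩, ⟨[], [nat_lit 2, nat_lit 0, nat_lit 34, nat_lit 16, nat_lit 11, nat_lit 27], (nat_lit 3601)⟩],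
  .cy (nat_lit 0) [] [] [] (nat_lit 3618) [],
  .cy (nat_lit 4) [] [] [nat_lit 5, nat_lit 0, nat_lit 27, nat_lit 17] (nat_lit 585) [⟨[nat_lit 217], [nat_lit 1, nat_lit 34, nat_lit 37, nat_lit 11], (nat_lit 2337)⟩, ⟨[nat_lit 215, nat_lit 217], [nat_lit 25, nat_lit 16, nat_lit 0, nat_lit 11], (nat_lit 3603)⟩],
  .cy (nat_lit 0) [] [] [] (nat_lit 3620) [⟨[], [nat_lit 15, nat_lit 1, nat_lit 26, nat_lit 16, nat_lit 27], (nat_lit 3607)⟩],
  .ss (nat_lit 9) [(nat_lit 3621)] [],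
  .cy (nat_lit 16) [] [] [nat_lit 26, nat_lit 2, nat_lit 0, nat_lit 35, nat_lit 35, nat_lit 26] (nat_lit 585) [⟨[], [nat_lit 5, nat_lit 2, nat_lit 37, nat_lit 11, nat_lit 15, nat_lit 26], (nat_lit 1293)⟩, ⟨[], [nat_lit 1, nat_lit 1, nat_lit 36, nat_lit 25, nat_lit 11, nat_lit 26], (nat_lit 2024)⟩, ⟨[], [nat_lit 14, nat_lit 15, nat_lit 0, nat_lit 16, nat_lit 24], (nat_lit 2023)⟩, ⟨[nat_lit 217], [nat_lit 0, nat_lit 32, nat_lit 35, nat_lit 27], (nat_lit 2928)⟩, ⟨[nat_lit 2578, nat_lit 2591], [nat_lit 1, nat_lit 14, nat_lit 36, nat_lit 17], (nat_lit 2663)⟩, ⟨[nat_lit 215, nat_lit 217], [nat_lit 26, nat_lit 2, nat_lit 0, nat_lit 32, nat_lit 34, nat_lit 26], (nat_lit 3607)⟩],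
  .cy (nat_lit 0) [] [] [] (nat_lit 3623) [],
  .cy (nat_lit 23) [] [] [nat_lit 26, nat_lit 24, nat_lit 0, nat_lit 34, nat_lit 25] (nat_lit 370) [⟨[nat_lit 206, nat_lit 203, nat_lit 208], [nat_lit 1, nat_lit 14, nat_lit 25, nat_lit 18, nat_lit 18], (nat_lit 257)⟩, ⟨[nat_lit 215], [nat_lit 11, nat_lit 5, nat_lit 2, nat_lit 17, nat_lit 15, nat_lit 27], (nat_lit 3599)⟩],
  .cy (nat_lit 0) [] [] [] (nat_lit 3625) [],
  .cy (nat_lit 4) [] [] [nat_lit 26, nat_lit 2, nat_lit 11, nat_lit 37, nat_lit 26] (nat_lit 2700) [⟨[nat_lit 2591, nat_lit 2578, nat_lit 2579, nat_lit 2578], [nat_lit 26, nat_lit 2, nat_lit 33, nat_lit 35, nat_lit 26], (nat_lit 3015)⟩, ⟨[nat_lit 215], [nat_lit 25, nat_lit 1, nat_lit 37, nat_lit 11, nat_lit 17, nat_lit 27], (nat_lit 3603)⟩],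
  .cy (nat_lit 0) [] [] [] (nat_lit 3627) [],
  .cy (nat_lit 2) [] [] [nat_lit 25, nat_lit 2, nat_lit 0, nat_lit 24, nat_lit 26] (nat_lit 2113) [⟨[], [nat_lit 0, nat_lit 2, nat_lit 24, nat_lit 36, nat_lit 11, nat_lit 27], (nat_lit 357)⟩, ⟨[nat_lit 217, nat_lit 215], [nat_lit 25, nat_lit 37, nat_lit 15, nat_lit 26], (nat_lit 3609)⟩],
  .cy (nat_lit 0) [] [] [] (nat_lit 3629) [],
  .cy (nat_lit 23) [] [] [nat_lit 24, nat_lit 2, nat_lit 33, nat_lit 11] (nat_lit 2007) [⟨[nat_lit 215, nat_lit 217], [nat_lit 17, nat_lit 2, nat_lit 0, nat_lit 34, nat_lit 34, nat_lit 15], (nat_lit 777)⟩, ⟨[nat_lit 215], [nat_lit 26, nat_lit 2, nat_lit 0, nat_lit 26, nat_lit 15], (nat_lit 3619)⟩],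
  .cy (nat_lit 0) [] [] [] (nat_lit 3631) [],
  .cy (nat_lit 6) [] [] [nat_lit 1, nat_lit 24, nat_lit 18, nat_lit 16, nat_lit 27] (nat_lit 1441) [⟨[nat_lit 215], [nat_lit 16, nat_lit 0, nat_lit 25, nat_lit 35, nat_lit 26], (nat_lit 1580)⟩, ⟨[nat_lit 217, nat_lit 215], [nat_lit 16, nat_lit 0, nat_lit 33, nat_lit 33], (nat_lit 3603)⟩],
  .cy (nat_lit 0) [] [] [] (nat_lit 3633) [],
  .cy (nat_lit 3) [] [] [nat_lit 24, nat_lit 0, nat_lit 17, nat_lit 15, nat_lit 11, nat_lit 26] (nat_lit 1968) [⟨[nat_lit 179, nat_lit 175, nat_lit 162, nat_lit 161], [nat_lit 1, nat_lit 24, nat_lit 0, nat_lit 37, nat_lit 11, nat_lit 15, nat_lit 27], (nat_lit 230)⟩, ⟨[nat_lit 215, nat_lit 217], [nat_lit 24, nat_lit 1, nat_lit 17, nat_lit 34, nat_lit 26], (nat_lit 3611)⟩],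
  .cy (nat_lit 0) [] [] [] (nat_lit 3635) [],
  .cy (nat_lit 5) [] [] [nat_lit 25, nat_lit 2, nat_lit 0, nat_lit 17, nat_lit 25, nat_lit 15] (nat_lit 1968) [⟨[nat_lit 178, nat_lit 176, nat_lit 165, nat_lit 161], [nat_lit 0, nat_lit 35, nat_lit 35, nat_lit 11, nat_lit 27], (nat_lit 699)⟩, ⟨[nat_lit 215, nat_lit 217, nat_lit 215], [nat_lit 1, nat_lit 5, nat_lit 27, nat_lit 18], (nat_lit 3603)⟩],
  .cy (nat_lit 0) [] [] [] (nat_lit 3637) [],
  .cy (nat_lit 21) [] [] [nat_lit 24, nat_lit 16, nat_lit 0, nat_lit 18, nat_lit 18, nat_lit 27] (nat_lit 2100) [⟨[nat_lit 215], [nat_lit 1, nat_lit 24, nat_lit 0, nat_lit 36, nat_lit 36, nat_lit 17, nat_lit 27], (nat_lit 2103)⟩, ⟨[], [nat_lit 15, nat_lit 5, nat_lit 15, nat_lit 18, nat_lit 16, nat_lit 26], (nat_lit 3615)⟩],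
  .cy (nat_lit 0) [] [] [] (nat_lit 3639) [],
  .cy (nat_lit 3) [] [] [nat_lit 15, nat_lit 5, nat_lit 34, nat_lit 34, nat_lit 11] (nat_lit 3177) [⟨[nat_lit 3133, nat_lit 3141, nat_lit 3133], [nat_lit 16, nat_lit 0, nat_lit 35, nat_lit 32, nat_lit 11, nat_lit 26], (nat_lit 3464)⟩, ⟨[nat_lit 215, nat_lit 217], [nat_lit 5, nat_lit 0, nat_lit 32, nat_lit 35], (nat_lit 3640)⟩],
  .cy (nat_lit 0) [] [] [] (nat_lit 3641) [],
  .cy (nat_lit 9) [] [] [nat_lit 5, nat_lit 2, nat_lit 0, nat_lit 18, nat_lit 35, nat_lit 15, nat_lit 27] (nat_lit 3177) [⟨[nat_lit 3141, nat_lit 3134, nat_lit 3140, nat_lit 3132], [nat_lit 14, nat_lit 0, nat_lit 25, nat_lit 33, nat_lit 15], (nat_lit 3266)⟩, ⟨[nat_lit 217, nat_lit 215], [nat_lit 14, nat_lit 15, nat_lit 0, nat_lit 16, nat_lit 18], (nat_lit 3605)⟩],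
  .cy (nat_lit 0) [] [] [] (nat_lit 3643) [],
  .cy (nat_lit 27) [] [] [nat_lit 33, nat_lit 18, nat_lit 11, nat_lit 26] (nat_lit 3177) [⟨[nat_lit 3140, nat_lit 3133, nat_lit 3132], [nat_lit 1, nat_lit 32, nat_lit 11, nat_lit 26], (nat_lit 3264)⟩, ⟨[nat_lit 215, nat_lit 217, nat_lit 215], [nat_lit 1, nat_lit 5, nat_lit 24, nat_lit 18, nat_lit 18, nat_lit 27], (nat_lit 3636)⟩],
  .cy (nat_lit 0) [] [] [] (nat_lit 3645) [],
  .cy (nat_lit 1) [] [] [nat_lit 26, nat_lit 24, nat_lit 0, nat_lit 25, nat_lit 37, nat_lit 15] (nat_lit 905) [⟨[nat_lit 208, nat_lit 522, nat_lit 203, nat_lit 201], [nat_lit 1, nat_lit 5, nat_lit 18, nat_lit 15, nat_lit 11, nat_lit 27], (nat_lit 1979)⟩, ⟨[nat_lit 215], [nat_lit 1, nat_lit 24, nat_lit 0, nat_lit 36, nat_lit 33, nat_lit 27], (nat_lit 3636)⟩],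
  .cy (nat_lit 0) [] [] [] (nat_lit 3647) [],
  .cy (nat_lit 6) [] [] [nat_lit 10, nat_lit 0, nat_lit 37, nat_lit 25, nat_lit 27] (nat_lit 1495) [⟨[nat_lit 217], [nat_lit 25, nat_lit 16, nat_lit 0, nat_lit 33, nat_lit 11, nat_lit 16, nat_lit 26], (nat_lit 2400)⟩, ⟨[nat_lit 215, nat_lit 217, nat_lit 215], [nat_lit 26, nat_lit 2, nat_lit 34, nat_lit 25, nat_lit 11, nat_lit 26], (nat_lit 3613)⟩],
  .cy (nat_lit 0) [] [] [] (nat_lit 3649) [],
  .cy (nat_lit 9) [] [] [nat_lit 11, nat_lit 2, nat_lit 0, nat_lit 32, nat_lit 11, nat_lit 27] (nat_lit 1495) [⟨[nat_lit 215], [nat_lit 25, nat_lit 1, nat_lit 35, nat_lit 32, nat_lit 11], (nat_lit 2542)⟩, ⟨[nat_lit 217], [nat_lit 24, nat_lit 2, nat_lit 16, nat_lit 18, nat_lit 27], (nat_lit 3603)⟩],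
  .cy (nat_lit 0) [] [] [] (nat_lit 3651) [],
  .cy (nat_lit 22) [] [] [nat_lit 24, nat_lit 0, nat_lit 16, nat_lit 26] (nat_lit 549) [⟨[nat_lit 215, nat_lit 217, nat_lit 215], [nat_lit 26, nat_lit 2, nat_lit 33, nat_lit 25], (nat_lit 640)⟩, ⟨[nat_lit 217, nat_lit 215], [nat_lit 16, nat_lit 2, nat_lit 25, nat_lit 36, nat_lit 11, nat_lit 27], (nat_lit 3615)⟩],
  .cy (nat_lit 0) [] [] [] (nat_lit 3653) [],
  .cy (nat_lit 2) [] [] [nat_lit 2, nat_lit 36, nat_lit 15] (nat_lit 2142) [⟨[], [nat_lit 10, nat_lit 0, nat_lit 32, nat_lit 16], (nat_lit 1761)⟩, ⟨[nat_lit 215], [nat_lit 14, nat_lit 17, nat_lit 37], (nat_lit 3654)⟩],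
  .cy (nat_lit 0) [] [] [] (nat_lit 3655) [],
  .cy (nat_lit 2) [] [] [nat_lit 16, nat_lit 0, nat_lit 34, nat_lit 34] (nat_lit 1884) [⟨[nat_lit 215, nat_lit 217, nat_lit 215], [nat_lit 10, nat_lit 10, nat_lit 0, nat_lit 33, nat_lit 33, nat_lit 27], (nat_lit 2178)⟩, ⟨[], [nat_lit 5, nat_lit 0, nat_lit 37, nat_lit 33, nat_lit 11, nat_lit 26], (nat_lit 3638)⟩],
  .cy (nat_lit 0) [] [] [] (nat_lit 3657) [],
  .cy (nat_lit 23) [] [] [nat_lit 5, nat_lit 16, nat_lit 2, nat_lit 34, nat_lit 37, nat_lit 11, nat_lit 27] (nat_lit 3323) [⟨[nat_lit 3141, nat_lit 3134], [nat_lit 17, nat_lit 17, nat_lit 15], (nat_lit 3256)⟩, ⟨[nat_lit 215], [nat_lit 24, nat_lit 16, nat_lit 0, nat_lit 36, nat_lit 17, nat_lit 26], (nat_lit 3605)⟩],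
  .cy (nat_lit 0) [] [] [] (nat_lit 3659) [],
  .cy (nat_lit 5) [] [] [nat_lit 1, nat_lit 5, nat_lit 32, nat_lit 15, nat_lit 27] (nat_lit 2324) [⟨[nat_lit 215], [nat_lit 1, nat_lit 5, nat_lit 18, nat_lit 36, nat_lit 11, nat_lit 27], (nat_lit 1097)⟩, ⟨[nat_lit 215], [nat_lit 24, nat_lit 0, nat_lit 27, nat_lit 24, nat_lit 15, nat_lit 27], (nat_lit 3656)⟩],
  .cy (nat_lit 0) [] [] [] (nat_lit 3661) [],
  .cy (nat_lit 25) [] [] [nat_lit 2, nat_lit 26, nat_lit 36, nat_lit 27] (nat_lit 1790) [⟨[nat_lit 217], [nat_lit 14, nat_lit 27, nat_lit 24, nat_lit 26], (nat_lit 917)⟩, ⟨[nat_lit 215, nat_lit 217, nat_lit 215], [nat_lit 24, nat_lit 16, nat_lit 0, nat_lit 27, nat_lit 15, nat_lit 11, nat_lit 27], (nat_lit 3609)⟩],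
  .cy (nat_lit 0) [] [] [] (nat_lit 3663) [],
  .cy (nat_lit 8) [] [] [nat_lit 5, nat_lit 24, nat_lit 18] (nat_lit 2055) [⟨[nat_lit 217, nat_lit 215], [nat_lit 24, nat_lit 1, nat_lit 36, nat_lit 33, nat_lit 11, nat_lit 26], (nat_lit 1940)⟩, ⟨[], [nat_lit 5, nat_lit 14, nat_lit 34, nat_lit 32, nat_lit 11, nat_lit 27], (nat_lit 3636)⟩],
  .cy (nat_lit 0) [] [] [] (nat_lit 3665) [],
  .cy (nat_lit 22) [] [] [nat_lit 2, nat_lit 26, nat_lit 17, nat_lit 15, nat_lit 26] (nat_lit 2055) [⟨[nat_lit 215], [nat_lit 5, nat_lit 14, nat_lit 26, nat_lit 16, nat_lit 11, nat_lit 26], (nat_lit 1212)⟩, ⟨[], [nat_lit 11, nat_lit 5, nat_lit 2, nat_lit 32, nat_lit 36, nat_lit 16, nat_lit 26], (nat_lit 3654)⟩],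
  .cy (nat_lit 0) [] [] [] (nat_lit 3667) [],
  .cy (nat_lit 8) [] [] [nat_lit 1, nat_lit 24, nat_lit 0, nat_lit 27, nat_lit 37, nat_lit 27] (nat_lit 1910) [⟨[nat_lit 215, nat_lit 217, nat_lit 215], [nat_lit 17, nat_lit 24, nat_lit 0, nat_lit 33, nat_lit 15], (nat_lit 1344)⟩, ⟨[nat_lit 215, nat_lit 217], [nat_lit 24, nat_lit 2, nat_lit 0, nat_lit 37, nat_lit 37], (nat_lit 3632)⟩],
  .cy (nat_lit 0) [] [] [] (nat_lit 3669) [],
  .cy (nat_lit 10) [] [] [nat_lit 24, nat_lit 2, nat_lit 0, nat_lit 37, nat_lit 34, nat_lit 27] (nat_lit 1610) [⟨[nat_lit 215, nat_lit 217], [nat_lit 1, nat_lit 14, nat_lit 17, nat_lit 11, nat_lit 17, nat_lit 27], (nat_lit 2272)⟩, ⟨[nat_lit 215, nat_lit 217, nat_lit 215], [nat_lit 15, nat_lit 0, nat_lit 26, nat_lit 34, nat_lit 26], (nat_lit 3670)⟩],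
  .cy (nat_lit 0) [] [] [] (nat_lit 3671) [],
  .cy (nat_lit 26) [] [] [nat_lit 2, nat_lit 32, nat_lit 34] (nat_lit 2746) [⟨[nat_lit 2592, nat_lit 2578, nat_lit 2579, nat_lit 2592], [nat_lit 16, nat_lit 0, nat_lit 27, nat_lit 36, nat_lit 27], (nat_lit 2933)⟩, ⟨[nat_lit 217], [nat_lit 16, nat_lit 0, nat_lit 26, nat_lit 17, nat_lit 15, nat_lit 26], (nat_lit 3664)⟩],
  .cy (nat_lit 0) [] [] [] (nat_lit 3673) [],
  .cy (nat_lit 25) [] [] [nat_lit 14, nat_lit 15, nat_lit 0, nat_lit 17, nat_lit 17, nat_lit 15] (nat_lit 1286) [⟨[nat_lit 215], [nat_lit 24, nat_lit 2, nat_lit 0, nat_lit 24, nat_lit 37, nat_lit 15], (nat_lit 2558)⟩, ⟨[nat_lit 217, nat_lit 215], [nat_lit 25, nat_lit 14, nat_lit 0, nat_lit 35, nat_lit 17, nat_lit 27], (nat_lit 3648)⟩],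
  .cy (nat_lit 0) [] [] [] (nat_lit 3675) [],
  .cy (nat_lit 23) [] [] [nat_lit 15, nat_lit 2, nat_lit 18, nat_lit 35, nat_lit 15, nat_lit 27] (nat_lit 2670) [⟨[nat_lit 2592, nat_lit 2578, nat_lit 2579], [nat_lit 5, nat_lit 2, nat_lit 0, nat_lit 34, nat_lit 16, nat_lit 11, nat_lit 27], (nat_lit 2677)⟩, ⟨[], [nat_lit 24, nat_lit 15, nat_lit 0, nat_lit 24, nat_lit 17, nat_lit 11, nat_lit 26], (nat_lit 3646)⟩],
  .cy (nat_lit 0) [] [] [] (nat_lit 3677) [],
  .cy (nat_lit 1) [] [] [nat_lit 5, nat_lit 14, nat_lit 17] (nat_lit 2327) [⟨[nat_lit 217], [nat_lit 24, nat_lit 2, nat_lit 25, nat_lit 37, nat_lit 11], (nat_lit 470)⟩, ⟨[nat_lit 208, nat_lit 201], [nat_lit 25, nat_lit 14, nat_lit 0, nat_lit 34, nat_lit 34, nat_lit 27], (nat_lit 3590)⟩],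
  .cy (nat_lit 0) [] [] [] (nat_lit 3679) [],
  .cy (nat_lit 8) [] [] [nat_lit 11, nat_lit 5, nat_lit 2, nat_lit 11, nat_lit 17] (nat_lit 1166) [⟨[], [nat_lit 2, nat_lit 26, nat_lit 17, nat_lit 15, nat_lit 27], (nat_lit 1892)⟩, ⟨[nat_lit 215, nat_lit 217], [nat_lit 25, nat_lit 2, nat_lit 0, nat_lit 36, nat_lit 16, nat_lit 26], (nat_lit 3615)⟩],
  .cy (nat_lit 0) [] [] [] (nat_lit 3681) [],
  .cy (nat_lit 23) [] [] [nat_lit 15, nat_lit 0, nat_lit 34, nat_lit 32, nat_lit 11, nat_lit 27] (nat_lit 1115) [⟨[nat_lit 215, nat_lit 217, nat_lit 215], [nat_lit 10, nat_lit 10, nat_lit 0, nat_lit 25, nat_lit 15, nat_lit 27], (nat_lit 2241)⟩, ⟨[], [nat_lit 2, nat_lit 25, nat_lit 35, nat_lit 26], (nat_lit 3682)⟩],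
  .cy (nat_lit 0) [] [] [] (nat_lit 3683) [],
  .cy (nat_lit 20) [] [] [nat_lit 0, nat_lit 2, nat_lit 18, nat_lit 15, nat_lit 11, nat_lit 26] (nat_lit 454) [⟨[], [nat_lit 25, nat_lit 1, nat_lit 34, nat_lit 24], (nat_lit 1945)⟩, ⟨[nat_lit 215, nat_lit 217], [nat_lit 15, nat_lit 1, nat_lit 34, nat_lit 16, nat_lit 11], (nat_lit 3668)⟩],
  .cy (nat_lit 0) [] [] [] (nat_lit 3685) [],
  .cy (nat_lit 22) [] [] [nat_lit 14, nat_lit 0, nat_lit 37, nat_lit 24, nat_lit 27] (nat_lit 454) [⟨[nat_lit 215, nat_lit 217, nat_lit 215], [nat_lit 5, nat_lit 2, nat_lit 36, nat_lit 33, nat_lit 24], (nat_lit 2034)⟩, ⟨[nat_lit 215], [nat_lit 5, nat_lit 14, nat_lit 17, nat_lit 16, nat_lit 26], (nat_lit 3609)⟩],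
  .cy (nat_lit 0) [] [] [] (nat_lit 3687) [],
  .cy (nat_lit 22) [] [] [nat_lit 24, nat_lit 1, nat_lit 33, nat_lit 18, nat_lit 11, nat_lit 26] (nat_lit 454) [⟨[nat_lit 215, nat_lit 217, nat_lit 215], [nat_lit 24, nat_lit 16, nat_lit 0, nat_lit 16, nat_lit 18, nat_lit 11], (nat_lit 1610)⟩, ⟨[nat_lit 217], [nat_lit 15, nat_lit 5, nat_lit 32, nat_lit 36, nat_lit 16], (nat_lit 3652)⟩],
  .cy (nat_lit 0) [] [] [] (nat_lit 3689) [],
  .cy (nat_lit 1) [] [] [nat_lit 16, nat_lit 5, nat_lit 0, nat_lit 37, nat_lit 16, nat_lit 26] (nat_lit 3189) [⟨[nat_lit 3140, nat_lit 3134, nat_lit 3141, nat_lit 3134], [nat_lit 5, nat_lit 0, nat_lit 24, nat_lit 18, nat_lit 26], (nat_lit 3322)⟩, ⟨[nat_lit 215], [nat_lit 15, nat_lit 5, nat_lit 15, nat_lit 17, nat_lit 26], (nat_lit 3658)⟩],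
  .cy (nat_lit 0) [] [] [] (nat_lit 3691) [],
  .cy (nat_lit 24) [] [] [nat_lit 1, nat_lit 37, nat_lit 26] (nat_lit 3189) [⟨[nat_lit 3140, nat_lit 3133, nat_lit 3140], [nat_lit 14, nat_lit 0, nat_lit 26, nat_lit 15, nat_lit 26], (nat_lit 3436)⟩, ⟨[nat_lit 217], [nat_lit 0, nat_lit 33, nat_lit 16, nat_lit 11], (nat_lit 3615)⟩],
  .cy (nat_lit 0) [] [] [] (nat_lit 3693) [],
  .cy (nat_lit 5) [] [] [nat_lit 25, nat_lit 14, nat_lit 0, nat_lit 11, nat_lit 37] (nat_lit 1321) [⟨[], [nat_lit 16, nat_lit 2, nat_lit 34, nat_lit 25, nat_lit 11, nat_lit 26], (nat_lit 292)⟩, ⟨[nat_lit 217, nat_lit 215], [nat_lit 2, nat_lit 0, nat_lit 26, nat_lit 15, nat_lit 15, nat_lit 26], (nat_lit 3656)⟩],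
  .cy (nat_lit 0) [] [] [] (nat_lit 3695) [],
  .cy (nat_lit 21) [] [] [nat_lit 24, nat_lit 16, nat_lit 0, nat_lit 16, nat_lit 26] (nat_lit 2371) [⟨[nat_lit 215, nat_lit 217], [nat_lit 15, nat_lit 1, nat_lit 34, nat_lit 25, nat_lit 11], (nat_lit 1886)⟩, ⟨[nat_lit 215], [nat_lit 14, nat_lit 0, nat_lit 18, nat_lit 35, nat_lit 15, nat_lit 27], (nat_lit 3640)⟩],
  .cy (nat_lit 0) [] [] [] (nat_lit 3697) [],
  .cy (nat_lit 9) [] [] [nat_lit 25, nat_lit 1, nat_lit 15] (nat_lit 779) [⟨[nat_lit 215, nat_lit 217, nat_lit 215], [nat_lit 5, nat_lit 24, nat_lit 16, nat_lit 26], (nat_lit 890)⟩, ⟨[nat_lit 217], [nat_lit 25, nat_lit 2, nat_lit 0, nat_lit 15, nat_lit 18, nat_lit 27], (nat_lit 3658)⟩],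
  .cy (nat_lit 0) [] [] [] (nat_lit 3699) [],
  .cy (nat_lit 8) [] [] [nat_lit 25, nat_lit 0, nat_lit 15, nat_lit 17, nat_lit 27] (nat_lit 1403) [⟨[nat_lit 215], [nat_lit 33, nat_lit 18, nat_lit 11, nat_lit 26], (nat_lit 1615)⟩, ⟨[nat_lit 215, nat_lit 217, nat_lit 215], [nat_lit 14, nat_lit 0, nat_lit 36, nat_lit 24, nat_lit 15, nat_lit 26], (nat_lit 3672)⟩],
  .cy (nat_lit 0) [] [] [] (nat_lit 3701) [],
  .cy (nat_lit 7) [] [] [nat_lit 24, nat_lit 2, nat_lit 32, nat_lit 36, nat_lit 16, nat_lit 26] (nat_lit 1853) [⟨[nat_lit 217], [nat_lit 0, nat_lit 2, nat_lit 18, nat_lit 35, nat_lit 15], (nat_lit 1577)⟩, ⟨[nat_lit 215, nat_lit 217, nat_lit 215], [nat_lit 1, nat_lit 5, nat_lit 37, nat_lit 11, nat_lit 15, nat_lit 26], (nat_lit 3668)⟩],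
  .cy (nat_lit 0) [] [] [] (nat_lit 3703) [],
  .cy (nat_lit 8) [] [] [nat_lit 2, nat_lit 24, nat_lit 36, nat_lit 11, nat_lit 26] (nat_lit 1853) [⟨[nat_lit 217], [nat_lit 5, nat_lit 16, nat_lit 2, nat_lit 37, nat_lit 34, nat_lit 27], (nat_lit 1916)⟩, ⟨[], [nat_lit 25, nat_lit 0, nat_lit 15, nat_lit 18, nat_lit 16, nat_lit 26], (nat_lit 3672)⟩],
  .cy (nat_lit 0) [] [] [] (nat_lit 3705) [],
  .cy (nat_lit 27) [] [] [nat_lit 25, nat_lit 2, nat_lit 0, nat_lit 37, nat_lit 33, nat_lit 26] (nat_lit 1428) [⟨[nat_lit 215, nat_lit 217, nat_lit 215], [nat_lit 25, nat_lit 1, nat_lit 34, nat_lit 37, nat_lit 11], (nat_lit 1534)⟩, ⟨[nat_lit 215], [nat_lit 24, nat_lit 0, nat_lit 24, nat_lit 16, nat_lit 26], (nat_lit 3607)⟩],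
  .cy (nat_lit 0) [] [] [] (nat_lit 3707) [],
  .cy (nat_lit 8) [] [] [nat_lit 16, nat_lit 2, nat_lit 25, nat_lit 15, nat_lit 11, nat_lit 27] (nat_lit 2882) [⟨[nat_lit 2579, nat_lit 2578, nat_lit 2591, nat_lit 2579], [nat_lit 2, nat_lit 36, nat_lit 15, nat_lit 27], (nat_lit 2735)⟩, ⟨[nat_lit 215, nat_lit 217], [nat_lit 15, nat_lit 1, nat_lit 37, nat_lit 33], (nat_lit 3670)⟩],
  .cy (nat_lit 0) [] [] [] (nat_lit 3709) [],
  .cy (nat_lit 6) [] [] [nat_lit 0, nat_lit 2, nat_lit 35, nat_lit 27, nat_lit 15, nat_lit 26] (nat_lit 2198) [⟨[], [nat_lit 1, nat_lit 24, nat_lit 0, nat_lit 16, nat_lit 25], (nat_lit 2286)⟩, ⟨[nat_lit 217, nat_lit 215], [nat_lit 2, nat_lit 0, nat_lit 26, nat_lit 24, nat_lit 11, nat_lit 26], (nat_lit 3652)⟩],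
  .cy (nat_lit 0) [] [] [] (nat_lit 3711) [],
  .cy (nat_lit 15) [] [] [nat_lit 14, nat_lit 0, nat_lit 11] (nat_lit 1285) [⟨[nat_lit 215, nat_lit 217, nat_lit 215], [nat_lit 1, nat_lit 5, nat_lit 25, nat_lit 15], (nat_lit 2055)⟩, ⟨[nat_lit 215, nat_lit 217], [nat_lit 5, nat_lit 14, nat_lit 17, nat_lit 25, nat_lit 15], (nat_lit 2298)⟩, ⟨[nat_lit 215, nat_lit 217, nat_lit 215], [nat_lit 17, nat_lit 24, nat_lit 0, nat_lit 33, nat_lit 11, nat_lit 16, nat_lit 26], (nat_lit 2020)⟩, ⟨[nat_lit 217, nat_lit 215], [nat_lit 26, nat_lit 2, nat_lit 0, nat_lit 25, nat_lit 37], (nat_lit 2782)⟩, ⟨[nat_lit 2579, nat_lit 2592, nat_lit 2578, nat_lit 2579], [nat_lit 17, nat_lit 24, nat_lit 0, nat_lit 37, nat_lit 37], (nat_lit 2879)⟩, ⟨[], [nat_lit 11, nat_lit 5, nat_lit 2, nat_lit 24, nat_lit 37, nat_lit 17, nat_lit 26], (nat_lit 3666)⟩],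
  .cy (nat_lit 0) [] [] [] (nat_lit 3713) [],
  .cy (nat_lit 20) [] [] [nat_lit 14, nat_lit 17, nat_lit 36, nat_lit 26] (nat_lit 2868) [⟨[nat_lit 2592, nat_lit 2578, nat_lit 2579, nat_lit 2578], [nat_lit 11, nat_lit 2, nat_lit 0, nat_lit 15, nat_lit 27, nat_lit 16, nat_lit 27], (nat_lit 3077)⟩, ⟨[nat_lit 215], [nat_lit 5, nat_lit 16, nat_lit 2, nat_lit 37, nat_lit 24, nat_lit 11], (nat_lit 3674)⟩],
  .cy (nat_lit 0) [] [] [] (nat_lit 3715) [],
  .cy (nat_lit 20) [] [] [nat_lit 5, nat_lit 2, nat_lit 27, nat_lit 24, nat_lit 15, nat_lit 26] (nat_lit 2868) [⟨[nat_lit 2578, nat_lit 2591, nat_lit 2578], [nat_lit 24, nat_lit 2, nat_lit 37, nat_lit 16], (nat_lit 2845)⟩, ⟨[nat_lit 217, nat_lit 215], [nat_lit 1, nat_lit 14, nat_lit 36, nat_lit 18, nat_lit 15, nat_lit 27], (nat_lit 3702)⟩],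
  .cy (nat_lit 0) [] [] [] (nat_lit 3717) [],
  .cy (nat_lit 27) [] [] [nat_lit 0, nat_lit 2, nat_lit 17, nat_lit 34, nat_lit 11] (nat_lit 2868) [⟨[nat_lit 2592, nat_lit 2578, nat_lit 2579, nat_lit 2592, nat_lit 2579], [nat_lit 25, nat_lit 0, nat_lit 37, nat_lit 18, nat_lit 15], (nat_lit 2665)⟩, ⟨[nat_lit 215, nat_lit 217], [nat_lit 25, nat_lit 0, nat_lit 32, nat_lit 37, nat_lit 15], (nat_lit 3706)⟩],
  .cy (nat_lit 0) [] [] [] (nat_lit 3719) [],
  .cy (nat_lit 1) [] [] [nat_lit 5, nat_lit 0, nat_lit 15, nat_lit 17] (nat_lit 1197) [⟨[nat_lit 217], [nat_lit 14, nat_lit 37, nat_lit 17, nat_lit 27], (nat_lit 1479)⟩, ⟨[nat_lit 215], [nat_lit 1, nat_lit 24, nat_lit 0, nat_lit 17, nat_lit 16, nat_lit 27], (nat_lit 3670)⟩],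
  .cy (nat_lit 0) [] [] [] (nat_lit 3721) [],
  .cy (nat_lit 2) [] [] [nat_lit 5, nat_lit 2, nat_lit 34, nat_lit 16, nat_lit 26] (nat_lit 1972) [⟨[nat_lit 178, nat_lit 164, nat_lit 175], [nat_lit 1, nat_lit 14, nat_lit 18, nat_lit 11, nat_lit 26], (nat_lit 1975)⟩, ⟨[], [nat_lit 17, nat_lit 2, nat_lit 0, nat_lit 34, nat_lit 17, nat_lit 33, nat_lit 27], (nat_lit 3664)⟩],
  .cy (nat_lit 0) [] [] [] (nat_lit 3723) [],
  .cy (nat_lit 10) [] [] [nat_lit 24, nat_lit 15, nat_lit 0, nat_lit 15, nat_lit 24] (nat_lit 3419) [⟨[nat_lit 3133, nat_lit 3140, nat_lit 3133, nat_lit 3132], [nat_lit 14, nat_lit 0, nat_lit 35, nat_lit 32, nat_lit 27], (nat_lit 3176)⟩, ⟨[], [nat_lit 5, nat_lit 0, nat_lit 26], (nat_lit 3644)⟩],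
  .cy (nat_lit 0) [] [] [] (nat_lit 3725) [],
  .cy (nat_lit 11) [] [] [nat_lit 26, nat_lit 2, nat_lit 0, nat_lit 34, nat_lit 32, nat_lit 16, nat_lit 26] (nat_lit 793) [⟨[nat_lit 217], [nat_lit 17, nat_lit 24, nat_lit 0, nat_lit 27, nat_lit 36, nat_lit 11, nat_lit 26], (nat_lit 2048)⟩, ⟨[nat_lit 217, nat_lit 215], [nat_lit 18, nat_lit 15, nat_lit 0, nat_lit 24, nat_lit 16], (nat_lit 3700)⟩],
  .cy (nat_lit 0) [] [] [] (nat_lit 3727) [],
  .cy (nat_lit 2) [] [] [nat_lit 25, nat_lit 1, nat_lit 36, nat_lit 17, nat_lit 26] (nat_lit 324) [⟨[nat_lit 215, nat_lit 217, nat_lit 215], [nat_lit 26, nat_lit 2, nat_lit 0, nat_lit 36, nat_lit 18, nat_lit 15, nat_lit 27], (nat_lit 2358)⟩, ⟨[], [nat_lit 14, nat_lit 0, nat_lit 34, nat_lit 27], (nat_lit 3585)⟩],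
  .cy (nat_lit 0) [] [] [] (nat_lit 3729) [],
  .cy (nat_lit 21) [] [] [nat_lit 5, nat_lit 14, nat_lit 24, nat_lit 37, nat_lit 17, nat_lit 27] (nat_lit 1294) [⟨[nat_lit 215, nat_lit 217, nat_lit 215], [nat_lit 26, nat_lit 24, nat_lit 0, nat_lit 24, nat_lit 18, nat_lit 16, nat_lit 27], (nat_lit 2416)⟩, ⟨[nat_lit 217], [nat_lit 10, nat_lit 0, nat_lit 25, nat_lit 35, nat_lit 27], (nat_lit 3613)⟩],
  .cy (nat_lit 0) [] [] [] (nat_lit 3731) [],
  .cy (nat_lit 24) [] [] [nat_lit 26, nat_lit 2, nat_lit 36, nat_lit 32, nat_lit 26] (nat_lit 1294) [⟨[nat_lit 215, nat_lit 217, nat_lit 215], [nat_lit 5, nat_lit 2, nat_lit 34, nat_lit 17, nat_lit 11, nat_lit 26], (nat_lit 1862)⟩, ⟨[nat_lit 215, nat_lit 217, nat_lit 215], [nat_lit 24, nat_lit 2, nat_lit 0, nat_lit 34, nat_lit 32, nat_lit 11, nat_lit 26], (nat_lit 3636)⟩],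
  .cy (nat_lit 0) [] [] [] (nat_lit 3733) [],
  .cy (nat_lit 24) [] [] [nat_lit 25, nat_lit 1, nat_lit 35, nat_lit 35] (nat_lit 2222) [⟨[nat_lit 215, nat_lit 217, nat_lit 215], [nat_lit 25, nat_lit 0, nat_lit 27, nat_lit 18, nat_lit 27], (nat_lit 1143)⟩, ⟨[nat_lit 215], [nat_lit 14, nat_lit 0, nat_lit 37, nat_lit 32, nat_lit 11, nat_lit 26], (nat_lit 3714)⟩],
  .cy (nat_lit 0) [] [] [] (nat_lit 3735) [],
  .cy (nat_lit 8) [] [] [nat_lit 1, nat_lit 24, nat_lit 0, nat_lit 16, nat_lit 25, nat_lit 26] (nat_lit 269) [⟨[nat_lit 215], [nat_lit 15, nat_lit 2, nat_lit 36, nat_lit 25, nat_lit 11, nat_lit 26], (nat_lit 331)⟩, ⟨[nat_lit 217], [nat_lit 1, nat_lit 32, nat_lit 16, nat_lit 26], (nat_lit 3732)⟩],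
  .cy (nat_lit 0) [] [] [] (nat_lit 3737) [],
  .cy (nat_lit 8) [] [] [nat_lit 0, nat_lit 2, nat_lit 27, nat_lit 37, nat_lit 26] (nat_lit 2257) [⟨[nat_lit 215, nat_lit 217, nat_lit 215], [nat_lit 1, nat_lit 37, nat_lit 33, nat_lit 11, nat_lit 27], (nat_lit 1817)⟩, ⟨[nat_lit 217, nat_lit 215], [nat_lit 16, nat_lit 0, nat_lit 33, nat_lit 24, nat_lit 11, nat_lit 26], (nat_lit 3724)⟩],
  .cy (nat_lit 0) [] [] [] (nat_lit 3739) [],
  .cy (nat_lit 7) [] [] [nat_lit 25, nat_lit 0, nat_lit 25, nat_lit 36] (nat_lit 1260) [⟨[], [nat_lit 14, nat_lit 37, nat_lit 32, nat_lit 26], (nat_lit 1442)⟩, ⟨[nat_lit 215, nat_lit 217], [nat_lit 24, nat_lit 15, nat_lit 0, nat_lit 32, nat_lit 36, nat_lit 16], (nat_lit 3634)⟩],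
  .cy (nat_lit 0) [] [] [] (nat_lit 3741) [],
  .cy (nat_lit 24) [] [] [nat_lit 0, nat_lit 2, nat_lit 34, nat_lit 34] (nat_lit 1736) [⟨[], [nat_lit 5, nat_lit 32, nat_lit 35, nat_lit 27], (nat_lit 2484)⟩, ⟨[nat_lit 217, nat_lit 215], [nat_lit 1, nat_lit 24, nat_lit 0, nat_lit 34, nat_lit 24, nat_lit 27], (nat_lit 3742)⟩],
  .cy (nat_lit 0) [] [] [] (nat_lit 3743) [],
  .cy (nat_lit 2) [] [] [nat_lit 5, nat_lit 14, nat_lit 32, nat_lit 37, nat_lit 15, nat_lit 27] (nat_lit 781) [⟨[nat_lit 217, nat_lit 215], [nat_lit 25, nat_lit 14, nat_lit 0, nat_lit 16, nat_lit 18], (nat_lit 1803)⟩, ⟨[nat_lit 217, nat_lit 215], [nat_lit 24, nat_lit 15, nat_lit 0, nat_lit 17, nat_lit 15], (nat_lit 3736)⟩],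
  .cy (nat_lit 0) [] [] [] (nat_lit 3745) [],
  .cy (nat_lit 22) [] [] [nat_lit 5, nat_lit 14, nat_lit 32, nat_lit 18, nat_lit 15] (nat_lit 781) [⟨[nat_lit 215, nat_lit 217], [nat_lit 15, nat_lit 1, nat_lit 36, nat_lit 33, nat_lit 26], (nat_lit 2485)⟩, ⟨[nat_lit 215, nat_lit 217, nat_lit 215], [nat_lit 15, nat_lit 2, nat_lit 17, nat_lit 11, nat_lit 17, nat_lit 27], (nat_lit 3686)⟩],
  .cy (nat_lit 0) [] [] [] (nat_lit 3747) [],
  .cy (nat_lit 24) [] [] [nat_lit 11, nat_lit 2, nat_lit 0, nat_lit 36, nat_lit 16, nat_lit 11, nat_lit 26] (nat_lit 2646) [⟨[nat_lit 2591, nat_lit 2579, nat_lit 2578, nat_lit 2591, nat_lit 2578], [nat_lit 1, nat_lit 24, nat_lit 0, nat_lit 35, nat_lit 32, nat_lit 11], (nat_lit 2969)⟩, ⟨[nat_lit 215, nat_lit 217], [nat_lit 16, nat_lit 2, nat_lit 32, nat_lit 18, nat_lit 27], (nat_lit 3736)⟩],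
  .cy (nat_lit 0) [] [] [] (nat_lit 3749) [],
  .cy (nat_lit 2) [] [] [nat_lit 11, nat_lit 5, nat_lit 2, nat_lit 33, nat_lit 11, nat_lit 16, nat_lit 27] (nat_lit 2121) [⟨[nat_lit 217], [nat_lit 0, nat_lit 17, nat_lit 11, nat_lit 17], (nat_lit 750)⟩, ⟨[], [nat_lit 15, nat_lit 5, nat_lit 35, nat_lit 17, nat_lit 16], (nat_lit 3670)⟩],
  .cy (nat_lit 0) [] [] [] (nat_lit 3751) [],
  .cy (nat_lit 8) [] [] [nat_lit 24, nat_lit 2, nat_lit 0, nat_lit 33, nat_lit 11] (nat_lit 3149) [⟨[nat_lit 3134, nat_lit 3140, nat_lit 3133, nat_lit 3132], [nat_lit 15, nat_lit 1, nat_lit 27, nat_lit 24, nat_lit 11, nat_lit 27], (nat_lit 3360)⟩, ⟨[nat_lit 215, nat_lit 217, nat_lit 215], [nat_lit 2, nat_lit 0, nat_lit 27, nat_lit 16, nat_lit 26], (nat_lit 3678)⟩],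
  .cy (nat_lit 0) [] [] [] (nat_lit 3753) [],
  .cy (nat_lit 11) [] [] [nat_lit 15, nat_lit 1, nat_lit 36, nat_lit 33, nat_lit 11] (nat_lit 1498) [⟨[nat_lit 217], [nat_lit 24, nat_lit 16, nat_lit 0, nat_lit 37, nat_lit 17], (nat_lit 1925)⟩, ⟨[nat_lit 217], [nat_lit 5, nat_lit 2, nat_lit 17], (nat_lit 3672)⟩],
  .cy (nat_lit 0) [] [] [] (nat_lit 3755) [],
  .cy (nat_lit 10) [] [] [nat_lit 26, nat_lit 2, nat_lit 0, nat_lit 35, nat_lit 35] (nat_lit 385) [⟨[nat_lit 215], [nat_lit 14, nat_lit 0, nat_lit 26, nat_lit 15, nat_lit 27], (nat_lit 2207)⟩, ⟨[nat_lit 215, nat_lit 217], [nat_lit 1, nat_lit 24, nat_lit 0, nat_lit 35, nat_lit 11], (nat_lit 3638)⟩],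
  .cy (nat_lit 0) [] [] [] (nat_lit 3757) [],
  .cy (nat_lit 4) [] [] [nat_lit 15, nat_lit 5, nat_lit 18, nat_lit 25, nat_lit 26] (nat_lit 604) [⟨[], [nat_lit 2, nat_lit 37, nat_lit 11, nat_lit 15, nat_lit 26], (nat_lit 560)⟩, ⟨[nat_lit 215, nat_lit 217], [nat_lit 16, nat_lit 0, nat_lit 26, nat_lit 34, nat_lit 11], (nat_lit 3646)⟩],
  .cy (nat_lit 0) [] [] [] (nat_lit 3759) [],
  .cy (nat_lit 10) [] [] [nat_lit 5, nat_lit 35, nat_lit 35, nat_lit 11] (nat_lit 2640) [⟨[nat_lit 2591, nat_lit 2578], [nat_lit 16, nat_lit 5, nat_lit 0, nat_lit 34, nat_lit 34, nat_lit 11, nat_lit 27], (nat_lit 2799)⟩, ⟨[nat_lit 215, nat_lit 217, nat_lit 215], [nat_lit 25, nat_lit 2, nat_lit 0, nat_lit 36, nat_lit 18, nat_lit 15, nat_lit 27], (nat_lit 3712)⟩],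
  .cy (nat_lit 0) [] [] [] (nat_lit 3761) [],
  .cy (nat_lit 9) [] [] [nat_lit 1, nat_lit 24, nat_lit 0, nat_lit 32, nat_lit 24, nat_lit 11, nat_lit 27] (nat_lit 1025) [⟨[nat_lit 215], [nat_lit 1, nat_lit 16, nat_lit 17, nat_lit 15, nat_lit 27], (nat_lit 1574)⟩, ⟨[nat_lit 217, nat_lit 215], [nat_lit 25, nat_lit 0, nat_lit 16, nat_lit 17, nat_lit 15], (nat_lit 3692)⟩],
  .cy (nat_lit 0) [] [] [] (nat_lit 3763) [],
  .cy (nat_lit 7) [] [] [nat_lit 15, nat_lit 1, nat_lit 16, nat_lit 26] (nat_lit 2545) [⟨[nat_lit 215], [nat_lit 5, nat_lit 16, nat_lit 2, nat_lit 35, nat_lit 11, nat_lit 27], (nat_lit 2531)⟩, ⟨[nat_lit 215], [nat_lit 25, nat_lit 1, nat_lit 25, nat_lit 37, nat_lit 15, nat_lit 27], (nat_lit 3764)⟩],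
  .cy (nat_lit 0) [] [] [] (nat_lit 3765) [],
  .cy (nat_lit 24) [] [] [nat_lit 5, nat_lit 2, nat_lit 34, nat_lit 37, nat_lit 11] (nat_lit 2545) [⟨[nat_lit 217, nat_lit 215], [nat_lit 26, nat_lit 24, nat_lit 0, nat_lit 27, nat_lit 15, nat_lit 11, nat_lit 27], (nat_lit 2277)⟩, ⟨[], [nat_lit 15, nat_lit 5, nat_lit 32, nat_lit 27, nat_lit 17, nat_lit 27], (nat_lit 3646)⟩]]
noncomputable def P3972 : List Pf := [.cy (nat_lit 0) [] [] [] (nat_lit 3767) [],
  .cy (nat_lit 1) [] [] [nat_lit 16, nat_lit 5, nat_lit 0, nat_lit 34, nat_lit 17, nat_lit 27] (nat_lit 2279) [⟨[nat_lit 217, nat_lit 215], [nat_lit 17, nat_lit 2, nat_lit 0, nat_lit 37, nat_lit 32, nat_lit 27], (nat_lit 1696)⟩, ⟨[], [nat_lit 24, nat_lit 2, nat_lit 0, nat_lit 33, nat_lit 37, nat_lit 11, nat_lit 27], (nat_lit 3626)⟩],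
  .cy (nat_lit 0) [] [] [] (nat_lit 3769) [],
  .cy (nat_lit 3) [] [] [nat_lit 24, nat_lit 0, nat_lit 16, nat_lit 11, nat_lit 27] (nat_lit 2279) [⟨[], [nat_lit 16, nat_lit 5, nat_lit 2, nat_lit 35, nat_lit 33, nat_lit 11, nat_lit 26], (nat_lit 2518)⟩, ⟨[nat_lit 215], [nat_lit 26, nat_lit 24, nat_lit 0, nat_lit 35, nat_lit 35, nat_lit 11, nat_lit 26], (nat_lit 3724)⟩],
  .cy (nat_lit 0) [] [] [] (nat_lit 3771) [],
  .cy (nat_lit 7) [] [] [nat_lit 10, nat_lit 0, nat_lit 26, nat_lit 15] (nat_lit 2271) [⟨[nat_lit 217, nat_lit 215], [nat_lit 1, nat_lit 1, nat_lit 36, nat_lit 36, nat_lit 17], (nat_lit 1988)⟩, ⟨[nat_lit 217], [nat_lit 16, nat_lit 5, nat_lit 2, nat_lit 15, nat_lit 15, nat_lit 11, nat_lit 26], (nat_lit 3605)⟩],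
  .cy (nat_lit 0) [] [] [] (nat_lit 3773) [],
  .cy (nat_lit 26) [] [] [nat_lit 24, nat_lit 2, nat_lit 0, nat_lit 34, nat_lit 34, nat_lit 11] (nat_lit 1590) [⟨[nat_lit 217], [nat_lit 14, nat_lit 15, nat_lit 0, nat_lit 36, nat_lit 18, nat_lit 26], (nat_lit 1383)⟩, ⟨[nat_lit 215], [nat_lit 5, nat_lit 0, nat_lit 15, nat_lit 24, nat_lit 11, nat_lit 26], (nat_lit 3658)⟩],
  .cy (nat_lit 0) [] [] [] (nat_lit 3775) [],
  .cy (nat_lit 20) [] [] [nat_lit 26, nat_lit 24, nat_lit 0, nat_lit 33, nat_lit 15, nat_lit 11, nat_lit 26] (nat_lit 2304) [⟨[nat_lit 217], [nat_lit 14, nat_lit 0, nat_lit 36, nat_lit 33], (nat_lit 1404)⟩, ⟨[], [nat_lit 15, nat_lit 1, nat_lit 35, nat_lit 15, nat_lit 26], (nat_lit 3640)⟩],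
  .cy (nat_lit 0) [] [] [] (nat_lit 3777) [],
  .cy (nat_lit 15) [] [] [nat_lit 1, nat_lit 14, nat_lit 32, nat_lit 34] (nat_lit 2241) [⟨[nat_lit 217, nat_lit 215], [nat_lit 5, nat_lit 16, nat_lit 2, nat_lit 11, nat_lit 36], (nat_lit 3040)⟩, ⟨[nat_lit 2592, nat_lit 2578, nat_lit 2591, nat_lit 2578, nat_lit 2579, nat_lit 2578], [nat_lit 1, nat_lit 1, nat_lit 33, nat_lit 37, nat_lit 26], (nat_lit 3013)⟩, ⟨[nat_lit 217, nat_lit 215], [nat_lit 0, nat_lit 2, nat_lit 34, nat_lit 34, nat_lit 11], (nat_lit 1175)⟩, ⟨[nat_lit 215], [nat_lit 1, nat_lit 36, nat_lit 36, nat_lit 17], (nat_lit 3257)⟩, ⟨[nat_lit 3133, nat_lit 3141, nat_lit 3134, nat_lit 3140], [nat_lit 24, nat_lit 0, nat_lit 32, nat_lit 15, nat_lit 26], (nat_lit 3486)⟩, ⟨[nat_lit 215], [nat_lit 26, nat_lit 2, nat_lit 32, nat_lit 36, nat_lit 16, nat_lit 27], (nat_lit 3605)⟩],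
  .cy (nat_lit 0) [] [] [] (nat_lit 3779) [],
  .cy (nat_lit 1) [] [] [nat_lit 1, nat_lit 24, nat_lit 0, nat_lit 24, nat_lit 11, nat_lit 27] (nat_lit 603) [⟨[nat_lit 217], [nat_lit 26, nat_lit 24, nat_lit 0, nat_lit 26, nat_lit 16, nat_lit 27], (nat_lit 1190)⟩, ⟨[nat_lit 215, nat_lit 217, nat_lit 215], [nat_lit 1, nat_lit 5, nat_lit 36, nat_lit 18, nat_lit 15, nat_lit 26], (nat_lit 3660)⟩],
  .cy (nat_lit 0) [] [] [] (nat_lit 3781) [],
  .cy (nat_lit 4) [] [] [nat_lit 26, nat_lit 2, nat_lit 25, nat_lit 11] (nat_lit 607) [⟨[], [nat_lit 26, nat_lit 2, nat_lit 36, nat_lit 18, nat_lit 26], (nat_lit 1251)⟩, ⟨[], [nat_lit 14, nat_lit 35, nat_lit 35, nat_lit 11], (nat_lit 3734)⟩],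
  .cy (nat_lit 0) [] [] [] (nat_lit 3783) [],
  .cy (nat_lit 16) [] [] [nat_lit 2, nat_lit 27, nat_lit 15] (nat_lit 2682) [⟨[nat_lit 2591, nat_lit 2579, nat_lit 2578], [nat_lit 1, nat_lit 24, nat_lit 0, nat_lit 36, nat_lit 17], (nat_lit 2949)⟩, ⟨[nat_lit 215, nat_lit 217], [nat_lit 2, nat_lit 25, nat_lit 15, nat_lit 11, nat_lit 26], (nat_lit 426)⟩, ⟨[nat_lit 215], [nat_lit 5, nat_lit 24, nat_lit 24, nat_lit 11, nat_lit 27], (nat_lit 1289)⟩, ⟨[], [nat_lit 16, nat_lit 5, nat_lit 2, nat_lit 15, nat_lit 11, nat_lit 27], (nat_lit 2032)⟩, ⟨[nat_lit 215, nat_lit 217, nat_lit 215], [nat_lit 14, nat_lit 0, nat_lit 24, nat_lit 36, nat_lit 11], (nat_lit 793)⟩, ⟨[nat_lit 217, nat_lit 215], [nat_lit 25, nat_lit 2, nat_lit 0, nat_lit 24, nat_lit 36, nat_lit 11], (nat_lit 3744)⟩],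
  .cy (nat_lit 0) [] [] [] (nat_lit 3785) [],
  .cy (nat_lit 7) [] [] [nat_lit 26, nat_lit 24, nat_lit 0, nat_lit 15, nat_lit 11, nat_lit 15, nat_lit 26] (nat_lit 3407) [⟨[nat_lit 3133, nat_lit 3140, nat_lit 3134, nat_lit 3132], [nat_lit 14, nat_lit 15, nat_lit 0, nat_lit 24, nat_lit 18, nat_lit 16, nat_lit 27], (nat_lit 3374)⟩, ⟨[nat_lit 217], [nat_lit 15, nat_lit 2, nat_lit 17, nat_lit 17, nat_lit 11, nat_lit 27], (nat_lit 3630)⟩],
  .cy (nat_lit 0) [] [] [] (nat_lit 3787) [],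
  .cy (nat_lit 27) [] [] [nat_lit 26, nat_lit 24, nat_lit 0, nat_lit 16, nat_lit 18, nat_lit 26] (nat_lit 631) [⟨[nat_lit 217], [nat_lit 14, nat_lit 15, nat_lit 0, nat_lit 35, nat_lit 17, nat_lit 16, nat_lit 26], (nat_lit 2374)⟩, ⟨[nat_lit 215, nat_lit 217], [nat_lit 24, nat_lit 15, nat_lit 0, nat_lit 36, nat_lit 32, nat_lit 11], (nat_lit 3674)⟩],
  .cy (nat_lit 0) [] [] [] (nat_lit 3789) [],
  .cy (nat_lit 20) [] [] [nat_lit 11, nat_lit 2, nat_lit 0, nat_lit 24, nat_lit 36, nat_lit 16] (nat_lit 1737) [⟨[nat_lit 215, nat_lit 217], [nat_lit 0, nat_lit 15, nat_lit 32, nat_lit 15, nat_lit 27], (nat_lit 620)⟩, ⟨[nat_lit 215, nat_lit 217], [nat_lit 24, nat_lit 2, nat_lit 24, nat_lit 18, nat_lit 18, nat_lit 26], (nat_lit 3736)⟩],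
  .cy (nat_lit 0) [] [] [] (nat_lit 3791) [],
  .cy (nat_lit 1) [] [] [nat_lit 14, nat_lit 15, nat_lit 11, nat_lit 15, nat_lit 27] (nat_lit 1256) [⟨[nat_lit 217, nat_lit 215], [nat_lit 2, nat_lit 37, nat_lit 37, nat_lit 11], (nat_lit 1409)⟩, ⟨[nat_lit 217], [nat_lit 24, nat_lit 1, nat_lit 37, nat_lit 34, nat_lit 25], (nat_lit 3770)⟩],
  .cy (nat_lit 0) [] [] [] (nat_lit 3793) [],
  .cy (nat_lit 12) [] [] [nat_lit 11, nat_lit 2, nat_lit 0, nat_lit 34, nat_lit 17, nat_lit 33, nat_lit 26] (nat_lit 1256) [⟨[nat_lit 217], [nat_lit 18, nat_lit 15, nat_lit 0, nat_lit 24, nat_lit 37, nat_lit 17], (nat_lit 401)⟩, ⟨[nat_lit 217], [nat_lit 10, nat_lit 10, nat_lit 0, nat_lit 27], (nat_lit 3778)⟩],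
  .cy (nat_lit 0) [] [] [] (nat_lit 3795) [],
  .cy (nat_lit 22) [] [] [nat_lit 17, nat_lit 24, nat_lit 0, nat_lit 17, nat_lit 17, nat_lit 15] (nat_lit 1295) [⟨[nat_lit 215, nat_lit 217], [nat_lit 10, nat_lit 0, nat_lit 26, nat_lit 16], (nat_lit 1796)⟩, ⟨[], [nat_lit 1, nat_lit 37, nat_lit 27], (nat_lit 3640)⟩],
  .cy (nat_lit 0) [] [] [] (nat_lit 3797) [],
  .cy (nat_lit 22) [] [] [nat_lit 14, nat_lit 24, nat_lit 11, nat_lit 27] (nat_lit 1132) [⟨[], [nat_lit 25, nat_lit 1, nat_lit 18, nat_lit 15, nat_lit 11], (nat_lit 914)⟩, ⟨[], [nat_lit 17, nat_lit 24, nat_lit 0, nat_lit 34, nat_lit 34, nat_lit 11], (nat_lit 3722)⟩],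
  .cy (nat_lit 0) [] [] [] (nat_lit 3799) [],
  .cy (nat_lit 9) [] [] [nat_lit 16, nat_lit 5, nat_lit 2, nat_lit 17, nat_lit 16, nat_lit 27] (nat_lit 252) [⟨[nat_lit 217], [nat_lit 24, nat_lit 0, nat_lit 26, nat_lit 34, nat_lit 27], (nat_lit 489)⟩, ⟨[nat_lit 215, nat_lit 217], [nat_lit 11, nat_lit 2, nat_lit 0, nat_lit 17, nat_lit 34, nat_lit 27], (nat_lit 3770)⟩],
  .cy (nat_lit 0) [] [] [] (nat_lit 3801) [],
  .cy (nat_lit 9) [] [] [nat_lit 15, nat_lit 2, nat_lit 27, nat_lit 16, nat_lit 27] (nat_lit 1645) [⟨[nat_lit 215], [nat_lit 5, nat_lit 14, nat_lit 18, nat_lit 25], (nat_lit 1521)⟩, ⟨[], [nat_lit 15, nat_lit 2, nat_lit 16, nat_lit 25], (nat_lit 3636)⟩],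
  .cy (nat_lit 0) [] [] [] (nat_lit 3803) [],
  .cy (nat_lit 27) [] [] [nat_lit 24, nat_lit 1, nat_lit 34, nat_lit 17] (nat_lit 2656) [⟨[nat_lit 2579, nat_lit 2578], [nat_lit 25, nat_lit 0, nat_lit 32, nat_lit 34, nat_lit 26], (nat_lit 3001)⟩, ⟨[nat_lit 215, nat_lit 217, nat_lit 215], [nat_lit 14, nat_lit 15, nat_lit 0, nat_lit 17, nat_lit 17, nat_lit 15, nat_lit 26], (nat_lit 3772)⟩],
  .cy (nat_lit 0) [] [] [] (nat_lit 3805) [],
  .cy (nat_lit 11) [] [] [nat_lit 14, nat_lit 15, nat_lit 0, nat_lit 36] (nat_lit 453) [⟨[nat_lit 217, nat_lit 215], [nat_lit 24, nat_lit 16, nat_lit 0, nat_lit 35, nat_lit 17, nat_lit 27], (nat_lit 1078)⟩, ⟨[nat_lit 217], [nat_lit 14, nat_lit 15, nat_lit 0, nat_lit 16, nat_lit 24, nat_lit 26], (nat_lit 3654)⟩],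
  .cy (nat_lit 0) [] [] [] (nat_lit 3807) [],
  .cy (nat_lit 7) [] [] [nat_lit 14, nat_lit 0, nat_lit 15, nat_lit 17, nat_lit 11, nat_lit 27] (nat_lit 2577) [⟨[nat_lit 100, nat_lit 109, nat_lit 100, nat_lit 100, nat_lit 106], [nat_lit 11, nat_lit 2, nat_lit 0, nat_lit 15, nat_lit 18, nat_lit 16, nat_lit 27], (nat_lit 213)⟩, ⟨[], [nat_lit 16, nat_lit 2, nat_lit 17, nat_lit 11, nat_lit 27], (nat_lit 3601)⟩],
  .cy (nat_lit 0) [] [] [] (nat_lit 3809) [],
  .cy (nat_lit 10) [] [] [nat_lit 24, nat_lit 15, nat_lit 0, nat_lit 37, nat_lit 37, nat_lit 16, nat_lit 26] (nat_lit 2577) [⟨[nat_lit 100, nat_lit 90, nat_lit 101, nat_lit 109, nat_lit 90], [nat_lit 15, nat_lit 2, nat_lit 36, nat_lit 24], (nat_lit 213)⟩, ⟨[], [nat_lit 26, nat_lit 2, nat_lit 0, nat_lit 32, nat_lit 24, nat_lit 26], (nat_lit 3599)⟩],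
  .cy (nat_lit 0) [] [] [] (nat_lit 3811) [],
  .cy (nat_lit 7) [] [] [nat_lit 15, nat_lit 2, nat_lit 36, nat_lit 33, nat_lit 11, nat_lit 26] (nat_lit 2582) [⟨[nat_lit 217], [nat_lit 10, nat_lit 10, nat_lit 0, nat_lit 37, nat_lit 34, nat_lit 26], (nat_lit 601)⟩, ⟨[nat_lit 215, nat_lit 217], [nat_lit 25, nat_lit 0, nat_lit 33, nat_lit 25], (nat_lit 3646)⟩],
  .cy (nat_lit 0) [] [] [] (nat_lit 3813) [],
  .cy (nat_lit 10) [] [] [nat_lit 32, nat_lit 18, nat_lit 11] (nat_lit 2582) [⟨[], [nat_lit 14, nat_lit 36, nat_lit 15, nat_lit 26], (nat_lit 560)⟩, ⟨[nat_lit 215, nat_lit 217], [nat_lit 16, nat_lit 0, nat_lit 15, nat_lit 15, nat_lit 27], (nat_lit 3646)⟩],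
  .cy (nat_lit 0) [] [] [] (nat_lit 3815) [],
  .cy (nat_lit 21) [] [] [nat_lit 24, nat_lit 16, nat_lit 0, nat_lit 32, nat_lit 24, nat_lit 27] (nat_lit 2582) [⟨[nat_lit 215], [nat_lit 2, nat_lit 32, nat_lit 35, nat_lit 26], (nat_lit 268)⟩, ⟨[nat_lit 217], [nat_lit 24, nat_lit 16, nat_lit 0, nat_lit 17, nat_lit 17, nat_lit 27], (nat_lit 3790)⟩],
  .cy (nat_lit 0) [] [] [] (nat_lit 3817) [],
  .cy (nat_lit 22) [] [] [nat_lit 25, nat_lit 14, nat_lit 0, nat_lit 16, nat_lit 18] (nat_lit 2582) [⟨[nat_lit 215], [nat_lit 5, nat_lit 16, nat_lit 2, nat_lit 27, nat_lit 36, nat_lit 11, nat_lit 27], (nat_lit 332)⟩, ⟨[nat_lit 215, nat_lit 217], [nat_lit 1, nat_lit 24, nat_lit 0, nat_lit 11, nat_lit 18, nat_lit 26], (nat_lit 3802)⟩],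
  .cy (nat_lit 0) [] [] [] (nat_lit 3819) [],
  .cy (nat_lit 1) [] [] [nat_lit 16, nat_lit 0, nat_lit 32, nat_lit 27, nat_lit 17] (nat_lit 2586) [⟨[nat_lit 215], [nat_lit 10, nat_lit 10, nat_lit 0, nat_lit 24, nat_lit 37, nat_lit 17, nat_lit 26], (nat_lit 2608)⟩, ⟨[nat_lit 2592, nat_lit 2578, nat_lit 2579], [nat_lit 5, nat_lit 2, nat_lit 35, nat_lit 33, nat_lit 11, nat_lit 27], (nat_lit 3818)⟩],
  .cy (nat_lit 0) [] [] [] (nat_lit 3821) [],
  .cy (nat_lit 2) [] [] [nat_lit 18, nat_lit 15, nat_lit 0, nat_lit 27, nat_lit 18, nat_lit 11, nat_lit 26] (nat_lit 2586) [⟨[nat_lit 215], [nat_lit 1, nat_lit 24, nat_lit 0, nat_lit 37, nat_lit 24, nat_lit 11], (nat_lit 343)⟩, ⟨[nat_lit 522, nat_lit 208, nat_lit 202], [nat_lit 1, nat_lit 24, nat_lit 24, nat_lit 11], (nat_lit 3597)⟩],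
  .cy (nat_lit 0) [] [] [] (nat_lit 3823) [],
  .cy (nat_lit 4) [] [] [nat_lit 15, nat_lit 0, nat_lit 36, nat_lit 27] (nat_lit 2597) [⟨[nat_lit 165, nat_lit 176, nat_lit 162], [nat_lit 16, nat_lit 5, nat_lit 0, nat_lit 16, nat_lit 11, nat_lit 27], (nat_lit 230)⟩, ⟨[], [nat_lit 15, nat_lit 5, nat_lit 33, nat_lit 11, nat_lit 16, nat_lit 27], (nat_lit 3678)⟩],
  .cy (nat_lit 0) [] [] [] (nat_lit 3825) [],
  .cy (nat_lit 10) [] [] [nat_lit 16, nat_lit 0, nat_lit 36, nat_lit 18] (nat_lit 2597) [⟨[nat_lit 175, nat_lit 165, nat_lit 161], [nat_lit 25, nat_lit 0, nat_lit 37, nat_lit 24, nat_lit 15], (nat_lit 1584)⟩, ⟨[nat_lit 215, nat_lit 217, nat_lit 215], [nat_lit 11, nat_lit 2, nat_lit 0, nat_lit 24, nat_lit 18, nat_lit 26], (nat_lit 3754)⟩],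
  .cy (nat_lit 0) [] [] [] (nat_lit 3827) [],
  .cy (nat_lit 3) [] [] [nat_lit 16, nat_lit 5, nat_lit 0, nat_lit 34, nat_lit 17, nat_lit 26] (nat_lit 3092) [⟨[nat_lit 2579, nat_lit 2592, nat_lit 2578, nat_lit 2579, nat_lit 2578], [nat_lit 16, nat_lit 0, nat_lit 18, nat_lit 11, nat_lit 15], (nat_lit 2945)⟩, ⟨[nat_lit 217, nat_lit 215], [nat_lit 18, nat_lit 15, nat_lit 0, nat_lit 34, nat_lit 15, nat_lit 26], (nat_lit 3800)⟩],
  .cy (nat_lit 0) [] [] [] (nat_lit 3829) [],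
  .cy (nat_lit 8) [] [] [nat_lit 0, nat_lit 25, nat_lit 16, nat_lit 16, nat_lit 27] (nat_lit 3091) [⟨[nat_lit 2578, nat_lit 2591], [nat_lit 1, nat_lit 1, nat_lit 37, nat_lit 37, nat_lit 11, nat_lit 26], (nat_lit 2582)⟩, ⟨[nat_lit 217, nat_lit 215], [nat_lit 24, nat_lit 15, nat_lit 0, nat_lit 16, nat_lit 32, nat_lit 15], (nat_lit 3760)⟩],
  .cy (nat_lit 0) [] [] [] (nat_lit 3831) [],
  .cy (nat_lit 3) [] [] [nat_lit 11, nat_lit 2, nat_lit 0, nat_lit 26, nat_lit 24, nat_lit 11, nat_lit 26] (nat_lit 2903) [⟨[nat_lit 215, nat_lit 217], [nat_lit 15, nat_lit 0, nat_lit 17, nat_lit 33, nat_lit 27], (nat_lit 2470)⟩, ⟨[nat_lit 215], [nat_lit 24, nat_lit 2, nat_lit 17, nat_lit 17, nat_lit 15, nat_lit 27], (nat_lit 3780)⟩],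
  .cy (nat_lit 0) [] [] [] (nat_lit 3833) [],
  .cy (nat_lit 4) [] [] [nat_lit 24, nat_lit 2, nat_lit 0, nat_lit 37, nat_lit 24, nat_lit 27] (nat_lit 2921) [⟨[], [nat_lit 26, nat_lit 24, nat_lit 0, nat_lit 24, nat_lit 17, nat_lit 11, nat_lit 26], (nat_lit 2091)⟩, ⟨[nat_lit 215, nat_lit 217, nat_lit 215], [nat_lit 14, nat_lit 32, nat_lit 15], (nat_lit 3724)⟩],
  .cy (nat_lit 0) [] [] [] (nat_lit 3835) [],
  .cy (nat_lit 23) [] [] [nat_lit 24, nat_lit 16, nat_lit 0, nat_lit 34, nat_lit 32, nat_lit 16, nat_lit 27] (nat_lit 2921) [⟨[nat_lit 215, nat_lit 217, nat_lit 215], [nat_lit 1, nat_lit 14, nat_lit 34, nat_lit 25, nat_lit 11], (nat_lit 2423)⟩, ⟨[nat_lit 215, nat_lit 217], [nat_lit 16, nat_lit 5, nat_lit 2, nat_lit 25, nat_lit 35, nat_lit 27], (nat_lit 3804)⟩],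
  .cy (nat_lit 0) [] [] [] (nat_lit 3837) [],
  .cy (nat_lit 1) [] [] [nat_lit 0, nat_lit 2, nat_lit 36, nat_lit 16] (nat_lit 2993) [⟨[nat_lit 215, nat_lit 217], [nat_lit 16, nat_lit 2, nat_lit 15, nat_lit 18, nat_lit 11, nat_lit 27], (nat_lit 1644)⟩, ⟨[nat_lit 217, nat_lit 215], [nat_lit 2, nat_lit 0, nat_lit 32, nat_lit 32, nat_lit 26], (nat_lit 3728)⟩],
  .cy (nat_lit 0) [] [] [] (nat_lit 3839) [],
  .cy (nat_lit 6) [] [] [nat_lit 5, nat_lit 2, nat_lit 0, nat_lit 18, nat_lit 36, nat_lit 27] (nat_lit 2993) [⟨[nat_lit 217, nat_lit 215], [nat_lit 10, nat_lit 10, nat_lit 0, nat_lit 24, nat_lit 36, nat_lit 26], (nat_lit 2399)⟩, ⟨[nat_lit 215, nat_lit 217], [nat_lit 5, nat_lit 0, nat_lit 35, nat_lit 27, nat_lit 15, nat_lit 27], (nat_lit 3720)⟩],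
  .cy (nat_lit 0) [] [] [] (nat_lit 3841) [],
  .cy (nat_lit 21) [] [] [nat_lit 14, nat_lit 15, nat_lit 0, nat_lit 27, nat_lit 15, nat_lit 11, nat_lit 27] (nat_lit 2993) [⟨[], [nat_lit 25, nat_lit 2, nat_lit 0, nat_lit 34, nat_lit 17, nat_lit 11, nat_lit 27], (nat_lit 2062)⟩, ⟨[nat_lit 215, nat_lit 217], [nat_lit 11, nat_lit 5, nat_lit 2, nat_lit 37, nat_lit 33, nat_lit 11, nat_lit 27], (nat_lit 3722)⟩],
  .cy (nat_lit 0) [] [] [] (nat_lit 3843) [],
  .cy (nat_lit 7) [] [] [nat_lit 15, nat_lit 1, nat_lit 37, nat_lit 15, nat_lit 11, nat_lit 27] (nat_lit 2631) [⟨[nat_lit 215, nat_lit 217], [nat_lit 1, nat_lit 24, nat_lit 0, nat_lit 16, nat_lit 18, nat_lit 26], (nat_lit 1440)⟩, ⟨[nat_lit 215], [nat_lit 10, nat_lit 10, nat_lit 0, nat_lit 35, nat_lit 33, nat_lit 11], (nat_lit 3748)⟩],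
  .cy (nat_lit 0) [] [] [] (nat_lit 3845) [],
  .cy (nat_lit 26) [] [] [nat_lit 16, nat_lit 2, nat_lit 35, nat_lit 36, nat_lit 27] (nat_lit 2773) [⟨[nat_lit 217, nat_lit 215], [nat_lit 26, nat_lit 2, nat_lit 25, nat_lit 26], (nat_lit 1183)⟩, ⟨[nat_lit 215, nat_lit 217, nat_lit 215], [nat_lit 18, nat_lit 15, nat_lit 0, nat_lit 24, nat_lit 26], (nat_lit 3786)⟩],
  .cy (nat_lit 0) [] [] [] (nat_lit 3847) [],
  .cy (nat_lit 20) [] [] [nat_lit 24, nat_lit 15, nat_lit 0, nat_lit 33, nat_lit 37, nat_lit 27] (nat_lit 2731) [⟨[nat_lit 215], [nat_lit 16, nat_lit 5, nat_lit 0, nat_lit 16, nat_lit 24, nat_lit 26], (nat_lit 413)⟩, ⟨[nat_lit 215], [nat_lit 15, nat_lit 1, nat_lit 34, nat_lit 34, nat_lit 26], (nat_lit 3776)⟩],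
  .cy (nat_lit 0) [] [] [] (nat_lit 3849) [],
  .cy (nat_lit 26) [] [] [nat_lit 10, nat_lit 10, nat_lit 0, nat_lit 32, nat_lit 34, nat_lit 11, nat_lit 27] (nat_lit 2821) [⟨[nat_lit 215, nat_lit 217, nat_lit 215], [nat_lit 2, nat_lit 0, nat_lit 35, nat_lit 32], (nat_lit 1589)⟩, ⟨[nat_lit 215], [nat_lit 14, nat_lit 0, nat_lit 36, nat_lit 18, nat_lit 15, nat_lit 27], (nat_lit 3664)⟩],
  .cy (nat_lit 0) [] [] [] (nat_lit 3851) [],
  .cy (nat_lit 11) [] [] [nat_lit 24, nat_lit 1, nat_lit 24, nat_lit 16] (nat_lit 2751) [⟨[nat_lit 215], [nat_lit 15, nat_lit 1, nat_lit 15, nat_lit 24, nat_lit 11], (nat_lit 1556)⟩, ⟨[nat_lit 215, nat_lit 217], [nat_lit 1, nat_lit 37, nat_lit 16], (nat_lit 3728)⟩],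
  .cy (nat_lit 0) [] [] [] (nat_lit 3853) [],
  .cy (nat_lit 7) [] [] [nat_lit 25, nat_lit 0, nat_lit 15, nat_lit 15, nat_lit 15, nat_lit 27] (nat_lit 3021) [⟨[], [nat_lit 26, nat_lit 2, nat_lit 0, nat_lit 16, nat_lit 18], (nat_lit 1993)⟩, ⟨[nat_lit 215, nat_lit 217], [nat_lit 25, nat_lit 14, nat_lit 0, nat_lit 25, nat_lit 37, nat_lit 15, nat_lit 26], (nat_lit 3720)⟩],
  .cy (nat_lit 0) [] [] [] (nat_lit 3855) [],
  .cy (nat_lit 21) [] [] [nat_lit 15, nat_lit 1, nat_lit 37, nat_lit 24, nat_lit 11, nat_lit 26] (nat_lit 2787) [⟨[], [nat_lit 16, nat_lit 2, nat_lit 24, nat_lit 18, nat_lit 16, nat_lit 26], (nat_lit 901)⟩, ⟨[], [nat_lit 10, nat_lit 0, nat_lit 11, nat_lit 27], (nat_lit 3724)⟩],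
  .cy (nat_lit 0) [] [] [] (nat_lit 3857) [],
  .cy (nat_lit 10) [] [] [nat_lit 24, nat_lit 1, nat_lit 35, nat_lit 33, nat_lit 11, nat_lit 27] (nat_lit 3135) [⟨[nat_lit 217], [nat_lit 10, nat_lit 0, nat_lit 17, nat_lit 34, nat_lit 15, nat_lit 26], (nat_lit 1285)⟩, ⟨[], [nat_lit 18, nat_lit 36, nat_lit 27], (nat_lit 3688)⟩],
  .cy (nat_lit 0) [] [] [] (nat_lit 3859) [],
  .cy (nat_lit 9) [] [] [nat_lit 0, nat_lit 35, nat_lit 33, nat_lit 11, nat_lit 26] (nat_lit 3137) [⟨[nat_lit 217], [nat_lit 26, nat_lit 2, nat_lit 0, nat_lit 34, nat_lit 34, nat_lit 15], (nat_lit 1884)⟩, ⟨[nat_lit 217, nat_lit 215], [nat_lit 2, nat_lit 0, nat_lit 25, nat_lit 16, nat_lit 16, nat_lit 26], (nat_lit 3630)⟩],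
  .cy (nat_lit 0) [] [] [] (nat_lit 3861) [],
  .cy (nat_lit 10) [] [] [nat_lit 5, nat_lit 0, nat_lit 34, nat_lit 17, nat_lit 11] (nat_lit 3142) [⟨[nat_lit 215, nat_lit 217, nat_lit 215], [nat_lit 15, nat_lit 2, nat_lit 37, nat_lit 15, nat_lit 11, nat_lit 27], (nat_lit 1853)⟩, ⟨[nat_lit 215, nat_lit 217, nat_lit 215], [nat_lit 16, nat_lit 2, nat_lit 35, nat_lit 35, nat_lit 27], (nat_lit 3764)⟩],
  .cy (nat_lit 0) [] [] [] (nat_lit 3863) [],
  .cy (nat_lit 20) [] [] [nat_lit 16, nat_lit 0, nat_lit 34, nat_lit 17, nat_lit 33, nat_lit 27] (nat_lit 3180) [⟨[nat_lit 215, nat_lit 217, nat_lit 215], [nat_lit 1, nat_lit 1, nat_lit 35, nat_lit 32, nat_lit 26], (nat_lit 1599)⟩, ⟨[nat_lit 215], [nat_lit 15, nat_lit 2, nat_lit 17, nat_lit 17, nat_lit 11, nat_lit 26], (nat_lit 3748)⟩],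
  .cy (nat_lit 0) [] [] [] (nat_lit 3865) [],
  .cy (nat_lit 26) [] [] [nat_lit 14, nat_lit 27, nat_lit 24, nat_lit 11] (nat_lit 3180) [⟨[nat_lit 215, nat_lit 217, nat_lit 215], [nat_lit 25, nat_lit 16, nat_lit 0, nat_lit 17, nat_lit 24, nat_lit 27], (nat_lit 2327)⟩, ⟨[], [nat_lit 15, nat_lit 5, nat_lit 17, nat_lit 15, nat_lit 11], (nat_lit 3617)⟩],
  .cy (nat_lit 0) [] [] [] (nat_lit 3867) [],
  .cy (nat_lit 3) [] [] [nat_lit 26, nat_lit 2, nat_lit 0, nat_lit 37, nat_lit 16, nat_lit 26] (nat_lit 3522) [⟨[nat_lit 2579, nat_lit 2592, nat_lit 2579, nat_lit 2578], [nat_lit 15, nat_lit 0, nat_lit 34, nat_lit 17, nat_lit 33, nat_lit 27], (nat_lit 2951)⟩, ⟨[nat_lit 215], [nat_lit 18, nat_lit 15, nat_lit 0, nat_lit 25, nat_lit 16, nat_lit 16, nat_lit 27], (nat_lit 3780)⟩],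
  .cy (nat_lit 0) [] [] [] (nat_lit 3869) [],
  .cy (nat_lit 22) [] [] [nat_lit 2, nat_lit 0, nat_lit 37, nat_lit 24, nat_lit 15] (nat_lit 3522) [⟨[nat_lit 2579], [nat_lit 5, nat_lit 2, nat_lit 34, nat_lit 24, nat_lit 15], (nat_lit 2831)⟩, ⟨[nat_lit 217, nat_lit 215], [nat_lit 11, nat_lit 5, nat_lit 2, nat_lit 11, nat_lit 37, nat_lit 27], (nat_lit 3688)⟩],
  .cy (nat_lit 0) [] [] [] (nat_lit 3871) [],
  .cy (nat_lit 24) [] [] [nat_lit 24, nat_lit 2, nat_lit 27, nat_lit 15, nat_lit 27] (nat_lit 3522) [⟨[nat_lit 2579, nat_lit 2592, nat_lit 2578, nat_lit 2579], [nat_lit 24, nat_lit 2, nat_lit 27], (nat_lit 3031)⟩, ⟨[nat_lit 215], [nat_lit 0, nat_lit 2, nat_lit 26, nat_lit 34, nat_lit 11, nat_lit 27], (nat_lit 3668)⟩],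
  .cy (nat_lit 0) [] [] [] (nat_lit 3873) [],
  .cy (nat_lit 7) [] [] [nat_lit 10, nat_lit 0, nat_lit 37, nat_lit 34, nat_lit 26] (nat_lit 3544) [⟨[nat_lit 3134, nat_lit 3140, nat_lit 3133, nat_lit 3141], [nat_lit 10, nat_lit 0, nat_lit 32, nat_lit 32, nat_lit 11, nat_lit 27], (nat_lit 3506)⟩, ⟨[nat_lit 2578, nat_lit 2579, nat_lit 2592, nat_lit 2579], [nat_lit 1, nat_lit 14, nat_lit 37, nat_lit 37], (nat_lit 3812)⟩],
  .cy (nat_lit 0) [] [] [] (nat_lit 3875) [],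
  .cy (nat_lit 7) [] [] [nat_lit 15, nat_lit 2, nat_lit 34, nat_lit 34, nat_lit 11] (nat_lit 3586) [⟨[nat_lit 215], [nat_lit 16, nat_lit 0, nat_lit 35, nat_lit 17, nat_lit 26], (nat_lit 2429)⟩, ⟨[nat_lit 215], [nat_lit 15, nat_lit 2, nat_lit 34, nat_lit 27], (nat_lit 3800)⟩],
  .cy (nat_lit 14) [] [] [] (nat_lit 294) [⟨[], [nat_lit 0, nat_lit 2, nat_lit 34, nat_lit 32, nat_lit 26], (nat_lit 3760)⟩],
  .cy (nat_lit 0) [] [] [] (nat_lit 3878) [],
  .cy (nat_lit 14) [] [] [nat_lit 39] (nat_lit 228) [⟨[nat_lit 215], [nat_lit 5, nat_lit 0, nat_lit 27, nat_lit 15, nat_lit 11, nat_lit 27], (nat_lit 3626)⟩],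
  .cy (nat_lit 0) [] [] [] (nat_lit 3880) [],
  .cy (nat_lit 14) [] [] [] (nat_lit 1963) [⟨[nat_lit 215, nat_lit 217, nat_lit 215], [nat_lit 25, nat_lit 2, nat_lit 0, nat_lit 32, nat_lit 15, nat_lit 27], (nat_lit 3778)⟩],
  .cy (nat_lit 0) [] [] [] (nat_lit 3882) [],
  .cy (nat_lit 13) [] [] [nat_lit 38] (nat_lit 342) [⟨[nat_lit 215], [nat_lit 0, nat_lit 2, nat_lit 25, nat_lit 33, nat_lit 15, nat_lit 26], (nat_lit 3599)⟩],
  .cy (nat_lit 0) [] [] [] (nat_lit 3884) [],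
  .cy (nat_lit 14) [] [] [nat_lit 38] (nat_lit 1800) [⟨[nat_lit 215, nat_lit 217, nat_lit 215], [nat_lit 15, nat_lit 1, nat_lit 33, nat_lit 11, nat_lit 16, nat_lit 26], (nat_lit 3788)⟩],
  .cy (nat_lit 0) [] [] [] (nat_lit 3886) [],
  .cy (nat_lit 14) [] [] [nat_lit 38] (nat_lit 1985) [⟨[nat_lit 217, nat_lit 215], [nat_lit 11, nat_lit 2, nat_lit 0, nat_lit 24, nat_lit 35, nat_lit 27], (nat_lit 3776)⟩],
  .cy (nat_lit 0) [] [] [] (nat_lit 3888) [],
  .cy (nat_lit 14) [] [] [nat_lit 39] (nat_lit 3805) [⟨[nat_lit 215], [nat_lit 24, nat_lit 15, nat_lit 0, nat_lit 17, nat_lit 15, nat_lit 11, nat_lit 27], (nat_lit 3808)⟩],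
  .cy (nat_lit 1) [] [] [nat_lit 1, nat_lit 25, nat_lit 15, nat_lit 11] (nat_lit 200) [⟨[nat_lit 90, nat_lit 100, nat_lit 102], [nat_lit 17, nat_lit 2, nat_lit 0, nat_lit 16, nat_lit 16, nat_lit 26], (nat_lit 141)⟩, ⟨[nat_lit 120, nat_lit 129, nat_lit 120], [nat_lit 24, nat_lit 11, nat_lit 27], (nat_lit 3879)⟩],
  .cy (nat_lit 0) [] [] [] (nat_lit 3891) [],
  .cy (nat_lit 20) [] [] [nat_lit 10, nat_lit 10, nat_lit 0, nat_lit 34, nat_lit 24, nat_lit 26] (nat_lit 220) [⟨[], [nat_lit 11, nat_lit 2, nat_lit 0, nat_lit 36, nat_lit 36, nat_lit 17], (nat_lit 247)⟩, ⟨[], [nat_lit 5, nat_lit 2, nat_lit 0, nat_lit 17, nat_lit 27], (nat_lit 3690)⟩],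
  .cy (nat_lit 0) [] [] [] (nat_lit 3893) [],
  .cy (nat_lit 21) [] [] [nat_lit 25, nat_lit 16, nat_lit 0, nat_lit 26, nat_lit 24, nat_lit 11, nat_lit 26] (nat_lit 3596) [⟨[nat_lit 202, nat_lit 523, nat_lit 201], [nat_lit 16, nat_lit 2, nat_lit 27, nat_lit 36, nat_lit 11], (nat_lit 212)⟩, ⟨[nat_lit 201], [nat_lit 2, nat_lit 0, nat_lit 25, nat_lit 18, nat_lit 16, nat_lit 27], (nat_lit 3885)⟩],
  .df,
  .cy (nat_lit 0) [] [] [] (nat_lit 3896) [],
  .tr (nat_lit 3896) [] [] [⟨[nat_lit 166, nat_lit 178, nat_lit 166, nat_lit 164, nat_lit 179, nat_lit 167, nat_lit 165], [nat_lit 37, nat_lit 34, nat_lit 25, nat_lit 26], (nat_lit 3896)⟩],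
  .cy (nat_lit 13) [] [] [] (nat_lit 227) [⟨[nat_lit 178, nat_lit 176, nat_lit 165], [nat_lit 18, nat_lit 15, nat_lit 26], (nat_lit 3896)⟩],
  .cy (nat_lit 0) [] [] [] (nat_lit 3899) [],
  .cy (nat_lit 13) [] [] [] (nat_lit 231) [⟨[nat_lit 178, nat_lit 162, nat_lit 175], [nat_lit 33, nat_lit 24, nat_lit 27], (nat_lit 3896)⟩],
  .cy (nat_lit 0) [] [] [] (nat_lit 3901) [],
  .cy (nat_lit 14) [] [] [nat_lit 38] (nat_lit 269) [⟨[], [nat_lit 0, nat_lit 2, nat_lit 36, nat_lit 25, nat_lit 11, nat_lit 26], (nat_lit 3902)⟩],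
  .cy (nat_lit 0) [] [] [] (nat_lit 3903) [],
  .cy (nat_lit 14) [] [] [nat_lit 39] (nat_lit 2597) [⟨[nat_lit 179, nat_lit 176, nat_lit 161], [nat_lit 26, nat_lit 2, nat_lit 0, nat_lit 11, nat_lit 37], (nat_lit 3896)⟩],
  .cy (nat_lit 0) [] [] [] (nat_lit 3905) [],
  .cy (nat_lit 13) [] [] [nat_lit 39] (nat_lit 3087) [⟨[nat_lit 2578, nat_lit 2579], [nat_lit 14, nat_lit 34, nat_lit 15, nat_lit 11, nat_lit 27], (nat_lit 3906)⟩],
  .cy (nat_lit 0) [] [] [] (nat_lit 3907) [],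
  .cy (nat_lit 13) [] [] [nat_lit 39] (nat_lit 3600) [⟨[], [nat_lit 5, nat_lit 0, nat_lit 15, nat_lit 27], (nat_lit 3902)⟩],
  .cy (nat_lit 0) [] [] [] (nat_lit 3909) [],
  .cy (nat_lit 5) [] [] [nat_lit 24, nat_lit 15, nat_lit 0, nat_lit 17, nat_lit 15] (nat_lit 3879) [⟨[nat_lit 3622, nat_lit 3588, nat_lit 3621], [nat_lit 1, nat_lit 14, nat_lit 15, nat_lit 15, nat_lit 26], (nat_lit 3847)⟩, ⟨[nat_lit 2579, nat_lit 2578, nat_lit 2591], [nat_lit 16, nat_lit 0, nat_lit 15, nat_lit 18], (nat_lit 3906)⟩],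
  .cy (nat_lit 0) [] [] [] (nat_lit 3911) [],
  .cy (nat_lit 20) [] [] [nat_lit 2, nat_lit 37, nat_lit 24, nat_lit 11, nat_lit 27] (nat_lit 3879) [⟨[nat_lit 3587, nat_lit 3621, nat_lit 3587], [nat_lit 25, nat_lit 1, nat_lit 37, nat_lit 34], (nat_lit 3797)⟩, ⟨[], [nat_lit 15, nat_lit 5, nat_lit 26, nat_lit 16, nat_lit 11, nat_lit 26], (nat_lit 3902)⟩],
  .cy (nat_lit 0) [] [] [] (nat_lit 3913) [⟨[nat_lit 124, nat_lit 153, nat_lit 120, nat_lit 153, nat_lit 120], [nat_lit 11, nat_lit 2, nat_lit 0, nat_lit 32, nat_lit 24], (nat_lit 3912)⟩],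
  .ss (nat_lit 10) [(nat_lit 3914)] [],
  .cy (nat_lit 5) [] [] [nat_lit 25, nat_lit 0, nat_lit 11, nat_lit 17, nat_lit 26] (nat_lit 181) [⟨[nat_lit 179, nat_lit 175], [nat_lit 15, nat_lit 2, nat_lit 11, nat_lit 16, nat_lit 26], (nat_lit 180)⟩, ⟨[nat_lit 153, nat_lit 130, nat_lit 128, nat_lit 155], [nat_lit 17, nat_lit 24, nat_lit 0, nat_lit 15, nat_lit 15, nat_lit 27], (nat_lit 3912)⟩],
  .cy (nat_lit 0) [] [] [] (nat_lit 3916) [⟨[nat_lit 155, nat_lit 126, nat_lit 153, nat_lit 120, nat_lit 120], [nat_lit 15, nat_lit 0, nat_lit 32, nat_lit 18, nat_lit 15, nat_lit 26], (nat_lit 3912)⟩],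
  .ss (nat_lit 10) [(nat_lit 3917)] [],
  .cy (nat_lit 8) [] [] [nat_lit 5, nat_lit 14, nat_lit 35, nat_lit 11, nat_lit 27] (nat_lit 160) [⟨[nat_lit 92, nat_lit 96, nat_lit 92], [nat_lit 24, nat_lit 36, nat_lit 26], (nat_lit 2576)⟩, ⟨[nat_lit 2578, nat_lit 2579], [nat_lit 14, nat_lit 15, nat_lit 0, nat_lit 32, nat_lit 36, nat_lit 16, nat_lit 26], (nat_lit 3906)⟩],
  .cy (nat_lit 0) [] [] [] (nat_lit 3919) [],
  .cy (nat_lit 12) [] [] [nat_lit 1, nat_lit 37, nat_lit 11, nat_lit 15, nat_lit 27] (nat_lit 160) [⟨[nat_lit 92, nat_lit 102, nat_lit 90, nat_lit 100], [nat_lit 16, nat_lit 5, nat_lit 2, nat_lit 17, nat_lit 34, nat_lit 15], (nat_lit 173)⟩, ⟨[nat_lit 175, nat_lit 179], [nat_lit 15, nat_lit 27, nat_lit 16, nat_lit 26], (nat_lit 3896)⟩],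
  .cy (nat_lit 0) [] [] [] (nat_lit 3921) [],
  .cy (nat_lit 8) [] [] [nat_lit 26, nat_lit 2, nat_lit 36, nat_lit 18, nat_lit 15, nat_lit 26] (nat_lit 172) [⟨[nat_lit 90, nat_lit 109, nat_lit 90, nat_lit 101], [nat_lit 26, nat_lit 2, nat_lit 0, nat_lit 34, nat_lit 34, nat_lit 15], (nat_lit 159)⟩, ⟨[nat_lit 162], [nat_lit 10, nat_lit 10, nat_lit 0, nat_lit 11, nat_lit 26], (nat_lit 3922)⟩],
  .cy (nat_lit 0) [] [] [] (nat_lit 3923) [],
  .cy (nat_lit 11) [] [] [nat_lit 16, nat_lit 5, nat_lit 2, nat_lit 36, nat_lit 11] (nat_lit 705) [⟨[nat_lit 215, nat_lit 217, nat_lit 215], [nat_lit 5, nat_lit 2, nat_lit 0, nat_lit 18, nat_lit 25, nat_lit 26], (nat_lit 700)⟩, ⟨[nat_lit 176, nat_lit 165, nat_lit 161], [nat_lit 1, nat_lit 17, nat_lit 11, nat_lit 17], (nat_lit 3924)⟩],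
  .cy (nat_lit 0) [] [] [] (nat_lit 3925) [],
  .cy (nat_lit 4) [] [] [nat_lit 5, nat_lit 0, nat_lit 34, nat_lit 16, nat_lit 11, nat_lit 26] (nat_lit 200) [⟨[nat_lit 102, nat_lit 96, nat_lit 100, nat_lit 109, nat_lit 109], [nat_lit 16, nat_lit 0, nat_lit 15, nat_lit 18, nat_lit 16, nat_lit 26], (nat_lit 2576)⟩, ⟨[nat_lit 2578, nat_lit 2579], [nat_lit 26, nat_lit 24, nat_lit 0, nat_lit 34, nat_lit 16, nat_lit 11], (nat_lit 3906)⟩],
  .cy (nat_lit 0) [] [] [] (nat_lit 3927) [],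
  .cy (nat_lit 12) [] [] [nat_lit 10, nat_lit 10, nat_lit 0, nat_lit 35, nat_lit 35, nat_lit 11] (nat_lit 212) [⟨[nat_lit 202], [nat_lit 34, nat_lit 24, nat_lit 15], (nat_lit 220)⟩, ⟨[], [nat_lit 11], (nat_lit 3900)⟩],
  .cy (nat_lit 0) [] [] [] (nat_lit 3929) [],
  .cy (nat_lit 2) [] [] [nat_lit 14, nat_lit 15, nat_lit 0, nat_lit 25, nat_lit 37, nat_lit 11, nat_lit 27] (nat_lit 255) [⟨[nat_lit 215], [nat_lit 16, nat_lit 5, nat_lit 2, nat_lit 33, nat_lit 24], (nat_lit 227)⟩, ⟨[nat_lit 178, nat_lit 176], [nat_lit 24, nat_lit 2, nat_lit 18, nat_lit 15, nat_lit 11], (nat_lit 3896)⟩],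
  .cy (nat_lit 0) [] [] [] (nat_lit 3931) [],
  .cy (nat_lit 9) [] [] [nat_lit 24, nat_lit 0, nat_lit 32, nat_lit 35, nat_lit 26] (nat_lit 257) [⟨[nat_lit 217], [nat_lit 11, nat_lit 5, nat_lit 2, nat_lit 27, nat_lit 24, nat_lit 11], (nat_lit 231)⟩, ⟨[nat_lit 175, nat_lit 179, nat_lit 165, nat_lit 161], [nat_lit 10, nat_lit 0, nat_lit 37, nat_lit 34, nat_lit 25, nat_lit 26], (nat_lit 3926)⟩],
  .cy (nat_lit 0) [] [] [] (nat_lit 3933) [],
  .cy (nat_lit 10) [] [] [nat_lit 1, nat_lit 25, nat_lit 18, nat_lit 18, nat_lit 27] (nat_lit 257) [⟨[nat_lit 217], [nat_lit 24, nat_lit 2, nat_lit 0, nat_lit 37, nat_lit 37], (nat_lit 256)⟩, ⟨[], [nat_lit 5, nat_lit 0, nat_lit 17, nat_lit 34, nat_lit 27], (nat_lit 3934)⟩],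
  .cy (nat_lit 0) [] [] [] (nat_lit 3935) [],
  .cy (nat_lit 24) [] [] [nat_lit 25, nat_lit 2, nat_lit 0, nat_lit 37, nat_lit 34, nat_lit 24, nat_lit 26] (nat_lit 342) [⟨[nat_lit 217], [nat_lit 25, nat_lit 18, nat_lit 18, nat_lit 27], (nat_lit 388)⟩, ⟨[], [nat_lit 24, nat_lit 16, nat_lit 0, nat_lit 36, nat_lit 16, nat_lit 11], (nat_lit 3900)⟩],
  .cy (nat_lit 0) [] [] [] (nat_lit 3937) [],
  .cy (nat_lit 5) [] [] [nat_lit 14, nat_lit 25, nat_lit 27] (nat_lit 3597) [⟨[], [nat_lit 11, nat_lit 2, nat_lit 0, nat_lit 37, nat_lit 17], (nat_lit 3878)⟩, ⟨[nat_lit 155, nat_lit 129, nat_lit 129, nat_lit 124], [nat_lit 11, nat_lit 2, nat_lit 0, nat_lit 15, nat_lit 32, nat_lit 11, nat_lit 27], (nat_lit 3912)⟩],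
  .cy (nat_lit 0) [] [] [] (nat_lit 3939) [],
  .cy (nat_lit 1) [] [] [nat_lit 25, nat_lit 0, nat_lit 17, nat_lit 15, nat_lit 11, nat_lit 27] (nat_lit 214) [⟨[nat_lit 106, nat_lit 102, nat_lit 100, nat_lit 106], [nat_lit 16, nat_lit 5, nat_lit 0, nat_lit 37, nat_lit 33, nat_lit 11], (nat_lit 199)⟩, ⟨[nat_lit 201], [nat_lit 10, nat_lit 10, nat_lit 0, nat_lit 24, nat_lit 37, nat_lit 26], (nat_lit 3928)⟩],
  .cy (nat_lit 0) [] [] [] (nat_lit 3941) [],
  .cy (nat_lit 3) [] [] [nat_lit 11, nat_lit 5, nat_lit 2, nat_lit 32, nat_lit 24, nat_lit 11, nat_lit 27] (nat_lit 214) [⟨[nat_lit 106, nat_lit 101, nat_lit 102, nat_lit 101, nat_lit 90], [nat_lit 25, nat_lit 16, nat_lit 0, nat_lit 16, nat_lit 11], (nat_lit 199)⟩, ⟨[nat_lit 203, nat_lit 208, nat_lit 201], [nat_lit 5, nat_lit 16, nat_lit 2, nat_lit 34, nat_lit 25], (nat_lit 3934)⟩],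
  .cy (nat_lit 0) [] [] [] (nat_lit 3943) [],
  .cy (nat_lit 7) [] [] [nat_lit 24, nat_lit 16, nat_lit 0, nat_lit 36, nat_lit 18, nat_lit 15, nat_lit 26] (nat_lit 214) [⟨[nat_lit 109, nat_lit 101, nat_lit 90, nat_lit 109, nat_lit 109], [nat_lit 26, nat_lit 2, nat_lit 0, nat_lit 25, nat_lit 36, nat_lit 11], (nat_lit 213)⟩, ⟨[nat_lit 217, nat_lit 215], [nat_lit 15, nat_lit 18, nat_lit 16, nat_lit 26], (nat_lit 3944)⟩],
  .cy (nat_lit 0) [] [] [] (nat_lit 3945) [],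
  .cy (nat_lit 10) [] [] [nat_lit 5, nat_lit 2, nat_lit 34, nat_lit 17, nat_lit 27] (nat_lit 214) [⟨[nat_lit 109, nat_lit 109, nat_lit 90, nat_lit 100, nat_lit 106, nat_lit 106], [nat_lit 25, nat_lit 14, nat_lit 0, nat_lit 15], (nat_lit 213)⟩, ⟨[], [nat_lit 1, nat_lit 1, nat_lit 33, nat_lit 36, nat_lit 11], (nat_lit 3942)⟩],
  .cy (nat_lit 0) [] [] [] (nat_lit 3947) [],
  .cy (nat_lit 10) [] [] [nat_lit 5, nat_lit 0, nat_lit 25, nat_lit 37, nat_lit 27] (nat_lit 247) [⟨[nat_lit 215, nat_lit 217], [nat_lit 25, nat_lit 0, nat_lit 34, nat_lit 32, nat_lit 11], (nat_lit 2838)⟩, ⟨[nat_lit 2578, nat_lit 2591, nat_lit 2579], [nat_lit 25, nat_lit 14, nat_lit 0, nat_lit 25, nat_lit 37, nat_lit 26], (nat_lit 3906)⟩],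
  .cy (nat_lit 0) [] [] [] (nat_lit 3949) [],
  .cy (nat_lit 25) [] [] [nat_lit 1, nat_lit 5, nat_lit 24, nat_lit 11, nat_lit 27] (nat_lit 221) [⟨[], [nat_lit 15, nat_lit 2, nat_lit 33, nat_lit 35], (nat_lit 3601)⟩, ⟨[nat_lit 3594, nat_lit 3587], [nat_lit 15, nat_lit 1, nat_lit 32, nat_lit 18, nat_lit 11, nat_lit 26], (nat_lit 3910)⟩],
  .cy (nat_lit 0) [] [] [] (nat_lit 3951) [],
  .cy (nat_lit 2) [] [] [nat_lit 26, nat_lit 2, nat_lit 0, nat_lit 16, nat_lit 18] (nat_lit 219) [⟨[nat_lit 205, nat_lit 201], [nat_lit 24, nat_lit 16, nat_lit 0, nat_lit 32], (nat_lit 212)⟩, ⟨[nat_lit 206, nat_lit 204, nat_lit 208, nat_lit 205], [nat_lit 26, nat_lit 2, nat_lit 33, nat_lit 24], (nat_lit 3928)⟩],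
  .cy (nat_lit 0) [] [] [] (nat_lit 3953) [],
  .cy (nat_lit 3) [] [] [nat_lit 17, nat_lit 24, nat_lit 0, nat_lit 26, nat_lit 34, nat_lit 11, nat_lit 26] (nat_lit 219) [⟨[nat_lit 208, nat_lit 201], [nat_lit 5, nat_lit 16, nat_lit 2, nat_lit 17, nat_lit 16, nat_lit 27], (nat_lit 210)⟩, ⟨[nat_lit 175, nat_lit 161, nat_lit 179], [nat_lit 5, nat_lit 2, nat_lit 18, nat_lit 18], (nat_lit 3922)⟩],
  .cy (nat_lit 0) [] [] [] (nat_lit 3955) [],
  .cy (nat_lit 12) [] [] [nat_lit 16, nat_lit 5, nat_lit 2, nat_lit 15, nat_lit 18, nat_lit 11, nat_lit 27] (nat_lit 219) [⟨[nat_lit 206, nat_lit 203, nat_lit 208], [nat_lit 16, nat_lit 5, nat_lit 0, nat_lit 36, nat_lit 17, nat_lit 26], (nat_lit 257)⟩, ⟨[], [nat_lit 10, nat_lit 10, nat_lit 0, nat_lit 34, nat_lit 24, nat_lit 15, nat_lit 26], (nat_lit 3946)⟩],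
  .cy (nat_lit 0) [] [] [] (nat_lit 3957) [],
  .cy (nat_lit 10) [] [] [nat_lit 10, nat_lit 10, nat_lit 0, nat_lit 37, nat_lit 15, nat_lit 11, nat_lit 27] (nat_lit 253) [⟨[nat_lit 217], [nat_lit 16, nat_lit 5, nat_lit 2, nat_lit 36, nat_lit 24, nat_lit 15, nat_lit 27], (nat_lit 233)⟩, ⟨[nat_lit 179, nat_lit 175, nat_lit 165], [nat_lit 5, nat_lit 2, nat_lit 0, nat_lit 15, nat_lit 18, nat_lit 11, nat_lit 27], (nat_lit 3922)⟩],
  .cy (nat_lit 0) [] [] [] (nat_lit 3959) [],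
  .cy (nat_lit 2) [] [] [nat_lit 16, nat_lit 2, nat_lit 25, nat_lit 11, nat_lit 26] (nat_lit 2583) [⟨[], [nat_lit 16, nat_lit 18, nat_lit 11, nat_lit 27], (nat_lit 3090)⟩, ⟨[nat_lit 206, nat_lit 204, nat_lit 208], [nat_lit 2, nat_lit 37, nat_lit 17, nat_lit 11], (nat_lit 3934)⟩],
  .cy (nat_lit 0) [] [] [] (nat_lit 3961) [],
  .cy (nat_lit 1) [] [] [nat_lit 5, nat_lit 17, nat_lit 15, nat_lit 11, nat_lit 26] (nat_lit 222) [⟨[nat_lit 217], [nat_lit 5, nat_lit 16, nat_lit 2, nat_lit 16, nat_lit 18, nat_lit 11], (nat_lit 233)⟩, ⟨[nat_lit 178, nat_lit 165, nat_lit 175], [nat_lit 16, nat_lit 5, nat_lit 2, nat_lit 37, nat_lit 24, nat_lit 15], (nat_lit 3924)⟩],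
  .cy (nat_lit 0) [] [] [] (nat_lit 3963) [],
  .cy (nat_lit 3) [] [] [nat_lit 1, nat_lit 14, nat_lit 33, nat_lit 15, nat_lit 11] (nat_lit 222) [⟨[nat_lit 215], [nat_lit 11, nat_lit 5, nat_lit 2, nat_lit 27, nat_lit 24, nat_lit 26], (nat_lit 368)⟩, ⟨[nat_lit 205, nat_lit 201], [nat_lit 5, nat_lit 16, nat_lit 2, nat_lit 32, nat_lit 24, nat_lit 11, nat_lit 26], (nat_lit 3928)⟩],
  .cy (nat_lit 0) [] [] [] (nat_lit 3965) [],
  .cy (nat_lit 4) [] [] [nat_lit 1, nat_lit 5, nat_lit 34, nat_lit 26] (nat_lit 222) [⟨[nat_lit 215], [nat_lit 24, nat_lit 2, nat_lit 26, nat_lit 15], (nat_lit 368)⟩, ⟨[], [nat_lit 5, nat_lit 2, nat_lit 18, nat_lit 35, nat_lit 26], (nat_lit 3930)⟩],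
  .cy (nat_lit 0) [] [] [] (nat_lit 3967) [],
  .cy (nat_lit 11) [] [] [nat_lit 5, nat_lit 2, nat_lit 0, nat_lit 35, nat_lit 26] (nat_lit 222) [⟨[nat_lit 215], [nat_lit 18, nat_lit 15, nat_lit 0, nat_lit 25, nat_lit 36, nat_lit 27], (nat_lit 368)⟩, ⟨[nat_lit 523, nat_lit 206, nat_lit 523, nat_lit 202], [nat_lit 1, nat_lit 5, nat_lit 27, nat_lit 17, nat_lit 27], (nat_lit 3940)⟩],
  .cy (nat_lit 0) [] [] [] (nat_lit 3969) [],
  .cy (nat_lit 11) [] [] [nat_lit 14, nat_lit 34, nat_lit 37, nat_lit 27] (nat_lit 264) [⟨[], [nat_lit 16, nat_lit 5, nat_lit 0, nat_lit 34, nat_lit 32, nat_lit 16], (nat_lit 256)⟩, ⟨[nat_lit 203, nat_lit 522, nat_lit 204], [nat_lit 16, nat_lit 5, nat_lit 0, nat_lit 16, nat_lit 16, nat_lit 11], (nat_lit 3938)⟩]]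
noncomputable def P4158 : List Pf := [.cy (nat_lit 0) [] [] [] (nat_lit 3971) [],
  .cy (nat_lit 1) [] [] [nat_lit 15, nat_lit 2, nat_lit 25, nat_lit 16, nat_lit 27] (nat_lit 3900) [⟨[nat_lit 3918, nat_lit 3915, nat_lit 3915, nat_lit 3917], [nat_lit 16, nat_lit 2, nat_lit 25, nat_lit 18, nat_lit 16], (nat_lit 3957)⟩, ⟨[], [nat_lit 11, nat_lit 5, nat_lit 2, nat_lit 37, nat_lit 24, nat_lit 11, nat_lit 27], (nat_lit 3964)⟩],
  .cy (nat_lit 0) [] [] [] (nat_lit 3973) [],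
  .cy (nat_lit 8) [] [] [nat_lit 10, nat_lit 10, nat_lit 0, nat_lit 32, nat_lit 35] (nat_lit 368) [⟨[nat_lit 201], [nat_lit 5, nat_lit 16, nat_lit 2, nat_lit 32, nat_lit 18, nat_lit 11, nat_lit 26], (nat_lit 220)⟩, ⟨[nat_lit 217], [nat_lit 10, nat_lit 10, nat_lit 0, nat_lit 16, nat_lit 18, nat_lit 15, nat_lit 26], (nat_lit 3958)⟩],
  .cy (nat_lit 0) [] [] [] (nat_lit 3975) [],
  .cy (nat_lit 20) [] [] [nat_lit 25, nat_lit 1, nat_lit 15, nat_lit 17, nat_lit 26] (nat_lit 368) [⟨[nat_lit 206, nat_lit 204], [nat_lit 10, nat_lit 10, nat_lit 0, nat_lit 16, nat_lit 32, nat_lit 15, nat_lit 27], (nat_lit 513)⟩, ⟨[], [nat_lit 16, nat_lit 5, nat_lit 0, nat_lit 15, nat_lit 32], (nat_lit 3974)⟩],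
  .cy (nat_lit 0) [] [] [] (nat_lit 3977) [],
  .cy (nat_lit 7) [] [] [nat_lit 25, nat_lit 18, nat_lit 18, nat_lit 26] (nat_lit 307) [⟨[nat_lit 215], [nat_lit 5, nat_lit 14, nat_lit 33, nat_lit 25, nat_lit 26], (nat_lit 338)⟩, ⟨[nat_lit 215], [nat_lit 11, nat_lit 5, nat_lit 2, nat_lit 36, nat_lit 18, nat_lit 26], (nat_lit 3942)⟩],
  .cy (nat_lit 0) [] [] [] (nat_lit 3979) [],
  .cy (nat_lit 20) [] [] [nat_lit 16, nat_lit 5, nat_lit 0, nat_lit 35, nat_lit 36, nat_lit 27] (nat_lit 2712) [⟨[nat_lit 2579, nat_lit 2592, nat_lit 2578], [nat_lit 24, nat_lit 15, nat_lit 0, nat_lit 33, nat_lit 35, nat_lit 27], (nat_lit 3081)⟩, ⟨[nat_lit 215], [nat_lit 25, nat_lit 0, nat_lit 16, nat_lit 32, nat_lit 15, nat_lit 27], (nat_lit 3970)⟩],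
  .cy (nat_lit 0) [] [] [] (nat_lit 3981) [],
  .cy (nat_lit 21) [] [] [nat_lit 11, nat_lit 5, nat_lit 2, nat_lit 32, nat_lit 32, nat_lit 27] (nat_lit 2712) [⟨[nat_lit 2592], [nat_lit 16, nat_lit 2, nat_lit 36, nat_lit 25, nat_lit 11, nat_lit 26], (nat_lit 2613)⟩, ⟨[nat_lit 217], [nat_lit 1, nat_lit 24, nat_lit 0, nat_lit 17], (nat_lit 3956)⟩],
  .cy (nat_lit 0) [] [] [] (nat_lit 3983) [],
  .cy (nat_lit 22) [] [] [nat_lit 15, nat_lit 5, nat_lit 17, nat_lit 15, nat_lit 11, nat_lit 26] (nat_lit 2712) [⟨[], [nat_lit 1, nat_lit 24, nat_lit 0, nat_lit 35, nat_lit 32, nat_lit 26], (nat_lit 2607)⟩, ⟨[nat_lit 215], [nat_lit 24, nat_lit 2, nat_lit 25, nat_lit 18, nat_lit 18, nat_lit 26], (nat_lit 3952)⟩],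
  .cy (nat_lit 0) [] [] [] (nat_lit 3985) [],
  .cy (nat_lit 23) [] [] [nat_lit 16, nat_lit 5, nat_lit 2, nat_lit 36, nat_lit 33, nat_lit 24, nat_lit 27] (nat_lit 2712) [⟨[], [nat_lit 24, nat_lit 2, nat_lit 11, nat_lit 15], (nat_lit 2609)⟩, ⟨[nat_lit 217, nat_lit 215], [nat_lit 16, nat_lit 5, nat_lit 2, nat_lit 37, nat_lit 33, nat_lit 27], (nat_lit 3944)⟩],
  .cy (nat_lit 0) [] [] [] (nat_lit 3987) [],
  .cy (nat_lit 25) [] [] [nat_lit 26, nat_lit 2, nat_lit 36, nat_lit 24, nat_lit 26] (nat_lit 2712) [⟨[], [nat_lit 5, nat_lit 16, nat_lit 2, nat_lit 24, nat_lit 37, nat_lit 11, nat_lit 27], (nat_lit 2593)⟩, ⟨[nat_lit 176, nat_lit 167], [nat_lit 15, nat_lit 5, nat_lit 36, nat_lit 33, nat_lit 11, nat_lit 26], (nat_lit 3924)⟩],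
  .cy (nat_lit 0) [] [] [] (nat_lit 3989) [],
  .cy (nat_lit 5) [] [] [nat_lit 1, nat_lit 1, nat_lit 34, nat_lit 16, nat_lit 11, nat_lit 27] (nat_lit 2628) [⟨[], [nat_lit 24, nat_lit 2, nat_lit 32, nat_lit 27, nat_lit 17, nat_lit 26], (nat_lit 2603)⟩, ⟨[nat_lit 206, nat_lit 203, nat_lit 522], [nat_lit 2, nat_lit 0, nat_lit 25, nat_lit 37], (nat_lit 3938)⟩],
  .cy (nat_lit 0) [] [] [] (nat_lit 3991) [],
  .cy (nat_lit 24) [] [] [nat_lit 1, nat_lit 24, nat_lit 0, nat_lit 24, nat_lit 17, nat_lit 26] (nat_lit 2628) [⟨[], [nat_lit 24, nat_lit 2, nat_lit 24, nat_lit 37, nat_lit 17, nat_lit 26], (nat_lit 2605)⟩, ⟨[nat_lit 215], [nat_lit 16, nat_lit 5, nat_lit 2, nat_lit 24, nat_lit 15], (nat_lit 3968)⟩],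
  .cy (nat_lit 0) [] [] [] (nat_lit 3993) [],
  .cy (nat_lit 25) [] [] [nat_lit 24, nat_lit 2, nat_lit 17, nat_lit 34, nat_lit 15, nat_lit 26] (nat_lit 2628) [⟨[nat_lit 2592], [nat_lit 18, nat_lit 15, nat_lit 0, nat_lit 16, nat_lit 17, nat_lit 15, nat_lit 26], (nat_lit 2584)⟩, ⟨[nat_lit 217], [nat_lit 34, nat_lit 15, nat_lit 11], (nat_lit 3958)⟩],
  .cy (nat_lit 0) [] [] [] (nat_lit 3995) [],
  .cy (nat_lit 22) [] [] [nat_lit 26, nat_lit 2, nat_lit 15, nat_lit 15, nat_lit 15] (nat_lit 3626) [⟨[nat_lit 3588], [nat_lit 10, nat_lit 10, nat_lit 0, nat_lit 27, nat_lit 17, nat_lit 27], (nat_lit 3801)⟩, ⟨[nat_lit 217], [nat_lit 26, nat_lit 2, nat_lit 34, nat_lit 25, nat_lit 27], (nat_lit 3984)⟩],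
  .cy (nat_lit 0) [] [] [] (nat_lit 3997) [],
  .cy (nat_lit 1) [] [] [nat_lit 10, nat_lit 0, nat_lit 34, nat_lit 24, nat_lit 15] (nat_lit 3609) [⟨[nat_lit 3588, nat_lit 3622, nat_lit 3588, nat_lit 3621], [nat_lit 24, nat_lit 15, nat_lit 0, nat_lit 27, nat_lit 18], (nat_lit 3683)⟩, ⟨[nat_lit 215, nat_lit 217, nat_lit 215], [nat_lit 14, nat_lit 0, nat_lit 37, nat_lit 34, nat_lit 24], (nat_lit 3948)⟩],
  .cy (nat_lit 0) [] [] [] (nat_lit 3999) [],
  .cy (nat_lit 26) [] [] [nat_lit 15, nat_lit 5, nat_lit 35, nat_lit 15] (nat_lit 1987) [⟨[], [nat_lit 14, nat_lit 27, nat_lit 18, nat_lit 11], (nat_lit 2391)⟩, ⟨[nat_lit 215, nat_lit 217], [nat_lit 26, nat_lit 2, nat_lit 17, nat_lit 34, nat_lit 15, nat_lit 26], (nat_lit 3946)⟩],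
  .cy (nat_lit 0) [] [] [] (nat_lit 4001) [],
  .cy (nat_lit 25) [] [] [nat_lit 25, nat_lit 2, nat_lit 0, nat_lit 34] (nat_lit 2624) [⟨[nat_lit 2578, nat_lit 2591, nat_lit 2578, nat_lit 2579, nat_lit 2578], [nat_lit 5, nat_lit 2, nat_lit 0, nat_lit 26, nat_lit 24], (nat_lit 2895)⟩, ⟨[nat_lit 217], [nat_lit 5, nat_lit 2, nat_lit 0, nat_lit 18, nat_lit 15, nat_lit 27], (nat_lit 3998)⟩],
  .cy (nat_lit 0) [] [] [] (nat_lit 4003) [],
  .cy (nat_lit 15) [] [] [nat_lit 15, nat_lit 0, nat_lit 33, nat_lit 33, nat_lit 11, nat_lit 26] (nat_lit 256) [⟨[nat_lit 209, nat_lit 204, nat_lit 205], [nat_lit 26, nat_lit 2, nat_lit 0, nat_lit 11, nat_lit 18], (nat_lit 3089)⟩, ⟨[nat_lit 2578], [nat_lit 2, nat_lit 0, nat_lit 32, nat_lit 32, nat_lit 27], (nat_lit 2873)⟩, ⟨[], [nat_lit 18, nat_lit 15, nat_lit 0, nat_lit 15, nat_lit 32, nat_lit 26], (nat_lit 3988)⟩, ⟨[nat_lit 3918, nat_lit 3914, nat_lit 3914, nat_lit 3917], [nat_lit 26, nat_lit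 2, nat_lit 0, nat_lit 16, nat_lit 32, nat_lit 15, nat_lit 26], (nat_lit 3985)⟩, ⟨[], [nat_lit 25, nat_lit 0, nat_lit 15, nat_lit 11, nat_lit 15], (nat_lit 243)⟩, ⟨[nat_lit 178, nat_lit 162, nat_lit 175], [nat_lit 24, nat_lit 0, nat_lit 34, nat_lit 15], (nat_lit 3924)⟩],
  .cy (nat_lit 0) [] [] [] (nat_lit 4005) [],
  .cy (nat_lit 21) [] [] [nat_lit 26, nat_lit 2, nat_lit 0, nat_lit 16, nat_lit 18, nat_lit 15] (nat_lit 256) [⟨[nat_lit 205, nat_lit 203, nat_lit 208], [nat_lit 10, nat_lit 10, nat_lit 0, nat_lit 25, nat_lit 37], (nat_lit 519)⟩, ⟨[nat_lit 215], [nat_lit 25, nat_lit 1, nat_lit 34, nat_lit 24, nat_lit 17, nat_lit 27], (nat_lit 3998)⟩],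
  .cy (nat_lit 0) [] [] [] (nat_lit 4007) [],
  .cy (nat_lit 24) [] [] [nat_lit 1, nat_lit 24, nat_lit 0, nat_lit 33, nat_lit 35, nat_lit 11, nat_lit 26] (nat_lit 256) [⟨[], [nat_lit 10, nat_lit 10, nat_lit 0, nat_lit 15, nat_lit 17, nat_lit 26], (nat_lit 383)⟩, ⟨[nat_lit 215], [nat_lit 1, nat_lit 5, nat_lit 33, nat_lit 37, nat_lit 11, nat_lit 27], (nat_lit 3984)⟩],
  .cy (nat_lit 0) [] [] [] (nat_lit 4009) [],
  .cy (nat_lit 12) [] [] [nat_lit 15, nat_lit 2, nat_lit 32, nat_lit 16, nat_lit 26] (nat_lit 2622) [⟨[nat_lit 2579, nat_lit 2578, nat_lit 2591], [nat_lit 15, nat_lit 2, nat_lit 18, nat_lit 16, nat_lit 11, nat_lit 27], (nat_lit 2601)⟩, ⟨[nat_lit 523, nat_lit 209, nat_lit 203], [nat_lit 26, nat_lit 2, nat_lit 0, nat_lit 15, nat_lit 15, nat_lit 27], (nat_lit 3936)⟩],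
  .cy (nat_lit 0) [] [] [] (nat_lit 4011) [],
  .cy (nat_lit 20) [] [] [nat_lit 25, nat_lit 2, nat_lit 0, nat_lit 33, nat_lit 15, nat_lit 26] (nat_lit 2622) [⟨[nat_lit 2592, nat_lit 2578, nat_lit 2579, nat_lit 2592], [nat_lit 24, nat_lit 16, nat_lit 0, nat_lit 34, nat_lit 17, nat_lit 26], (nat_lit 2845)⟩, ⟨[nat_lit 217, nat_lit 215], [nat_lit 5, nat_lit 2, nat_lit 0, nat_lit 24, nat_lit 35, nat_lit 27], (nat_lit 3974)⟩],
  .cy (nat_lit 0) [] [] [] (nat_lit 4013) [],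
  .cy (nat_lit 1) [] [] [nat_lit 11, nat_lit 2, nat_lit 0, nat_lit 34, nat_lit 17, nat_lit 11, nat_lit 27] (nat_lit 332) [⟨[], [nat_lit 10, nat_lit 10, nat_lit 0, nat_lit 36, nat_lit 17, nat_lit 27], (nat_lit 396)⟩, ⟨[], [nat_lit 15, nat_lit 5, nat_lit 25, nat_lit 15, nat_lit 11], (nat_lit 4008)⟩],
  .cy (nat_lit 0) [] [] [] (nat_lit 4015) [],
  .cy (nat_lit 2) [] [] [nat_lit 16, nat_lit 5, nat_lit 0, nat_lit 34, nat_lit 34] (nat_lit 332) [⟨[], [nat_lit 10, nat_lit 10, nat_lit 0, nat_lit 26, nat_lit 34, nat_lit 32], (nat_lit 403)⟩, ⟨[nat_lit 179, nat_lit 175, nat_lit 165], [nat_lit 25, nat_lit 2, nat_lit 0, nat_lit 15, nat_lit 15, nat_lit 26], (nat_lit 3922)⟩],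
  .cy (nat_lit 0) [] [] [] (nat_lit 4017) [],
  .cy (nat_lit 5) [] [] [nat_lit 24, nat_lit 16, nat_lit 0, nat_lit 36, nat_lit 26] (nat_lit 332) [⟨[], [nat_lit 34, nat_lit 24, nat_lit 27], (nat_lit 403)⟩, ⟨[nat_lit 175, nat_lit 179, nat_lit 179], [nat_lit 15, nat_lit 2, nat_lit 27, nat_lit 24, nat_lit 15, nat_lit 26], (nat_lit 3926)⟩],
  .cy (nat_lit 0) [] [] [] (nat_lit 4019) [],
  .cy (nat_lit 7) [] [] [nat_lit 24, nat_lit 1, nat_lit 27, nat_lit 24, nat_lit 11, nat_lit 27] (nat_lit 3798) [⟨[nat_lit 3621, nat_lit 3588, nat_lit 3621, nat_lit 3588, nat_lit 3621, nat_lit 3588], [nat_lit 1, nat_lit 5, nat_lit 18, nat_lit 15, nat_lit 11, nat_lit 27], (nat_lit 3799)⟩, ⟨[nat_lit 215], [nat_lit 1, nat_lit 14, nat_lit 17, nat_lit 25, nat_lit 15], (nat_lit 3942)⟩],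
  .cy (nat_lit 0) [] [] [] (nat_lit 4021) [],
  .cy (nat_lit 8) [] [] [nat_lit 1, nat_lit 1, nat_lit 17, nat_lit 17] (nat_lit 2251) [⟨[], [nat_lit 0, nat_lit 2, nat_lit 16, nat_lit 18], (nat_lit 251)⟩, ⟨[nat_lit 217, nat_lit 215], [nat_lit 16, nat_lit 5, nat_lit 2, nat_lit 27, nat_lit 17], (nat_lit 3994)⟩],
  .cy (nat_lit 0) [] [] [] (nat_lit 4023) [],
  .cy (nat_lit 27) [] [] [nat_lit 5, nat_lit 14, nat_lit 37, nat_lit 33, nat_lit 11, nat_lit 26] (nat_lit 2251) [⟨[nat_lit 217], [nat_lit 25, nat_lit 1, nat_lit 37, nat_lit 34, nat_lit 25], (nat_lit 1392)⟩, ⟨[nat_lit 215], [nat_lit 14, nat_lit 0, nat_lit 37, nat_lit 33], (nat_lit 4014)⟩],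
  .cy (nat_lit 0) [] [] [] (nat_lit 4025) [],
  .cy (nat_lit 1) [] [] [nat_lit 1, nat_lit 14, nat_lit 26, nat_lit 34, nat_lit 32, nat_lit 26] (nat_lit 2015) [⟨[nat_lit 217], [nat_lit 25, nat_lit 14, nat_lit 0, nat_lit 16, nat_lit 18, nat_lit 11], (nat_lit 380)⟩, ⟨[nat_lit 208, nat_lit 203, nat_lit 205], [nat_lit 0, nat_lit 2, nat_lit 11, nat_lit 37], (nat_lit 3932)⟩],
  .cy (nat_lit 0) [] [] [] (nat_lit 4027) [],
  .cy (nat_lit 12) [] [] [nat_lit 16, nat_lit 5, nat_lit 2, nat_lit 35, nat_lit 27, nat_lit 15, nat_lit 27] (nat_lit 2015) [⟨[nat_lit 217, nat_lit 215], [nat_lit 16, nat_lit 5, nat_lit 2, nat_lit 33, nat_lit 37, nat_lit 11, nat_lit 26], (nat_lit 2758)⟩, ⟨[nat_lit 2578, nat_lit 2579, nat_lit 2592], [nat_lit 25, nat_lit 1, nat_lit 16, nat_lit 27], (nat_lit 3908)⟩],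
  .cy (nat_lit 0) [] [] [] (nat_lit 4029) [],
  .cy (nat_lit 11) [] [] [nat_lit 17, nat_lit 24, nat_lit 0, nat_lit 33, nat_lit 24, nat_lit 11, nat_lit 27] (nat_lit 1989) [⟨[nat_lit 217], [nat_lit 17, nat_lit 2, nat_lit 0, nat_lit 32, nat_lit 34, nat_lit 16, nat_lit 27], (nat_lit 1252)⟩, ⟨[], [nat_lit 1, nat_lit 24, nat_lit 0, nat_lit 17, nat_lit 17, nat_lit 15], (nat_lit 3978)⟩],
  .cy (nat_lit 0) [] [] [] (nat_lit 4031) [],
  .cy (nat_lit 27) [] [] [nat_lit 0, nat_lit 2, nat_lit 33, nat_lit 34] (nat_lit 1675) [⟨[nat_lit 217], [nat_lit 1, nat_lit 5, nat_lit 34, nat_lit 25, nat_lit 11, nat_lit 27], (nat_lit 2470)⟩, ⟨[], [nat_lit 1, nat_lit 14, nat_lit 15, nat_lit 15, nat_lit 11, nat_lit 26], (nat_lit 3946)⟩],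
  .cy (nat_lit 0) [] [] [] (nat_lit 4033) [],
  .cy (nat_lit 24) [] [] [nat_lit 10, nat_lit 10, nat_lit 0, nat_lit 16, nat_lit 16, nat_lit 27] (nat_lit 1995) [⟨[], [nat_lit 26, nat_lit 2, nat_lit 0, nat_lit 37, nat_lit 34, nat_lit 26], (nat_lit 706)⟩, ⟨[nat_lit 179, nat_lit 176, nat_lit 164, nat_lit 161], [nat_lit 16, nat_lit 0, nat_lit 36, nat_lit 33, nat_lit 11], (nat_lit 3926)⟩],
  .cy (nat_lit 0) [] [] [] (nat_lit 4035) [],
  .cy (nat_lit 22) [] [] [nat_lit 26, nat_lit 2, nat_lit 15, nat_lit 15, nat_lit 26] (nat_lit 2039) [⟨[nat_lit 215], [nat_lit 24, nat_lit 15, nat_lit 0, nat_lit 37, nat_lit 18], (nat_lit 1884)⟩, ⟨[], [nat_lit 0, nat_lit 32, nat_lit 27, nat_lit 17], (nat_lit 3972)⟩],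
  .cy (nat_lit 0) [] [] [] (nat_lit 4037) [],
  .cy (nat_lit 15) [] [] [nat_lit 11, nat_lit 2, nat_lit 0, nat_lit 15, nat_lit 18, nat_lit 16, nat_lit 27] (nat_lit 2035) [⟨[nat_lit 217, nat_lit 215], [nat_lit 24, nat_lit 2, nat_lit 17, nat_lit 36, nat_lit 15], (nat_lit 595)⟩, ⟨[nat_lit 217, nat_lit 215], [nat_lit 14, nat_lit 0, nat_lit 32, nat_lit 34, nat_lit 11, nat_lit 27], (nat_lit 672)⟩, ⟨[], [nat_lit 5, nat_lit 33, nat_lit 36, nat_lit 11], (nat_lit 2810)⟩, ⟨[], [nat_lit 5, nat_lit 14, nat_lit 33, nat_lit 15], (nat_lit 2859)⟩, ⟨[nat_lit 215, nat_lit 217, nat_lit 215], [nat_lit 24, nat_lit 0, nat_lit 24, nat_lit 36, nat_lit 11], (nat_lit 1764)⟩, ⟨[nat_lit 215], [nat_lit 1, nat_lit 24, nat_lit 0, nat_lit 26, nat_lit 34, nat_lit 11], (nat_lit 4004)⟩],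
  .cy (nat_lit 0) [] [] [] (nat_lit 4039) [],
  .cy (nat_lit 22) [] [] [nat_lit 16, nat_lit 2, nat_lit 24, nat_lit 37, nat_lit 11] (nat_lit 2722) [⟨[nat_lit 2592, nat_lit 2579, nat_lit 2578, nat_lit 2591], [nat_lit 25, nat_lit 16, nat_lit 0, nat_lit 27, nat_lit 18, nat_lit 26], (nat_lit 2885)⟩, ⟨[nat_lit 217], [nat_lit 26, nat_lit 2, nat_lit 0, nat_lit 34, nat_lit 27], (nat_lit 3946)⟩],
  .cy (nat_lit 0) [] [] [] (nat_lit 4041) [],
  .cy (nat_lit 1) [] [] [nat_lit 14, nat_lit 36, nat_lit 16, nat_lit 11, nat_lit 26] (nat_lit 942) [⟨[nat_lit 217, nat_lit 215], [nat_lit 16, nat_lit 5, nat_lit 0, nat_lit 36, nat_lit 17, nat_lit 27], (nat_lit 1571)⟩, ⟨[nat_lit 215, nat_lit 217], [nat_lit 0, nat_lit 33, nat_lit 25, nat_lit 26], (nat_lit 3948)⟩],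
  .cy (nat_lit 0) [] [] [] (nat_lit 4043) [],
  .cy (nat_lit 10) [] [] [nat_lit 5, nat_lit 17, nat_lit 15, nat_lit 27] (nat_lit 270) [⟨[nat_lit 215], [nat_lit 17, nat_lit 15, nat_lit 11, nat_lit 26], (nat_lit 441)⟩, ⟨[], [nat_lit 1, nat_lit 14, nat_lit 25, nat_lit 15, nat_lit 11], (nat_lit 3944)⟩],
  .cy (nat_lit 0) [] [] [] (nat_lit 4045) [],
  .cy (nat_lit 22) [] [] [nat_lit 14, nat_lit 16, nat_lit 16] (nat_lit 3760) [⟨[nat_lit 3594, nat_lit 3587], [nat_lit 24, nat_lit 15, nat_lit 0, nat_lit 37, nat_lit 32, nat_lit 27], (nat_lit 3645)⟩, ⟨[nat_lit 217, nat_lit 215], [nat_lit 24, nat_lit 2, nat_lit 37, nat_lit 15], (nat_lit 3970)⟩],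
  .cy (nat_lit 0) [] [] [] (nat_lit 4047) [],
  .cy (nat_lit 22) [] [] [nat_lit 15, nat_lit 0, nat_lit 16, nat_lit 37, nat_lit 27] (nat_lit 231) [⟨[nat_lit 179, nat_lit 175, nat_lit 164, nat_lit 161], [nat_lit 15, nat_lit 0, nat_lit 36, nat_lit 32, nat_lit 26], (nat_lit 3883)⟩, ⟨[nat_lit 3595, nat_lit 3621, nat_lit 3588, nat_lit 3621], [nat_lit 16, nat_lit 5, nat_lit 0, nat_lit 34, nat_lit 34, nat_lit 11, nat_lit 26], (nat_lit 3910)⟩],
  .cy (nat_lit 0) [] [] [] (nat_lit 4049) [],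
  .cy (nat_lit 3) [] [] [nat_lit 10, nat_lit 0, nat_lit 17, nat_lit 11, nat_lit 26] (nat_lit 3599) [⟨[nat_lit 3622, nat_lit 3588], [nat_lit 26, nat_lit 2, nat_lit 34, nat_lit 17, nat_lit 11], (nat_lit 3888)⟩, ⟨[nat_lit 206, nat_lit 204, nat_lit 208], [nat_lit 5, nat_lit 0, nat_lit 25, nat_lit 37, nat_lit 27], (nat_lit 3934)⟩],
  .cy (nat_lit 0) [] [] [] (nat_lit 4051) [],
  .cy (nat_lit 11) [] [] [nat_lit 10, nat_lit 0, nat_lit 17, nat_lit 17, nat_lit 15] (nat_lit 3601) [⟨[nat_lit 3621, nat_lit 3594, nat_lit 3621, nat_lit 3587], [nat_lit 16, nat_lit 17, nat_lit 15], (nat_lit 3831)⟩, ⟨[], [nat_lit 11, nat_lit 5, nat_lit 2, nat_lit 36, nat_lit 24, nat_lit 15, nat_lit 27], (nat_lit 3906)⟩],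
  .cy (nat_lit 0) [] [] [] (nat_lit 4053) [],
  .cy (nat_lit 8) [] [] [nat_lit 0, nat_lit 16, nat_lit 16, nat_lit 27] (nat_lit 310) [⟨[nat_lit 217], [nat_lit 25, nat_lit 0, nat_lit 33, nat_lit 16, nat_lit 11, nat_lit 26], (nat_lit 508)⟩, ⟨[nat_lit 164, nat_lit 179, nat_lit 175], [nat_lit 16, nat_lit 5, nat_lit 2, nat_lit 17, nat_lit 15, nat_lit 26], (nat_lit 3920)⟩],
  .cy (nat_lit 0) [] [] [] (nat_lit 4055) [],
  .cy (nat_lit 10) [] [] [nat_lit 17, nat_lit 2, nat_lit 0, nat_lit 26, nat_lit 17, nat_lit 15, nat_lit 26] (nat_lit 310) [⟨[nat_lit 215, nat_lit 217, nat_lit 215], [nat_lit 15, nat_lit 1, nat_lit 34, nat_lit 34, nat_lit 15], (nat_lit 1607)⟩, ⟨[], [nat_lit 24, nat_lit 1, nat_lit 33, nat_lit 15], (nat_lit 3984)⟩],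
  .cy (nat_lit 0) [] [] [] (nat_lit 4057) [],
  .cy (nat_lit 24) [] [] [nat_lit 25, nat_lit 2, nat_lit 0, nat_lit 24, nat_lit 36, nat_lit 11, nat_lit 26] (nat_lit 2618) [⟨[nat_lit 2592], [nat_lit 5, nat_lit 16, nat_lit 2, nat_lit 17, nat_lit 15, nat_lit 27], (nat_lit 2771)⟩, ⟨[], [nat_lit 25, nat_lit 1, nat_lit 11, nat_lit 15, nat_lit 27], (nat_lit 3988)⟩],
  .cy (nat_lit 0) [] [] [] (nat_lit 4059) [],
  .cy (nat_lit 4) [] [] [nat_lit 16, nat_lit 5, nat_lit 0, nat_lit 24, nat_lit 33, nat_lit 15, nat_lit 27] (nat_lit 2728) [⟨[nat_lit 2591, nat_lit 2578], [nat_lit 26, nat_lit 24, nat_lit 0, nat_lit 33, nat_lit 35, nat_lit 11, nat_lit 27], (nat_lit 2831)⟩, ⟨[], [nat_lit 1, nat_lit 14, nat_lit 35, nat_lit 15], (nat_lit 3948)⟩],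
  .cy (nat_lit 0) [] [] [] (nat_lit 4061) [],
  .cy (nat_lit 9) [] [] [nat_lit 17, nat_lit 24, nat_lit 0, nat_lit 32, nat_lit 34, nat_lit 11, nat_lit 26] (nat_lit 811) [⟨[nat_lit 215], [nat_lit 24, nat_lit 16, nat_lit 0, nat_lit 27, nat_lit 24, nat_lit 11], (nat_lit 370)⟩, ⟨[nat_lit 208, nat_lit 201, nat_lit 522, nat_lit 201], [nat_lit 11, nat_lit 2, nat_lit 0, nat_lit 37, nat_lit 33, nat_lit 11, nat_lit 26], (nat_lit 3932)⟩],
  .cy (nat_lit 0) [] [] [] (nat_lit 4063) [],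
  .cy (nat_lit 2) [] [] [nat_lit 0, nat_lit 2, nat_lit 34, nat_lit 37] (nat_lit 2081) [⟨[nat_lit 215], [nat_lit 16, nat_lit 5, nat_lit 0, nat_lit 33, nat_lit 24, nat_lit 26], (nat_lit 2381)⟩, ⟨[nat_lit 215, nat_lit 217, nat_lit 215], [nat_lit 5, nat_lit 14, nat_lit 24, nat_lit 24, nat_lit 11, nat_lit 26], (nat_lit 4050)⟩],
  .cy (nat_lit 0) [] [] [] (nat_lit 4065) [],
  .cy (nat_lit 4) [] [] [nat_lit 15, nat_lit 5, nat_lit 27, nat_lit 36, nat_lit 27] (nat_lit 2081) [⟨[], [nat_lit 17, nat_lit 24, nat_lit 0, nat_lit 16, nat_lit 18], (nat_lit 1306)⟩, ⟨[nat_lit 215, nat_lit 217], [nat_lit 25, nat_lit 14, nat_lit 0, nat_lit 32, nat_lit 27, nat_lit 17, nat_lit 26], (nat_lit 3964)⟩],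
  .cy (nat_lit 0) [] [] [] (nat_lit 4067) [],
  .cy (nat_lit 5) [] [] [nat_lit 16, nat_lit 2, nat_lit 25, nat_lit 35, nat_lit 11] (nat_lit 2081) [⟨[], [nat_lit 16, nat_lit 5, nat_lit 0, nat_lit 27, nat_lit 17, nat_lit 26], (nat_lit 1140)⟩, ⟨[nat_lit 215, nat_lit 217, nat_lit 215], [nat_lit 25, nat_lit 16, nat_lit 0, nat_lit 34, nat_lit 17, nat_lit 11], (nat_lit 3972)⟩],
  .cy (nat_lit 0) [] [] [] (nat_lit 4069) [],
  .cy (nat_lit 5) [] [] [nat_lit 2, nat_lit 24, nat_lit 37, nat_lit 17, nat_lit 27] (nat_lit 918) [⟨[nat_lit 217], [nat_lit 16, nat_lit 5, nat_lit 2, nat_lit 27, nat_lit 36, nat_lit 11, nat_lit 27], (nat_lit 1611)⟩, ⟨[nat_lit 215], [nat_lit 24, nat_lit 2, nat_lit 15, nat_lit 32, nat_lit 11, nat_lit 26], (nat_lit 4024)⟩],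
  .cy (nat_lit 0) [] [] [] (nat_lit 4071) [],
  .cy (nat_lit 8) [] [] [nat_lit 16, nat_lit 5, nat_lit 0, nat_lit 25, nat_lit 11] (nat_lit 3650) [⟨[nat_lit 3595, nat_lit 3588], [nat_lit 5, nat_lit 2, nat_lit 0, nat_lit 18, nat_lit 18, nat_lit 27], (nat_lit 3753)⟩, ⟨[nat_lit 217, nat_lit 215], [nat_lit 5, nat_lit 2, nat_lit 24, nat_lit 18, nat_lit 26], (nat_lit 4054)⟩],
  .cy (nat_lit 0) [] [] [] (nat_lit 4073) [],
  .cy (nat_lit 2) [] [] [nat_lit 17, nat_lit 2, nat_lit 0, nat_lit 37, nat_lit 16, nat_lit 27] (nat_lit 636) [⟨[], [nat_lit 17, nat_lit 24, nat_lit 0, nat_lit 33, nat_lit 11, nat_lit 26], (nat_lit 2158)⟩, ⟨[nat_lit 215, nat_lit 217, nat_lit 215], [nat_lit 16, nat_lit 5, nat_lit 2, nat_lit 25, nat_lit 35, nat_lit 11], (nat_lit 4074)⟩],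
  .cy (nat_lit 0) [] [] [] (nat_lit 4075) [],
  .cy (nat_lit 8) [] [] [nat_lit 26, nat_lit 24, nat_lit 0, nat_lit 36, nat_lit 18, nat_lit 15, nat_lit 27] (nat_lit 1131) [⟨[nat_lit 217, nat_lit 215], [nat_lit 16, nat_lit 0, nat_lit 18, nat_lit 27], (nat_lit 1297)⟩, ⟨[nat_lit 215], [nat_lit 0, nat_lit 2, nat_lit 24, nat_lit 24], (nat_lit 3960)⟩],
  .cy (nat_lit 0) [] [] [] (nat_lit 4077) [],
  .cy (nat_lit 4) [] [] [nat_lit 2, nat_lit 0, nat_lit 15, nat_lit 11, nat_lit 15, nat_lit 26] (nat_lit 627) [⟨[nat_lit 217], [nat_lit 26, nat_lit 2, nat_lit 18], (nat_lit 3656)⟩, ⟨[], [nat_lit 34, nat_lit 25, nat_lit 11], (nat_lit 3910)⟩],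
  .cy (nat_lit 0) [] [] [] (nat_lit 4079) [],
  .cy (nat_lit 25) [] [] [nat_lit 17, nat_lit 24, nat_lit 0, nat_lit 36, nat_lit 36, nat_lit 17, nat_lit 27] (nat_lit 627) [⟨[nat_lit 217, nat_lit 215], [nat_lit 25, nat_lit 0, nat_lit 36, nat_lit 24, nat_lit 15, nat_lit 26], (nat_lit 526)⟩, ⟨[nat_lit 203, nat_lit 208, nat_lit 522], [nat_lit 16, nat_lit 5, nat_lit 2, nat_lit 33, nat_lit 36], (nat_lit 3938)⟩],
  .cy (nat_lit 0) [] [] [] (nat_lit 4081) [],
  .cy (nat_lit 22) [] [] [nat_lit 5, nat_lit 14, nat_lit 36, nat_lit 16, nat_lit 11, nat_lit 27] (nat_lit 2654) [⟨[nat_lit 2578, nat_lit 2591, nat_lit 2578], [nat_lit 5, nat_lit 14, nat_lit 18, nat_lit 18], (nat_lit 3095)⟩, ⟨[nat_lit 178, nat_lit 165, nat_lit 161], [nat_lit 1, nat_lit 1, nat_lit 18, nat_lit 16, nat_lit 11], (nat_lit 3920)⟩],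
  .cy (nat_lit 0) [] [] [] (nat_lit 4083) [],
  .cy (nat_lit 1) [] [] [nat_lit 24, nat_lit 15, nat_lit 0, nat_lit 15, nat_lit 18] (nat_lit 299) [⟨[nat_lit 215, nat_lit 217, nat_lit 215], [nat_lit 26, nat_lit 2, nat_lit 0, nat_lit 34, nat_lit 24, nat_lit 15, nat_lit 27], (nat_lit 2224)⟩, ⟨[nat_lit 215, nat_lit 217], [nat_lit 15, nat_lit 0, nat_lit 35, nat_lit 35, nat_lit 11], (nat_lit 4030)⟩],
  .cy (nat_lit 0) [] [] [] (nat_lit 4085) [],
  .cy (nat_lit 20) [] [] [nat_lit 14, nat_lit 15, nat_lit 0, nat_lit 24, nat_lit 35, nat_lit 26] (nat_lit 952) [⟨[nat_lit 217], [nat_lit 2, nat_lit 17, nat_lit 33], (nat_lit 2880)⟩, ⟨[nat_lit 2578, nat_lit 2591], [nat_lit 14, nat_lit 11, nat_lit 26], (nat_lit 3908)⟩],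
  .cy (nat_lit 0) [] [] [] (nat_lit 4087) [],
  .cy (nat_lit 24) [] [] [nat_lit 14, nat_lit 0, nat_lit 25, nat_lit 15, nat_lit 11] (nat_lit 2556) [⟨[nat_lit 217, nat_lit 215], [nat_lit 14, nat_lit 0, nat_lit 36, nat_lit 25], (nat_lit 2552)⟩, ⟨[], [nat_lit 11, nat_lit 5, nat_lit 2, nat_lit 36, nat_lit 25, nat_lit 11, nat_lit 27], (nat_lit 4002)⟩],
  .cy (nat_lit 0) [] [] [] (nat_lit 4089) [],
  .cy (nat_lit 8) [] [] [nat_lit 26, nat_lit 2, nat_lit 0, nat_lit 25, nat_lit 18, nat_lit 27] (nat_lit 1927) [⟨[nat_lit 215, nat_lit 217, nat_lit 215], [nat_lit 11, nat_lit 2, nat_lit 0, nat_lit 15, nat_lit 11, nat_lit 15, nat_lit 27], (nat_lit 1818)⟩, ⟨[nat_lit 215, nat_lit 217], [nat_lit 1, nat_lit 5, nat_lit 33, nat_lit 15], (nat_lit 3980)⟩],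
  .cy (nat_lit 0) [] [] [] (nat_lit 4091) [],
  .cy (nat_lit 9) [] [] [nat_lit 10, nat_lit 0, nat_lit 32, nat_lit 16, nat_lit 27] (nat_lit 3634) [⟨[nat_lit 3588, nat_lit 3622], [nat_lit 0, nat_lit 32, nat_lit 11, nat_lit 26], (nat_lit 3651)⟩, ⟨[nat_lit 217], [nat_lit 5, nat_lit 14, nat_lit 16, nat_lit 26], (nat_lit 4030)⟩],
  .cy (nat_lit 0) [] [] [] (nat_lit 4093) [],
  .cy (nat_lit 2) [] [] [nat_lit 15, nat_lit 0, nat_lit 26, nat_lit 36] (nat_lit 1882) [⟨[nat_lit 217], [nat_lit 24, nat_lit 1, nat_lit 35, nat_lit 27, nat_lit 15], (nat_lit 611)⟩, ⟨[nat_lit 217], [nat_lit 16, nat_lit 5, nat_lit 0, nat_lit 26, nat_lit 34, nat_lit 27], (nat_lit 4066)⟩],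
  .cy (nat_lit 0) [] [] [] (nat_lit 4095) [],
  .cy (nat_lit 10) [] [] [nat_lit 5, nat_lit 14, nat_lit 26, nat_lit 34, nat_lit 11] (nat_lit 1882) [⟨[], [nat_lit 14, nat_lit 27, nat_lit 25, nat_lit 27], (nat_lit 642)⟩, ⟨[nat_lit 217, nat_lit 215], [nat_lit 25, nat_lit 2, nat_lit 0, nat_lit 25, nat_lit 35, nat_lit 11, nat_lit 27], (nat_lit 4018)⟩],
  .cy (nat_lit 0) [] [] [] (nat_lit 4097) [],
  .cy (nat_lit 6) [] [] [nat_lit 17, nat_lit 24, nat_lit 0, nat_lit 32, nat_lit 34, nat_lit 16, nat_lit 27] (nat_lit 229) [⟨[nat_lit 175, nat_lit 164], [nat_lit 25, nat_lit 16, nat_lit 0, nat_lit 27, nat_lit 17, nat_lit 27], (nat_lit 880)⟩, ⟨[nat_lit 215, nat_lit 217, nat_lit 215], [nat_lit 1, nat_lit 1, nat_lit 15, nat_lit 24], (nat_lit 4058)⟩],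
  .cy (nat_lit 0) [] [] [] (nat_lit 4099) [],
  .cy (nat_lit 10) [] [] [nat_lit 2, nat_lit 0, nat_lit 37, nat_lit 16, nat_lit 26] (nat_lit 940) [⟨[], [nat_lit 25, nat_lit 14, nat_lit 0, nat_lit 36, nat_lit 11, nat_lit 27], (nat_lit 1837)⟩, ⟨[nat_lit 215], [nat_lit 11, nat_lit 2, nat_lit 0, nat_lit 27, nat_lit 17, nat_lit 27], (nat_lit 4024)⟩],
  .cy (nat_lit 0) [] [] [] (nat_lit 4101) [],
  .cy (nat_lit 4) [] [] [nat_lit 14, nat_lit 15, nat_lit 0, nat_lit 37, nat_lit 34, nat_lit 25, nat_lit 26] (nat_lit 2614) [⟨[nat_lit 2591, nat_lit 2579, nat_lit 2578, nat_lit 2591, nat_lit 2578], [nat_lit 1, nat_lit 14, nat_lit 18, nat_lit 11, nat_lit 15, nat_lit 26], (nat_lit 2727)⟩, ⟨[], [nat_lit 10, nat_lit 10, nat_lit 0, nat_lit 15, nat_lit 11, nat_lit 15, nat_lit 26], (nat_lit 4062)⟩],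
  .cy (nat_lit 0) [] [] [] (nat_lit 4103) [],
  .cy (nat_lit 1) [] [] [nat_lit 1, nat_lit 14, nat_lit 15, nat_lit 27, nat_lit 16, nat_lit 27] (nat_lit 1253) [⟨[nat_lit 215, nat_lit 217, nat_lit 215], [nat_lit 15, nat_lit 2, nat_lit 27, nat_lit 24, nat_lit 26], (nat_lit 1744)⟩, ⟨[nat_lit 217, nat_lit 215], [nat_lit 1, nat_lit 14, nat_lit 36, nat_lit 36, nat_lit 17], (nat_lit 4094)⟩],
  .cy (nat_lit 0) [] [] [] (nat_lit 4105) [],
  .cy (nat_lit 16) [] [] [nat_lit 10, nat_lit 10, nat_lit 0, nat_lit 36, nat_lit 25, nat_lit 11] (nat_lit 1253) [⟨[nat_lit 215, nat_lit 217], [nat_lit 25, nat_lit 0, nat_lit 16, nat_lit 18, nat_lit 11, nat_lit 26], (nat_lit 2280)⟩, ⟨[nat_lit 217], [nat_lit 25, nat_lit 2, nat_lit 0, nat_lit 17, nat_lit 34, nat_lit 27], (nat_lit 1334)⟩, ⟨[nat_lit 215, nat_lit 217, nat_lit 215], [nat_lit 5, nat_lit 2, nat_lit 0, nat_lit 36, nat_lit 24, nat_lit 15], (nat_lit 2830)⟩, ⟨[], [nat_lit 10, nat_lit 0,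 nat_lit 15, nat_lit 11, nat_lit 15, nat_lit 26], (nat_lit 2731)⟩, ⟨[nat_lit 217], [nat_lit 0, nat_lit 2, nat_lit 16, nat_lit 18, nat_lit 11, nat_lit 26], (nat_lit 2469)⟩, ⟨[nat_lit 217, nat_lit 215], [nat_lit 14, nat_lit 0, nat_lit 32, nat_lit 27], (nat_lit 4072)⟩],
  .cy (nat_lit 0) [] [] [] (nat_lit 4107) [],
  .cy (nat_lit 22) [] [] [nat_lit 0, nat_lit 34, nat_lit 17, nat_lit 11, nat_lit 26] (nat_lit 1253) [⟨[nat_lit 215, nat_lit 217, nat_lit 215], [nat_lit 17, nat_lit 2, nat_lit 0, nat_lit 15, nat_lit 32, nat_lit 26], (nat_lit 1302)⟩, ⟨[nat_lit 215, nat_lit 217], [nat_lit 25, nat_lit 0, nat_lit 24, nat_lit 17, nat_lit 11], (nat_lit 4034)⟩],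
  .cy (nat_lit 0) [] [] [] (nat_lit 4109) [],
  .cy (nat_lit 22) [] [] [nat_lit 11, nat_lit 2, nat_lit 0, nat_lit 15, nat_lit 18, nat_lit 26] (nat_lit 1243) [⟨[], [nat_lit 1, nat_lit 1, nat_lit 11, nat_lit 16, nat_lit 27], (nat_lit 1454)⟩, ⟨[nat_lit 215, nat_lit 217], [nat_lit 14, nat_lit 34, nat_lit 17, nat_lit 11, nat_lit 27], (nat_lit 4034)⟩],
  .cy (nat_lit 0) [] [] [] (nat_lit 4111) [],
  .cy (nat_lit 1) [] [] [nat_lit 1, nat_lit 33, nat_lit 15, nat_lit 11, nat_lit 27] (nat_lit 1518) [⟨[nat_lit 215], [nat_lit 10, nat_lit 10, nat_lit 0, nat_lit 15, nat_lit 18, nat_lit 26], (nat_lit 2069)⟩, ⟨[nat_lit 215, nat_lit 217], [nat_lit 16, nat_lit 5, nat_lit 0, nat_lit 33, nat_lit 37], (nat_lit 4080)⟩],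
  .cy (nat_lit 0) [] [] [] (nat_lit 4113) [],
  .cy (nat_lit 17) [] [] [nat_lit 1, nat_lit 36, nat_lit 18, nat_lit 15, nat_lit 26] (nat_lit 1518) [⟨[nat_lit 217], [nat_lit 10, nat_lit 10, nat_lit 0, nat_lit 37, nat_lit 17, nat_lit 27], (nat_lit 1465)⟩, ⟨[nat_lit 217], [nat_lit 24, nat_lit 2, nat_lit 0, nat_lit 33, nat_lit 11], (nat_lit 1679)⟩, ⟨[nat_lit 215, nat_lit 217, nat_lit 215], [nat_lit 2, nat_lit 0, nat_lit 18, nat_lit 35, nat_lit 27], (nat_lit 1011)⟩, ⟨[nat_lit 217], [nat_lit 25, nat_lit 16, nat_lit 0, nat_lit 26, nat_lit 34], (nat_lit 1375)⟩, ⟨[nat_lit 215, nat_lit 217, nat_lit 215], [nat_lit 5, nat_lit 0, nat_lit 34, nat_lit 37, nat_lit 11, nat_lit 26], (nat_lit 518)⟩, ⟨[nat_lit 206, nat_lit 204, nat_lit 523, nat_lit 201], [nat_lit 5, nat_lit 16, nat_lit 2, nat_lit 17, nat_lit 17, nat_lit 27], (nat_lit 3938)⟩],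
  .cy (nat_lit 0) [] [] [] (nat_lit 4115) [],
  .cy (nat_lit 4) [] [] [nat_lit 1, nat_lit 25, nat_lit 15, nat_lit 26] (nat_lit 2049) [⟨[nat_lit 215, nat_lit 217, nat_lit 215], [nat_lit 5, nat_lit 2, nat_lit 0, nat_lit 33, nat_lit 18], (nat_lit 1515)⟩, ⟨[nat_lit 215, nat_lit 217, nat_lit 215], [nat_lit 24, nat_lit 1, nat_lit 11, nat_lit 15], (nat_lit 4080)⟩],
  .cy (nat_lit 0) [] [] [] (nat_lit 4117) [],
  .cy (nat_lit 20) [] [] [nat_lit 16, nat_lit 0, nat_lit 34, nat_lit 17, nat_lit 26] (nat_lit 2756) [⟨[nat_lit 2591, nat_lit 2579, nat_lit 2578, nat_lit 2591, nat_lit 2578], [nat_lit 15, nat_lit 0, nat_lit 37, nat_lit 34, nat_lit 11], (nat_lit 2689)⟩, ⟨[], [nat_lit 24, nat_lit 1, nat_lit 15, nat_lit 24], (nat_lit 4082)⟩],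
  .cy (nat_lit 0) [] [] [] (nat_lit 4119) [],
  .cy (nat_lit 21) [] [] [nat_lit 26, nat_lit 2, nat_lit 25, nat_lit 18, nat_lit 16, nat_lit 27] (nat_lit 827) [⟨[], [nat_lit 11, nat_lit 2, nat_lit 0, nat_lit 24, nat_lit 17, nat_lit 11, nat_lit 27], (nat_lit 1164)⟩, ⟨[nat_lit 217, nat_lit 215], [nat_lit 24, nat_lit 2, nat_lit 0, nat_lit 17, nat_lit 11, nat_lit 17], (nat_lit 4092)⟩],
  .cy (nat_lit 0) [] [] [] (nat_lit 4121) [],
  .cy (nat_lit 27) [] [] [nat_lit 16, nat_lit 2, nat_lit 27, nat_lit 36] (nat_lit 2361) [⟨[nat_lit 215, nat_lit 217, nat_lit 215], [nat_lit 24, nat_lit 1, nat_lit 32, nat_lit 24, nat_lit 11, nat_lit 27], (nat_lit 2151)⟩, ⟨[nat_lit 215], [nat_lit 14, nat_lit 0, nat_lit 15, nat_lit 32, nat_lit 15], (nat_lit 3950)⟩],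
  .cy (nat_lit 0) [] [] [] (nat_lit 4123) [],
  .cy (nat_lit 27) [] [] [nat_lit 17, nat_lit 24, nat_lit 0, nat_lit 27, nat_lit 17, nat_lit 27] (nat_lit 2550) [⟨[nat_lit 215], [nat_lit 18, nat_lit 15, nat_lit 0, nat_lit 15, nat_lit 15, nat_lit 26], (nat_lit 1001)⟩, ⟨[nat_lit 215, nat_lit 217], [nat_lit 5, nat_lit 2, nat_lit 25, nat_lit 11, nat_lit 26], (nat_lit 4054)⟩],
  .cy (nat_lit 0) [] [] [] (nat_lit 4125) [],
  .cy (nat_lit 11) [] [] [nat_lit 24, nat_lit 1, nat_lit 36, nat_lit 33, nat_lit 27] (nat_lit 3738) [⟨[nat_lit 3622], [nat_lit 24, nat_lit 16, nat_lit 0, nat_lit 35, nat_lit 26], (nat_lit 3687)⟩, ⟨[nat_lit 217, nat_lit 215], [nat_lit 11, nat_lit 2, nat_lit 0, nat_lit 34, nat_lit 15, nat_lit 26], (nat_lit 4056)⟩],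
  .cy (nat_lit 0) [] [] [] (nat_lit 4127) [],
  .cy (nat_lit 27) [] [] [nat_lit 17, nat_lit 24, nat_lit 0, nat_lit 36, nat_lit 32] (nat_lit 2005) [⟨[], [nat_lit 16, nat_lit 32, nat_lit 15], (nat_lit 1212)⟩, ⟨[], [nat_lit 11, nat_lit 2, nat_lit 0, nat_lit 17, nat_lit 36, nat_lit 27], (nat_lit 4036)⟩],
  .cy (nat_lit 0) [] [] [] (nat_lit 4129) [],
  .cy (nat_lit 8) [] [] [nat_lit 1, nat_lit 1, nat_lit 37, nat_lit 37, nat_lit 27] (nat_lit 2017) [⟨[nat_lit 217], [nat_lit 1, nat_lit 24, nat_lit 0, nat_lit 35, nat_lit 32], (nat_lit 2351)⟩, ⟨[nat_lit 217, nat_lit 215], [nat_lit 1, nat_lit 1, nat_lit 33, nat_lit 33, nat_lit 11, nat_lit 27], (nat_lit 3982)⟩],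
  .cy (nat_lit 0) [] [] [] (nat_lit 4131) [],
  .cy (nat_lit 24) [] [] [nat_lit 24, nat_lit 16, nat_lit 0, nat_lit 35, nat_lit 36, nat_lit 26] (nat_lit 2013) [⟨[nat_lit 215], [nat_lit 16, nat_lit 2, nat_lit 27, nat_lit 15, nat_lit 11, nat_lit 26], (nat_lit 2050)⟩, ⟨[nat_lit 217, nat_lit 215], [nat_lit 25, nat_lit 2, nat_lit 0, nat_lit 34, nat_lit 16, nat_lit 27], (nat_lit 4054)⟩],
  .cy (nat_lit 0) [] [] [] (nat_lit 4133) [],
  .cy (nat_lit 25) [] [] [nat_lit 25, nat_lit 2, nat_lit 0, nat_lit 25, nat_lit 11, nat_lit 27] (nat_lit 2124) [⟨[nat_lit 215], [nat_lit 24, nat_lit 0, nat_lit 33, nat_lit 11, nat_lit 27], (nat_lit 2308)⟩, ⟨[nat_lit 217, nat_lit 215], [nat_lit 10, nat_lit 0, nat_lit 18, nat_lit 16, nat_lit 11, nat_lit 27], (nat_lit 4008)⟩],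
  .cy (nat_lit 0) [] [] [] (nat_lit 4135) [],
  .cy (nat_lit 1) [] [] [nat_lit 15, nat_lit 5, nat_lit 33, nat_lit 16, nat_lit 26] (nat_lit 585) [⟨[nat_lit 217], [nat_lit 16, nat_lit 5, nat_lit 0, nat_lit 18, nat_lit 11, nat_lit 15, nat_lit 27], (nat_lit 2323)⟩, ⟨[nat_lit 217, nat_lit 215], [nat_lit 1, nat_lit 14, nat_lit 15, nat_lit 18, nat_lit 16], (nat_lit 4068)⟩],
  .cy (nat_lit 0) [] [] [] (nat_lit 4137) [],
  .cy (nat_lit 12) [] [] [nat_lit 5, nat_lit 34, nat_lit 15, nat_lit 11] (nat_lit 585) [⟨[nat_lit 217], [nat_lit 15, nat_lit 1, nat_lit 24, nat_lit 11, nat_lit 26], (nat_lit 2323)⟩, ⟨[nat_lit 217, nat_lit 215], [nat_lit 15, nat_lit 2, nat_lit 15, nat_lit 18, nat_lit 16, nat_lit 26], (nat_lit 4084)⟩],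
  .cy (nat_lit 0) [] [] [] (nat_lit 4139) [],
  .cy (nat_lit 20) [] [] [nat_lit 24, nat_lit 0, nat_lit 24, nat_lit 36, nat_lit 11, nat_lit 27] (nat_lit 2626) [⟨[nat_lit 2592, nat_lit 2578, nat_lit 2579, nat_lit 2592], [nat_lit 24, nat_lit 15, nat_lit 0, nat_lit 25, nat_lit 33, nat_lit 15, nat_lit 26], (nat_lit 2897)⟩, ⟨[nat_lit 215], [nat_lit 5, nat_lit 14, nat_lit 25, nat_lit 36, nat_lit 11, nat_lit 26], (nat_lit 4134)⟩],
  .cy (nat_lit 0) [] [] [] (nat_lit 4141) [],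
  .cy (nat_lit 21) [] [] [nat_lit 17, nat_lit 2, nat_lit 0, nat_lit 37, nat_lit 15, nat_lit 11, nat_lit 27] (nat_lit 2626) [⟨[nat_lit 2592, nat_lit 2578, nat_lit 2579, nat_lit 2592], [nat_lit 0, nat_lit 2, nat_lit 18, nat_lit 27], (nat_lit 2829)⟩, ⟨[nat_lit 215, nat_lit 217], [nat_lit 1, nat_lit 32, nat_lit 16], (nat_lit 3948)⟩],
  .cy (nat_lit 0) [] [] [] (nat_lit 4143) [],
  .cy (nat_lit 22) [] [] [nat_lit 24, nat_lit 15, nat_lit 0, nat_lit 33, nat_lit 15, nat_lit 11, nat_lit 26] (nat_lit 370) [⟨[nat_lit 206, nat_lit 204, nat_lit 208], [nat_lit 14, nat_lit 27], (nat_lit 210)⟩, ⟨[nat_lit 167, nat_lit 178, nat_lit 175], [nat_lit 14, nat_lit 17, nat_lit 36, nat_lit 15, nat_lit 26], (nat_lit 3924)⟩],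
  .cy (nat_lit 0) [] [] [] (nat_lit 4145) [],
  .cy (nat_lit 10) [] [] [nat_lit 5, nat_lit 36] (nat_lit 2095) [⟨[], [nat_lit 24, nat_lit 0, nat_lit 25, nat_lit 18, nat_lit 27], (nat_lit 1194)⟩, ⟨[], [nat_lit 24, nat_lit 16, nat_lit 0, nat_lit 32, nat_lit 18, nat_lit 26], (nat_lit 3972)⟩],
  .cy (nat_lit 0) [] [] [] (nat_lit 4147) [],
  .cy (nat_lit 11) [] [] [nat_lit 5, nat_lit 17, nat_lit 15, nat_lit 26] (nat_lit 442) [⟨[nat_lit 217, nat_lit 215], [nat_lit 0, nat_lit 34, nat_lit 24, nat_lit 17, nat_lit 26], (nat_lit 500)⟩, ⟨[nat_lit 179, nat_lit 165, nat_lit 164], [nat_lit 26, nat_lit 24, nat_lit 0, nat_lit 32, nat_lit 18, nat_lit 11], (nat_lit 3926)⟩],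
  .cy (nat_lit 0) [] [] [] (nat_lit 4149) [],
  .cy (nat_lit 7) [] [] [nat_lit 2, nat_lit 0, nat_lit 11, nat_lit 17] (nat_lit 337) [⟨[nat_lit 217], [nat_lit 25, nat_lit 16, nat_lit 0, nat_lit 16, nat_lit 24, nat_lit 26], (nat_lit 911)⟩, ⟨[nat_lit 215, nat_lit 217], [nat_lit 11, nat_lit 2, nat_lit 0, nat_lit 11, nat_lit 36, nat_lit 27], (nat_lit 4098)⟩],
  .cy (nat_lit 0) [] [] [] (nat_lit 4151) [],
  .cy (nat_lit 9) [] [] [nat_lit 5, nat_lit 16, nat_lit 2, nat_lit 17, nat_lit 36, nat_lit 27] (nat_lit 1472) [⟨[nat_lit 217, nat_lit 215], [nat_lit 16, nat_lit 5, nat_lit 2, nat_lit 18, nat_lit 16, nat_lit 26], (nat_lit 1354)⟩, ⟨[nat_lit 215], [nat_lit 26, nat_lit 2, nat_lit 0, nat_lit 37, nat_lit 15, nat_lit 27], (nat_lit 3960)⟩],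
  .cy (nat_lit 0) [] [] [] (nat_lit 4153) [],
  .cy (nat_lit 11) [] [] [nat_lit 24, nat_lit 2, nat_lit 37, nat_lit 17, nat_lit 11, nat_lit 27] (nat_lit 2202) [⟨[], [nat_lit 26, nat_lit 2, nat_lit 27, nat_lit 36, nat_lit 11], (nat_lit 1645)⟩, ⟨[nat_lit 215], [nat_lit 25, nat_lit 14, nat_lit 0, nat_lit 36], (nat_lit 3978)⟩],
  .cy (nat_lit 0) [] [] [] (nat_lit 4155) [],
  .cy (nat_lit 1) [] [] [nat_lit 26, nat_lit 24, nat_lit 0, nat_lit 15, nat_lit 24] (nat_lit 1942) [⟨[nat_lit 217, nat_lit 215], [nat_lit 1, nat_lit 24, nat_lit 0, nat_lit 25], (nat_lit 1860)⟩, ⟨[nat_lit 215, nat_lit 217, nat_lit 215], [nat_lit 1, nat_lit 5, nat_lit 11, nat_lit 18, nat_lit 27], (nat_lit 4038)⟩]]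
noncomputable def P4352 : List Pf := [.cy (nat_lit 0) [] [] [] (nat_lit 4157) [],
  .cy (nat_lit 6) [] [] [nat_lit 26, nat_lit 24, nat_lit 0, nat_lit 25, nat_lit 35, nat_lit 11] (nat_lit 1942) [⟨[nat_lit 215], [nat_lit 1, nat_lit 5, nat_lit 24, nat_lit 26], (nat_lit 1680)⟩, ⟨[nat_lit 215], [nat_lit 1, nat_lit 5, nat_lit 37, nat_lit 34, nat_lit 25, nat_lit 27], (nat_lit 4096)⟩],
  .cy (nat_lit 0) [] [] [] (nat_lit 4159) [],
  .cy (nat_lit 27) [] [] [nat_lit 1, nat_lit 5, nat_lit 33, nat_lit 33] (nat_lit 2111) [⟨[nat_lit 215], [nat_lit 5, nat_lit 0, nat_lit 25, nat_lit 35, nat_lit 11], (nat_lit 2421)⟩, ⟨[nat_lit 215, nat_lit 217, nat_lit 215], [nat_lit 2, nat_lit 15, nat_lit 24, nat_lit 11], (nat_lit 4086)⟩],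
  .cy (nat_lit 0) [] [] [] (nat_lit 4161) [],
  .cy (nat_lit 10) [] [] [nat_lit 16, nat_lit 2, nat_lit 34, nat_lit 17, nat_lit 33] (nat_lit 2325) [⟨[nat_lit 215, nat_lit 217], [nat_lit 10, nat_lit 0, nat_lit 25, nat_lit 35, nat_lit 11, nat_lit 27], (nat_lit 1912)⟩, ⟨[nat_lit 215, nat_lit 217, nat_lit 215], [nat_lit 25, nat_lit 1, nat_lit 24, nat_lit 36], (nat_lit 4136)⟩],
  .cy (nat_lit 0) [] [] [] (nat_lit 4163) [],
  .cy (nat_lit 11) [] [] [nat_lit 1, nat_lit 35, nat_lit 17] (nat_lit 3708) [⟨[nat_lit 3594, nat_lit 3621, nat_lit 3587, nat_lit 3621], [nat_lit 0, nat_lit 33, nat_lit 37, nat_lit 27], (nat_lit 3681)⟩, ⟨[nat_lit 217], [nat_lit 1, nat_lit 1, nat_lit 17, nat_lit 25, nat_lit 15, nat_lit 26], (nat_lit 4054)⟩],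
  .cy (nat_lit 0) [] [] [] (nat_lit 4165) [],
  .cy (nat_lit 12) [] [] [nat_lit 25, nat_lit 14, nat_lit 0, nat_lit 33, nat_lit 24, nat_lit 11, nat_lit 26] (nat_lit 2113) [⟨[nat_lit 217], [nat_lit 15, nat_lit 0, nat_lit 34, nat_lit 32], (nat_lit 806)⟩, ⟨[], [nat_lit 1, nat_lit 1, nat_lit 11, nat_lit 15, nat_lit 27], (nat_lit 3952)⟩],
  .cy (nat_lit 0) [] [] [] (nat_lit 4167) [],
  .cy (nat_lit 2) [] [] [nat_lit 11, nat_lit 5, nat_lit 2, nat_lit 15, nat_lit 35, nat_lit 27] (nat_lit 2007) [⟨[nat_lit 215, nat_lit 217, nat_lit 215], [nat_lit 17, nat_lit 24, nat_lit 0, nat_lit 33, nat_lit 16, nat_lit 11, nat_lit 27], (nat_lit 545)⟩, ⟨[nat_lit 217, nat_lit 215], [nat_lit 24, nat_lit 0, nat_lit 25, nat_lit 18, nat_lit 26], (nat_lit 4032)⟩],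
  .cy (nat_lit 0) [] [] [] (nat_lit 4169) [],
  .cy (nat_lit 1) [] [] [nat_lit 14, nat_lit 15, nat_lit 0, nat_lit 33, nat_lit 24, nat_lit 11, nat_lit 26] (nat_lit 721) [⟨[], [nat_lit 16, nat_lit 5, nat_lit 0, nat_lit 16, nat_lit 24, nat_lit 27], (nat_lit 1626)⟩, ⟨[nat_lit 215, nat_lit 217], [nat_lit 0, nat_lit 36, nat_lit 32, nat_lit 26], (nat_lit 4154)⟩],
  .cy (nat_lit 0) [] [] [] (nat_lit 4171) [],
  .cy (nat_lit 1) [] [] [nat_lit 26, nat_lit 2, nat_lit 0, nat_lit 24, nat_lit 24, nat_lit 11, nat_lit 26] (nat_lit 721) [⟨[nat_lit 217], [nat_lit 2, nat_lit 17, nat_lit 17, nat_lit 15], (nat_lit 1685)⟩, ⟨[nat_lit 217], [nat_lit 16, nat_lit 0, nat_lit 37, nat_lit 15], (nat_lit 4130)⟩],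
  .cy (nat_lit 0) [] [] [] (nat_lit 4173) [],
  .cy (nat_lit 2) [] [] [nat_lit 15, nat_lit 2, nat_lit 24, nat_lit 36] (nat_lit 721) [⟨[nat_lit 215, nat_lit 217, nat_lit 215], [nat_lit 15, nat_lit 1, nat_lit 33, nat_lit 18], (nat_lit 1921)⟩, ⟨[], [nat_lit 10, nat_lit 10, nat_lit 0, nat_lit 24, nat_lit 18, nat_lit 18, nat_lit 27], (nat_lit 4028)⟩],
  .cy (nat_lit 0) [] [] [] (nat_lit 4175) [],
  .cy (nat_lit 26) [] [] [nat_lit 15, nat_lit 0, nat_lit 37, nat_lit 27] (nat_lit 721) [⟨[], [nat_lit 1, nat_lit 1, nat_lit 33, nat_lit 15, nat_lit 11, nat_lit 27], (nat_lit 2435)⟩, ⟨[nat_lit 215], [nat_lit 0, nat_lit 2, nat_lit 16, nat_lit 25, nat_lit 26], (nat_lit 4150)⟩],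
  .cy (nat_lit 0) [] [] [] (nat_lit 4177) [],
  .cy (nat_lit 11) [] [] [nat_lit 26, nat_lit 2, nat_lit 0, nat_lit 11, nat_lit 18, nat_lit 27] (nat_lit 3904) [⟨[nat_lit 3917, nat_lit 3914, nat_lit 3914], [nat_lit 18, nat_lit 15, nat_lit 0, nat_lit 26, nat_lit 34, nat_lit 32], (nat_lit 3967)⟩, ⟨[nat_lit 215], [nat_lit 1, nat_lit 5, nat_lit 15, nat_lit 17, nat_lit 11, nat_lit 27], (nat_lit 4178)⟩],
  .cy (nat_lit 0) [] [] [] (nat_lit 4179) [],
  .cy (nat_lit 21) [] [] [nat_lit 15, nat_lit 2, nat_lit 37, nat_lit 34, nat_lit 25] (nat_lit 652) [⟨[nat_lit 215, nat_lit 217], [nat_lit 25, nat_lit 1, nat_lit 33, nat_lit 25, nat_lit 27], (nat_lit 1569)⟩, ⟨[nat_lit 176], [nat_lit 17, nat_lit 24, nat_lit 0, nat_lit 37, nat_lit 17, nat_lit 11], (nat_lit 3922)⟩],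
  .cy (nat_lit 0) [] [] [] (nat_lit 4181) [],
  .cy (nat_lit 25) [] [] [nat_lit 5, nat_lit 2, nat_lit 0, nat_lit 25, nat_lit 18] (nat_lit 652) [⟨[nat_lit 215], [nat_lit 0, nat_lit 18, nat_lit 15, nat_lit 26], (nat_lit 1471)⟩, ⟨[nat_lit 217, nat_lit 215], [nat_lit 1, nat_lit 5, nat_lit 25], (nat_lit 3980)⟩],
  .cy (nat_lit 0) [] [] [] (nat_lit 4183) [],
  .cy (nat_lit 3) [] [] [nat_lit 24, nat_lit 16, nat_lit 0, nat_lit 15, nat_lit 35, nat_lit 27] (nat_lit 3804) [⟨[nat_lit 3594, nat_lit 3621, nat_lit 3587, nat_lit 3621], [nat_lit 25, nat_lit 16, nat_lit 0, nat_lit 34, nat_lit 17, nat_lit 33, nat_lit 26], (nat_lit 3645)⟩, ⟨[nat_lit 217, nat_lit 215], [nat_lit 1, nat_lit 24, nat_lit 0, nat_lit 24, nat_lit 36, nat_lit 26], (nat_lit 4048)⟩],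
  .cy (nat_lit 0) [] [] [] (nat_lit 4185) [],
  .cy (nat_lit 22) [] [] [nat_lit 25, nat_lit 1, nat_lit 15, nat_lit 15, nat_lit 15] (nat_lit 3804) [⟨[nat_lit 3595, nat_lit 3622, nat_lit 3588], [nat_lit 24, nat_lit 15, nat_lit 0, nat_lit 25, nat_lit 37, nat_lit 26], (nat_lit 3641)⟩, ⟨[nat_lit 217, nat_lit 215], [nat_lit 15, nat_lit 0, nat_lit 35, nat_lit 17, nat_lit 16], (nat_lit 3968)⟩],
  .cy (nat_lit 0) [] [] [] (nat_lit 4187) [],
  .cy (nat_lit 10) [] [] [nat_lit 24, nat_lit 2, nat_lit 24, nat_lit 36, nat_lit 16, nat_lit 27] (nat_lit 579) [⟨[nat_lit 217], [nat_lit 11, nat_lit 5, nat_lit 2, nat_lit 24, nat_lit 18, nat_lit 18], (nat_lit 660)⟩, ⟨[nat_lit 215], [nat_lit 25, nat_lit 2, nat_lit 0, nat_lit 32, nat_lit 34], (nat_lit 4184)⟩],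
  .cy (nat_lit 0) [] [] [] (nat_lit 4189) [],
  .cy (nat_lit 23) [] [] [nat_lit 16, nat_lit 2, nat_lit 16, nat_lit 25] (nat_lit 1930) [⟨[], [nat_lit 1, nat_lit 24, nat_lit 0, nat_lit 24, nat_lit 37, nat_lit 11], (nat_lit 640)⟩, ⟨[nat_lit 215], [nat_lit 14, nat_lit 26, nat_lit 34], (nat_lit 4124)⟩],
  .cy (nat_lit 0) [] [] [] (nat_lit 4191) [],
  .cy (nat_lit 8) [] [] [nat_lit 16, nat_lit 5, nat_lit 2, nat_lit 37, nat_lit 15, nat_lit 11, nat_lit 26] (nat_lit 2100) [⟨[nat_lit 217, nat_lit 215], [nat_lit 17, nat_lit 2, nat_lit 0, nat_lit 26, nat_lit 24, nat_lit 26], (nat_lit 988)⟩, ⟨[nat_lit 215, nat_lit 217, nat_lit 215], [nat_lit 2, nat_lit 15, nat_lit 27, nat_lit 16, nat_lit 27], (nat_lit 4064)⟩],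
  .cy (nat_lit 0) [] [] [] (nat_lit 4193) [],
  .cy (nat_lit 1) [] [] [nat_lit 24, nat_lit 16, nat_lit 0, nat_lit 36, nat_lit 32, nat_lit 26] (nat_lit 2139) [⟨[], [nat_lit 14, nat_lit 15, nat_lit 0, nat_lit 25, nat_lit 15, nat_lit 11, nat_lit 26], (nat_lit 492)⟩, ⟨[], [nat_lit 25, nat_lit 0, nat_lit 37, nat_lit 15], (nat_lit 3952)⟩],
  .cy (nat_lit 0) [] [] [] (nat_lit 4195) [],
  .cy (nat_lit 2) [] [] [nat_lit 24, nat_lit 15, nat_lit 0, nat_lit 18, nat_lit 15, nat_lit 11] (nat_lit 3776) [⟨[nat_lit 3621, nat_lit 3587, nat_lit 3621, nat_lit 3587, nat_lit 3621], [nat_lit 24, nat_lit 2, nat_lit 24, nat_lit 26], (nat_lit 3651)⟩, ⟨[nat_lit 217], [nat_lit 1, nat_lit 24, nat_lit 0, nat_lit 35, nat_lit 35, nat_lit 26], (nat_lit 4072)⟩],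
  .cy (nat_lit 0) [] [] [] (nat_lit 4197) [],
  .cy (nat_lit 10) [] [] [nat_lit 18, nat_lit 15, nat_lit 0, nat_lit 24, nat_lit 27] (nat_lit 3776) [⟨[nat_lit 3587, nat_lit 3621, nat_lit 3588, nat_lit 3621], [nat_lit 18, nat_lit 15, nat_lit 0, nat_lit 25, nat_lit 36, nat_lit 27], (nat_lit 3600)⟩, ⟨[nat_lit 215, nat_lit 217, nat_lit 215], [nat_lit 25, nat_lit 14, nat_lit 0, nat_lit 36, nat_lit 33, nat_lit 27], (nat_lit 4014)⟩],
  .cy (nat_lit 0) [] [] [] (nat_lit 4199) [],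
  .cy (nat_lit 12) [] [] [nat_lit 17, nat_lit 24, nat_lit 0, nat_lit 32, nat_lit 34] (nat_lit 1775) [⟨[], [nat_lit 5, nat_lit 2, nat_lit 33, nat_lit 37, nat_lit 11, nat_lit 27], (nat_lit 2320)⟩, ⟨[nat_lit 217, nat_lit 215], [nat_lit 24, nat_lit 2, nat_lit 32, nat_lit 15], (nat_lit 4144)⟩],
  .cy (nat_lit 0) [] [] [] (nat_lit 4201) [],
  .cy (nat_lit 23) [] [] [nat_lit 2, nat_lit 0, nat_lit 16, nat_lit 18] (nat_lit 2638) [⟨[nat_lit 2579, nat_lit 2592], [nat_lit 2, nat_lit 37, nat_lit 34, nat_lit 24, nat_lit 26], (nat_lit 2641)⟩, ⟨[], [nat_lit 25, nat_lit 1, nat_lit 25, nat_lit 36, nat_lit 15], (nat_lit 4180)⟩],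
  .cy (nat_lit 0) [] [] [] (nat_lit 4203) [],
  .cy (nat_lit 8) [] [] [nat_lit 5, nat_lit 16, nat_lit 2, nat_lit 37, nat_lit 18, nat_lit 26] (nat_lit 2570) [⟨[nat_lit 217, nat_lit 215], [nat_lit 32, nat_lit 34, nat_lit 11, nat_lit 27], (nat_lit 1515)⟩, ⟨[nat_lit 215, nat_lit 217, nat_lit 215], [nat_lit 1, nat_lit 34, nat_lit 37, nat_lit 11, nat_lit 27], (nat_lit 4080)⟩],
  .cy (nat_lit 0) [] [] [] (nat_lit 4205) [],
  .cy (nat_lit 23) [] [] [nat_lit 5, nat_lit 2, nat_lit 11, nat_lit 16, nat_lit 26] (nat_lit 729) [⟨[], [nat_lit 5, nat_lit 2, nat_lit 34, nat_lit 25], (nat_lit 726)⟩, ⟨[], [nat_lit 5, nat_lit 14, nat_lit 33, nat_lit 24, nat_lit 27], (nat_lit 4044)⟩],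
  .cy (nat_lit 0) [] [] [] (nat_lit 4207) [],
  .cy (nat_lit 22) [] [] [nat_lit 18, nat_lit 15, nat_lit 0, nat_lit 24, nat_lit 11, nat_lit 26] (nat_lit 2142) [⟨[nat_lit 215, nat_lit 217], [nat_lit 25, nat_lit 16, nat_lit 0, nat_lit 33, nat_lit 37, nat_lit 26], (nat_lit 1884)⟩, ⟨[nat_lit 215, nat_lit 217, nat_lit 215], [nat_lit 16, nat_lit 5, nat_lit 0, nat_lit 11, nat_lit 17], (nat_lit 4012)⟩],
  .cy (nat_lit 0) [] [] [] (nat_lit 4209) [],
  .cy (nat_lit 4) [] [] [nat_lit 14, nat_lit 37, nat_lit 24, nat_lit 27] (nat_lit 3323) [⟨[nat_lit 3141, nat_lit 3133, nat_lit 3140, nat_lit 3134], [nat_lit 24, nat_lit 2, nat_lit 34, nat_lit 17], (nat_lit 3268)⟩, ⟨[nat_lit 215, nat_lit 217, nat_lit 215], [nat_lit 2, nat_lit 26, nat_lit 34, nat_lit 32, nat_lit 27], (nat_lit 4094)⟩],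
  .cy (nat_lit 0) [] [] [] (nat_lit 4211) [],
  .cy (nat_lit 7) [] [] [nat_lit 5, nat_lit 2, nat_lit 26, nat_lit 17, nat_lit 15] (nat_lit 2160) [⟨[], [nat_lit 26, nat_lit 24, nat_lit 0, nat_lit 24, nat_lit 18, nat_lit 27], (nat_lit 431)⟩, ⟨[], [nat_lit 24, nat_lit 16, nat_lit 0, nat_lit 17, nat_lit 34, nat_lit 15, nat_lit 26], (nat_lit 4070)⟩],
  .cy (nat_lit 0) [] [] [] (nat_lit 4213) [],
  .cy (nat_lit 1) [] [] [nat_lit 26, nat_lit 2, nat_lit 15, nat_lit 32, nat_lit 26] (nat_lit 805) [⟨[nat_lit 215, nat_lit 217], [nat_lit 2, nat_lit 17], (nat_lit 397)⟩, ⟨[nat_lit 215], [nat_lit 15, nat_lit 2, nat_lit 34, nat_lit 15, nat_lit 26], (nat_lit 4182)⟩],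
  .cy (nat_lit 0) [] [] [] (nat_lit 4215) [],
  .cy (nat_lit 15) [] [] [nat_lit 24, nat_lit 0, nat_lit 15, nat_lit 32, nat_lit 15, nat_lit 26] (nat_lit 805) [⟨[nat_lit 217], [nat_lit 1, nat_lit 1, nat_lit 27, nat_lit 36], (nat_lit 662)⟩, ⟨[nat_lit 217], [nat_lit 1, nat_lit 14, nat_lit 37, nat_lit 24, nat_lit 26], (nat_lit 1421)⟩, ⟨[nat_lit 215, nat_lit 217, nat_lit 215], [nat_lit 24, nat_lit 2, nat_lit 0, nat_lit 36, nat_lit 16, nat_lit 27], (nat_lit 2742)⟩, ⟨[nat_lit 2592, nat_lit 2579, nat_lit 2578, nat_lit 2591, nat_lit 2578], [nat_lit 5, nat_lit 0, nat_lit 32, nat_lit 18, nat_lit 11, nat_lit 26], (nat_lit 2659)⟩, ⟨[nat_lit 215, nat_lit 217, nat_lit 215], [nat_lit 15, nat_lit 1, nat_lit 15, nat_lit 35, nat_lit 11, nat_lit 26], (nat_lit 777)⟩, ⟨[nat_lit 217], [nat_lit 16, nat_lit 5, nat_lit 2, nat_lit 15, nat_lit 15, nat_lit 15], (nat_lit 4148)⟩],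
  .cy (nat_lit 0) [] [] [] (nat_lit 4217) [],
  .cy (nat_lit 2) [] [] [nat_lit 2, nat_lit 32, nat_lit 37, nat_lit 15, nat_lit 27] (nat_lit 1790) [⟨[], [nat_lit 5, nat_lit 0, nat_lit 24, nat_lit 35, nat_lit 27], (nat_lit 873)⟩, ⟨[nat_lit 215], [nat_lit 14, nat_lit 0, nat_lit 17, nat_lit 36, nat_lit 15, nat_lit 26], (nat_lit 4150)⟩],
  .cy (nat_lit 0) [] [] [] (nat_lit 4219) [],
  .cy (nat_lit 22) [] [] [nat_lit 15, nat_lit 0, nat_lit 24, nat_lit 37, nat_lit 15, nat_lit 26] (nat_lit 2029) [⟨[], [nat_lit 15, nat_lit 2, nat_lit 35, nat_lit 32, nat_lit 11], (nat_lit 1690)⟩, ⟨[], [nat_lit 24, nat_lit 2, nat_lit 16], (nat_lit 3904)⟩],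
  .cy (nat_lit 0) [] [] [] (nat_lit 4221) [],
  .cy (nat_lit 11) [] [] [nat_lit 16, nat_lit 5, nat_lit 0, nat_lit 11, nat_lit 18] (nat_lit 2055) [⟨[nat_lit 215], [nat_lit 14, nat_lit 17, nat_lit 25, nat_lit 15], (nat_lit 1681)⟩, ⟨[nat_lit 217, nat_lit 215], [nat_lit 11, nat_lit 2, nat_lit 0, nat_lit 35, nat_lit 16, nat_lit 16], (nat_lit 4046)⟩],
  .cy (nat_lit 0) [] [] [] (nat_lit 4223) [],
  .cy (nat_lit 4) [] [] [nat_lit 1, nat_lit 14, nat_lit 36, nat_lit 11, nat_lit 26] (nat_lit 2932) [⟨[nat_lit 2592, nat_lit 2579, nat_lit 2578, nat_lit 2591], [nat_lit 24, nat_lit 15, nat_lit 0, nat_lit 34, nat_lit 11, nat_lit 17, nat_lit 26], (nat_lit 2603)⟩, ⟨[nat_lit 208, nat_lit 203, nat_lit 522, nat_lit 201], [nat_lit 15, nat_lit 0, nat_lit 33, nat_lit 36, nat_lit 27], (nat_lit 3930)⟩],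
  .cy (nat_lit 0) [] [] [] (nat_lit 4225) [],
  .cy (nat_lit 22) [] [] [nat_lit 1, nat_lit 14, nat_lit 27, nat_lit 15, nat_lit 11, nat_lit 26] (nat_lit 895) [⟨[], [nat_lit 24, nat_lit 1, nat_lit 27, nat_lit 18, nat_lit 26], (nat_lit 1023)⟩, ⟨[nat_lit 215], [nat_lit 2, nat_lit 32, nat_lit 32], (nat_lit 4100)⟩],
  .cy (nat_lit 0) [] [] [] (nat_lit 4227) [],
  .cy (nat_lit 11) [] [] [nat_lit 25, nat_lit 14, nat_lit 0, nat_lit 15, nat_lit 35, nat_lit 26] (nat_lit 2097) [⟨[nat_lit 215, nat_lit 217], [nat_lit 10, nat_lit 0, nat_lit 27, nat_lit 37, nat_lit 27], (nat_lit 466)⟩, ⟨[nat_lit 217], [nat_lit 16, nat_lit 2, nat_lit 25, nat_lit 37, nat_lit 15], (nat_lit 4124)⟩],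
  .cy (nat_lit 0) [] [] [] (nat_lit 4229) [],
  .cy (nat_lit 6) [] [] [nat_lit 26, nat_lit 2, nat_lit 27, nat_lit 17, nat_lit 27] (nat_lit 2327) [⟨[], [nat_lit 34, nat_lit 11], (nat_lit 645)⟩, ⟨[nat_lit 215, nat_lit 217], [nat_lit 17, nat_lit 2, nat_lit 0, nat_lit 17, nat_lit 17, nat_lit 11, nat_lit 27], (nat_lit 3970)⟩],
  .cy (nat_lit 0) [] [] [] (nat_lit 4231) [],
  .cy (nat_lit 26) [] [] [nat_lit 15, nat_lit 0, nat_lit 36, nat_lit 17] (nat_lit 2168) [⟨[nat_lit 215, nat_lit 217, nat_lit 215], [nat_lit 5, nat_lit 16, nat_lit 2, nat_lit 33, nat_lit 18, nat_lit 27], (nat_lit 1939)⟩, ⟨[nat_lit 217], [nat_lit 1, nat_lit 1, nat_lit 18, nat_lit 35, nat_lit 27], (nat_lit 4030)⟩],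
  .cy (nat_lit 0) [] [] [] (nat_lit 4233) [],
  .cy (nat_lit 3) [] [] [nat_lit 26, nat_lit 2, nat_lit 0, nat_lit 15] (nat_lit 3712) [⟨[nat_lit 3621, nat_lit 3594, nat_lit 3587], [nat_lit 16, nat_lit 5, nat_lit 2, nat_lit 37, nat_lit 26], (nat_lit 3699)⟩, ⟨[nat_lit 215], [nat_lit 2, nat_lit 34, nat_lit 34], (nat_lit 4174)⟩],
  .cy (nat_lit 0) [] [] [] (nat_lit 4235) [],
  .cy (nat_lit 7) [] [] [nat_lit 24, nat_lit 15, nat_lit 0, nat_lit 26, nat_lit 16, nat_lit 11, nat_lit 26] (nat_lit 454) [⟨[], [nat_lit 24, nat_lit 16, nat_lit 0, nat_lit 32, nat_lit 18, nat_lit 11, nat_lit 27], (nat_lit 1659)⟩, ⟨[], [nat_lit 5, nat_lit 16, nat_lit 2, nat_lit 25, nat_lit 36, nat_lit 11], (nat_lit 4108)⟩],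
  .cy (nat_lit 0) [] [] [] (nat_lit 4237) [],
  .cy (nat_lit 26) [] [] [nat_lit 2, nat_lit 0, nat_lit 18, nat_lit 25] (nat_lit 1407) [⟨[], [nat_lit 33, nat_lit 37, nat_lit 27], (nat_lit 2328)⟩, ⟨[nat_lit 215, nat_lit 217], [nat_lit 24, nat_lit 0, nat_lit 15, nat_lit 18, nat_lit 11, nat_lit 27], (nat_lit 4190)⟩],
  .cy (nat_lit 0) [] [] [] (nat_lit 4239) [],
  .cy (nat_lit 27) [] [] [nat_lit 26, nat_lit 2, nat_lit 15, nat_lit 15, nat_lit 11, nat_lit 27] (nat_lit 1407) [⟨[nat_lit 217, nat_lit 215], [nat_lit 18, nat_lit 15, nat_lit 0, nat_lit 18, nat_lit 15, nat_lit 26], (nat_lit 929)⟩, ⟨[nat_lit 217], [nat_lit 24, nat_lit 16, nat_lit 0, nat_lit 37, nat_lit 37], (nat_lit 4220)⟩],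
  .cy (nat_lit 0) [] [] [] (nat_lit 4241) [],
  .cy (nat_lit 10) [] [] [nat_lit 17, nat_lit 24, nat_lit 0, nat_lit 11, nat_lit 36, nat_lit 27] (nat_lit 2024) [⟨[nat_lit 215], [nat_lit 5, nat_lit 2, nat_lit 37, nat_lit 24, nat_lit 15, nat_lit 26], (nat_lit 1923)⟩, ⟨[nat_lit 215, nat_lit 217, nat_lit 215], [nat_lit 15, nat_lit 2, nat_lit 18, nat_lit 35, nat_lit 27], (nat_lit 4010)⟩],
  .cy (nat_lit 0) [] [] [] (nat_lit 4243) [],
  .cy (nat_lit 8) [] [] [nat_lit 26, nat_lit 2, nat_lit 0, nat_lit 37, nat_lit 34, nat_lit 25] (nat_lit 2830) [⟨[nat_lit 2592, nat_lit 2578, nat_lit 2579, nat_lit 2578], [nat_lit 25, nat_lit 2, nat_lit 0, nat_lit 16, nat_lit 16, nat_lit 26], (nat_lit 2915)⟩, ⟨[nat_lit 215, nat_lit 217, nat_lit 215], [nat_lit 24, nat_lit 2, nat_lit 11, nat_lit 16, nat_lit 27], (nat_lit 4128)⟩],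
  .cy (nat_lit 0) [] [] [] (nat_lit 4245) [],
  .cy (nat_lit 16) [] [] [nat_lit 16, nat_lit 18, nat_lit 11] (nat_lit 311) [⟨[nat_lit 217], [nat_lit 16, nat_lit 5, nat_lit 2, nat_lit 17, nat_lit 24], (nat_lit 3958)⟩, ⟨[], [nat_lit 11, nat_lit 5, nat_lit 2, nat_lit 15, nat_lit 32, nat_lit 11], (nat_lit 3961)⟩, ⟨[nat_lit 217, nat_lit 215], [nat_lit 16, nat_lit 5, nat_lit 2, nat_lit 26, nat_lit 16, nat_lit 11, nat_lit 26], (nat_lit 2608)⟩, ⟨[nat_lit 2579, nat_lit 2578, nat_lit 2591], [nat_lit 16, nat_lit 5, nat_lit 2, nat_lit 34, nat_lit 16, nat_lit 11], (nat_lit 3085)⟩, ⟨[nat_lit 2579, nat_lit 2578], [nat_lit 24, nat_lit 2, nat_lit 25, nat_lit 15], (nat_lit 2709)⟩, ⟨[nat_lit 215], [nat_lit 5, nat_lit 2, nat_lit 24, nat_lit 17], (nat_lit 3996)⟩],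
  .cy (nat_lit 0) [] [] [] (nat_lit 4247) [],
  .cy (nat_lit 25) [] [] [nat_lit 25, nat_lit 14, nat_lit 0, nat_lit 27, nat_lit 17] (nat_lit 1260) [⟨[], [nat_lit 5, nat_lit 2, nat_lit 0, nat_lit 16, nat_lit 18, nat_lit 11], (nat_lit 1247)⟩, ⟨[nat_lit 215, nat_lit 217], [nat_lit 5, nat_lit 14, nat_lit 36, nat_lit 32], (nat_lit 4112)⟩],
  .cy (nat_lit 0) [] [] [] (nat_lit 4249) [],
  .cy (nat_lit 22) [] [] [nat_lit 15, nat_lit 0, nat_lit 36, nat_lit 16, nat_lit 11] (nat_lit 2634) [⟨[nat_lit 2578, nat_lit 2579, nat_lit 2592, nat_lit 2578], [nat_lit 10, nat_lit 10, nat_lit 0, nat_lit 24, nat_lit 36, nat_lit 16, nat_lit 26], (nat_lit 2967)⟩, ⟨[nat_lit 215], [nat_lit 16, nat_lit 2, nat_lit 15, nat_lit 11], (nat_lit 4060)⟩],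
  .cy (nat_lit 0) [] [] [] (nat_lit 4251) [],
  .cy (nat_lit 7) [] [] [nat_lit 25, nat_lit 14, nat_lit 0, nat_lit 24, nat_lit 16] (nat_lit 3800) [⟨[nat_lit 3621, nat_lit 3588, nat_lit 3621, nat_lit 3588, nat_lit 3621, nat_lit 3588], [nat_lit 24, nat_lit 1, nat_lit 24, nat_lit 33, nat_lit 15], (nat_lit 3799)⟩, ⟨[nat_lit 217], [nat_lit 1, nat_lit 24, nat_lit 0, nat_lit 27, nat_lit 17, nat_lit 27], (nat_lit 3970)⟩],
  .cy (nat_lit 0) [] [] [] (nat_lit 4253) [],
  .cy (nat_lit 3) [] [] [nat_lit 1, nat_lit 24, nat_lit 0, nat_lit 15, nat_lit 35] (nat_lit 3768) [⟨[nat_lit 3622, nat_lit 3595, nat_lit 3621, nat_lit 3587, nat_lit 3621, nat_lit 3588], [nat_lit 16, nat_lit 5, nat_lit 2, nat_lit 34, nat_lit 16], (nat_lit 3705)⟩, ⟨[nat_lit 215], [nat_lit 24, nat_lit 0, nat_lit 37, nat_lit 34, nat_lit 25, nat_lit 27], (nat_lit 4250)⟩],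
  .cy (nat_lit 0) [] [] [] (nat_lit 4255) [],
  .cy (nat_lit 5) [] [] [nat_lit 17, nat_lit 2, nat_lit 0, nat_lit 33, nat_lit 11, nat_lit 26] (nat_lit 3768) [⟨[nat_lit 3587, nat_lit 3621, nat_lit 3587, nat_lit 3621, nat_lit 3588], [nat_lit 15, nat_lit 1, nat_lit 24, nat_lit 37], (nat_lit 3606)⟩, ⟨[nat_lit 217], [nat_lit 16, nat_lit 2, nat_lit 33, nat_lit 24, nat_lit 11, nat_lit 26], (nat_lit 4036)⟩],
  .cy (nat_lit 0) [] [] [] (nat_lit 4257) [],
  .cy (nat_lit 11) [] [] [nat_lit 5, nat_lit 14, nat_lit 32, nat_lit 18, nat_lit 15, nat_lit 26] (nat_lit 637) [⟨[nat_lit 215, nat_lit 217], [nat_lit 11, nat_lit 5, nat_lit 2, nat_lit 17, nat_lit 17, nat_lit 11, nat_lit 27], (nat_lit 1494)⟩, ⟨[], [nat_lit 15, nat_lit 2, nat_lit 34, nat_lit 34, nat_lit 15, nat_lit 26], (nat_lit 4182)⟩],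
  .cy (nat_lit 0) [] [] [] (nat_lit 4259) [],
  .cy (nat_lit 1) [] [] [nat_lit 24, nat_lit 0, nat_lit 25, nat_lit 36, nat_lit 15, nat_lit 27] (nat_lit 2279) [⟨[nat_lit 217], [nat_lit 16, nat_lit 5, nat_lit 0, nat_lit 33, nat_lit 24, nat_lit 26], (nat_lit 622)⟩, ⟨[nat_lit 217, nat_lit 215], [nat_lit 24, nat_lit 16, nat_lit 0, nat_lit 34, nat_lit 24, nat_lit 26], (nat_lit 4260)⟩],
  .cy (nat_lit 0) [] [] [] (nat_lit 4261) [],
  .cy (nat_lit 1) [] [] [nat_lit 25, nat_lit 0, nat_lit 37, nat_lit 11, nat_lit 26] (nat_lit 572) [⟨[nat_lit 215, nat_lit 217, nat_lit 215], [nat_lit 2, nat_lit 24, nat_lit 35, nat_lit 27], (nat_lit 1499)⟩, ⟨[], [nat_lit 24, nat_lit 2, nat_lit 0, nat_lit 32, nat_lit 24, nat_lit 11, nat_lit 27], (nat_lit 4028)⟩],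
  .cy (nat_lit 0) [] [] [] (nat_lit 4263) [],
  .cy (nat_lit 11) [] [] [nat_lit 5, nat_lit 2, nat_lit 0, nat_lit 35, nat_lit 32, nat_lit 11, nat_lit 26] (nat_lit 572) [⟨[nat_lit 215, nat_lit 217], [nat_lit 24, nat_lit 0, nat_lit 33, nat_lit 33, nat_lit 26], (nat_lit 2411)⟩, ⟨[], [nat_lit 25, nat_lit 1, nat_lit 27, nat_lit 24, nat_lit 11, nat_lit 27], (nat_lit 4212)⟩],
  .cy (nat_lit 0) [] [] [] (nat_lit 4265) [],
  .cy (nat_lit 3) [] [] [nat_lit 26, nat_lit 24, nat_lit 0, nat_lit 24, nat_lit 35] (nat_lit 916) [⟨[nat_lit 217, nat_lit 215], [nat_lit 11, nat_lit 2, nat_lit 0, nat_lit 32, nat_lit 18, nat_lit 27], (nat_lit 1515)⟩, ⟨[nat_lit 215, nat_lit 217], [nat_lit 24, nat_lit 16, nat_lit 0, nat_lit 27, nat_lit 18, nat_lit 11], (nat_lit 4020)⟩],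
  .cy (nat_lit 0) [] [] [] (nat_lit 4267) [],
  .cy (nat_lit 3) [] [] [nat_lit 25, nat_lit 14, nat_lit 0, nat_lit 24, nat_lit 17, nat_lit 26] (nat_lit 1450) [⟨[nat_lit 215, nat_lit 217, nat_lit 215], [nat_lit 24, nat_lit 2, nat_lit 32, nat_lit 34, nat_lit 27], (nat_lit 1571)⟩, ⟨[], [nat_lit 11, nat_lit 5, nat_lit 2, nat_lit 27, nat_lit 18, nat_lit 27], (nat_lit 4256)⟩],
  .cy (nat_lit 0) [] [] [] (nat_lit 4269) [],
  .cy (nat_lit 1) [] [] [nat_lit 14, nat_lit 17, nat_lit 17, nat_lit 11, nat_lit 26] (nat_lit 2577) [⟨[nat_lit 90, nat_lit 106, nat_lit 90], [nat_lit 5, nat_lit 2, nat_lit 35, nat_lit 35], (nat_lit 199)⟩, ⟨[nat_lit 206, nat_lit 204, nat_lit 208], [nat_lit 15, nat_lit 2, nat_lit 15, nat_lit 11, nat_lit 27], (nat_lit 3934)⟩],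
  .cy (nat_lit 0) [] [] [] (nat_lit 4271) [],
  .cy (nat_lit 2) [] [] [nat_lit 5, nat_lit 32, nat_lit 34, nat_lit 11, nat_lit 26] (nat_lit 2577) [⟨[], [nat_lit 10, nat_lit 10, nat_lit 0, nat_lit 35, nat_lit 17, nat_lit 16, nat_lit 26], (nat_lit 159)⟩, ⟨[nat_lit 161], [nat_lit 10, nat_lit 10, nat_lit 0, nat_lit 27, nat_lit 37, nat_lit 27], (nat_lit 3922)⟩],
  .cy (nat_lit 0) [] [] [] (nat_lit 4273) [],
  .cy (nat_lit 4) [] [] [nat_lit 10, nat_lit 10, nat_lit 0, nat_lit 24, nat_lit 36, nat_lit 26] (nat_lit 2577) [⟨[], [nat_lit 5, nat_lit 37, nat_lit 25, nat_lit 27], (nat_lit 159)⟩, ⟨[nat_lit 167, nat_lit 162, nat_lit 161], [nat_lit 10, nat_lit 10, nat_lit 0, nat_lit 24, nat_lit 37, nat_lit 17, nat_lit 27], (nat_lit 3922)⟩],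
  .cy (nat_lit 0) [] [] [] (nat_lit 4275) [],
  .cy (nat_lit 8) [] [] [nat_lit 25, nat_lit 0, nat_lit 24, nat_lit 36, nat_lit 26] (nat_lit 2577) [⟨[nat_lit 106, nat_lit 102, nat_lit 100, nat_lit 106], [nat_lit 24, nat_lit 15, nat_lit 0, nat_lit 37, nat_lit 24, nat_lit 15], (nat_lit 213)⟩, ⟨[nat_lit 215], [nat_lit 10, nat_lit 10, nat_lit 0, nat_lit 18, nat_lit 11], (nat_lit 3944)⟩],
  .cy (nat_lit 0) [] [] [] (nat_lit 4277) [],
  .cy (nat_lit 8) [] [] [nat_lit 14, nat_lit 32, nat_lit 34] (nat_lit 2577) [⟨[nat_lit 90, nat_lit 106, nat_lit 90], [nat_lit 5, nat_lit 2, nat_lit 33, nat_lit 35, nat_lit 11, nat_lit 26], (nat_lit 199)⟩, ⟨[nat_lit 203], [nat_lit 10, nat_lit 10, nat_lit 0, nat_lit 26, nat_lit 34, nat_lit 11], (nat_lit 3928)⟩],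
  .cy (nat_lit 0) [] [] [] (nat_lit 4279) [],
  .cy (nat_lit 10) [] [] [nat_lit 5, nat_lit 2, nat_lit 0, nat_lit 15, nat_lit 17, nat_lit 11, nat_lit 27] (nat_lit 2577) [⟨[nat_lit 101, nat_lit 96, nat_lit 100, nat_lit 92], [nat_lit 11, nat_lit 2, nat_lit 0, nat_lit 24, nat_lit 18], (nat_lit 2576)⟩, ⟨[nat_lit 2591], [nat_lit 2, nat_lit 18, nat_lit 35, nat_lit 11, nat_lit 27], (nat_lit 4276)⟩],
  .cy (nat_lit 0) [] [] [] (nat_lit 4281) [],
  .cy (nat_lit 10) [] [] [nat_lit 17, nat_lit 24, nat_lit 0, nat_lit 24, nat_lit 36, nat_lit 16] (nat_lit 2577) [⟨[nat_lit 92, nat_lit 101, nat_lit 106, nat_lit 102, nat_lit 100], [nat_lit 17, nat_lit 24, nat_lit 0, nat_lit 37, nat_lit 24, nat_lit 11, nat_lit 26], (nat_lit 213)⟩, ⟨[nat_lit 217, nat_lit 215], [nat_lit 5, nat_lit 0, nat_lit 26], (nat_lit 3944)⟩],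
  .cy (nat_lit 0) [] [] [] (nat_lit 4283) [],
  .cy (nat_lit 25) [] [] [nat_lit 26, nat_lit 2, nat_lit 15, nat_lit 15, nat_lit 11] (nat_lit 2580) [⟨[nat_lit 201], [nat_lit 24, nat_lit 15, nat_lit 0, nat_lit 36, nat_lit 16, nat_lit 26], (nat_lit 3885)⟩, ⟨[nat_lit 3594, nat_lit 3587], [nat_lit 1, nat_lit 5, nat_lit 32, nat_lit 18, nat_lit 15, nat_lit 26], (nat_lit 3910)⟩],
  .cy (nat_lit 0) [] [] [] (nat_lit 4285) [],
  .cy (nat_lit 20) [] [] [nat_lit 24, nat_lit 2, nat_lit 0, nat_lit 25, nat_lit 27] (nat_lit 2582) [⟨[], [nat_lit 5, nat_lit 37, nat_lit 11], (nat_lit 331)⟩, ⟨[nat_lit 215], [nat_lit 16, nat_lit 2, nat_lit 26, nat_lit 17, nat_lit 15], (nat_lit 3986)⟩],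
  .cy (nat_lit 0) [] [] [] (nat_lit 4287) [],
  .cy (nat_lit 25) [] [] [nat_lit 2, nat_lit 26, nat_lit 34] (nat_lit 2582) [⟨[nat_lit 217, nat_lit 215], [nat_lit 11, nat_lit 5, nat_lit 2, nat_lit 33, nat_lit 24, nat_lit 11, nat_lit 26], (nat_lit 260)⟩, ⟨[], [nat_lit 26, nat_lit 2, nat_lit 33, nat_lit 33, nat_lit 26], (nat_lit 4248)⟩],
  .cy (nat_lit 0) [] [] [] (nat_lit 4289) [],
  .cy (nat_lit 1) [] [] [nat_lit 2, nat_lit 0, nat_lit 33, nat_lit 18, nat_lit 11, nat_lit 26] (nat_lit 2586) [⟨[], [nat_lit 5, nat_lit 16, nat_lit 2, nat_lit 17, nat_lit 15, nat_lit 11, nat_lit 26], (nat_lit 338)⟩, ⟨[nat_lit 215], [nat_lit 16, nat_lit 5, nat_lit 2, nat_lit 16, nat_lit 24], (nat_lit 3902)⟩],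
  .cy (nat_lit 0) [] [] [] (nat_lit 4291) [],
  .cy (nat_lit 2) [] [] [nat_lit 5, nat_lit 0, nat_lit 11, nat_lit 37, nat_lit 27] (nat_lit 2586) [⟨[], [nat_lit 10, nat_lit 10, nat_lit 0, nat_lit 17, nat_lit 36, nat_lit 15, nat_lit 26], (nat_lit 2608)⟩, ⟨[nat_lit 2592, nat_lit 2578, nat_lit 2579], [nat_lit 5, nat_lit 14, nat_lit 36, nat_lit 18, nat_lit 27], (nat_lit 4272)⟩],
  .cy (nat_lit 0) [] [] [] (nat_lit 4293) [],
  .cy (nat_lit 2) [] [] [nat_lit 26, nat_lit 24, nat_lit 0, nat_lit 33, nat_lit 16, nat_lit 26] (nat_lit 2586) [⟨[nat_lit 215], [nat_lit 1, nat_lit 24, nat_lit 0, nat_lit 33, nat_lit 33, nat_lit 27], (nat_lit 338)⟩, ⟨[nat_lit 215], [nat_lit 5, nat_lit 2, nat_lit 17, nat_lit 15, nat_lit 27], (nat_lit 3942)⟩],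
  .cy (nat_lit 0) [] [] [] (nat_lit 4295) [],
  .cy (nat_lit 6) [] [] [nat_lit 11, nat_lit 2, nat_lit 0, nat_lit 18, nat_lit 16, nat_lit 11] (nat_lit 2586) [⟨[nat_lit 215], [nat_lit 5, nat_lit 14, nat_lit 32, nat_lit 18, nat_lit 15, nat_lit 27], (nat_lit 2443)⟩, ⟨[nat_lit 215, nat_lit 217, nat_lit 215], [nat_lit 1, nat_lit 5, nat_lit 25, nat_lit 16, nat_lit 16], (nat_lit 4158)⟩],
  .cy (nat_lit 0) [] [] [] (nat_lit 4297) [],
  .cy (nat_lit 8) [] [] [nat_lit 5, nat_lit 0, nat_lit 34, nat_lit 24, nat_lit 17, nat_lit 27] (nat_lit 2586) [⟨[nat_lit 215], [nat_lit 16, nat_lit 5, nat_lit 2, nat_lit 33, nat_lit 33, nat_lit 11, nat_lit 27], (nat_lit 293)⟩, ⟨[nat_lit 130, nat_lit 122, nat_lit 155], [nat_lit 5, nat_lit 16, nat_lit 2, nat_lit 35, nat_lit 17, nat_lit 27], (nat_lit 3912)⟩],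
  .cy (nat_lit 0) [] [] [] (nat_lit 4299) [],
  .cy (nat_lit 9) [] [] [nat_lit 24, nat_lit 2, nat_lit 16, nat_lit 37, nat_lit 27] (nat_lit 2586) [⟨[nat_lit 215, nat_lit 217], [nat_lit 10, nat_lit 10, nat_lit 0, nat_lit 16, nat_lit 17, nat_lit 15, nat_lit 26], (nat_lit 846)⟩, ⟨[nat_lit 217], [nat_lit 17, nat_lit 2, nat_lit 0, nat_lit 33, nat_lit 35, nat_lit 11, nat_lit 26], (nat_lit 4240)⟩],
  .cy (nat_lit 0) [] [] [] (nat_lit 4301) [],
  .cy (nat_lit 10) [] [] [nat_lit 24, nat_lit 0, nat_lit 27, nat_lit 15] (nat_lit 2586) [⟨[nat_lit 215], [nat_lit 26, nat_lit 2, nat_lit 18, nat_lit 35, nat_lit 27], (nat_lit 1717)⟩, ⟨[nat_lit 217, nat_lit 215], [nat_lit 16, nat_lit 5, nat_lit 2, nat_lit 36, nat_lit 15, nat_lit 26], (nat_lit 4134)⟩],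
  .cy (nat_lit 0) [] [] [] (nat_lit 4303) [],
  .cy (nat_lit 10) [] [] [nat_lit 1, nat_lit 17, nat_lit 15, nat_lit 11, nat_lit 26] (nat_lit 2589) [⟨[nat_lit 2592, nat_lit 2578, nat_lit 2591, nat_lit 2578, nat_lit 2579, nat_lit 2578], [nat_lit 25, nat_lit 0, nat_lit 15, nat_lit 18], (nat_lit 2799)⟩, ⟨[nat_lit 215, nat_lit 217, nat_lit 215], [nat_lit 16, nat_lit 5, nat_lit 2, nat_lit 32, nat_lit 16], (nat_lit 4226)⟩],
  .cy (nat_lit 0) [] [] [] (nat_lit 4305) [],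
  .cy (nat_lit 4) [] [] [nat_lit 24, nat_lit 2, nat_lit 0, nat_lit 26, nat_lit 15] (nat_lit 2597) [⟨[nat_lit 165], [nat_lit 11, nat_lit 2, nat_lit 0, nat_lit 27, nat_lit 16], (nat_lit 296)⟩, ⟨[nat_lit 217, nat_lit 215], [nat_lit 24, nat_lit 37, nat_lit 17, nat_lit 27], (nat_lit 4074)⟩],
  .cy (nat_lit 0) [] [] [] (nat_lit 4307) [],
  .cy (nat_lit 8) [] [] [nat_lit 14, nat_lit 15, nat_lit 0, nat_lit 27, nat_lit 24, nat_lit 15] (nat_lit 2597) [⟨[nat_lit 165, nat_lit 176, nat_lit 162], [nat_lit 14, nat_lit 0, nat_lit 15, nat_lit 32, nat_lit 15], (nat_lit 230)⟩, ⟨[nat_lit 217], [nat_lit 11, nat_lit 5, nat_lit 2, nat_lit 37, nat_lit 32, nat_lit 27], (nat_lit 3992)⟩],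
  .cy (nat_lit 0) [] [] [] (nat_lit 4309) [],
  .cy (nat_lit 2) [] [] [nat_lit 16, nat_lit 2, nat_lit 32, nat_lit 24] (nat_lit 3073) [⟨[nat_lit 217], [nat_lit 1, nat_lit 14, nat_lit 32, nat_lit 34], (nat_lit 2264)⟩, ⟨[nat_lit 217], [nat_lit 5, nat_lit 2, nat_lit 24, nat_lit 17, nat_lit 11], (nat_lit 4044)⟩],
  .cy (nat_lit 0) [] [] [] (nat_lit 4311) [],
  .cy (nat_lit 3) [] [] [nat_lit 15, nat_lit 1, nat_lit 15, nat_lit 35, nat_lit 11] (nat_lit 3073) [⟨[nat_lit 215], [nat_lit 1, nat_lit 24, nat_lit 0, nat_lit 16, nat_lit 18, nat_lit 11, nat_lit 27], (nat_lit 2070)⟩, ⟨[nat_lit 215, nat_lit 217, nat_lit 215], [nat_lit 0, nat_lit 2, nat_lit 16, nat_lit 37, nat_lit 27], (nat_lit 4044)⟩],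
  .cy (nat_lit 0) [] [] [] (nat_lit 4313) [],
  .cy (nat_lit 4) [] [] [nat_lit 25, nat_lit 16, nat_lit 0, nat_lit 33, nat_lit 34, nat_lit 27] (nat_lit 3073) [⟨[], [nat_lit 10, nat_lit 10, nat_lit 0, nat_lit 26, nat_lit 16, nat_lit 26], (nat_lit 3006)⟩, ⟨[nat_lit 2592], [nat_lit 17, nat_lit 2, nat_lit 0, nat_lit 33, nat_lit 15], (nat_lit 4300)⟩],
  .cy (nat_lit 0) [] [] [] (nat_lit 4315) [],
  .cy (nat_lit 7) [] [] [nat_lit 25, nat_lit 2, nat_lit 0, nat_lit 35, nat_lit 33, nat_lit 11, nat_lit 26] (nat_lit 3073) [⟨[nat_lit 215], [nat_lit 14, nat_lit 0, nat_lit 24, nat_lit 37, nat_lit 11, nat_lit 27], (nat_lit 592)⟩, ⟨[nat_lit 217, nat_lit 215], [nat_lit 16, nat_lit 5, nat_lit 0, nat_lit 26, nat_lit 34, nat_lit 32, nat_lit 27], (nat_lit 3982)⟩],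
  .cy (nat_lit 0) [] [] [] (nat_lit 4317) [],
  .cy (nat_lit 8) [] [] [nat_lit 0, nat_lit 2, nat_lit 36, nat_lit 11, nat_lit 26] (nat_lit 3073) [⟨[nat_lit 215], [nat_lit 5, nat_lit 16, nat_lit 2, nat_lit 16, nat_lit 11, nat_lit 26], (nat_lit 2070)⟩, ⟨[], [nat_lit 16, nat_lit 2, nat_lit 37, nat_lit 18], (nat_lit 4042)⟩],
  .cy (nat_lit 0) [] [] [] (nat_lit 4319) [],
  .cy (nat_lit 20) [] [] [nat_lit 25, nat_lit 16, nat_lit 0, nat_lit 25, nat_lit 37, nat_lit 15, nat_lit 26] (nat_lit 3073) [⟨[], [nat_lit 2, nat_lit 32, nat_lit 35], (nat_lit 1476)⟩, ⟨[nat_lit 215], [nat_lit 24, nat_lit 15, nat_lit 0, nat_lit 24, nat_lit 18, nat_lit 18, nat_lit 27], (nat_lit 4222)⟩],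
  .cy (nat_lit 0) [] [] [] (nat_lit 4321) [],
  .cy (nat_lit 21) [] [] [nat_lit 24, nat_lit 16, nat_lit 0, nat_lit 33, nat_lit 16, nat_lit 26] (nat_lit 3073) [⟨[nat_lit 215], [nat_lit 10, nat_lit 10, nat_lit 0, nat_lit 25, nat_lit 16, nat_lit 16, nat_lit 27], (nat_lit 2258)⟩, ⟨[nat_lit 215, nat_lit 217], [nat_lit 25, nat_lit 16, nat_lit 0, nat_lit 27, nat_lit 15, nat_lit 11, nat_lit 26], (nat_lit 4264)⟩],
  .cy (nat_lit 0) [] [] [] (nat_lit 4323) [],
  .cy (nat_lit 21) [] [] [nat_lit 14, nat_lit 24, nat_lit 37, nat_lit 17, nat_lit 26] (nat_lit 3073) [⟨[], [nat_lit 17, nat_lit 24, nat_lit 0, nat_lit 26, nat_lit 34, nat_lit 27], (nat_lit 482)⟩, ⟨[nat_lit 215], [nat_lit 1, nat_lit 14, nat_lit 34, nat_lit 24, nat_lit 26], (nat_lit 4236)⟩],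
  .cy (nat_lit 0) [] [] [] (nat_lit 4325) [],
  .cy (nat_lit 1) [] [] [nat_lit 2, nat_lit 0, nat_lit 37, nat_lit 34] (nat_lit 3906) [⟨[], [nat_lit 10, nat_lit 10, nat_lit 0, nat_lit 25, nat_lit 37], (nat_lit 3949)⟩, ⟨[nat_lit 217], [nat_lit 5, nat_lit 15, nat_lit 15, nat_lit 11, nat_lit 26], (nat_lit 3950)⟩],
  .cy (nat_lit 0) [] [] [] (nat_lit 4327) [],
  .cy (nat_lit 8) [] [] [nat_lit 24, nat_lit 15, nat_lit 0, nat_lit 16, nat_lit 32, nat_lit 15, nat_lit 27] (nat_lit 3906) [⟨[], [nat_lit 15, nat_lit 5, nat_lit 37, nat_lit 34, nat_lit 11, nat_lit 26], (nat_lit 3941)⟩, ⟨[nat_lit 215], [nat_lit 10, nat_lit 10, nat_lit 0, nat_lit 37, nat_lit 15, nat_lit 11, nat_lit 26], (nat_lit 3948)⟩],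
  .cy (nat_lit 0) [] [] [] (nat_lit 4329) [],
  .cy (nat_lit 11) [] [] [nat_lit 15, nat_lit 5, nat_lit 26, nat_lit 34, nat_lit 26] (nat_lit 3906) [⟨[nat_lit 3915, nat_lit 3915, nat_lit 3898], [nat_lit 24, nat_lit 15, nat_lit 0, nat_lit 15, nat_lit 11, nat_lit 26], (nat_lit 3919)⟩, ⟨[nat_lit 175, nat_lit 164], [nat_lit 0, nat_lit 2, nat_lit 34, nat_lit 15], (nat_lit 3896)⟩],
  .cy (nat_lit 0) [] [] [] (nat_lit 4331) [],
  .cy (nat_lit 23) [] [] [nat_lit 24, nat_lit 15, nat_lit 0, nat_lit 37, nat_lit 37] (nat_lit 3816) [⟨[nat_lit 3622, nat_lit 3595, nat_lit 3621, nat_lit 3587], [nat_lit 5, nat_lit 16, nat_lit 2, nat_lit 24, nat_lit 33, nat_lit 15, nat_lit 26], (nat_lit 3851)⟩, ⟨[nat_lit 2578, nat_lit 2591, nat_lit 2578, nat_lit 2579, nat_lit 2578], [nat_lit 5, nat_lit 35, nat_lit 15, nat_lit 27], (nat_lit 4322)⟩],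
  .cy (nat_lit 0) [] [] [] (nat_lit 4333) [],
  .cy (nat_lit 11) [] [] [nat_lit 1, nat_lit 14, nat_lit 15, nat_lit 35, nat_lit 11, nat_lit 26] (nat_lit 2903) [⟨[nat_lit 215, nat_lit 217, nat_lit 215], [nat_lit 10, nat_lit 10, nat_lit 0, nat_lit 37, nat_lit 37, nat_lit 16, nat_lit 26], (nat_lit 1708)⟩, ⟨[], [nat_lit 1, nat_lit 33, nat_lit 24, nat_lit 11], (nat_lit 4254)⟩],
  .cy (nat_lit 0) [] [] [] (nat_lit 4335) [],
  .cy (nat_lit 21) [] [] [nat_lit 16, nat_lit 0, nat_lit 37, nat_lit 24, nat_lit 11, nat_lit 26] (nat_lit 2967) [⟨[nat_lit 217], [nat_lit 1, nat_lit 25, nat_lit 37, nat_lit 11], (nat_lit 324)⟩, ⟨[nat_lit 217], [nat_lit 1, nat_lit 34, nat_lit 16, nat_lit 26], (nat_lit 3992)⟩],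
  .cy (nat_lit 0) [] [] [] (nat_lit 4337) [],
  .cy (nat_lit 27) [] [] [nat_lit 5, nat_lit 14, nat_lit 11, nat_lit 17, nat_lit 27] (nat_lit 2967) [⟨[nat_lit 217, nat_lit 215], [nat_lit 25, nat_lit 14, nat_lit 0, nat_lit 16, nat_lit 18, nat_lit 26], (nat_lit 489)⟩, ⟨[nat_lit 215], [nat_lit 25, nat_lit 33, nat_lit 15], (nat_lit 4114)⟩],
  .cy (nat_lit 0) [] [] [] (nat_lit 4339) [],
  .cy (nat_lit 2) [] [] [nat_lit 24, nat_lit 2, nat_lit 33, nat_lit 35] (nat_lit 2921) [⟨[], [nat_lit 10, nat_lit 10, nat_lit 0, nat_lit 25, nat_lit 27], (nat_lit 659)⟩, ⟨[nat_lit 215, nat_lit 217, nat_lit 215], [nat_lit 18, nat_lit 15, nat_lit 0, nat_lit 11, nat_lit 36], (nat_lit 3948)⟩],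
  .cy (nat_lit 0) [] [] [] (nat_lit 4341) [],
  .cy (nat_lit 7) [] [] [nat_lit 10, nat_lit 10, nat_lit 0, nat_lit 37, nat_lit 11] (nat_lit 2929) [⟨[nat_lit 215], [nat_lit 26, nat_lit 2, nat_lit 0, nat_lit 25], (nat_lit 771)⟩, ⟨[nat_lit 215, nat_lit 217, nat_lit 215], [nat_lit 16, nat_lit 0, nat_lit 25, nat_lit 36, nat_lit 15, nat_lit 27], (nat_lit 4116)⟩],
  .cy (nat_lit 0) [] [] [] (nat_lit 4343) [],
  .cy (nat_lit 10) [] [] [nat_lit 25, nat_lit 1, nat_lit 37, nat_lit 18, nat_lit 27] (nat_lit 2821) [⟨[nat_lit 217, nat_lit 215], [nat_lit 2, nat_lit 0, nat_lit 15, nat_lit 17], (nat_lit 2752)⟩, ⟨[nat_lit 2592, nat_lit 2578, nat_lit 2591, nat_lit 2579, nat_lit 2578], [nat_lit 1, nat_lit 5, nat_lit 32, nat_lit 18, nat_lit 27], (nat_lit 4326)⟩],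
  .cy (nat_lit 0) [] [] [] (nat_lit 4345) [],
  .cy (nat_lit 8) [] [] [nat_lit 14, nat_lit 15, nat_lit 0, nat_lit 36, nat_lit 18, nat_lit 15, nat_lit 27] (nat_lit 3908) [⟨[nat_lit 3918, nat_lit 3915, nat_lit 3915, nat_lit 3898], [nat_lit 24, nat_lit 2, nat_lit 0, nat_lit 24, nat_lit 33, nat_lit 15, nat_lit 26], (nat_lit 4243)⟩, ⟨[nat_lit 215, nat_lit 217, nat_lit 215], [nat_lit 18, nat_lit 15, nat_lit 0, nat_lit 32, nat_lit 18, nat_lit 26], (nat_lit 3970)⟩],
  .cy (nat_lit 0) [] [] [] (nat_lit 4347) [],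
  .cy (nat_lit 11) [] [] [nat_lit 5, nat_lit 17, nat_lit 26] (nat_lit 2607) [⟨[], [nat_lit 5, nat_lit 2, nat_lit 0, nat_lit 25, nat_lit 35, nat_lit 27], (nat_lit 293)⟩, ⟨[nat_lit 120, nat_lit 155, nat_lit 155, nat_lit 122], [nat_lit 24, nat_lit 2, nat_lit 17, nat_lit 16, nat_lit 26], (nat_lit 3912)⟩],
  .cy (nat_lit 0) [] [] [] (nat_lit 4349) [],
  .cy (nat_lit 22) [] [] [nat_lit 15, nat_lit 1, nat_lit 34, nat_lit 16] (nat_lit 2751) [⟨[nat_lit 215, nat_lit 217, nat_lit 215], [nat_lit 18, nat_lit 15, nat_lit 0, nat_lit 26, nat_lit 15, nat_lit 26], (nat_lit 1114)⟩, ⟨[], [nat_lit 2, nat_lit 35, nat_lit 27, nat_lit 15, nat_lit 26], (nat_lit 4172)⟩]]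
noncomputable def P4429 : List Pf := [.cy (nat_lit 0) [] [] [] (nat_lit 4351) [],
  .cy (nat_lit 4) [] [] [nat_lit 15, nat_lit 2, nat_lit 36, nat_lit 18, nat_lit 15] (nat_lit 2953) [⟨[nat_lit 215, nat_lit 217], [nat_lit 25, nat_lit 0, nat_lit 36, nat_lit 33, nat_lit 24, nat_lit 27], (nat_lit 2045)⟩, ⟨[nat_lit 217, nat_lit 215], [nat_lit 24, nat_lit 2, nat_lit 27, nat_lit 15], (nat_lit 4196)⟩],
  .cy (nat_lit 0) [] [] [] (nat_lit 4353) [],
  .cy (nat_lit 8) [] [] [nat_lit 1, nat_lit 5, nat_lit 37, nat_lit 17, nat_lit 27] (nat_lit 3834) [⟨[nat_lit 3587, nat_lit 3621], [nat_lit 24, nat_lit 0, nat_lit 17, nat_lit 25, nat_lit 15, nat_lit 27], (nat_lit 3807)⟩, ⟨[nat_lit 215, nat_lit 217], [nat_lit 25, nat_lit 1, nat_lit 18, nat_lit 25], (nat_lit 4208)⟩],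
  .cy (nat_lit 0) [] [] [] (nat_lit 4355) [],
  .cy (nat_lit 1) [] [] [nat_lit 26, nat_lit 2, nat_lit 0, nat_lit 25, nat_lit 11] (nat_lit 3137) [⟨[nat_lit 217, nat_lit 215], [nat_lit 1, nat_lit 5, nat_lit 27, nat_lit 36, nat_lit 11, nat_lit 27], (nat_lit 3076)⟩, ⟨[nat_lit 2579, nat_lit 2578, nat_lit 2591, nat_lit 2578, nat_lit 2579], [nat_lit 24, nat_lit 2, nat_lit 27, nat_lit 24, nat_lit 11], (nat_lit 4334)⟩],
  .cy (nat_lit 0) [] [] [] (nat_lit 4357) [],
  .cy (nat_lit 8) [] [] [nat_lit 2, nat_lit 37, nat_lit 37, nat_lit 27] (nat_lit 3137) [⟨[nat_lit 217, nat_lit 215], [nat_lit 26, nat_lit 24, nat_lit 0, nat_lit 11, nat_lit 15, nat_lit 26], (nat_lit 2904)⟩, ⟨[nat_lit 2592, nat_lit 2578, nat_lit 2591, nat_lit 2579], [nat_lit 15, nat_lit 5, nat_lit 33, nat_lit 36], (nat_lit 4284)⟩],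
  .cy (nat_lit 0) [] [] [] (nat_lit 4359) [],
  .cy (nat_lit 22) [] [] [nat_lit 25, nat_lit 0, nat_lit 17, nat_lit 37, nat_lit 26] (nat_lit 3380) [⟨[], [nat_lit 25, nat_lit 14, nat_lit 0, nat_lit 25, nat_lit 37, nat_lit 27], (nat_lit 1200)⟩, ⟨[nat_lit 215, nat_lit 217, nat_lit 215], [nat_lit 15, nat_lit 5, nat_lit 37, nat_lit 17], (nat_lit 4050)⟩],
  .cy (nat_lit 0) [] [] [] (nat_lit 4361) [],
  .cy (nat_lit 10) [] [] [nat_lit 10, nat_lit 0, nat_lit 16, nat_lit 18, nat_lit 26] (nat_lit 3180) [⟨[], [nat_lit 15, nat_lit 5, nat_lit 11], (nat_lit 344)⟩, ⟨[nat_lit 215, nat_lit 217, nat_lit 215], [nat_lit 1, nat_lit 1, nat_lit 33, nat_lit 11, nat_lit 27], (nat_lit 4046)⟩],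
  .cy (nat_lit 0) [] [] [] (nat_lit 4363) [],
  .cy (nat_lit 21) [] [] [nat_lit 25, nat_lit 14, nat_lit 0, nat_lit 36, nat_lit 25, nat_lit 26] (nat_lit 3390) [⟨[nat_lit 215], [nat_lit 5, nat_lit 0, nat_lit 17, nat_lit 33, nat_lit 26], (nat_lit 1433)⟩, ⟨[nat_lit 215, nat_lit 217], [nat_lit 14, nat_lit 24, nat_lit 33, nat_lit 15, nat_lit 26], (nat_lit 4094)⟩],
  .cy (nat_lit 0) [] [] [] (nat_lit 4365) [],
  .cy (nat_lit 22) [] [] [nat_lit 5, nat_lit 16, nat_lit 2, nat_lit 37, nat_lit 11, nat_lit 17] (nat_lit 3386) [⟨[nat_lit 215], [nat_lit 17, nat_lit 24, nat_lit 0, nat_lit 11, nat_lit 18, nat_lit 26], (nat_lit 3006)⟩, ⟨[nat_lit 2579, nat_lit 2592, nat_lit 2578, nat_lit 2591], [nat_lit 14, nat_lit 0, nat_lit 17, nat_lit 34], (nat_lit 4316)⟩],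
  .cy (nat_lit 0) [] [] [] (nat_lit 4367) [],
  .cy (nat_lit 27) [] [] [nat_lit 5, nat_lit 18, nat_lit 26] (nat_lit 3196) [⟨[nat_lit 215], [nat_lit 25, nat_lit 1, nat_lit 24, nat_lit 16, nat_lit 27], (nat_lit 2204)⟩, ⟨[nat_lit 215, nat_lit 217, nat_lit 215], [nat_lit 17, nat_lit 2, nat_lit 0, nat_lit 26, nat_lit 24, nat_lit 26], (nat_lit 4162)⟩],
  .cy (nat_lit 0) [] [] [] (nat_lit 4369) [],
  .cy (nat_lit 2) [] [] [nat_lit 5, nat_lit 2, nat_lit 0, nat_lit 35, nat_lit 17, nat_lit 27] (nat_lit 3314) [⟨[nat_lit 215], [nat_lit 16, nat_lit 0, nat_lit 32, nat_lit 16], (nat_lit 1061)⟩, ⟨[nat_lit 217, nat_lit 215], [nat_lit 26, nat_lit 24, nat_lit 0, nat_lit 37, nat_lit 34, nat_lit 11], (nat_lit 4048)⟩],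
  .cy (nat_lit 0) [] [] [] (nat_lit 4371) [],
  .cy (nat_lit 8) [] [] [nat_lit 14, nat_lit 0, nat_lit 24, nat_lit 18, nat_lit 16, nat_lit 27] (nat_lit 3446) [⟨[nat_lit 215], [nat_lit 1, nat_lit 5, nat_lit 15, nat_lit 18, nat_lit 16, nat_lit 26], (nat_lit 1504)⟩, ⟨[nat_lit 217, nat_lit 215], [nat_lit 26, nat_lit 24, nat_lit 0, nat_lit 35, nat_lit 32, nat_lit 11], (nat_lit 4070)⟩],
  .cy (nat_lit 0) [] [] [] (nat_lit 4373) [],
  .cy (nat_lit 24) [] [] [nat_lit 26, nat_lit 24, nat_lit 0, nat_lit 32, nat_lit 34, nat_lit 27] (nat_lit 3586) [⟨[], [nat_lit 1, nat_lit 1, nat_lit 24, nat_lit 37, nat_lit 11, nat_lit 26], (nat_lit 867)⟩, ⟨[nat_lit 215], [nat_lit 14, nat_lit 0, nat_lit 33, nat_lit 35, nat_lit 26], (nat_lit 4072)⟩],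
  .cy (nat_lit 0) [] [] [] (nat_lit 4375) [],
  .cy (nat_lit 20) [] [] [nat_lit 15, nat_lit 0, nat_lit 15, nat_lit 24, nat_lit 11] (nat_lit 3596) [⟨[nat_lit 522, nat_lit 206, nat_lit 523], [nat_lit 1, nat_lit 5, nat_lit 34, nat_lit 16, nat_lit 11, nat_lit 27], (nat_lit 2604)⟩, ⟨[nat_lit 2592, nat_lit 2578, nat_lit 2579, nat_lit 2578], [nat_lit 10, nat_lit 10, nat_lit 0, nat_lit 15, nat_lit 35, nat_lit 26], (nat_lit 4280)⟩],
  .cy (nat_lit 0) [] [] [] (nat_lit 4377) [],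
  .cy (nat_lit 15) [] [] [nat_lit 16, nat_lit 5, nat_lit 2, nat_lit 27, nat_lit 15, nat_lit 11] (nat_lit 3598) [⟨[nat_lit 215, nat_lit 217], [nat_lit 5, nat_lit 14, nat_lit 35, nat_lit 33, nat_lit 11, nat_lit 27], (nat_lit 2614)⟩, ⟨[nat_lit 2591, nat_lit 2579, nat_lit 2578, nat_lit 2591], [nat_lit 14, nat_lit 18, nat_lit 36, nat_lit 26], (nat_lit 2619)⟩, ⟨[], [nat_lit 1, nat_lit 24, nat_lit 0, nat_lit 37, nat_lit 32, nat_lit 11, nat_lit 26], (nat_lit 322)⟩, ⟨[], [nat_lit 18, nat_lit 15, nat_lit 0, nat_lit 34, nat_lit 32, nat_lit 26], (nat_lit 372)⟩, ⟨[], [nat_lit 26, nat_lit 2, nat_lit 0, nat_lit 17, nat_lit 16], (nat_lit 371)⟩, ⟨[], [nat_lit 16, nat_lit 5, nat_lit 2, nat_lit 17, nat_lit 36], (nat_lit 3990)⟩],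
  .cy (nat_lit 0) [] [] [] (nat_lit 4379) [],
  .cy (nat_lit 10) [] [] [nat_lit 5, nat_lit 27, nat_lit 15, nat_lit 26] (nat_lit 3606) [⟨[nat_lit 217], [nat_lit 1, nat_lit 24, nat_lit 0, nat_lit 36, nat_lit 27], (nat_lit 642)⟩, ⟨[nat_lit 215, nat_lit 217], [nat_lit 1, nat_lit 5, nat_lit 37, nat_lit 15, nat_lit 11], (nat_lit 3962)⟩],
  .cy (nat_lit 0) [] [] [] (nat_lit 4381) [],
  .cy (nat_lit 4) [] [] [nat_lit 15, nat_lit 2, nat_lit 37, nat_lit 32, nat_lit 11, nat_lit 27] (nat_lit 3897) [⟨[nat_lit 179, nat_lit 176, nat_lit 167], [nat_lit 2, nat_lit 32, nat_lit 24, nat_lit 11, nat_lit 26], (nat_lit 232)⟩, ⟨[], [nat_lit 15, nat_lit 2, nat_lit 26, nat_lit 15, nat_lit 15, nat_lit 26], (nat_lit 3952)⟩],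
  .cy (nat_lit 0) [] [] [] (nat_lit 4383) [],
  .cy (nat_lit 5) [] [] [nat_lit 5, nat_lit 2, nat_lit 18, nat_lit 15] (nat_lit 3897) [⟨[nat_lit 178, nat_lit 164], [nat_lit 15, nat_lit 1, nat_lit 17, nat_lit 34, nat_lit 15], (nat_lit 2600)⟩, ⟨[nat_lit 2578, nat_lit 2579, nat_lit 2592, nat_lit 2579], [nat_lit 26, nat_lit 2, nat_lit 0, nat_lit 16, nat_lit 16, nat_lit 11], (nat_lit 4322)⟩],
  .cy (nat_lit 0) [] [] [] (nat_lit 4385) [],
  .cy (nat_lit 2) [] [] [nat_lit 35, nat_lit 33, nat_lit 11] (nat_lit 3901) [⟨[], [nat_lit 5, nat_lit 2, nat_lit 35, nat_lit 15, nat_lit 26], (nat_lit 368)⟩, ⟨[nat_lit 206, nat_lit 203, nat_lit 208], [nat_lit 5, nat_lit 16, nat_lit 2, nat_lit 32, nat_lit 16], (nat_lit 3932)⟩],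
  .cy (nat_lit 8) [] [] [nat_lit 15, nat_lit 5, nat_lit 24, nat_lit 35] (nat_lit 3901) [⟨[], [nat_lit 5, nat_lit 14, nat_lit 25, nat_lit 35, nat_lit 26], (nat_lit 368)⟩, ⟨[nat_lit 208, nat_lit 201, nat_lit 522, nat_lit 203], [nat_lit 1, nat_lit 5, nat_lit 24, nat_lit 37, nat_lit 11], (nat_lit 3938)⟩],
  .cy (nat_lit 0) [] [] [] (nat_lit 4388) [],
  .cy (nat_lit 10) [] [] [nat_lit 5, nat_lit 35, nat_lit 27] (nat_lit 3901) [⟨[], [nat_lit 17, nat_lit 24, nat_lit 26], (nat_lit 399)⟩, ⟨[nat_lit 217], [nat_lit 0, nat_lit 24, nat_lit 37, nat_lit 27], (nat_lit 4178)⟩],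
  .cy (nat_lit 0) [] [] [] (nat_lit 4390) [],
  .cy (nat_lit 25) [] [] [nat_lit 1, nat_lit 5, nat_lit 26, nat_lit 24] (nat_lit 3905) [⟨[], [nat_lit 26, nat_lit 2, nat_lit 26, nat_lit 36, nat_lit 27], (nat_lit 2589)⟩, ⟨[], [nat_lit 10, nat_lit 10, nat_lit 0, nat_lit 16, nat_lit 25], (nat_lit 4288)⟩],
  .cy (nat_lit 0) [] [] [] (nat_lit 4392) [],
  .cy (nat_lit 8) [] [] [nat_lit 26, nat_lit 2, nat_lit 17, nat_lit 17, nat_lit 11, nat_lit 27] (nat_lit 3903) [⟨[nat_lit 215, nat_lit 217, nat_lit 215], [nat_lit 26, nat_lit 2, nat_lit 33, nat_lit 15, nat_lit 26], (nat_lit 1733)⟩, ⟨[nat_lit 215, nat_lit 217], [nat_lit 14, nat_lit 15, nat_lit 0, nat_lit 24, nat_lit 17, nat_lit 27], (nat_lit 4190)⟩],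
  .cy (nat_lit 14) [] [] [nat_lit 38] (nat_lit 3100) [⟨[nat_lit 2592, nat_lit 2578, nat_lit 2579, nat_lit 2592], [nat_lit 25, nat_lit 14, nat_lit 0, nat_lit 34, nat_lit 27], (nat_lit 4322)⟩],
  .cy (nat_lit 0) [] [] [] (nat_lit 4395) [],
  .ki (nat_lit 3),
  .ki (nat_lit 4),
  .ki (nat_lit 5),
  .ki (nat_lit 6),
  .ki (nat_lit 0),
  .ki (nat_lit 2),
  .ki (nat_lit 1),
  .ss (nat_lit 1) [] [nat_lit 106, nat_lit 106],
  .ss (nat_lit 1) [] [nat_lit 100, nat_lit 106, nat_lit 100, nat_lit 100],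
  .ss (nat_lit 1) [] [nat_lit 100, nat_lit 106, nat_lit 106, nat_lit 100, nat_lit 106],
  .ss (nat_lit 2) [] [nat_lit 134, nat_lit 134],
  .ss (nat_lit 2) [] [nat_lit 153, nat_lit 153, nat_lit 134, nat_lit 134, nat_lit 134],
  .ss (nat_lit 2) [] [nat_lit 153, nat_lit 134, nat_lit 153],
  .ss (nat_lit 3) [] [nat_lit 175, nat_lit 178, nat_lit 178, nat_lit 175, nat_lit 175, nat_lit 178],
  .ss (nat_lit 3) [] [nat_lit 161, nat_lit 178, nat_lit 178, nat_lit 178],
  .ss (nat_lit 3) [] [nat_lit 161, nat_lit 178],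
  .ss (nat_lit 3) [] [nat_lit 161, nat_lit 175, nat_lit 161, nat_lit 175],
  .ss (nat_lit 4) [] [nat_lit 203, nat_lit 203, nat_lit 522, nat_lit 522, nat_lit 522],
  .ss (nat_lit 4) [] [nat_lit 522, nat_lit 203, nat_lit 522, nat_lit 203],
  .ss (nat_lit 4) [] [nat_lit 203, nat_lit 522, nat_lit 203, nat_lit 522],
  .ss (nat_lit 4) [] [nat_lit 522, nat_lit 203, nat_lit 203, nat_lit 203, nat_lit 522],
  .ss (nat_lit 4) [] [nat_lit 203, nat_lit 522, nat_lit 203, nat_lit 522, nat_lit 203, nat_lit 522],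
  .ss (nat_lit 6) [] [nat_lit 2591, nat_lit 2578, nat_lit 2591, nat_lit 2591],
  .ss (nat_lit 6) [] [nat_lit 2591, nat_lit 2578, nat_lit 2578, nat_lit 2578, nat_lit 2578, nat_lit 2578],
  .ss (nat_lit 7) [] [nat_lit 3116, nat_lit 3116, nat_lit 3116, nat_lit 3116, nat_lit 3116, nat_lit 3116],
  .ss (nat_lit 7) [] [nat_lit 3119, nat_lit 3119, nat_lit 3119, nat_lit 3116],
  .ss (nat_lit 8) [] [nat_lit 3133, nat_lit 3140, nat_lit 3140, nat_lit 3140, nat_lit 3133],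
  .ss (nat_lit 9) [] [nat_lit 3587, nat_lit 3621, nat_lit 3621, nat_lit 3621, nat_lit 3587, nat_lit 3587],
  .ss (nat_lit 9) [] [nat_lit 3587, nat_lit 3621, nat_lit 3621, nat_lit 3587, nat_lit 3587],
  .ss (nat_lit 9) [] [nat_lit 3587, nat_lit 3621, nat_lit 3621, nat_lit 3621, nat_lit 3587],
  .ss (nat_lit 10) [] [nat_lit 3914, nat_lit 3917, nat_lit 3917],
  .ss (nat_lit 10) [] [nat_lit 3914, nat_lit 3898, nat_lit 3914]]
noncomputable def Rt : List (List ℕ) := [[nat_lit 0, nat_lit 2, nat_lit 9, nat_lit 9],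
  [nat_lit 0, nat_lit 9, nat_lit 0, nat_lit 10],
  [nat_lit 2, nat_lit 9, nat_lit 2, nat_lit 10],
  [nat_lit 4, nat_lit 9, nat_lit 4, nat_lit 10],
  [nat_lit 9, nat_lit 3, nat_lit 10, nat_lit 4, nat_lit 3, nat_lit 9, nat_lit 3, nat_lit 10, nat_lit 4, nat_lit 3],
  [nat_lit 4, nat_lit 1, nat_lit 2, nat_lit 0, nat_lit 1, nat_lit 9, nat_lit 1, nat_lit 0, nat_lit 2, nat_lit 1, nat_lit 10],
  [nat_lit 10, nat_lit 4, nat_lit 1, nat_lit 0, nat_lit 2, nat_lit 1, nat_lit 3, nat_lit 10, nat_lit 3, nat_lit 4, nat_lit 2, nat_lit 1, nat_lit 2, nat_lit 0, nat_lit 1, nat_lit 3, nat_lit 9, nat_lit 3, nat_lit 1, nat_lit 0, nat_lit 2, nat_lit 1, nat_lit 3, nat_lit 10, nat_lit 3],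
  [nat_lit 5, nat_lit 9, nat_lit 5, nat_lit 10],
  [nat_lit 7, nat_lit 7, nat_lit 9, nat_lit 8, nat_lit 8, nat_lit 4, nat_lit 7, nat_lit 7, nat_lit 10, nat_lit 8, nat_lit 8, nat_lit 4],
  [nat_lit 10, nat_lit 8, nat_lit 10, nat_lit 8, nat_lit 10, nat_lit 8, nat_lit 2, nat_lit 0],
  [nat_lit 9, nat_lit 7, nat_lit 10, nat_lit 8, nat_lit 9, nat_lit 7, nat_lit 10, nat_lit 8, nat_lit 9, nat_lit 7, nat_lit 10, nat_lit 8, nat_lit 9, nat_lit 7, nat_lit 10, nat_lit 8, nat_lit 2, nat_lit 0],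
  [nat_lit 0, nat_lit 2, nat_lit 3, nat_lit 2, nat_lit 3, nat_lit 8, nat_lit 4, nat_lit 3, nat_lit 2, nat_lit 3, nat_lit 4, nat_lit 7, nat_lit 7, nat_lit 7, nat_lit 4, nat_lit 3, nat_lit 2, nat_lit 3, nat_lit 4, nat_lit 9, nat_lit 8, nat_lit 8, nat_lit 3, nat_lit 7, nat_lit 7, nat_lit 9, nat_lit 8, nat_lit 8, nat_lit 3, nat_lit 7, nat_lit 7, nat_lit 9, nat_lit 8, nat_lit 8, nat_lit 3, nat_lit 7, nat_lit 7, nat_lit 9, nat_lit 8, nat_lit 8, nat_lit 3]]
noncomputable def dt : Dt := ⟨(nat_lit 40), (nat_lit 12), (nat_lit 629), (nat_lit 1023), (nat_lit 9), C, [nat_lit 0, nat_lit 1, nat_lit 2, nat_lit 3, nat_lit 4, nat_lit 6, nat_lit 5, nat_lit 8, nat_lit 7, nat_lit 10], Rt, [[nat_lit 0],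
  [nat_lit 1],
  [nat_lit 2],
  [nat_lit 3],
  [nat_lit 4],
  [nat_lit 5],
  [nat_lit 6],
  [nat_lit 7],
  [nat_lit 8]], D, R, F⟩
noncomputable def PL : List ℕ := [nat_lit 0, nat_lit 1, nat_lit 2, nat_lit 3, nat_lit 4, nat_lit 5, nat_lit 6, nat_lit 7, nat_lit 8, nat_lit 9, nat_lit 10]
noncomputable def aL : List (List ℕ) := [[nat_lit 0, nat_lit 17199, nat_lit 0, nat_lit 0, nat_lit 0, nat_lit 0, nat_lit 0, nat_lit 0, nat_lit 0, nat_lit 0, nat_lit 0],
  [nat_lit 1, nat_lit 78, nat_lit 480, nat_lit 2304, nat_lit 2048, nat_lit 6144, nat_lit 6144, nat_lit 0, nat_lit 0, nat_lit 0, nat_lit 0],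
  [nat_lit 0, nat_lit 180, nat_lit 27, nat_lit 864, nat_lit 0, nat_lit 6912, nat_lit 0, nat_lit 0, nat_lit 0, nat_lit 2304, nat_lit 6912],
  [nat_lit 0, nat_lit 18, nat_lit 18, nat_lit 363, nat_lit 144, nat_lit 12672, nat_lit 1584, nat_lit 48, nat_lit 624, nat_lit 432, nat_lit 1296],
  [nat_lit 0, nat_lit 27, nat_lit 0, nat_lit 243, nat_lit 81, nat_lit 12312, nat_lit 810, nat_lit 0, nat_lit 486, nat_lit 810, nat_lit 2430],
  [nat_lit 0, nat_lit 1, nat_lit 3, nat_lit 264, nat_lit 152, nat_lit 12799, nat_lit 1364, nat_lit 24, nat_lit 1068, nat_lit 588, nat_lit 936],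
  [nat_lit 0, nat_lit 9, nat_lit 0, nat_lit 297, nat_lit 90, nat_lit 12276, nat_lit 549, nat_lit 0, nat_lit 918, nat_lit 1170, nat_lit 1890],
  [nat_lit 0, nat_lit 0, nat_lit 0, nat_lit 588, nat_lit 0, nat_lit 14112, nat_lit 0, nat_lit 147, nat_lit 2352, nat_lit 0, nat_lit 0],
  [nat_lit 0, nat_lit 0, nat_lit 0, nat_lit 156, nat_lit 72, nat_lit 12816, nat_lit 1224, nat_lit 48, nat_lit 1587, nat_lit 648, nat_lit 648],
  [nat_lit 0, nat_lit 0, nat_lit 21, nat_lit 189, nat_lit 210, nat_lit 12348, nat_lit 2730, nat_lit 0, nat_lit 1134, nat_lit 189, nat_lit 378],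
  [nat_lit 0, nat_lit 0, nat_lit 39, nat_lit 351, nat_lit 390, nat_lit 12168, nat_lit 2730, nat_lit 0, nat_lit 702, nat_lit 234, nat_lit 585]]
noncomputable def S0 : List (ℕ × List ℕ) := [((nat_lit 59), [nat_lit 4]), ((nat_lit 84), [nat_lit 7]), ((nat_lit 70), [nat_lit 3, nat_lit 2, nat_lit 1])]
noncomputable def S1 : List (ℕ × List ℕ) := [((nat_lit 4404), [nat_lit 6]), ((nat_lit 106), [nat_lit 5, nat_lit 1, nat_lit 0, nat_lit 2, nat_lit 1, nat_lit 0, nat_lit 2]), ((nat_lit 4405), [nat_lit 5, nat_lit 3, nat_lit 8, nat_lit 8, nat_lit 4, nat_lit 3, nat_lit 2, nat_lit 4, nat_lit 7, nat_lit 3, nat_lit 4, nat_lit 8]), ((nat_lit 4406), [nat_lit 6, nat_lit 8, nat_lit 6, nat_lit 4, nat_lit 7, nat_lit 4, nat_lit 3, nat_lit 2, nat_lit 3, nat_lit 4, nat_lit 7, nat_lit 6, nat_lit 2])]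
noncomputable def S2 : List (ℕ × List ℕ) := [((nat_lit 4407), [nat_lit 2, nat_lit 5, nat_lit 4, nat_lit 3, nat_lit 2, nat_lit 4, nat_lit 3]), ((nat_lit 4408), [nat_lit 6, nat_lit 8, nat_lit 4, nat_lit 8, nat_lit 3, nat_lit 4, nat_lit 2, nat_lit 3, nat_lit 6, nat_lit 8, nat_lit 4, nat_lit 3, nat_lit 8]), ((nat_lit 4409), [nat_lit 6, nat_lit 8, nat_lit 5, nat_lit 8, nat_lit 4, nat_lit 8, nat_lit 3, nat_lit 2, nat_lit 4, nat_lit 8, nat_lit 3, nat_lit 2, nat_lit 7])]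
noncomputable def S3 : List (ℕ × List ℕ) := [((nat_lit 4410), [nat_lit 8, nat_lit 1, nat_lit 0, nat_lit 2, nat_lit 1, nat_lit 4, nat_lit 7]), ((nat_lit 161), [nat_lit 7, nat_lit 4, nat_lit 8, nat_lit 1, nat_lit 0, nat_lit 2, nat_lit 1, nat_lit 0, nat_lit 2]), ((nat_lit 4411), [nat_lit 5, nat_lit 8, nat_lit 4, nat_lit 7, nat_lit 6, nat_lit 1, nat_lit 0, nat_lit 2, nat_lit 1]), ((nat_lit 4412), [nat_lit 6, nat_lit 2, nat_lit 1, nat_lit 3, nat_lit 2, nat_lit 1, nat_lit 3, nat_lit 2, nat_lit 3, nat_lit 4, nat_lit 8, nat_lit 4, nat_lit 3, nat_lit 2, nat_lit 3, nat_lit 1, nat_lit 2, nat_lit 7, nat_lit 3, nat_lit 8, nat_lit 4]), ((nat_lit 4413), [nat_lit 1, nat_lit 3, nat_lit 2, nat_lit 1, nat_lit 3, nat_lit 4, nat_lit 7, nat_lit 4, nat_lit 0, nat_lit 2, nat_lit 1, nat_lit 3, nat_lit 2, nat_lit 3, nat_lit 4, nat_lit 8, nat_lit 1, nat_lit 3, nat_lit 4, nat_lit 2, nat_lit 3, nat_lit 0, nat_lit 1, nat_lit 2, nat_lit 3, nat_lit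 0, nat_lit 2, nat_lit 4])]
noncomputable def S4 : List (ℕ × List ℕ) := [((nat_lit 4414), [nat_lit 6]), ((nat_lit 4415), [nat_lit 6, nat_lit 4, nat_lit 0, nat_lit 1, nat_lit 2, nat_lit 3, nat_lit 2, nat_lit 3, nat_lit 2, nat_lit 4]), ((nat_lit 4416), [nat_lit 6, nat_lit 1, nat_lit 2, nat_lit 1, nat_lit 3, nat_lit 2, nat_lit 4, nat_lit 1, nat_lit 3, nat_lit 2, nat_lit 1, nat_lit 3]), ((nat_lit 4417), [nat_lit 0, nat_lit 4, nat_lit 1, nat_lit 2, nat_lit 3, nat_lit 2, nat_lit 1, nat_lit 0, nat_lit 3, nat_lit 2, nat_lit 1, nat_lit 0]), ((nat_lit 4418), [nat_lit 1, nat_lit 2, nat_lit 3, nat_lit 8, nat_lit 4, nat_lit 3, nat_lit 2, nat_lit 7, nat_lit 7, nat_lit 2, nat_lit 3, nat_lit 2, nat_lit 3, nat_lit 2, nat_lit 4, nat_lit 7, nat_lit 3, nat_lit 2, nat_lit 1])]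
noncomputable def S5 : List (ℕ × List ℕ) := [((nat_lit 215), [nat_lit 4, nat_lit 3, nat_lit 2, nat_lit 1, nat_lit 3, nat_lit 4, nat_lit 2, nat_lit 3, nat_lit 0, nat_lit 1, nat_lit 2, nat_lit 3, nat_lit 1, nat_lit 4, nat_lit 1]), ((nat_lit 217), [nat_lit 1, nat_lit 6, nat_lit 2, nat_lit 0, nat_lit 5, nat_lit 1, nat_lit 2, nat_lit 3, nat_lit 2, nat_lit 1, nat_lit 3, nat_lit 4, nat_lit 2, nat_lit 3, nat_lit 0, nat_lit 1, nat_lit 2, nat_lit 3, nat_lit 2, nat_lit 1, nat_lit 0, nat_lit 2, nat_lit 1])]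
noncomputable def S6 : List (ℕ × List ℕ) := [((nat_lit 4419), [nat_lit 1, nat_lit 0, nat_lit 2, nat_lit 4, nat_lit 1]), ((nat_lit 2578), [nat_lit 2, nat_lit 3, nat_lit 0, nat_lit 2, nat_lit 3, nat_lit 2, nat_lit 1, nat_lit 0, nat_lit 2, nat_lit 3, nat_lit 1, nat_lit 2, nat_lit 4, nat_lit 3, nat_lit 2, nat_lit 1, nat_lit 4, nat_lit 0, nat_lit 3, nat_lit 2, nat_lit 1]), ((nat_lit 4420), [nat_lit 5, nat_lit 8, nat_lit 2, nat_lit 3, nat_lit 4, nat_lit 3, nat_lit 2, nat_lit 5, nat_lit 7, nat_lit 0, nat_lit 1, nat_lit 4, nat_lit 0, nat_lit 3, nat_lit 2, nat_lit 4, nat_lit 7, nat_lit 1, nat_lit 3, nat_lit 2, nat_lit 1, nat_lit 0, nat_lit 3, nat_lit 2, nat_lit 8, nat_lit 6, nat_lit 8])]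
noncomputable def S7 : List (ℕ × List ℕ) := [((nat_lit 4421), [nat_lit 1, nat_lit 0, nat_lit 2, nat_lit 4, nat_lit 1]), ((nat_lit 3119), [nat_lit 1, nat_lit 8, nat_lit 2, nat_lit 3, nat_lit 8, nat_lit 8, nat_lit 4, nat_lit 3, nat_lit 2, nat_lit 7, nat_lit 5, nat_lit 8, nat_lit 1, nat_lit 3, nat_lit 2, nat_lit 4, nat_lit 3, nat_lit 2, nat_lit 4, nat_lit 8, nat_lit 3, nat_lit 1, nat_lit 0, nat_lit 1, nat_lit 2, nat_lit 1]), ((nat_lit 4422), [nat_lit 0, nat_lit 5, nat_lit 1, nat_lit 2, nat_lit 3, nat_lit 4, nat_lit 3, nat_lit 2, nat_lit 7, nat_lit 1, nat_lit 3, nat_lit 2, nat_lit 3, nat_lit 4, nat_lit 8, nat_lit 4, nat_lit 3, nat_lit 2, nat_lit 3, nat_lit 1, nat_lit 0, nat_lit 1, nat_lit 4, nat_lit 8, nat_lit 0, nat_lit 3, nat_lit 4, nat_lit 7, nat_lit 5, nat_lit 0])]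
noncomputable def S8 : List (ℕ × List ℕ) := [((nat_lit 4423), [nat_lit 3, nat_lit 2, nat_lit 5, nat_lit 4, nat_lit 7, nat_lit 4, nat_lit 3, nat_lit 2, nat_lit 4, nat_lit 7, nat_lit 3, nat_lit 2, nat_lit 3, nat_lit 4, nat_lit 7, nat_lit 3, nat_lit 2, nat_lit 4, nat_lit 3, nat_lit 4]), ((nat_lit 3140), [nat_lit 4, nat_lit 3, nat_lit 8, nat_lit 3, nat_lit 4, nat_lit 3, nat_lit 2, nat_lit 7, nat_lit 6, nat_lit 1, nat_lit 3, nat_lit 2, nat_lit 4, nat_lit 3, nat_lit 2, nat_lit 4, nat_lit 3, nat_lit 1, nat_lit 2, nat_lit 3, nat_lit 2, nat_lit 1])]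
noncomputable def S9 : List (ℕ × List ℕ) := [((nat_lit 4424), [nat_lit 8, nat_lit 5, nat_lit 8, nat_lit 3, nat_lit 2, nat_lit 3, nat_lit 4, nat_lit 3, nat_lit 2, nat_lit 7, nat_lit 6, nat_lit 3, nat_lit 4, nat_lit 7, nat_lit 3, nat_lit 2, nat_lit 4, nat_lit 3]), ((nat_lit 4425), [nat_lit 8, nat_lit 8, nat_lit 4, nat_lit 7, nat_lit 4, nat_lit 3, nat_lit 2, nat_lit 3, nat_lit 4, nat_lit 3, nat_lit 2, nat_lit 7, nat_lit 6, nat_lit 3, nat_lit 4, nat_lit 7, nat_lit 4, nat_lit 7]), ((nat_lit 4426), [nat_lit 1, nat_lit 4, nat_lit 2, nat_lit 0, nat_lit 1, nat_lit 8, nat_lit 4, nat_lit 0, nat_lit 3, nat_lit 2, nat_lit 4, nat_lit 8, nat_lit 3, nat_lit 2, nat_lit 4, nat_lit 7, nat_lit 3, nat_lit 8, nat_lit 0])]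
noncomputable def S10 : List (ℕ × List ℕ) := [((nat_lit 4427), [nat_lit 7, nat_lit 0, nat_lit 1, nat_lit 4, nat_lit 0, nat_lit 2, nat_lit 1, nat_lit 3, nat_lit 2, nat_lit 4, nat_lit 8, nat_lit 4, nat_lit 3, nat_lit 2, nat_lit 1, nat_lit 3, nat_lit 4, nat_lit 7, nat_lit 6, nat_lit 0]), ((nat_lit 4428), [nat_lit 0, nat_lit 2, nat_lit 3, nat_lit 2, nat_lit 1, nat_lit 0, nat_lit 3, nat_lit 2, nat_lit 1, nat_lit 0, nat_lit 3, nat_lit 2, nat_lit 4, nat_lit 3, nat_lit 2, nat_lit 1, nat_lit 4, nat_lit 0, nat_lit 3, nat_lit 2, nat_lit 1])]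
noncomputable def KG : List (ℕ × List ℕ) := [((nat_lit 3), [nat_lit 0]), ((nat_lit 4397), [nat_lit 0]), ((nat_lit 4), [nat_lit 2]), ((nat_lit 4398), [nat_lit 2]), ((nat_lit 5), [nat_lit 4]), ((nat_lit 4399), [nat_lit 4]), ((nat_lit 6), [nat_lit 5]), ((nat_lit 4400), [nat_lit 6]), ((nat_lit 0), [nat_lit 1, nat_lit 0, nat_lit 2, nat_lit 1]), ((nat_lit 4401), [nat_lit 1, nat_lit 2, nat_lit 0, nat_lit 1]), ((nat_lit 2), [nat_lit 7, nat_lit 4, nat_lit 8, nat_lit 5, nat_lit 0]), ((nat_lit 4402), [nat_lit 0, nat_lit 6, nat_lit 7, nat_lit 4, nat_lit 8]), ((nat_lit 1), [nat_lit 3, nat_lit 2, nat_lit 1, nat_lit 0, nat_lit 3, nat_lit 4, nat_lit 2, nat_lit 3, nat_lit 1, nat_lit 2, nat_lit 3, nat_lit 1, nat_lit 0, nat_lit 2, nat_lit 1]), ((nat_lit 4403), [nat_lit 1, nat_lit 2, nat_lit 0, nat_lit 1, nat_lit 3, nat_lit 2, nat_lit 1, nat_lit 3, nat_lit 2, nat_lit 4, nat_lit 3, nat_lit 0, nat_lit 1, nat_lit 2, nat_lit 3])]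
noncomputable def RA : List (List ℕ) := [[nat_lit 9, nat_lit 10],
  [nat_lit 0, nat_lit 0],
  [nat_lit 1, nat_lit 1],
  [nat_lit 2, nat_lit 2],
  [nat_lit 3, nat_lit 3],
  [nat_lit 4, nat_lit 4],
  [nat_lit 5, nat_lit 6],
  [nat_lit 6, nat_lit 5],
  [nat_lit 7, nat_lit 8],
  [nat_lit 8, nat_lit 7],
  [nat_lit 1, nat_lit 0, nat_lit 1, nat_lit 0, nat_lit 1, nat_lit 0],
  [nat_lit 4, nat_lit 0, nat_lit 4, nat_lit 0],
  [nat_lit 2, nat_lit 1, nat_lit 2, nat_lit 1, nat_lit 2, nat_lit 1],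
  [nat_lit 3, nat_lit 1, nat_lit 3, nat_lit 1],
  [nat_lit 4, nat_lit 1, nat_lit 4, nat_lit 1],
  [nat_lit 2, nat_lit 3, nat_lit 2, nat_lit 3, nat_lit 2, nat_lit 3, nat_lit 2, nat_lit 3, nat_lit 0],
  [nat_lit 4, nat_lit 2, nat_lit 4, nat_lit 2],
  [nat_lit 4, nat_lit 3, nat_lit 4, nat_lit 3, nat_lit 4, nat_lit 3],
  [nat_lit 4, nat_lit 3, nat_lit 2, nat_lit 1, nat_lit 4, nat_lit 3, nat_lit 2, nat_lit 1, nat_lit 4, nat_lit 3, nat_lit 2, nat_lit 1, nat_lit 4, nat_lit 3, nat_lit 2, nat_lit 1, nat_lit 4, nat_lit 3, nat_lit 2, nat_lit 1, nat_lit 4, nat_lit 3, nat_lit 2, nat_lit 1, nat_lit 4, nat_lit 3, nat_lit 2, nat_lit 1, nat_lit 4, nat_lit 3, nat_lit 2, nat_lit 1],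
  [nat_lit 7, nat_lit 7, nat_lit 7, nat_lit 7, nat_lit 7, nat_lit 7, nat_lit 7],
  [nat_lit 0, nat_lit 7, nat_lit 0, nat_lit 8],
  [nat_lit 1, nat_lit 7, nat_lit 1, nat_lit 8],
  [nat_lit 2, nat_lit 7, nat_lit 2, nat_lit 8],
  [nat_lit 3, nat_lit 7, nat_lit 3, nat_lit 7],
  [nat_lit 7, nat_lit 7, nat_lit 7, nat_lit 4, nat_lit 8, nat_lit 8, nat_lit 4, nat_lit 8, nat_lit 4],
  [nat_lit 5, nat_lit 5, nat_lit 5],
  [nat_lit 0, nat_lit 5, nat_lit 0, nat_lit 6],
  [nat_lit 1, nat_lit 5, nat_lit 1, nat_lit 6],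
  [nat_lit 2, nat_lit 5, nat_lit 2, nat_lit 6],
  [nat_lit 3, nat_lit 5, nat_lit 3, nat_lit 6],
  [nat_lit 4, nat_lit 5, nat_lit 4, nat_lit 6],
  [nat_lit 8, nat_lit 8, nat_lit 5, nat_lit 7, nat_lit 6],
  [nat_lit 0, nat_lit 2, nat_lit 9, nat_lit 9],
  [nat_lit 0, nat_lit 9, nat_lit 0, nat_lit 10],
  [nat_lit 2, nat_lit 9, nat_lit 2, nat_lit 10],
  [nat_lit 4, nat_lit 9, nat_lit 4, nat_lit 10],
  [nat_lit 9, nat_lit 3, nat_lit 10, nat_lit 4, nat_lit 3, nat_lit 9, nat_lit 3, nat_lit 10, nat_lit 4, nat_lit 3],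
  [nat_lit 4, nat_lit 1, nat_lit 2, nat_lit 0, nat_lit 1, nat_lit 9, nat_lit 1, nat_lit 0, nat_lit 2, nat_lit 1, nat_lit 10],
  [nat_lit 10, nat_lit 4, nat_lit 1, nat_lit 0, nat_lit 2, nat_lit 1, nat_lit 3, nat_lit 10, nat_lit 3, nat_lit 4, nat_lit 2, nat_lit 1, nat_lit 2, nat_lit 0, nat_lit 1, nat_lit 3, nat_lit 9, nat_lit 3, nat_lit 1, nat_lit 0, nat_lit 2, nat_lit 1, nat_lit 3, nat_lit 10, nat_lit 3],
  [nat_lit 5, nat_lit 9, nat_lit 5, nat_lit 10],
  [nat_lit 7, nat_lit 7, nat_lit 9, nat_lit 8, nat_lit 8, nat_lit 4, nat_lit 7, nat_lit 7, nat_lit 10, nat_lit 8, nat_lit 8, nat_lit 4],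
  [nat_lit 10, nat_lit 8, nat_lit 10, nat_lit 8, nat_lit 10, nat_lit 8, nat_lit 2, nat_lit 0],
  [nat_lit 9, nat_lit 7, nat_lit 10, nat_lit 8, nat_lit 9, nat_lit 7, nat_lit 10, nat_lit 8, nat_lit 9, nat_lit 7, nat_lit 10, nat_lit 8, nat_lit 9, nat_lit 7, nat_lit 10, nat_lit 8, nat_lit 2, nat_lit 0],
  [nat_lit 0, nat_lit 2, nat_lit 3, nat_lit 2, nat_lit 3, nat_lit 8, nat_lit 4, nat_lit 3, nat_lit 2, nat_lit 3, nat_lit 4, nat_lit 7, nat_lit 7, nat_lit 7, nat_lit 4, nat_lit 3, nat_lit 2, nat_lit 3, nat_lit 4, nat_lit 9, nat_lit 8, nat_lit 8, nat_lit 3, nat_lit 7, nat_lit 7, nat_lit 9, nat_lit 8, nat_lit 8, nat_lit 3, nat_lit 7, nat_lit 7, nat_lit 9, nat_lit 8, nat_lit 8, nat_lit 3, nat_lit 7, nat_lit 7, nat_lit 9, nat_lit 8, nat_lit 8, nat_lit 3]]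

end H16.THc
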